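import Cfsg.Agent.Lib.Small.Order60
import Cfsg.Agent.Lib.Techniques.Inverting
import Cfsg.Agent.Lib.Transfer.ThompsonTransfer
import Cfsg.Agent.Lib.PLocal.MaximalClass
import Cfsg.Agent.Lib.Blocks.KleinPrincipal
import Cfsg.Agent.Lib.CharApps.KleinFourOrder
import Cfsg.Agent.Lib.CharApps.AbelianSylow
import Cfsg.Agent.Lib.CharApps.Codegree
import Cfsg.Agent.Lib.CharApps.ClassProduct
import Cfsg.Agent.Lib.CharApps.NormalDefectCount
import Cfsg.Agent.S0215

/-!
# An involution whose centraliser is a four group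

If the four group is a Sylow subgroup the principal block gives the order. Otherwise there is a
subgroup of index two missing the involution, and a count of pairs of its conjugates lying in one
coset of a four group shows that a normal subgroup of order two or four exists.
-/

set_option autoImplicit false

open Subgroup
open scoped commutatorElement

namespace CfsgLib.Small

section pGroup

variable {P : Type*} [Group P] [Finite P]

theorem commutator_eq_bot_of_isCyclic_quotient {p : ℕ} [Fact p.Prime] (hP : IsPGroup p P)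
    (hcyc : IsCyclic (P ⧸ commutator P)) : commutator P = ⊥ := by
  obtain ⟨x, hx⟩ := hcyc.exists_generator
  obtain ⟨g, rfl⟩ := QuotientGroup.mk_surjective x
  have htop : zpowers g ⊔ commutator P = ⊤ := by
    refine eq_top_iff.2 fun y _ => ?_
    obtain ⟨i, hi⟩ := hx (QuotientGroup.mk y)
    have h1 : (g ^ i)⁻¹ * y ∈ commutator P := by
      rw [← QuotientGroup.eq_one_iff, QuotientGroup.mk_mul, QuotientGroup.mk_inv,
        QuotientGroup.mk_zpow, ← hi]
      exact inv_mul_cancel _
    have h2 : y = g ^ i * ((g ^ i)⁻¹ * y) := (mul_inv_cancel_left _ _).symm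
    rw [h2]
    exact mul_mem (mem_sup_left (zpow_mem (mem_zpowers g) i)) (mem_sup_right h1)
  have htop' : zpowers g = ⊤ := by
    refine frattini_nongenerating (top_le_iff.1 ?_)
    rw [← htop]
    exact sup_le_sup_left (CfsgLib.PGroups.commutator_le_frattini hP) _
  rw [eq_bot_iff, _root_.commutator_def, Subgroup.commutator_le]
  intro a _ b _
  rw [Subgroup.mem_bot, commutatorElement_eq_one_iff_mul_comm]
  obtain ⟨i, rfl⟩ := mem_zpowers_iff.1 (htop' ▸ mem_top a : a ∈ zpowers g)
  obtain ⟨j, rfl⟩ := mem_zpowers_iff.1 (htop' ▸ mem_top b : b ∈ zpowers g)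
  exact ((Commute.refl g).zpow_zpow i j).eq

/-- In a non-abelian 2-group a maximal subgroup avoids all involutions with centraliser of order
at most four. -/
theorem exists_maximal_avoiding (hP : IsPGroup 2 P) (hna : commutator P ≠ ⊥) :
    ∃ Q : Subgroup P, Q.index = 2 ∧ ∀ w : P, orderOf w = 2 →
      Nat.card (centralizer ({w} : Set P)) ≤ 4 → w ∉ Q := by
  classical
  haveI := Fact.mk Nat.prime_two
  by_cases hW : ∃ w : P, orderOf w = 2 ∧ Nat.card (centralizer ({w} : Set P)) ≤ 4
  swap
  · haveI : Nontrivial P := by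
      by_contra h
      haveI := not_nontrivial_iff_subsingleton.1 h
      exact hna (Subsingleton.elim _ _)
    obtain ⟨k, hk⟩ := hP.exists_card_eq
    obtain ⟨Q, hQ⟩ := Sylow.exists_subgroup_card_pow_prime 2 (n := k - 1)
      (hk ▸ pow_dvd_pow 2 (by omega) : 2 ^ (k - 1) ∣ Nat.card P)
    refine ⟨Q, ?_, fun w h2 h4 => absurd ⟨w, h2, h4⟩ hW⟩
    have hk0 : k ≠ 0 := fun h => by
      rw [h, pow_zero] at hk
      exact (Finite.one_lt_card (α := P)).ne' hk
    have := Q.card_mul_index
    rw [hQ, hk, show 2 ^ k = 2 ^ (k - 1) * 2 by rw [← pow_succ]; congr 1; omega] at this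
    exact Nat.eq_of_mul_eq_mul_left (by positivity) this
  set D := commutator P with hD
  have h4 := PLocal.sq_le_index_commutator hP hna
  -- the class of such an involution is a whole coset of the derived subgroup
  have key : ∀ w : P, orderOf w = 2 → Nat.card (centralizer ({w} : Set P)) ≤ 4 →
      w ∉ D ∧ D.index = 4 ∧ ∀ c ∈ D, IsConj w (w * c) := by
    intro w h2 hc
    let X := {y : P // IsConj w y}
    let f : X → D := fun y => ⟨w⁻¹ * y.1, CharApps.commutator_of_isConj y.2⟩
    have hf : Function.Injective f := fun y y' e =>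
      Subtype.ext (mul_left_cancel (congrArg Subtype.val e))
    have h1 : Nat.card X * Nat.card (centralizer ({w} : Set P)) = Nat.card P :=
      Chars.card_isConj_mul_card_centralizer w
    have h3 : Nat.card X ≤ Nat.card D := Nat.card_le_card_of_injective f hf
    have hidx := D.card_mul_index
    have hle : Nat.card P ≤ Nat.card D * 4 := h1 ▸ Nat.mul_le_mul h3 hc
    have hD0 : 0 < Nat.card D := Nat.card_pos
    have h5 : Nat.card D * 4 ≤ Nat.card D * D.index := Nat.mul_le_mul_left _ h4
    have hi : D.index = 4 := Nat.eq_of_mul_eq_mul_left hD0 (by omega)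
    have hXD : Nat.card D ≤ Nat.card X := by
      have : Nat.card P ≤ Nat.card X * 4 := h1 ▸ Nat.mul_le_mul_left _ hc
      omega
    have hbij := hf.bijective_of_nat_card_le hXD
    have hall : ∀ c ∈ D, IsConj w (w * c) := fun c hc => by
      obtain ⟨⟨y, hy⟩, e⟩ := hbij.2 ⟨c, hc⟩
      have e' : w⁻¹ * y = c := congrArg Subtype.val e
      rwa [← e', mul_inv_cancel_left]
    refine ⟨fun hw => ?_, hi, hall⟩
    have := hall _ (inv_mem hw)
    rw [mul_inv_cancel, isConj_one_left] at this
    rw [this, orderOf_one] at h2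
    omega
  obtain ⟨w₀, hw₀2, hw₀4⟩ := hW
  obtain ⟨-, hidx, -⟩ := key w₀ hw₀2 hw₀4
  let π := QuotientGroup.mk' D
  have hQ4 : Nat.card (P ⧸ D) = 4 := by rw [← index_eq_card, hidx]
  by_contra hno
  push Not at hno
  -- every non-trivial coset meets the set
  have hmeet : ∀ a : P, a ∉ D → ∃ w : P, orderOf w = 2 ∧
      Nat.card (centralizer ({w} : Set P)) ≤ 4 ∧ w⁻¹ * a ∈ D := by
    intro a ha
    have ha2 : a * a ∈ D := by
      by_contra h
      have h1 : (π a) ^ 2 ≠ 1 := by
        rw [← map_pow, pow_two, QuotientGroup.mk'_apply, Ne, QuotientGroup.eq_one_iff]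
        exact h
      have ho : orderOf (π a) ∣ 4 := hQ4 ▸ orderOf_dvd_natCard _
      have hne1 : orderOf (π a) ≠ 1 := fun e => h1 (by rw [orderOf_eq_one_iff.1 e, one_pow])
      have hne2 : orderOf (π a) ≠ 2 := fun e => h1 (e ▸ pow_orderOf_eq_one _)
      have hcyc : IsCyclic (P ⧸ D) := isCyclic_of_orderOf_eq_card (π a) (by
        have := Nat.le_of_dvd (by norm_num) ho
        rw [hQ4]
        interval_cases ho4 : orderOf (π a) <;> omega)
      exact hna (commutator_eq_bot_of_isCyclic_quotient hP hcyc)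
    let Q : Subgroup P := (zpowers (π a)).comap π
    have hQi : Q.index = 2 := by
      have hoa : orderOf (π a) = 2 := orderOf_eq_prime
        (by rw [← map_pow, pow_two, QuotientGroup.mk'_apply, QuotientGroup.eq_one_iff]; exact ha2)
        (by rw [QuotientGroup.mk'_apply, Ne, QuotientGroup.eq_one_iff]; exact ha)
      rw [Subgroup.index_comap_of_surjective _ (QuotientGroup.mk'_surjective D)]
      have := (zpowers (π a)).card_mul_index
      rw [Nat.card_zpowers, hoa, hQ4] at this
      omega
    obtain ⟨w, h2, h4', hwQ⟩ := hno Q hQi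
    obtain ⟨hwD, -, -⟩ := key w h2 h4'
    refine ⟨w, h2, h4', ?_⟩
    obtain ⟨n, hn⟩ := Subgroup.mem_zpowers_iff.1 (show π w ∈ zpowers (π a) from hwQ)
    rcases Int.even_or_odd n with ⟨m, rfl⟩ | ⟨m, rfl⟩
    · exfalso
      refine hwD ((QuotientGroup.eq_one_iff w).1 ?_)
      show π w = 1
      rw [← hn, ← two_mul, zpow_mul, zpow_two, ← map_mul,
        show π (a * a) = 1 from (QuotientGroup.eq_one_iff _).2 ha2, one_zpow]
    · refine (QuotientGroup.eq_one_iff (w⁻¹ * a)).1 ?_
      show π (w⁻¹ * a) = 1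
      rw [map_mul, map_inv, ← hn, zpow_add, zpow_mul, zpow_two, ← map_mul,
        show π (a * a) = 1 from (QuotientGroup.eq_one_iff _).2 ha2, one_zpow, one_mul, zpow_one,
        inv_mul_cancel]
  -- each such coset consists of involutions, inverting the derived subgroup
  have hinv : ∀ a : P, a ∉ D → a * a = 1 ∧ Nat.card (centralizer ({a} : Set P)) ≤ 4 ∧
      ∀ c ∈ D, a * c * a⁻¹ = c⁻¹ := by
    have hsq : ∀ a : P, a ∉ D → a * a = 1 ∧ Nat.card (centralizer ({a} : Set P)) ≤ 4 := by
      intro a ha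
      obtain ⟨w, h2, h4', hwa⟩ := hmeet a ha
      obtain ⟨-, -, hall⟩ := key w h2 h4'
      have hconj := hall _ hwa
      rw [mul_inv_cancel_left] at hconj
      haveI := Fintype.ofFinite P
      refine ⟨?_, CharApps.card_centralizer_of_isConj hconj ▸ h4'⟩
      obtain ⟨g, rfl⟩ := isConj_iff.1 hconj
      rw [conj_mul, ← pow_two w, ← h2, pow_orderOf_eq_one, mul_one, mul_inv_cancel]
    refine fun a ha => ⟨(hsq a ha).1, (hsq a ha).2, fun c hc => ?_⟩
    have h1 := (hsq (a * c) (fun h => ha (by simpa using D.mul_mem h (D.inv_mem hc)))).1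
    rw [inv_eq_of_mul_eq_one_right (hsq a ha).1]
    exact eq_inv_of_mul_eq_one_left (by rw [← h1]; group)
  obtain ⟨hw₀D, -, -⟩ := key w₀ hw₀2 hw₀4
  -- a second coset
  obtain ⟨b, hbD, hab⟩ : ∃ b : P, b ∉ D ∧ w₀⁻¹ * b ∉ D := by
    by_contra h
    push Not at h
    have hsur : Function.Surjective fun i : Fin 2 => π (w₀ ^ (i : ℕ)) := fun q => by
      obtain ⟨b, rfl⟩ := QuotientGroup.mk'_surjective D q
      by_cases hb : b ∈ D
      · exact ⟨0, by simp [π, ((QuotientGroup.eq_one_iff b).2 hb)]⟩
      · exact ⟨1, QuotientGroup.eq.2 (by simpa using h b hb)⟩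
    have := Nat.card_le_card_of_surjective _ hsur
    rw [Nat.card_fin, hQ4] at this
    omega
  set a := w₀ with ha
  have habD : a * b ∉ D := fun h => hab (by
    rwa [inv_eq_of_mul_eq_one_right (hinv a hw₀D).1])
  -- the product centralises the derived subgroup, which is then small
  have hC : (D : Set P) ⊆ centralizer ({a * b} : Set P) := fun c hc => by
    refine mem_centralizer_singleton_iff.2 ?_
    have h1 : (a * b) * c * (a * b)⁻¹ = c :=
      calc (a * b) * c * (a * b)⁻¹ = a * (b * c * b⁻¹) * a⁻¹ := by group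
        _ = c := by rw [(hinv b hbD).2.2 c hc, (hinv a hw₀D).2.2 _ (D.inv_mem hc), inv_inv]
    exact (mul_inv_eq_iff_eq_mul.1 h1).symm
  have habC : a * b ∈ centralizer ({a * b} : Set P) := mem_centralizer_singleton_iff.2 rfl
  have hDlt : D < centralizer ({a * b} : Set P) := lt_of_le_of_ne hC fun e => habD (e ▸ habC)
  have hcard := (hinv (a * b) habD).2.1
  have hDc := card_dvd_of_le hDlt.le
  have hne : Nat.card D ≠ Nat.card (centralizer ({a * b} : Set P)) := fun e =>
    hDlt.ne (eq_of_le_of_card_ge hDlt.le e.ge)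
  have hD2 : Nat.card D ≤ 2 := by
    obtain ⟨t, ht⟩ := hDc
    have : 2 ≤ t := by
      rcases Nat.lt_or_ge t 2 with h | h
      · exfalso
        interval_cases t
        · have := Nat.card_pos (α := centralizer ({a * b} : Set P)); omega
        · omega
      · exact h
    nlinarith
  -- so the group has exponent two
  refine hna ?_
  have hexp : ∀ g : P, g * g = 1 := by
    intro g
    by_cases hg : g ∈ D
    · have h1 := (hinv a hw₀D).2.2 g hg
      have h2 : orderOf (⟨g, hg⟩ : D) ∣ Nat.card D := orderOf_dvd_natCard _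
      rw [Subgroup.orderOf_mk] at h2
      have h3 : orderOf g ∣ 2 := by
        rcases Nat.lt_or_ge (Nat.card D) 2 with h | h
        · have : Nat.card D = 1 := by have := Nat.card_pos (α := D); omega
          exact (this ▸ h2).trans (one_dvd 2)
        · exact (le_antisymm hD2 h) ▸ h2
      rw [← pow_two]
      exact orderOf_dvd_iff_pow_eq_one.1 h3
    · exact (hinv g hg).1
  rw [hD, eq_bot_iff, _root_.commutator_def, Subgroup.commutator_le]
  intro g _ h _
  rw [Subgroup.mem_bot, commutatorElement_def, inv_eq_of_mul_eq_one_right (hexp g),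
    inv_eq_of_mul_eq_one_right (hexp h)]
  exact (mul_assoc (g * h) g h).trans (hexp (g * h))

end pGroup

variable {G : Type*} [Group G] [Finite G]

/-- The group with an involution with four-group centraliser, when that is a Sylow subgroup. -/
theorem klein_sylow_card {G : Type*} [Group G] [Finite G] (P : Sylow 2 G)
    (hP : IsKleinFour (P : Subgroup G))
    (hC : ∀ y ∈ (P : Subgroup G), y ≠ 1 → centralizer ({y} : Set G) = P)
    (hset : CfsgLib.CharApps.KleinSetup P) :
    Nat.card G = 12 ∨ Nat.card G = 60 := by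
  classical
  haveI := Fact.mk Nat.prime_two
  haveI := Fintype.ofFinite G
  haveI : Nontrivial (P : Subgroup G) := Finite.one_lt_card_iff_nontrivial.1 (by rw [hP.card_four]; norm_num)
  obtain ⟨⟨J, hJ⟩, hJ1⟩ := exists_ne (1 : (P : Subgroup G))
  have hJ1' : J ≠ 1 := fun e => hJ1 (Subtype.ext e)
  have hsqP : ∀ y ∈ (P : Subgroup G), y ^ 2 = 1 := fun y hy => by
    rw [pow_two]
    exact congrArg Subtype.val (hP.mul_self (⟨y, hy⟩ : (P : Subgroup G)))
  have hord : ∀ y ∈ (P : Subgroup G), y ≠ 1 → orderOf y = 2 := fun y hy =>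
    orderOf_eq_prime (hsqP y hy)
  have hone : ∀ s t : G, orderOf s = 2 → orderOf t = 2 → IsConj s t := by
    have hto : ∀ s : G, orderOf s = 2 → ∃ u : (P : Subgroup G), u ≠ 1 ∧ IsConj s (u : G) := by
      intro s hs
      obtain ⟨R, hR⟩ := (IsPGroup.of_card (p := 2) (n := 1)
        (show Nat.card (zpowers s) = 2 ^ 1 by rw [Nat.card_zpowers, hs, pow_one])).exists_le_sylow
      obtain ⟨c, hc⟩ := MulAction.exists_smul_eq G R P
      have hsP : c * s * c⁻¹ ∈ (P : Subgroup G) := by
        rw [← hc]
        exact Subgroup.smul_mem_pointwise_smul s (MulAut.conj c) _ (hR (mem_zpowers s))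
      refine ⟨⟨_, hsP⟩, fun e => ?_, isConj_iff.2 ⟨c, rfl⟩⟩
      have : c * s * c⁻¹ = 1 := congrArg Subtype.val e
      rw [conj_eq_one_iff] at this
      rw [this, orderOf_one] at hs
      omega
    intro s t hs ht
    obtain ⟨u, hu, hsu⟩ := hto s hs
    obtain ⟨v, hv, htv⟩ := hto t ht
    exact hsu.trans ((hset.isConj u v hu hv).trans htv.symm)
  obtain ⟨M, hM⟩ := CfsgLib.CharApps.exists_pModular (p := 2)
  haveI : M.IsPrime := hM.2.1.isPrime
  obtain ⟨T⟩ := CfsgLib.Blocks.exists_kleinData hM P hP hone (hord J hJ hJ1')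
  let K : CfsgLib.CharApps.KleinBlock M P J :=
    { χ₁ := T.X, χ₂ := T.Y, χ₃ := T.Z, ε₁ := 1, ε₂ := T.ε, ε₃ := -1
      setup := hset, mem := hJ, two := hord J hJ hJ1'
      block := fun χ => by rw [T.block]; simp
      ne₁ := T.X_ne, ne₂ := T.Y_ne, ne₃ := T.Z_ne, ne₁₂ := T.XY, ne₁₃ := T.XZ, ne₂₃ := T.YZ
      pm₁ := Or.inl rfl, pm₂ := T.ε_cases, pm₃ := Or.inr rfl
      val₁ := by rw [T.valX]; simp
      val₂ := T.valY
      val₃ := by rw [T.valZ]; simp }
  have hcJ : Nat.card (centralizer ({J} : Set G)) = 4 := by rw [hC J hJ hJ1']; exact hP.card_four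
  have hcP : Nat.card (centralizer ((P : Subgroup G) : Set G)) = 4 := by
    rw [← hP.card_four]
    congr 2
    refine le_antisymm ?_ hset.le_centralizer
    exact (centralizer_le (Set.singleton_subset_iff.2 hJ)).trans (hC J hJ hJ1').le
  rcases T.ε_cases with he | he
  · obtain ⟨m, h1, h2⟩ := K.order_q hM (by show (1 : ℤ) * T.ε * -1 = -1; rw [he]; norm_num) rfl
    rw [hcJ, hcP] at h1
    rw [hcP] at h2
    set q := Cfsg.charDegree (K.χ₃ : G → ℂ)
    have hq : 0 < q := CfsgLib.CharApps.deg_pos _
    have hm : m ≤ 4 := by nlinarith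
    have hq4 : q ≤ 3 := by
      rcases Nat.eq_zero_or_pos m with rfl | hm0
      · omega
      · nlinarith
    interval_cases q <;> interval_cases m <;> first | (left; omega) | (have := Nat.card_pos (α := G); omega)
  · right
    obtain ⟨s, -, hs, hord'⟩ := K.order_identity hM
    rw [hcJ, hcP] at hs
    obtain rfl : s = 1 := by omega
    have horth := K.orth hM
    rw [hcJ] at hord'
    set a : ℕ := Cfsg.charDegree (K.χ₁ : G → ℂ)
    set b : ℕ := Cfsg.charDegree (K.χ₂ : G → ℂ)
    set c : ℕ := Cfsg.charDegree (K.χ₃ : G → ℂ)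
    change (1 : ℤ) + (1 * (a : ℤ) + (T.ε * (b : ℤ) + -1 * (c : ℤ))) = 0 at horth
    change (Nat.card G : ℤ) * (((a : ℤ) + 1) * ((b : ℤ) + T.ε) * ((c : ℤ) + -1)) =
      8 * ((1 : ℕ) : ℤ) ^ 2 * ((4 : ℕ) : ℤ) * ((a : ℤ) * b * c) at hord'
    rw [he] at horth hord'
    push_cast at hord'
    have hmX : (4 : ℤ) ∣ (a : ℤ) - 1 := T.modX
    have hmY : (4 : ℤ) ∣ (b : ℤ) + 1 := by
      have := T.modY
      rwa [he, sub_neg_eq_add] at this
    have hmZ : (4 : ℤ) ∣ (c : ℤ) + 1 := T.modZ
    have ha : 0 < a := CfsgLib.CharApps.deg_pos _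
    have hb : 3 ≤ b := by omega
    have hc : 3 ≤ c := by omega
    haveI := Chars.irrFintype G
    have hsum := CfsgLib.CharApps.sum_degree_sq_nat (G := G)
    have hsq : ∀ χ : Cfsg.IrrCharacter G, Cfsg.charDegree (χ : G → ℂ) ^ 2 ≤ Nat.card G :=
      fun χ => hsum ▸ Finset.single_le_sum (f := fun χ : Cfsg.IrrCharacter G =>
        Cfsg.charDegree (χ : G → ℂ) ^ 2) (fun _ _ => Nat.zero_le _) (Finset.mem_univ χ)
    have hG : Nat.card G ≤ 72 := by
      have hb' : (2 * (b : ℤ)) ≤ 3 * ((b : ℤ) - 1) := by omega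
      have hc' : (2 * (c : ℤ)) ≤ 3 * ((c : ℤ) - 1) := by omega
      have h9 : (Nat.card G : ℤ) * ((a : ℤ) + 1) * (4 * (b * c)) ≤ 9 * (32 * ((a : ℤ) * b * c)) := by
        have h0 : (0 : ℤ) ≤ (Nat.card G : ℤ) * ((a : ℤ) + 1) := by positivity
        have := mul_le_mul_of_nonneg_left (mul_le_mul hb' hc' (by positivity) (by omega)) h0
        nlinarith
      have hbc : (0 : ℤ) < (b : ℤ) * c := by positivity
      by_contra h
      push Not at h
      have h73 : (73 : ℤ) ≤ Nat.card G := by exact_mod_cast h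
      have ha0 : (0 : ℤ) ≤ (a : ℤ) := by positivity
      nlinarith [mul_le_mul_of_nonneg_right h73 (show (0 : ℤ) ≤ ((a : ℤ) + 1) * (4 * (b * c)) by positivity)]
    have hb8 : b ≤ 8 := by have := hsq K.χ₂; nlinarith
    have hc8 : c ≤ 8 := by have := hsq K.χ₃; nlinarith
    obtain ⟨hb37, hc37⟩ : (b = 3 ∨ b = 7) ∧ (c = 3 ∨ c = 7) := by omega
    have hac : (a : ℤ) + 1 = b + c := by omega
    have ha9 : a ≤ 8 := by have := hsq K.χ₁; nlinarith
    rw [hac] at hord'
    have ha' : (a : ℤ) = b + c - 1 := by omega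
    rw [ha'] at hord'
    rcases hb37 with hb' | hb' <;> rcases hc37 with hc' | hc' <;> rw [hb', hc'] at hord' <;>
      push_cast at hord' <;> omega

theorem isKleinFour_of_card_four_sq {H : Type*} [Group H] [Finite H] (h4 : Nat.card H = 4)
    (hsq : ∀ g : H, g ^ 2 = 1) : IsKleinFour H := by
  refine ⟨h4, ?_⟩
  rcases (Nat.dvd_prime Nat.prime_two).mp (Monoid.exponent_dvd_of_forall_pow_eq_one hsq) with h | h
  · rw [Monoid.exp_eq_one_iff] at h
    have := Finite.card_le_one_iff_subsingleton.mpr h
    omega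
  · exact h

/-- The four group spanned by two commuting involutions. -/
theorem exists_klein_of_commute {M : Subgroup G} {a c : G} (ha : a ∈ M) (hc : c ∈ M)
    (ha2 : orderOf a = 2) (hc2 : orderOf c = 2) (hne : a ≠ c) (hcomm : Commute a c) :
    ∃ V : Subgroup G, V ≤ M ∧ Nat.card V = 4 ∧ ∀ v ∈ V, v ^ 2 = 1 := by
  classical
  have haa : a * a = 1 := by rw [← pow_two, ← ha2]; exact pow_orderOf_eq_one a
  have hcc : c * c = 1 := by rw [← pow_two, ← hc2]; exact pow_orderOf_eq_one c
  have e1 : a * (a * c) = c := by rw [← mul_assoc, haa, one_mul]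
  have e2 : c * (a * c) = a := by rw [← mul_assoc, ← hcomm.eq, mul_assoc, hcc, mul_one]
  have e3 : a * c * a = c := by rw [hcomm.eq, mul_assoc, haa, mul_one]
  have e4 : a * c * c = a := by rw [mul_assoc, hcc, mul_one]
  have e5 : a * c * (a * c) = 1 := by rw [mul_assoc, e2, haa]
  let V : Subgroup G :=
    { carrier := {g | g = 1 ∨ g = a ∨ g = c ∨ g = a * c}
      one_mem' := Or.inl rfl
      mul_mem' := by
        rintro g g' (rfl | rfl | rfl | rfl) (rfl | rfl | rfl | rfl) <;>
          simp only [Set.mem_ofPred_eq, one_mul, mul_one, haa, hcc, e1, e2, e3, e4, e5,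
            ← hcomm.eq, true_or, or_true]
      inv_mem' := by
        rintro g (rfl | rfl | rfl | rfl)
        · exact Or.inl inv_one
        · exact Or.inr (Or.inl (inv_eq_of_mul_eq_one_right haa))
        · exact Or.inr (Or.inr (Or.inl (inv_eq_of_mul_eq_one_right hcc)))
        · exact Or.inr (Or.inr (Or.inr (inv_eq_of_mul_eq_one_right e5))) }
  have hVsq : ∀ v ∈ V, v ^ 2 = 1 := by
    rintro v (rfl | rfl | rfl | rfl) <;> rw [pow_two]
    exacts [one_mul _, haa, hcc, e5]
  refine ⟨V, ?_, ?_, hVsq⟩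
  · rintro v (rfl | rfl | rfl | rfl)
    exacts [M.one_mem, ha, hc, M.mul_mem ha hc]
  · have ha1 : a ≠ 1 := fun e => by rw [e, orderOf_one] at ha2; omega
    have hc1 : c ≠ 1 := fun e => by rw [e, orderOf_one] at hc2; omega
    have hac1 : a * c ≠ 1 := fun e => hne (by rw [← inv_eq_of_mul_eq_one_right e,
      inv_eq_of_mul_eq_one_right haa])
    have hset : (V : Set G) = ↑({1, a, c, a * c} : Finset G) := by ext g; simp [V]
    rw [← SetLike.coe_sort_coe, hset]
    simp only [Finset.coe_sort_coe, Nat.card_eq_fintype_card, Fintype.card_coe]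
    rw [Finset.card_insert_of_notMem (by simp [ha1.symm, hc1.symm, hac1.symm]),
      Finset.card_insert_of_notMem (by simp [hne, hc1]),
      Finset.card_insert_of_notMem (by simp [ha1]), Finset.card_singleton]

/-- An involution whose centraliser is a four group. -/
theorem klein_centralizer_cases {G : Type*} [Group G] [Finite G] (x : G) (hx : orderOf x = 2)
    (hC4 : Nat.card (centralizer ({x} : Set G)) = 4)
    (hCe : ∀ c ∈ centralizer ({x} : Set G), c ^ 2 = 1) (hnc : ¬ Cfsg.HasNormalPComplement 2 G) :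
    (∃ E : Subgroup G, E.Normal ∧ Cfsg.IsElementaryAbelian 2 E ∧
      (Nat.card E = 2 ∨ Nat.card E = 4)) ∨ Nonempty (G ≃* alternatingGroup (Fin 5)) := by
  classical
  haveI := Fact.mk Nat.prime_two
  haveI := Fintype.ofFinite G
  have hco4 : ∀ m : ℕ, Odd m → Nat.Coprime m 4 := fun m hm =>
    (Nat.coprime_two_right.2 hm).pow_right 2
  have helem : ∀ E : Subgroup G, (∀ g ∈ E, g ^ 2 = 1) → Cfsg.IsElementaryAbelian 2 E := by
    intro E hE
    refine ⟨⟨⟨fun a b => ?_⟩⟩, hE⟩
    have h1 := hE _ (a * b).2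
    have ha := hE _ a.2
    have hb := hE _ b.2
    rw [pow_two] at h1 ha hb
    refine Subtype.ext ?_
    calc (a : G) * b = ((a : G) * b)⁻¹ := (inv_eq_of_mul_eq_one_right h1).symm
      _ = (b : G) * a := by
        rw [mul_inv_rev, inv_eq_of_mul_eq_one_right ha, inv_eq_of_mul_eq_one_right hb]
  set C := centralizer ({x} : Set G) with hCdef
  have hxC : x ∈ C := mem_centralizer_singleton_iff.2 rfl
  have hx1 : x ≠ 1 := fun e => by rw [e, orderOf_one] at hx; omega
  have hxx : x * x = 1 := by rw [← pow_two, ← hx]; exact pow_orderOf_eq_one x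
  obtain ⟨P, hCP⟩ := (IsPGroup.of_card (p := 2) (n := 2) (by rw [hC4]; norm_num) :
    IsPGroup 2 C).exists_le_sylow
  have hCab : ∀ a ∈ C, ∀ b ∈ C, a * b = b * a := fun a ha b hb => by
    have h := (helem C hCe).1.is_comm.comm (⟨a, ha⟩ : C) ⟨b, hb⟩
    exact congrArg Subtype.val h
  have hsylG : ∀ s : G, orderOf s = 2 → ∃ c : G, c * s * c⁻¹ ∈ (P : Subgroup G) := by
    intro s hs
    obtain ⟨R, hR⟩ := (IsPGroup.of_card (p := 2) (n := 1)
      (show Nat.card (zpowers s) = 2 ^ 1 by rw [Nat.card_zpowers, hs, pow_one])).exists_le_sylow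
    obtain ⟨c, hc⟩ := MulAction.exists_smul_eq G R P
    exact ⟨c, by rw [← hc]
                 exact Subgroup.smul_mem_pointwise_smul s (MulAut.conj c) _ (hR (mem_zpowers s))⟩
  by_cases hPC : (P : Subgroup G) = C
  · -- the four group is a Sylow subgroup
    have hkl : IsKleinFour (P : Subgroup G) := by
      rw [hPC]
      exact isKleinFour_of_card_four_sq hC4 fun g => Subtype.ext (hCe g g.2)
    have hP4 : Nat.card (P : Subgroup G) = 4 := by rw [hPC, hC4]
    have hset : CfsgLib.CharApps.KleinSetup P := by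
      refine ⟨hP4, fun N hN hidx => hnc ⟨P, N, hN, isComplement'_of_coprime ?_ ?_⟩⟩
      · rw [hP4, ← N.card_mul_index, hidx]
      · rw [hP4]
        refine hco4 _ (Nat.not_even_iff_odd.1 fun he => P.not_dvd_index ?_)
        have h1 := N.card_mul_index
        have h2 := (P : Subgroup G).card_mul_index
        rw [hidx] at h1
        rw [hP4] at h2
        rw [show (P : Subgroup G).index = Nat.card N by omega]
        exact even_iff_two_dvd.1 he
    have hC : ∀ y ∈ (P : Subgroup G), y ≠ 1 → centralizer ({y} : Set G) = P := by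
      intro y hy hy1
      have hxP : x ∈ (P : Subgroup G) := hCP hxC
      have hconj := hset.isConj ⟨x, hxP⟩ ⟨y, hy⟩ (fun e => hx1 (congrArg Subtype.val e))
        (fun e => hy1 (congrArg Subtype.val e))
      haveI := Fintype.ofFinite G
      refine (eq_of_le_of_card_ge (fun w hw => mem_centralizer_singleton_iff.2 ?_) ?_).symm
      · exact hCab w (hPC ▸ hw) y (hPC ▸ hy)
      · rw [← CfsgLib.CharApps.card_centralizer_of_isConj hconj, hP4, ← hCdef, hC4]
    have hinvP : ∀ s : G, orderOf s = 2 → IsConj x s := by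
      intro s hs
      obtain ⟨c, hc⟩ := hsylG s hs
      have hs1 : c * s * c⁻¹ ≠ 1 := fun e => by
        rw [conj_eq_one_iff] at e
        rw [e, orderOf_one] at hs
        omega
      exact (hset.isConj ⟨x, hCP hxC⟩ ⟨_, hc⟩ (fun e => hx1 (congrArg Subtype.val e))
        (fun e => hs1 (congrArg Subtype.val e))).trans (isConj_iff.2 ⟨c, rfl⟩ : IsConj s _).symm
    set NP := normalizer ((P : Subgroup G) : Set G) with hNP
    have hPN : (P : Subgroup G) ≤ NP := le_normalizer
    obtain ⟨n, hnN, hnC⟩ := hset.exists_normalizer_notMem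
    have hNne : Nat.card NP ≠ 4 := fun h4 => by
      have : (P : Subgroup G) = NP := eq_of_le_of_card_ge hPN (by rw [h4, hP4])
      exact hnC (hset.le_centralizer (this ▸ hnN))
    have hN4 : 4 ∣ Nat.card NP := hP4 ▸ card_dvd_of_le hPN
    have hNdvd : Nat.card NP ∣ Nat.card G := card_subgroup_dvd_card _
    have hnormal : Nat.card NP = Nat.card G → ∃ E : Subgroup G, E.Normal ∧
        Cfsg.IsElementaryAbelian 2 E ∧ (Nat.card E = 2 ∨ Nat.card E = 4) := fun h =>
      ⟨P, normalizer_eq_top_iff.1 (eq_top_of_card_eq _ h), helem _ (fun g hg => hCe g (hPC ▸ hg)),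
        Or.inr hP4⟩
    rcases klein_sylow_card P hkl hC hset with h12 | h60
    · left
      refine hnormal ?_
      rw [h12] at hNdvd ⊢
      obtain ⟨t, ht⟩ := hN4
      have := Nat.le_of_dvd (by norm_num) hNdvd
      have : t ≤ 3 := by omega
      interval_cases t <;> simp_all
    · by_cases hNtop : Nat.card NP = Nat.card G
      · exact Or.inl (hnormal hNtop)
      right
      -- no element of order five normalises the four group
      have h5 : ¬ 5 ∣ Nat.card NP := by
        intro h5
        haveI := Fact.mk (show Nat.Prime 5 by norm_num)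
        obtain ⟨g, hg⟩ := exists_prime_orderOf_dvd_card' 5 h5
        have hgo : orderOf (g : G) = 5 := by rw [Subgroup.orderOf_coe, hg]
        haveI : Fintype {y : (P : Subgroup G) // y ≠ 1} := Fintype.ofFinite _
        let φ : NP →* Equiv.Perm {y : (P : Subgroup G) // y ≠ 1} :=
          { toFun := fun m =>
              { toFun := fun y => ⟨⟨m * y.1 * (m : G)⁻¹, (mem_normalizer_iff.1 m.2 _).1 y.1.2⟩,
                  fun e => y.2 (Subtype.ext (conj_eq_one_iff.1 (congrArg Subtype.val e)))⟩
                invFun := fun y => ⟨⟨(m : G)⁻¹ * y.1 * m, by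
                  have := (mem_normalizer_iff.1 (inv_mem m.2) (y.1 : G)).1 y.1.2
                  rwa [inv_inv] at this⟩,
                  fun e => y.2 (Subtype.ext (by
                    have h1 : (m : G)⁻¹ * y.1 * m = 1 := congrArg Subtype.val e
                    calc (y.1 : G) = (m : G) * ((m : G)⁻¹ * y.1 * m) * (m : G)⁻¹ := by group
                      _ = 1 := by rw [h1]; group))⟩
                left_inv := fun y => Subtype.ext (Subtype.ext (by simp [mul_assoc]))
                right_inv := fun y => Subtype.ext (Subtype.ext (by simp [mul_assoc])) }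
            map_one' := Equiv.ext fun y => Subtype.ext (Subtype.ext (by simp))
            map_mul' := fun a b => Equiv.ext fun y => Subtype.ext (Subtype.ext (by simp [mul_assoc])) }
        have h3 : orderOf (φ g) ∣ 6 := by
          refine (_root_.orderOf_dvd_natCard _).trans ?_
          rw [Nat.card_perm, Nat.card_eq_fintype_card, Fintype.card_subtype_compl,
            Fintype.card_subtype_eq, ← Nat.card_eq_fintype_card, hP4]
          norm_num [Nat.factorial]
        have h15 : orderOf (φ g) = 1 := Nat.dvd_one.1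
          (show orderOf (φ g) ∣ Nat.gcd 5 6 from Nat.dvd_gcd (hg ▸ orderOf_map_dvd φ g) h3)
        have hfix := congrArg Subtype.val (congrArg Subtype.val (Equiv.Perm.congr_fun
          (orderOf_eq_one_iff.1 h15) ⟨⟨x, hCP hxC⟩, fun e => hx1 (congrArg Subtype.val e)⟩))
        have hgC : (g : G) ∈ C := mem_centralizer_singleton_iff.2 (mul_inv_eq_iff_eq_mul.1 hfix)
        have := _root_.orderOf_dvd_natCard (⟨g, hgC⟩ : C)
        rw [Subgroup.orderOf_mk, hgo, hC4] at this
        omega
      have hN12 : Nat.card NP = 12 := by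
        rw [h60] at hNdvd hNtop
        obtain ⟨t, ht⟩ := hN4
        have := Nat.le_of_dvd (by norm_num) hNdvd
        have : t ≤ 15 := by omega
        obtain ⟨u, hu⟩ := hNdvd
        rw [ht] at hu hNne h5 hNtop ⊢
        interval_cases t <;> omega
      haveI : Nontrivial G := ⟨⟨x, 1, hx1⟩⟩
      haveI : IsSimpleGroup G := ⟨fun N hN => by
        haveI := hN
        by_cases hodd : Odd (Nat.card N)
        · left
          refine Techniques.eq_bot_of_klein_inverting (E := (P : Subgroup G)) hkl fun e he he1 => ?_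
          rw [hC e he he1]
          refine disjoint_iff.1 (disjoint_of_coprime_natCard ?_)
          rw [hP4]
          exact hco4 _ hodd
        · right
          obtain ⟨⟨s, hsN⟩, hs⟩ := exists_prime_orderOf_dvd_card' (G := N) 2
            (even_iff_two_dvd.1 (Nat.not_odd_iff_even.1 hodd))
          rw [Subgroup.orderOf_mk] at hs
          have hall : ∀ y : G, orderOf y = 2 → y ∈ N := fun y hy => by
            obtain ⟨c, hc⟩ := isConj_iff.1 ((hinvP s hs).symm.trans (hinvP y hy))
            exact hc ▸ hN.conj_mem s hsN c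
          have hPN' : (P : Subgroup G) ≤ N := fun y hy => by
            by_cases hy1 : y = 1
            · exact hy1 ▸ N.one_mem
            · exact hall y (orderOf_eq_prime (hCe y (hPC ▸ hy)) hy1)
          have htop := Sylow.normalizer_sup_eq_top' P hPN'
          have hrel : N.relIndex NP = N.index := by
            rw [← N.relIndex_top_right, ← htop]
            exact (Subgroup.relIndex_sup_right (H := NP) (K := N)).symm
          have h3 : N.index ∣ 3 := by
            rw [← hrel]
            refine (relIndex_dvd_of_le_left _ hPN').trans ?_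
            have h1 := ((P : Subgroup G).subgroupOf NP).card_mul_index
            rw [Nat.card_congr (subgroupOfEquivOfLe hPN).toEquiv, hP4, hN12] at h1
            rw [relIndex]
            exact ⟨1, by omega⟩
          rcases (Nat.dvd_prime Nat.prime_three).1 h3 with h | h
          · exact index_eq_one.1 h
          exfalso
          have hN20 : Nat.card N = 20 := by
            have := N.card_mul_index
            rw [h, h60] at this
            omega
          haveI := Fact.mk (show Nat.Prime 5 by norm_num)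
          have hd5 := card_sylow_dvd (p := 5) (G := N) 1 4 (by rw [hN20]; rfl) (by norm_num)
          have hm5 : Nat.card (Sylow 5 N) % 5 = 1 := card_sylow_modEq_one 5 N
          have hle5 := Nat.le_of_dvd (by norm_num) hd5
          haveI : Subsingleton (Sylow 5 N) := Finite.card_le_one_iff_subsingleton.1 (by omega)
          obtain ⟨R⟩ := (inferInstance : Nonempty (Sylow 5 N))
          haveI : (R : Subgroup N).Characteristic := R.characteristic_of_normal inferInstance
          have hR5 : Nat.card ((R : Subgroup N).map N.subtype) = 5 := by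
            rw [card_map_of_injective N.subtype_injective]
            simpa using card_sylow_eq (p := 5) 1 4 (by rw [hN20]; rfl) (by norm_num) R
          have hbot : (R : Subgroup N).map N.subtype = ⊥ := by
            refine Techniques.eq_bot_of_klein_inverting (E := (P : Subgroup G)) hkl fun e he he1 => ?_
            rw [hC e he he1]
            refine disjoint_iff.1 (disjoint_of_coprime_natCard ?_)
            rw [hP4, hR5]
            norm_num
          rw [hbot, card_bot] at hR5
          omega⟩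
      exact equiv_alternating_five h60
  -- the centraliser is not a Sylow subgroup
  left
  obtain ⟨n, hnP, hnN, hnC⟩ : ∃ n, n ∈ (P : Subgroup G) ∧ n ∈ normalizer (C : Set G) ∧ n ∉ C := by
    have hlt : C.subgroupOf (P : Subgroup G) < ⊤ := by
      rw [lt_top_iff_ne_top]
      intro h
      exact hPC (le_antisymm (fun g hg => (h ▸ mem_top (⟨g, hg⟩ : (P : Subgroup G)) :
        (⟨g, hg⟩ : (P : Subgroup G)) ∈ C.subgroupOf (P : Subgroup G))) hCP)
    have h := (Group.normalizerCondition_of_isNilpotent (h := IsPGroup.isNilpotent P.2)) _ hlt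
    obtain ⟨⟨n, hn⟩, hn1, hn2⟩ := SetLike.exists_of_lt h
    refine ⟨n, hn, mem_normalizer_iff.2 fun g => ⟨fun hg => ?_, fun hg => ?_⟩, hn2⟩
    · exact (mem_normalizer_iff.1 hn1 ⟨g, hCP hg⟩).1 hg
    · have hgP : g ∈ (P : Subgroup G) := by
        have := mul_mem (mul_mem (inv_mem hn) (hCP hg)) hn
        simpa [mul_assoc] using this
      exact (mem_normalizer_iff.1 hn1 ⟨g, hgP⟩).2 hg
  have hna : commutator (P : Subgroup G) ≠ ⊥ := by
    intro h
    refine hnC (mem_centralizer_singleton_iff.2 ?_)
    have h2 : ⁅(⟨n, hnP⟩ : (P : Subgroup G)), ⟨x, hCP hxC⟩⁆ ∈ commutator (P : Subgroup G) := by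
      rw [_root_.commutator_def]
      exact Subgroup.commutator_mem_commutator (mem_top _) (mem_top _)
    rw [h, Subgroup.mem_bot, commutatorElement_eq_one_iff_mul_comm] at h2
    exact congrArg Subtype.val h2
  obtain ⟨Q, hQi, hQav⟩ := exists_maximal_avoiding P.2 hna
  obtain ⟨M, hMn, hMi, hxM⟩ := Transfer.exists_index_two_of_not_conj_mem P
    (Q := Q.map (P : Subgroup G).subtype) (map_subtype_le Q) (by
      rw [relIndex, subgroupOf, comap_map_eq_self_of_injective (subtype_injective _)]
      exact hQi) hx (fun g hg => by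
      obtain ⟨w, hw, hwg⟩ := hg
      refine hQav w ?_ ?_ hw
      · rw [← Subgroup.orderOf_coe, show (w : G) = g * x * g⁻¹ from hwg, ← MulAut.conj_apply,
          MulEquiv.orderOf_eq, hx]
      · haveI := Fintype.ofFinite G
        have h1 : Nat.card (centralizer ({(w : G)} : Set G)) = 4 := by
          rw [← hC4]
          exact (CharApps.card_centralizer_of_isConj
            (isConj_iff.2 ⟨g, hwg.symm⟩ : IsConj x (w : G))).symm
        rw [← h1]
        refine Nat.card_le_card_of_injective
          (fun a => ⟨((a.1 : (P : Subgroup G)) : G), mem_centralizer_singleton_iff.2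
            (congrArg Subtype.val (mem_centralizer_singleton_iff.1 a.2))⟩) fun a b e => ?_
        exact Subtype.ext (Subtype.ext (congrArg Subtype.val e :)))
  haveI := hMn
  have hMsplit : ∀ a b : G, a * b ∈ M ↔ (a ∈ M ↔ b ∈ M) := fun a b => mul_mem_iff_of_index_two hMi
  -- the class of `x`
  have hclass : ∀ u : G, IsConj x u → u ∉ M ∧ u * u = 1 ∧
      Nat.card (centralizer ({u} : Set G)) = 4 ∧ (∀ c ∈ centralizer ({u} : Set G), c ^ 2 = 1) ∧
      ∀ z z' : G, z ∈ centralizer ({u} : Set G) → z' ∈ centralizer ({u} : Set G) → z ∈ M → z' ∈ M →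
        z ≠ 1 → z' ≠ 1 → z = z' := by
    intro u hu
    obtain ⟨g, rfl⟩ := isConj_iff.1 hu
    haveI := Fintype.ofFinite G
    have huM : g * x * g⁻¹ ∉ M := fun h => hxM (by
      have := hMn.conj_mem _ h g⁻¹
      simpa [mul_assoc] using this)
    have h4 : Nat.card (centralizer ({g * x * g⁻¹} : Set G)) = 4 := by
      rw [← hC4]
      exact (CharApps.card_centralizer_of_isConj hu).symm
    have he : ∀ c ∈ centralizer ({g * x * g⁻¹} : Set G), c ^ 2 = 1 := by
      intro c hc
      have h1 : g⁻¹ * c * g ∈ C := by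
        refine mem_centralizer_singleton_iff.2 ?_
        have := mem_centralizer_singleton_iff.1 hc
        calc g⁻¹ * c * g * x = g⁻¹ * (c * (g * x * g⁻¹)) * g := by group
          _ = x * (g⁻¹ * c * g) := by rw [this]; group
      have := hCe _ h1
      rw [pow_two] at this ⊢
      calc c * c = g * (g⁻¹ * c * g * (g⁻¹ * c * g)) * g⁻¹ := by group
        _ = 1 := by rw [this]; group
    refine ⟨huM, by rw [conj_mul, hxx, mul_one, mul_inv_cancel], h4, he, ?_⟩
    intro z z' hz hz' hzM hz'M hz1 hz'1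
    let W : Subgroup (centralizer ({g * x * g⁻¹} : Set G)) := M.subgroupOf _
    have hW2 : Nat.card W ≤ 2 := by
      have h1 := W.card_mul_index
      rw [h4] at h1
      have h2 : W.index ≠ 1 := fun e => huM
        ((index_eq_one.1 e).symm ▸ mem_top (⟨_, mem_centralizer_singleton_iff.2 rfl⟩ :
          centralizer ({g * x * g⁻¹} : Set G)) :
          (⟨_, mem_centralizer_singleton_iff.2 rfl⟩ : centralizer ({g * x * g⁻¹} : Set G)) ∈ W)
      have h3 : W.index ≠ 0 := index_ne_zero_of_finite
      have : Nat.card W * 2 ≤ Nat.card W * W.index := Nat.mul_le_mul_left _ (by omega)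
      omega
    by_contra hne
    haveI := Fintype.ofFinite W
    have h3 : ({1, ⟨⟨z, hz⟩, hzM⟩, ⟨⟨z', hz'⟩, hz'M⟩} : Finset W).card ≤ Nat.card W := by
      rw [Nat.card_eq_fintype_card]; exact Finset.card_le_univ _
    rw [Finset.card_insert_of_notMem (by
      simp only [Finset.mem_insert, Finset.mem_singleton, not_or]
      exact ⟨fun e => hz1 (congrArg (fun w : W => w.1.1) e).symm,
        fun e => hz'1 (congrArg (fun w : W => w.1.1) e).symm⟩),
      Finset.card_pair (fun e => hne (congrArg (fun w : W => w.1.1) e))] at h3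
    omega
  -- the central involution
  have hCn : ∀ g, g ∈ C → n * g * n⁻¹ ∈ C := fun g hg => (mem_normalizer_iff.1 hnN g).1 hg
  obtain ⟨z, hz⟩ : ∃ z, z = x * (n * x * n⁻¹) := ⟨_, rfl⟩
  have hxn : n * x * n⁻¹ ≠ x := fun e => hnC (mem_centralizer_singleton_iff.2 (mul_inv_eq_iff_eq_mul.1 e))
  have hnxC := hCn x hxC
  have hzC : z ∈ C := hz ▸ mul_mem hxC hnxC
  have hxnM : n * x * n⁻¹ ∉ M := (hclass _ (isConj_iff.2 ⟨n, rfl⟩)).1
  have hzM : z ∈ M := hz ▸ (hMsplit _ _).2 (iff_of_false hxM hxnM)
  have hz1 : z ≠ 1 := fun e => hxn (by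
    rw [hz, mul_eq_one_iff_inv_eq, inv_eq_of_mul_eq_one_right hxx] at e
    exact e.symm)
  by_cases hfour : ∃ V : Subgroup G, V ≤ M ∧ Nat.card V = 4 ∧ ∀ v ∈ V, v ^ 2 = 1
  · -- every conjugate of `x` has a partner in its coset of each four group of `M`
    haveI := Fintype.ofFinite G
    have hX : Nat.card {u : G // IsConj x u} * 4 = Nat.card G := by
      rw [← hC4]; exact Chars.card_isConj_mul_card_centralizer x
    have hpartner : ∀ V : Subgroup G, V ≤ M → Nat.card V = 4 → (∀ v ∈ V, v ^ 2 = 1) →
        ∀ u, IsConj x u → ∃ w ∈ V, w ≠ 1 ∧ w * u = u * w ∧ w ∈ M := by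
      intro V hVM hV4 hV2 u hu
      haveI : Fintype (G ⧸ V) := Fintype.ofFinite _
      let X : Finset G := Finset.univ.filter (IsConj x)
      let T : Finset (G ⧸ V) := Finset.univ.filter fun q => q.out ∉ M
      have hout : ∀ g : G, ((g : G ⧸ V)).out ∈ M ↔ g ∈ M := by
        intro g
        obtain ⟨⟨v, hv⟩, hv'⟩ := QuotientGroup.mk_out_eq_mul V g
        rw [hv', hMsplit]
        simp [hVM hv]
      have hmaps : ∀ a ∈ X, ((a : G ⧸ V)) ∈ T := fun a ha => Finset.mem_filter.2
        ⟨Finset.mem_univ _, fun h => (hclass a (Finset.mem_filter.1 ha).2).1 ((hout a).1 h)⟩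
      have hT : T.card * 8 = Nat.card G := by
        have h1 : (Finset.univ.filter fun q : G ⧸ V => q.out ∈ M).card = T.card := by
          refine Finset.card_equiv (MulAction.toPerm x) fun q => ?_
          induction q using Quotient.inductionOn' with | _ g =>
          simp only [Finset.mem_filter, Finset.mem_univ, true_and, T]
          show ((g : G ⧸ V)).out ∈ M ↔ ((x * g : G) : G ⧸ V).out ∉ M
          rw [hout, hout, hMsplit]
          simp [hxM]
        have h2 : (Finset.univ.filter fun q : G ⧸ V => q.out ∈ M).card + T.card = V.index := by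
          rw [Finset.card_filter_add_card_filter_not, Finset.card_univ, index_eq_card,
            Nat.card_eq_fintype_card]
        have h3 := V.card_mul_index
        rw [hV4] at h3
        omega
      have hXc : X.card * 4 = Nat.card G := by
        rw [← hX, Nat.card_eq_fintype_card (α := {u : G // IsConj x u}), Fintype.card_subtype]
      have hpair : ∀ a b : G, IsConj x a → IsConj x b → (a : G ⧸ V) = (b : G ⧸ V) → a ≠ b →
          (a⁻¹ * b) ∈ V ∧ a⁻¹ * b ≠ 1 ∧ a⁻¹ * b ∈ centralizer ({a} : Set G) ∧ a⁻¹ * b ∈ M := by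
        intro a b ha hb hab hne
        have hmem : a⁻¹ * b ∈ V := QuotientGroup.eq.1 hab
        refine ⟨hmem, fun e => hne (inv_mul_eq_one.1 e), ?_, hVM hmem⟩
        have h1 := hV2 _ hmem
        have ha2 := (hclass a ha).2.1
        have hb2 := (hclass b hb).2.1
        rw [inv_eq_of_mul_eq_one_right ha2, pow_two] at h1
        rw [inv_eq_of_mul_eq_one_right ha2]
        refine mem_centralizer_singleton_iff.2 ?_
        calc a * b * a = a * b * a * (b * b) := by rw [hb2, mul_one]
          _ = (a * b * (a * b)) * b := by simp only [mul_assoc]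
          _ = a * (a * b) := by rw [h1, one_mul, ← mul_assoc, ha2, one_mul]
      have hle : ∀ q ∈ T, (X.filter fun a : G => (a : G ⧸ V) = q).card ≤ 2 := by
        intro q _
        by_contra hlt
        push Not at hlt
        obtain ⟨a, b, c, ha, hb, hc, hab, hac, hbc⟩ := Finset.two_lt_card_iff.1 hlt
        simp only [Finset.mem_filter, X, Finset.mem_univ, true_and] at ha hb hc
        obtain ⟨-, h1, h1C, h1M⟩ := hpair a b ha.1 hb.1 (ha.2.trans hb.2.symm) hab
        obtain ⟨-, h2, h2C, h2M⟩ := hpair a c ha.1 hc.1 (ha.2.trans hc.2.symm) hac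
        exact hbc (mul_left_cancel ((hclass a ha.1).2.2.2.2 _ _ h1C h2C h1M h2M h1 h2))
      have hsum := Finset.card_eq_sum_card_fiberwise hmaps
      have heq := (Finset.sum_eq_sum_iff_of_le hle).1 (by
        rw [← hsum, Finset.sum_const, smul_eq_mul]; omega)
      have huX : u ∈ X := Finset.mem_filter.2 ⟨Finset.mem_univ _, hu⟩
      obtain ⟨b, hb, hbu⟩ := Finset.exists_mem_ne (s := X.filter fun a : G => (a : G ⧸ V) = (u : G ⧸ V))
        (by rw [heq _ (hmaps u huX)]; norm_num) u
      simp only [Finset.mem_filter, X, Finset.mem_univ, true_and] at hb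
      obtain ⟨h0, h1, h2, h3⟩ := hpair u b hu hb.1 hb.2.symm hbu.symm
      exact ⟨_, h0, h1, mem_centralizer_singleton_iff.1 h2, h3⟩
    obtain ⟨V, hVM, hV4, hV2⟩ := hfour
    by_cases huniq : ∀ W : Subgroup G, W ≤ M → Nat.card W = 4 → (∀ w ∈ W, w ^ 2 = 1) → W = V
    · refine ⟨V, ⟨fun v hv g => ?_⟩, helem V hV2, Or.inr hV4⟩
      rw [← huniq (V.map (MulAut.conj g).toMonoidHom) (fun w ⟨v', hv', e⟩ => e ▸
          hMn.conj_mem v' (hVM hv') g)
        (by rw [card_map_of_injective (MulAut.conj g).injective, hV4])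
        (fun w ⟨v', hv', e⟩ => e ▸ by rw [← map_pow, hV2 v' hv', map_one])]
      exact ⟨v, hv, rfl⟩
    push Not at huniq
    obtain ⟨W, hWM, hW4, hW2, hWV⟩ := huniq
    obtain ⟨z₀, hz₀V, hz₀1, hz₀x, hz₀M⟩ := hpartner V hVM hV4 hV2 x (IsConj.refl x)
    -- the partner is the same for all conjugates
    have hVW : ∀ u, IsConj x u → ∃ w ∈ V ⊓ W, w ≠ 1 ∧ w * u = u * w := by
      intro u hu
      obtain ⟨a, haV, ha1, hau, haM⟩ := hpartner V hVM hV4 hV2 u hu
      obtain ⟨b, hbW, hb1, hbu, hbM⟩ := hpartner W hWM hW4 hW2 u hu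
      have := (hclass u hu).2.2.2.2 a b (mem_centralizer_singleton_iff.2 hau)
        (mem_centralizer_singleton_iff.2 hbu) haM hbM ha1 hb1
      exact ⟨a, ⟨haV, this ▸ hbW⟩, ha1, hau⟩
    have hI : Nat.card (V ⊓ W : Subgroup G) ≤ 2 := by
      have h1 : Nat.card (V ⊓ W : Subgroup G) ∣ 4 := hV4 ▸ card_dvd_of_le inf_le_left
      have h2 : Nat.card (V ⊓ W : Subgroup G) ≠ 4 := fun e => hWV
        ((eq_of_le_of_card_ge inf_le_right (by rw [e, hW4])).symm.trans
          (eq_of_le_of_card_ge inf_le_left (by rw [e, hV4])))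
      have := Nat.le_of_dvd (by norm_num) h1
      interval_cases hv : Nat.card (V ⊓ W : Subgroup G) <;> omega
    have hu2 : ∀ a ∈ V ⊓ W, ∀ b ∈ V ⊓ W, a ≠ 1 → b ≠ 1 → a = b := by
      intro a ha b hb ha1 hb1
      by_contra hne
      haveI := Fintype.ofFinite (V ⊓ W : Subgroup G)
      have h3 : ({1, ⟨a, ha⟩, ⟨b, hb⟩} : Finset (V ⊓ W : Subgroup G)).card ≤
          Nat.card (V ⊓ W : Subgroup G) := by
        rw [Nat.card_eq_fintype_card]; exact Finset.card_le_univ _
      rw [Finset.card_insert_of_notMem (by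
        simp only [Finset.mem_insert, Finset.mem_singleton, not_or]
        exact ⟨fun e => ha1 (congrArg Subtype.val e).symm, fun e => hb1 (congrArg Subtype.val e).symm⟩),
        Finset.card_pair (fun e => hne (congrArg Subtype.val e))] at h3
      omega
    obtain ⟨w, hw, hw1, hwx⟩ := hVW x (IsConj.refl x)
    have hcent : ∀ g : G, g * w * g⁻¹ = w := by
      intro g
      obtain ⟨a, ha, ha1, hau⟩ := hVW (g * x * g⁻¹) (isConj_iff.2 ⟨g, rfl⟩)
      obtain rfl : w = a := hu2 w hw a ha hw1 ha1
      refine (hclass _ (isConj_iff.2 ⟨g, rfl⟩)).2.2.2.2 _ _ ?_ (mem_centralizer_singleton_iff.2 hau)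
        (hMn.conj_mem w (hVM hw.1) g) (hVM hw.1) (fun e => hw1 (conj_eq_one_iff.1 e)) hw1
      refine mem_centralizer_singleton_iff.2 ?_
      rw [conj_mul, conj_mul, hwx]
    have hwo : orderOf w = 2 := orderOf_eq_prime (hV2 w hw.1) hw1
    refine ⟨zpowers w, ⟨fun v hv g => ?_⟩, helem _ ?_, Or.inl (by rw [Nat.card_zpowers, hwo])⟩
    · obtain ⟨i, rfl⟩ := mem_zpowers_iff.1 hv
      rw [← conj_zpow, hcent g]
      exact zpow_mem (mem_zpowers w) i
    · intro v hv
      obtain ⟨i, rfl⟩ := mem_zpowers_iff.1 hv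
      rw [← zpow_natCast, zpow_comm, zpow_natCast, hV2 w hw.1, one_zpow]
  · -- otherwise `M` has an isolated involution
    have hzo : orderOf z = 2 := orderOf_eq_prime (hCe z hzC) hz1
    obtain ⟨R, hR⟩ := (IsPGroup.of_card (p := 2) (n := 1)
      (show Nat.card (zpowers (⟨z, hzM⟩ : M)) = 2 ^ 1 by
        rw [Nat.card_zpowers, Subgroup.orderOf_mk, hzo, pow_one])).exists_le_sylow
    have hiso : ∀ g : M, g * ⟨z, hzM⟩ * g⁻¹ ∈ R → g * ⟨z, hzM⟩ * g⁻¹ = ⟨z, hzM⟩ := by
      intro g hg
      by_contra hne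
      haveI : Nontrivial (R : Subgroup M) := ⟨⟨⟨_, hR (mem_zpowers _)⟩, 1, fun e => hz1
        (congrArg (fun r : (R : Subgroup M) => ((r : M) : G)) e)⟩⟩
      haveI := R.2.center_nontrivial
      obtain ⟨c, hc⟩ := exists_prime_orderOf_dvd_card' (G := center (R : Subgroup M)) 2 (by
        obtain ⟨k, hk⟩ := (R.2.to_subgroup (center (R : Subgroup M))).exists_card_eq
        rw [hk]
        refine dvd_pow_self 2 fun e => ?_
        rw [e, pow_zero] at hk
        exact (Finite.one_lt_card (α := center (R : Subgroup M))).ne' hk)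
      have hco : orderOf (((c : (R : Subgroup M)) : M) : G) = 2 := by
        rw [Subgroup.orderOf_coe, Subgroup.orderOf_coe, Subgroup.orderOf_coe, hc]
      have hcc : ∀ r : M, r ∈ (R : Subgroup M) → Commute (r : G) (((c : (R : Subgroup M)) : M) : G) :=
        fun r hr => congrArg (fun e : (R : Subgroup M) => ((e : M) : G))
          (mem_center_iff.1 c.2 ⟨r, hr⟩)
      by_cases hcz : (((c : (R : Subgroup M)) : M) : G) = z
      · refine hfour (exists_klein_of_commute (a := ((g * ⟨z, hzM⟩ * g⁻¹ : M) : G))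
          (c := (((c : (R : Subgroup M)) : M) : G)) (SetLike.coe_mem _) (SetLike.coe_mem _) ?_ hco
          (fun e => hne (Subtype.ext (e.trans hcz))) (hcc _ hg))
        rw [Subgroup.orderOf_coe, ← MulAut.conj_apply, MulEquiv.orderOf_eq, Subgroup.orderOf_mk, hzo]
      · exact hfour (exists_klein_of_commute (a := z) (c := (((c : (R : Subgroup M)) : M) : G))
          hzM (SetLike.coe_mem _) hzo hco (Ne.symm hcz) (hcc ⟨z, hzM⟩ (hR (mem_zpowers _))))
    obtain ⟨N, hNn, hNodd, hNz⟩ := Cfsg.Agent.S0215.result R (⟨z, hzM⟩ : M)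
      (by rw [Subgroup.orderOf_mk, hzo]) (hR (mem_zpowers _)) hiso
    haveI := hNn
    set O := (Cfsg.oddCore M).map M.subtype with hO
    have hOn : O.Normal := by rw [hO]; infer_instance
    haveI := hOn
    have hOodd : Odd (Nat.card O) := by
      rw [hO, card_map_of_injective M.subtype_injective]
      exact CfsgLib.Base.odd_card_oddCore M
    have hfpf : O ⊓ C = ⊥ := disjoint_iff.1 (disjoint_of_coprime_natCard (by
      rw [hC4]
      exact hco4 _ hOodd))
    have hzc : ∀ o ∈ O, z * o * z⁻¹ = o := by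
      intro o ho
      have h1 : ∀ o' ∈ O, x * o' * x⁻¹ = o'⁻¹ := fun o' ho' =>
        Techniques.inverts_of_inf_centralizer_eq_bot (by rw [pow_two, hxx]) hfpf ho'
      have h2 : n * x * n⁻¹ * o * (n * x * n⁻¹)⁻¹ = o⁻¹ := by
        have hm : n⁻¹ * o * n ∈ O := by simpa using hOn.conj_mem o ho n⁻¹
        calc n * x * n⁻¹ * o * (n * x * n⁻¹)⁻¹ = n * (x * (n⁻¹ * o * n) * x⁻¹) * n⁻¹ := by group
          _ = o⁻¹ := by rw [h1 _ hm]; group
      calc z * o * z⁻¹ = x * (n * x * n⁻¹ * o * (n * x * n⁻¹)⁻¹) * x⁻¹ := by rw [hz]; group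
        _ = o := by rw [h2, h1 _ (O.inv_mem ho), inv_inv]
    have hzz : z * z = 1 := by rw [← pow_two]; exact hCe z hzC
    have hzg : ∀ g ∈ M, g * z * g⁻¹ = z := by
      intro g hg
      have ho : z * g * z⁻¹ * g⁻¹ ∈ O :=
        ⟨_, CfsgLib.Base.le_oddCore hNodd (hNz ⟨g, hg⟩), rfl⟩
      set o := z * g * z⁻¹ * g⁻¹ with hodef
      have e : g * z * g⁻¹ = z * o := by
        rw [hodef, inv_eq_of_mul_eq_one_right hzz, ← mul_assoc, ← mul_assoc, ← mul_assoc, hzz,
          one_mul]
      have h2 : o * o = 1 := by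
        have h1 : g * z * g⁻¹ * (g * z * g⁻¹) = 1 := by rw [conj_mul, hzz, mul_one, mul_inv_cancel]
        rw [e] at h1
        have h3 : o * z = z * o := (mul_inv_eq_iff_eq_mul.1 (hzc o ho)).symm
        rw [mul_assoc z o, ← mul_assoc o z o, h3, mul_assoc z o o, ← mul_assoc, hzz, one_mul] at h1
        exact h1
      have h3 : o = 1 := by
        have hd : orderOf o ∣ Nat.gcd 2 (Nat.card O) := Nat.dvd_gcd
          (orderOf_dvd_of_pow_eq_one (by rw [pow_two, h2]))
          (Subgroup.orderOf_mk o ho ▸ orderOf_dvd_natCard _)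
        rw [(Nat.coprime_two_left.2 hOodd).gcd_eq_one, Nat.dvd_one, orderOf_eq_one_iff] at hd
        exact hd
      rw [e, h3, mul_one]
    have hzall : ∀ g : G, g * z * g⁻¹ = z := by
      intro g
      by_cases hg : g ∈ M
      · exact hzg g hg
      · have hgx : g * x ∈ M := (hMsplit _ _).2 (iff_of_false hg hxM)
        have hxz : x * z = z * x := (mem_centralizer_singleton_iff.1 hzC).symm
        calc g * z * g⁻¹ = g * x * z * (g * x)⁻¹ := by
              rw [mul_inv_rev, mul_assoc g x z, hxz, inv_eq_of_mul_eq_one_right hxx]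
              simp only [mul_assoc]
              rw [← mul_assoc x x, hxx, one_mul]
          _ = z := hzg _ hgx
    refine ⟨zpowers z, ⟨fun v hv g => ?_⟩, helem _ ?_, Or.inl (by rw [Nat.card_zpowers, hzo])⟩
    · obtain ⟨i, rfl⟩ := mem_zpowers_iff.1 hv
      rw [← conj_zpow, hzall g]
      exact zpow_mem (mem_zpowers z) i
    · intro v hv
      obtain ⟨i, rfl⟩ := mem_zpowers_iff.1 hv
      rw [← zpow_natCast, zpow_comm, zpow_natCast, pow_two, hzz, one_zpow]

end CfsgLib.Small
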