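import Cfsg.Agent.Lib.Small.Count

/-!
# Simple groups of order 60
-/

set_option autoImplicit false

open Subgroup

namespace CfsgLib.Small

theorem exists_index_five {G : Type*} [Group G] [Finite G] [IsSimpleGroup G]
    (h : Nat.card G = 60) : ∃ H : Subgroup G, H.index = 5 := by
  have hG : ¬ IsMulCommutative G := not_isMulCommutative_of_card (by rw [h]; norm_num)
  have := Fact.mk Nat.prime_two
  obtain ⟨P⟩ := (inferInstance : Nonempty (Sylow 2 G))
  have h1 := one_lt_card_sylow hG (p := 2) (by omega)
  have hd := card_sylow_dvd (p := 2) (G := G) 2 15 (by omega) (by norm_num)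
  have h5 := five_le_index hG (sylow_normalizer_ne_top hG (p := 2) (by omega) P)
  rw [← card_sylow_eq_index] at h5
  have hmem : Nat.card (Sylow 2 G) ∈ (Nat.divisors 15).filter (fun d => 5 ≤ d) :=
    Finset.mem_filter.mpr ⟨Nat.mem_divisors.mpr ⟨hd, by norm_num⟩, h5⟩
  rw [show (Nat.divisors 15).filter (fun d => 5 ≤ d) = {5, 15} from by decide] at hmem
  simp only [Finset.mem_insert, Finset.mem_singleton] at hmem
  rcases hmem with hn | hn
  · exact ⟨_, (card_sylow_eq_index P).symm.trans hn⟩
  · obtain ⟨H, hH, d, hd1, hd2, hdvd⟩ := exists_subgroup_of_inter hG (p := 2) (a := 2) (m := 15)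
      le_rfl (by omega) (by norm_num) (by omega)
    have hHi := five_le_index hG hH
    have hle : H.index * 3 ≤ 15 :=
      (Nat.mul_le_mul_left _ (by omega)).trans (Nat.le_of_dvd (by norm_num) hdvd)
    exact ⟨H, by omega⟩

theorem equiv_alternating_five {G : Type*} [Group G] [Finite G] [IsSimpleGroup G]
    (h : Nat.card G = 60) : Nonempty (G ≃* alternatingGroup (Fin 5)) := by
  have hG : ¬ IsMulCommutative G := not_isMulCommutative_of_card (by rw [h]; norm_num)
  obtain ⟨H, hH⟩ := exists_index_five h
  have hne : H ≠ ⊤ := fun he => by simp [he] at hH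
  obtain ⟨f, hf⟩ := exists_embedding_alternating hG H hne
  have hcard : Nat.card (alternatingGroup (Fin H.index)) = 60 := by
    rw [hH, nat_card_alternatingGroup, Nat.card_fin]
    rfl
  have e : G ≃* alternatingGroup (Fin H.index) :=
    MulEquiv.ofBijective f (Function.Injective.bijective_of_nat_card_le hf (by omega))
  rw [hH] at e
  exact ⟨e⟩

end CfsgLib.Small
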