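import Cfsg.Agent.Lib.Small.PSLTwoPrime
import Cfsg.Agent.Lib.Classical.Order

/-!
# Uniqueness of `PSL(2, p)` for `p = 7, 11, 13, 17, 19, 23`
-/

set_option autoImplicit false

namespace CfsgLib.Small

theorem fact_prime_7 : Fact (Nat.Prime 7) := ⟨by norm_num⟩

theorem fact_prime_11 : Fact (Nat.Prime 11) := ⟨by norm_num⟩

theorem fact_prime_13 : Fact (Nat.Prime 13) := ⟨by norm_num⟩

theorem fact_prime_17 : Fact (Nat.Prime 17) := ⟨by norm_num⟩

theorem fact_prime_19 : Fact (Nat.Prime 19) := ⟨by norm_num⟩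

theorem fact_prime_23 : Fact (Nat.Prime 23) := ⟨by norm_num⟩

attribute [local instance] fact_prime_7 fact_prime_11 fact_prime_13 fact_prime_17 fact_prime_19 fact_prime_23

theorem orderOf_unit_of_pows {p : ℕ} [Fact p.Prime] (u : (ZMod p)ˣ) (n : ℕ) (hn : 0 < n)
    (h1 : u ^ n = 1) (h2 : ∀ m < n, 0 < m → u ^ m ≠ 1) : orderOf u = n :=
  (orderOf_eq_iff hn).mpr ⟨h1, h2⟩

theorem card_PSL_two_prime {F : Type*} [Field F] [Fintype F] {p : ℕ} (hF : Fintype.card F = p)
    (hp : Odd p) :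
    2 * Nat.card (Matrix.ProjectiveSpecialLinearGroup (Fin 2) F) = p * (p ^ 2 - 1) := by
  have h := CfsgLib.Classical.card_PSL_two_mul (F := F)
  rw [← hF, ← Nat.card_eq_fintype_card] at hp
  rw [CfsgLib.Classical.gcd_two_card_sub_one_of_odd hp, Nat.card_eq_fintype_card (α := F), hF] at h
  exact h

theorem isSimple_PSL_two {F : Type*} [Field F] [Fintype F] {p : ℕ} (hF : Fintype.card F = p)
    (hp : 4 ≤ p) : IsSimpleGroup (Matrix.ProjectiveSpecialLinearGroup (Fin 2) F) :=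
  Matrix.ProjectiveSpecialLinearGroup.rank_two_simple (by rwa [Nat.card_eq_fintype_card, hF])

theorem equiv_PSL_two_7 {G : Type*} [Group G] [Finite G] [IsSimpleGroup G]
    (h : 2 * Nat.card G = 7 * (7 ^ 2 - 1)) {F : Type*} [Field F] [Fintype F]
    (hF : Fintype.card F = 7) :
    Nonempty (G ≃* Matrix.ProjectiveSpecialLinearGroup (Fin 2) F) := by
  have := isSimple_PSL_two hF (by norm_num)
  let u : (ZMod 7)ˣ := ⟨3, 5, by decide, by decide⟩
  refine equiv_of_line (p := 7) (by norm_num) h (card_PSL_two_prime hF (by decide)) u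
    (orderOf_unit_of_pows u (7 - 1) (by norm_num) (by decide) (by decide)) [0, 0, 2, 1, 4, 5, 3] [1, 3, 2, 6, 4, 5] ?_
  decide +kernel

theorem equiv_PSL_two_11 {G : Type*} [Group G] [Finite G] [IsSimpleGroup G]
    (h : 2 * Nat.card G = 11 * (11 ^ 2 - 1)) {F : Type*} [Field F] [Fintype F]
    (hF : Fintype.card F = 11) :
    Nonempty (G ≃* Matrix.ProjectiveSpecialLinearGroup (Fin 2) F) := by
  have := isSimple_PSL_two hF (by norm_num)
  let u : (ZMod 11)ˣ := ⟨2, 6, by decide, by decide⟩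
  refine equiv_of_line (p := 11) (by norm_num) h (card_PSL_two_prime hF (by decide)) u
    (orderOf_unit_of_pows u (11 - 1) (by norm_num) (by decide) (by decide)) [0, 0, 1, 8, 2, 4, 9, 7, 3, 6, 5] [1, 2, 4, 8, 5, 10, 9, 7, 3, 6] ?_
  decide +kernel

theorem equiv_PSL_two_13 {G : Type*} [Group G] [Finite G] [IsSimpleGroup G]
    (h : 2 * Nat.card G = 13 * (13 ^ 2 - 1)) {F : Type*} [Field F] [Fintype F]
    (hF : Fintype.card F = 13) :
    Nonempty (G ≃* Matrix.ProjectiveSpecialLinearGroup (Fin 2) F) := by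
  have := isSimple_PSL_two hF (by norm_num)
  let u : (ZMod 13)ˣ := ⟨2, 7, by decide, by decide⟩
  refine equiv_of_line (p := 13) (by norm_num) h (card_PSL_two_prime hF (by decide)) u
    (orderOf_unit_of_pows u (13 - 1) (by norm_num) (by decide) (by decide)) [0, 0, 1, 4, 2, 9, 5, 11, 3, 8, 10, 7, 6] [1, 2, 4, 8, 3, 6, 12, 11, 9, 5, 10, 7] ?_
  decide +kernel

theorem equiv_PSL_two_17 {G : Type*} [Group G] [Finite G] [IsSimpleGroup G]
    (h : 2 * Nat.card G = 17 * (17 ^ 2 - 1)) {F : Type*} [Field F] [Fintype F]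
    (hF : Fintype.card F = 17) :
    Nonempty (G ≃* Matrix.ProjectiveSpecialLinearGroup (Fin 2) F) := by
  have := isSimple_PSL_two hF (by norm_num)
  let u : (ZMod 17)ˣ := ⟨3, 6, by decide, by decide⟩
  refine equiv_of_line (p := 17) (by norm_num) h (card_PSL_two_prime hF (by decide)) u
    (orderOf_unit_of_pows u (17 - 1) (by norm_num) (by decide) (by decide)) [0, 0, 14, 1, 12, 5, 15, 11, 10, 2, 3, 7, 13, 4, 9, 6, 8] [1, 3, 9, 10, 13, 5, 15, 11, 16, 14, 8, 7, 4, 12, 2, 6] ?_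
  decide +kernel

theorem equiv_PSL_two_19 {G : Type*} [Group G] [Finite G] [IsSimpleGroup G]
    (h : 2 * Nat.card G = 19 * (19 ^ 2 - 1)) {F : Type*} [Field F] [Fintype F]
    (hF : Fintype.card F = 19) :
    Nonempty (G ≃* Matrix.ProjectiveSpecialLinearGroup (Fin 2) F) := by
  have := isSimple_PSL_two hF (by norm_num)
  let u : (ZMod 19)ˣ := ⟨2, 10, by decide, by decide⟩
  refine equiv_of_line (p := 19) (by norm_num) h (card_PSL_two_prime hF (by decide)) u
    (orderOf_unit_of_pows u (19 - 1) (by norm_num) (by decide) (by decide)) [0, 0, 1, 13, 2, 16, 14, 6, 3, 8, 17, 12, 15, 5, 7, 11, 4, 10, 9] [1, 2, 4, 8, 16, 13, 7, 14, 9, 18, 17, 15, 11, 3, 6, 12, 5, 10] ?_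
  decide +kernel

theorem equiv_PSL_two_23 {G : Type*} [Group G] [Finite G] [IsSimpleGroup G]
    (h : 2 * Nat.card G = 23 * (23 ^ 2 - 1)) {F : Type*} [Field F] [Fintype F]
    (hF : Fintype.card F = 23) :
    Nonempty (G ≃* Matrix.ProjectiveSpecialLinearGroup (Fin 2) F) := by
  have := isSimple_PSL_two hF (by norm_num)
  let u : (ZMod 23)ˣ := ⟨5, 14, by decide, by decide⟩
  refine equiv_of_line (p := 23) (by norm_num) h (card_PSL_two_prime hF (by decide)) u
    (orderOf_unit_of_pows u (23 - 1) (by norm_num) (by decide) (by decide)) [0, 0, 2, 16, 4, 1, 18, 19, 6, 10, 3, 9, 20, 14, 21, 17, 8, 7, 12, 15, 5, 13, 11] [1, 5, 2, 10, 4, 20, 8, 17, 16, 11, 9, 22, 18, 21, 13, 19, 3, 15, 6, 7, 12, 14] ?_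
  decide +kernel

end CfsgLib.Small
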