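import Cfsg.Agent.Lib.Small.Basic
import Cfsg.Agent.Lib.Classical.Order
import Cfsg.Agent.S0731
import Cfsg.Agent.S0254

/-!
# A simple group of order 360 is the alternating group of degree six

Its ten Sylow 3-subgroups form a Zassenhaus space.
-/

set_option autoImplicit false

open Subgroup

namespace CfsgLib.Small

variable {G : Type*} [Group G] [Finite G]

theorem six_le_index_of_card_360 [IsSimpleGroup G] (h : Nat.card G = 360) {H : Subgroup G}
    (hH : H ≠ ⊤) : 6 ≤ H.index := by
  have hG : ¬ IsMulCommutative G := not_isMulCommutative_of_card (by rw [h]; norm_num)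
  have h5 := five_le_index hG hH
  by_contra hlt
  have h6 := two_mul_card_dvd_factorial hG hH
  rw [h, show H.index = 5 by omega, show (5 : ℕ).factorial = 120 from rfl] at h6
  omega

theorem card_sylow_three_of_card_360 [IsSimpleGroup G] (h : Nat.card G = 360) :
    Nat.card (Sylow 3 G) = 10 ∧ ∀ P : Sylow 3 G, Nat.card (P : Subgroup G) = 9 ∧
      Nat.card (normalizer ((P : Subgroup G) : Set G)) = 36 := by
  haveI := Fact.mk Nat.prime_three
  have hG : ¬ IsMulCommutative G := not_isMulCommutative_of_card (by rw [h]; norm_num)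
  have hd := card_sylow_dvd (p := 3) (G := G) 2 40 (by omega) (by norm_num)
  have hm : Nat.card (Sylow 3 G) % 3 = 1 := card_sylow_modEq_one 3 G
  have h9 : ∀ P : Sylow 3 G, Nat.card (P : Subgroup G) = 9 := fun P => by
    simpa using card_sylow_eq (p := 3) 2 40 (by omega) (by norm_num) P
  have hmem : Nat.card (Sylow 3 G) ∈ (Nat.divisors 40).filter (fun d => d % 3 = 1) :=
    Finset.mem_filter.mpr ⟨Nat.mem_divisors.mpr ⟨hd, by norm_num⟩, hm⟩
  rw [show (Nat.divisors 40).filter (fun d => d % 3 = 1) = {1, 4, 10, 40} from by decide] at hmem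
  simp only [Finset.mem_insert, Finset.mem_singleton] at hmem
  obtain ⟨P₀⟩ := (inferInstance : Nonempty (Sylow 3 G))
  have h6 := six_le_index_of_card_360 h (sylow_normalizer_ne_top hG (p := 3) (by omega) P₀)
  rw [← card_sylow_eq_index] at h6
  have hne : Nat.card (Sylow 3 G) ≠ 40 := by
    intro h40
    have hN := card_normalizer_mul P₀
    rw [h40, h] at hN
    refine not_normalizer_le_centralizer hG (by omega) P₀ ?_
    rw [(Subgroup.eq_of_le_of_card_ge le_normalizer (by rw [h9 P₀]; omega)).symm]
    haveI : IsMulCommutative (P₀ : Subgroup G) :=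
      (IsPGroup.isMulCommutative_of_card_eq_prime_sq (p := 3) (by rw [h9 P₀]; norm_num))
    exact le_centralizer (P₀ : Subgroup G)
  have h10 : Nat.card (Sylow 3 G) = 10 := by omega
  refine ⟨h10, fun P => ⟨h9 P, ?_⟩⟩
  have hN := card_normalizer_mul P
  rw [h10, h] at hN
  omega

set_option maxHeartbeats 1000000 in
theorem sylow_three_inter_of_card_360 [IsSimpleGroup G] (h : Nat.card G = 360) {P Q : Sylow 3 G}
    (hPQ : P ≠ Q) {x : G} (hxP : x ∈ (P : Subgroup G)) (hxQ : x ∈ (Q : Subgroup G)) : x = 1 := by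
  haveI := Fact.mk Nat.prime_three
  have hG : ¬ IsMulCommutative G := not_isMulCommutative_of_card (by rw [h]; norm_num)
  obtain ⟨-, hcard⟩ := card_sylow_three_of_card_360 h
  by_contra hx
  have hab : ∀ R : Sylow 3 G, IsMulCommutative (R : Subgroup G) := fun R =>
    IsPGroup.isMulCommutative_of_card_eq_prime_sq (p := 3) (by rw [(hcard R).1]; norm_num)
  set C := centralizer ({x} : Set G) with hCdef
  have hRC : ∀ R : Sylow 3 G, x ∈ (R : Subgroup G) → (R : Subgroup G) ≤ C := fun R hxR y hy =>
    mem_centralizer_singleton_iff.2 (congrArg Subtype.val ((hab R).is_comm.comm ⟨y, hy⟩ ⟨x, hxR⟩))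
  have hCtop : C ≠ ⊤ := by
    intro hC
    have hxc : x ∈ center G := mem_center_iff.2 fun g =>
      mem_centralizer_singleton_iff.1 (hC ▸ mem_top g : g ∈ C)
    rw [center_eq_bot hG] at hxc
    exact hx hxc
  have h6 := six_le_index_of_card_360 h hCtop
  have hmul := C.card_mul_index
  rw [h] at hmul
  have h9C : 9 ∣ Nat.card C := by rw [← (hcard P).1]; exact card_dvd_of_le (hRC P hxP)
  let P' : Sylow 3 C := P.subtype (hRC P hxP)
  let Q' : Sylow 3 C := Q.subtype (hRC Q hxQ)
  have hPQ' : P' ≠ Q' := fun e => hPQ (Sylow.subtype_injective e)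
  have hn1 : 1 < Nat.card (Sylow 3 C) := Finite.one_lt_card_iff_nontrivial.2 ⟨⟨P', Q', hPQ'⟩⟩
  obtain ⟨c, hc⟩ := h9C
  have hc6 : c ≤ 6 := by
    have h7 : Nat.card C * 6 ≤ Nat.card C * C.index := Nat.mul_le_mul_left _ h6
    omega
  have hcd : c ∣ 40 := by
    refine (Nat.mul_dvd_mul_iff_left (a := 9) (by norm_num)).1 ?_
    rw [← hc]
    exact ⟨C.index, by omega⟩
  have hc0 : 0 < c := by
    have := Nat.card_pos (α := C)
    omega
  have hdvd := card_sylow_dvd (p := 3) (G := C) 2 c (by rw [hc]; rfl) (fun h3 => by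
    have := h3.trans hcd; omega)
  have hmod : Nat.card (Sylow 3 C) % 3 = 1 := card_sylow_modEq_one 3 C
  have hle := Nat.le_of_dvd hc0 hdvd
  have hn4 : Nat.card (Sylow 3 C) = 4 ∧ c = 4 := by
    obtain ⟨d, hd⟩ := hdvd
    interval_cases c <;> interval_cases hn : Nat.card (Sylow 3 C) <;> omega
  have hP9 : Nat.card (P' : Subgroup C) = 9 := by
    rw [Sylow.coe_subtype, Nat.card_congr (subgroupOfEquivOfLe (hRC P hxP)).toEquiv, (hcard P).1]
  have hN := card_normalizer_mul P'
  rw [hn4.1, hc, hn4.2] at hN
  have hle' : normalizer ((P' : Subgroup C) : Set C) ≤ centralizer ((P' : Subgroup C) : Set C) := by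
    rw [(Subgroup.eq_of_le_of_card_ge le_normalizer (by rw [hP9]; omega)).symm]
    haveI : IsMulCommutative (P' : Subgroup C) :=
      IsPGroup.isMulCommutative_of_card_eq_prime_sq (p := 3) (by rw [hP9]; norm_num)
    exact le_centralizer (P' : Subgroup C)
  obtain ⟨K, hKn, hKcard⟩ : ∃ K : Subgroup C, K.Normal ∧ Nat.card K = 4 := by
    refine ⟨(MonoidHom.transferSylow P' hle').ker, inferInstance, ?_⟩
    have := (MonoidHom.ker_transferSylow_isComplement' P' hle').card_mul
    rw [hP9, hc, hn4.2] at this
    omega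
  -- the complement is normalised by `C` and by a Sylow 2-subgroup
  set V := K.map C.subtype with hV
  have hVcard : Nat.card V = 4 := by rw [hV, card_map_of_injective C.subtype_injective, hKcard]
  haveI := Fact.mk Nat.prime_two
  obtain ⟨S, hS⟩ := (IsPGroup.of_card (p := 2) (n := 2) (by rw [hVcard]; norm_num) :
    IsPGroup 2 V).exists_le_sylow
  have hS8 : Nat.card (S : Subgroup G) = 8 := by
    simpa using card_sylow_eq (p := 2) 3 45 (by omega) (by norm_num) S
  set N := normalizer (V : Set G) with hN'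
  have hCN : C ≤ N := by
    intro y hy
    rw [mem_normalizer_iff]
    intro z
    constructor
    · rintro ⟨w, hw, rfl⟩
      exact ⟨(⟨y, hy⟩ : C) * w * (⟨y, hy⟩ : C)⁻¹, hKn.conj_mem w hw _, rfl⟩
    · rintro ⟨w, hw, hwz⟩
      refine ⟨(⟨y, hy⟩ : C)⁻¹ * w * (⟨y, hy⟩ : C), ?_, ?_⟩
      · have := hKn.conj_mem w hw (⟨y, hy⟩ : C)⁻¹
        rwa [inv_inv] at this
      · show (y : G)⁻¹ * (w : G) * y = z
        rw [show (w : G) = y * z * y⁻¹ from hwz]
        group
  have hSN : (S : Subgroup G) ≤ N := by
    have hidx : (V.subgroupOf (S : Subgroup G)).index = 2 := by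
      have := (V.subgroupOf (S : Subgroup G)).card_mul_index
      rw [Nat.card_congr (subgroupOfEquivOfLe hS).toEquiv, hVcard, hS8] at this
      omega
    haveI := Subgroup.normal_of_index_eq_two hidx
    exact (normal_subgroupOf_iff_le_normalizer hS).1 inferInstance
  have hNtop : N ≠ ⊤ := normalizer_ne_top (fun e => by rw [e] at hVcard; simp at hVcard) (fun e => by
    rw [e, card_top, h] at hVcard; omega)
  have hdN : 72 ∣ Nat.card N := by
    have h1 := card_dvd_of_le hCN
    have h2 := card_dvd_of_le hSN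
    rw [hc, hn4.2] at h1
    rw [hS8] at h2
    exact Nat.Coprime.mul_dvd_of_dvd_of_dvd (by norm_num) (Nat.dvd_trans (by norm_num : 9 ∣ 9 * 4) h1) h2
  have h6' := six_le_index_of_card_360 h hNtop
  have hmul' := N.card_mul_index
  rw [h] at hmul'
  have := Nat.le_of_dvd Nat.card_pos hdN
  nlinarith

set_option maxHeartbeats 2000000 in
theorem equiv_alternating_six [IsSimpleGroup G] (h : Nat.card G = 360) :
    Nonempty (G ≃* alternatingGroup (Fin 6)) := by
  classical
  haveI := Fact.mk Nat.prime_three
  have hG : ¬ IsMulCommutative G := not_isMulCommutative_of_card (by rw [h]; norm_num)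
  obtain ⟨h10, hcard⟩ := card_sylow_three_of_card_360 h
  haveI : Fintype (Sylow 3 G) := Fintype.ofFinite _
  have hstab : ∀ (a : Sylow 3 G) (g : G), g • a = a ↔ g ∈ normalizer ((a : Subgroup G) : Set G) :=
    fun a g => Sylow.smul_eq_iff_mem_normalizer
  have hself : ∀ (a : Sylow 3 G) (u : G), u ∈ (a : Subgroup G) → u • a = a := fun a u hu =>
    (hstab a u).2 (le_normalizer hu)
  have hfree : ∀ (a b : Sylow 3 G), a ≠ b → ∀ u ∈ (a : Subgroup G), u • b = b → u = 1 := by
    intro a b hab u hu hub
    have : u ∈ (a : Subgroup G) ⊓ normalizer ((b : Subgroup G) : Set G) := ⟨hu, (hstab b u).1 hub⟩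
    have := (a.2.inf_normalizer_sylow b).le this
    exact sylow_three_inter_of_card_360 h hab this.1 this.2
  -- each Sylow subgroup is regular on the other nine
  have hreg : ∀ a y z : Sylow 3 G, y ≠ a → z ≠ a → ∃! u : (a : Subgroup G), (u : G) • y = z := by
    intro a y z hy hz
    let f : ↥(a : Subgroup G) → {w : Sylow 3 G // w ≠ a} := fun u => ⟨(u : G) • y, fun e => hy
      (MulAction.injective (u : G) (e.trans (hself a u u.2).symm))⟩
    have hf : Function.Injective f := fun u v e => by
      have e' : (u : G) • y = (v : G) • y := congrArg Subtype.val e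
      have h1 : (v : G)⁻¹ * u = 1 := hfree a y (Ne.symm hy) _ (mul_mem (inv_mem v.2) u.2)
        (by rw [mul_smul, e', inv_smul_smul])
      exact Subtype.ext (inv_mul_eq_one.1 h1).symm
    have hbij := hf.bijective_of_nat_card_le (by
      rw [(hcard a).1, Nat.card_eq_fintype_card, Fintype.card_subtype_compl,
        Fintype.card_subtype_eq, ← Nat.card_eq_fintype_card, h10])
    obtain ⟨u, hu⟩ := hbij.2 ⟨z, hz⟩
    exact ⟨u, congrArg Subtype.val hu, fun v hv =>
      hf ((Subtype.ext hv : f v = ⟨z, hz⟩).trans hu.symm)⟩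
  have h2t : MulAction.IsMultiplyPretransitive G (Sylow 3 G) 2 := by
    rw [MulAction.is_two_pretransitive_iff]
    intro a b c d hab hcd
    obtain ⟨g, hg⟩ := MulAction.exists_smul_eq G a c
    have hgb : g • b ≠ c := fun e => hab (MulAction.injective g (hg.trans e.symm))
    obtain ⟨u, hu, -⟩ := hreg c (g • b) d hgb hcd.symm
    exact ⟨(u : G) * g, by rw [mul_smul, hg, hself c u u.2], by rw [mul_smul, hu]⟩
  have hfaith : Function.Injective (MulAction.toPermHom G (Sylow 3 G)) := by
    rw [← MonoidHom.ker_eq_bot_iff]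
    rcases (inferInstance : (MulAction.toPermHom G (Sylow 3 G)).ker.Normal).eq_bot_or_eq_top with
      hk | hk
    · exact hk
    · exfalso
      obtain ⟨a, b, hab⟩ := (Finite.one_lt_card_iff_nontrivial.1
        (by omega : 1 < Nat.card (Sylow 3 G))).exists_pair_ne
      obtain ⟨g, hg⟩ := MulAction.exists_smul_eq G a b
      have := Equiv.Perm.congr_fun (MonoidHom.mem_ker.1 (hk ▸ mem_top g :
        g ∈ (MulAction.toPermHom G (Sylow 3 G)).ker)) a
      simp [hg] at this
      exact hab this.symm
  haveI : FaithfulSMul G (Sylow 3 G) :=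
    ⟨fun {g k} e => hfaith (Equiv.ext e)⟩
  have hpow : ∀ {g : G} {w : Sylow 3 G}, g • w = w → ∀ n : ℕ, g ^ n • w = w := fun {g w} e n =>
    pow_mem (show g ∈ MulAction.stabilizer G w from e) n
  have hthree : ∀ (g : G) (a b c : Sylow 3 G), a ≠ b → b ≠ c → a ≠ c →
      g • a = a → g • b = b → g • c = c → g = 1 := by
    intro g a b c hab hbc hac ha hb hc
    by_contra hg1
    obtain ⟨u, hu, huu⟩ := hreg a b c hab.symm hac.symm
    have hu1 : (u : G) ≠ 1 := fun e => hbc (by rw [← hu, e, one_smul])
    have hgN := (hstab a g).1 ha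
    have hgu : g * u * g⁻¹ = u := congrArg Subtype.val (huu ⟨g * u * g⁻¹,
      (mem_normalizer_iff.1 hgN _).1 u.2⟩ (by
        show (g * u * g⁻¹) • b = c
        rw [mul_smul, mul_smul, inv_smul_eq_iff.2 hb.symm, hu, hc]))
    -- an involution in the powers of `g`
    have hdvd36 : orderOf g ∣ 36 := by
      rw [← (hcard a).2, ← Subgroup.orderOf_mk g hgN]; exact orderOf_dvd_natCard _
    have h3 : ¬ 3 ∣ orderOf g := by
      intro h3
      set y := g ^ (orderOf g / 3) with hy
      have hyo : orderOf y = 3 := orderOf_pow_orderOf_div (orderOf_pos g).ne' h3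
      have hya : y ∈ (a : Subgroup G) := by
        have hp : IsPGroup 3 (zpowers y) :=
          IsPGroup.of_card (n := 1) (by rw [Nat.card_zpowers, hyo, pow_one])
        have : y ∈ zpowers y ⊓ normalizer ((a : Subgroup G) : Set G) :=
          ⟨mem_zpowers y, pow_mem hgN _⟩
        exact ((hp.inf_normalizer_sylow a).le this).2
      have hy1 := hfree a b hab y hya (hpow hb _)
      rw [hy1, orderOf_one] at hyo
      omega
    have h2 : 2 ∣ orderOf g := by
      have h4 : orderOf g ∣ 4 :=
        ((Nat.prime_three.coprime_iff_not_dvd.2 h3).symm.pow_right 2).dvd_of_dvd_mul_left hdvd36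
      have hne1 : orderOf g ≠ 1 := fun e => hg1 (orderOf_eq_one_iff.1 e)
      have := Nat.le_of_dvd (by norm_num) h4
      interval_cases ho : orderOf g <;> omega
    set j := g ^ (orderOf g / 2) with hj
    have hjo : orderOf j = 2 := orderOf_pow_orderOf_div (orderOf_pos g).ne' h2
    have hja : j • a = a := hpow ha _
    have hjb : j • b = b := hpow hb _
    have hju : Commute j (u : G) :=
      (show Commute g (u : G) from mul_inv_eq_iff_eq_mul.1 hgu).pow_left _
    -- the centraliser of `j` in `a` parametrises its fixed points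
    let W := (centralizer ({j} : Set G)).subgroupOf (a : Subgroup G)
    have hfix : ∀ v : (a : Subgroup G), j • ((v : G) • b) = (v : G) • b ↔ v ∈ W := by
      intro v
      constructor
      · intro e
        obtain ⟨w, -, hw⟩ := hreg a b ((v : G) • b) hab.symm (fun e => hab.symm
          (MulAction.injective (v : G) (e.trans (hself a v v.2).symm)))
        have h1 := hw ⟨j * v * j⁻¹, (mem_normalizer_iff.1 ((hstab a j).1 hja) _).1 v.2⟩ (by
          show (j * v * j⁻¹) • b = _
          rw [mul_smul, mul_smul, inv_smul_eq_iff.2 hjb.symm, e])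
        rw [← hw v rfl] at h1
        exact mem_centralizer_singleton_iff.2 (mul_inv_eq_iff_eq_mul.1 (congrArg Subtype.val h1)).symm
      · intro hv
        rw [← mul_smul, ← (mem_centralizer_singleton_iff.1 hv : (v : G) * j = j * v), mul_smul, hjb]
    have hW1 : 1 < Nat.card W := Finite.one_lt_card_iff_nontrivial.2 ⟨⟨⟨u,
      mem_centralizer_singleton_iff.2 hju.eq.symm⟩, 1, fun e => hu1 (congrArg
        (fun w : W => ((w : (a : Subgroup G)) : G)) e)⟩⟩
    have hW9 : Nat.card W ∣ 9 := by rw [← (hcard a).1]; exact card_subgroup_dvd_card W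
    let σ := MulAction.toPermHom G (Sylow 3 G) j
    have hσ : orderOf σ = 2 := by rw [orderOf_injective _ hfaith, hjo]
    -- the support is in bijection with the complement of `W`
    have hsupp : σ.support.card + Nat.card W = 9 := by
      let f : {v : (a : Subgroup G) // v ∉ W} → {w : Sylow 3 G // w ∈ σ.support} := fun v =>
        ⟨(v.1 : G) • b, Equiv.Perm.mem_support.2 (fun e => v.2 ((hfix v.1).1 e))⟩
      have hf : Function.Bijective f := by
        refine ⟨fun v w e => Subtype.ext ?_, fun w => ?_⟩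
        · obtain ⟨z, -, hz⟩ := hreg a b ((w.1 : G) • b) hab.symm (fun e => hab.symm
            (MulAction.injective (w.1 : G) (e.trans (hself a w.1 w.1.2).symm)))
          exact (hz v.1 (congrArg Subtype.val e)).trans (hz w.1 rfl).symm
        · have hwa : w.1 ≠ a := fun e => Equiv.Perm.mem_support.1 w.2 (by rw [e]; exact hja)
          obtain ⟨v, hv, -⟩ := hreg a b w.1 hab.symm hwa
          refine ⟨⟨v, fun hvW => Equiv.Perm.mem_support.1 w.2 ?_⟩, Subtype.ext hv⟩
          show j • w.1 = w.1
          rw [← hv]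
          exact (hfix v).2 hvW
      have hcomp : Nat.card {v : (a : Subgroup G) // v ∉ W} + Nat.card W = 9 := by
        rw [← (hcard a).1, ← Nat.card_congr (Equiv.sumCompl fun v : (a : Subgroup G) => v ∈ W),
          Nat.card_sum, add_comm]
      rw [Nat.card_congr (Equiv.ofBijective f hf), Nat.card_eq_fintype_card,
        Fintype.card_coe] at hcomp
      exact hcomp
    obtain ⟨n, hn⟩ := Equiv.Perm.cycleType_prime_order (σ := σ) (by rw [hσ]; exact Nat.prime_two)
    rw [hσ] at hn
    have hsum := Equiv.Perm.sum_cycleType σ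
    rw [hn, Multiset.sum_replicate, smul_eq_mul] at hsum
    have hsign := sign_eq_one hG (MulAction.toPermHom G (Sylow 3 G)) j
    change Equiv.Perm.sign σ = 1 at hsign
    rw [Equiv.Perm.sign_of_cycleType, hn, Multiset.sum_replicate, Multiset.card_replicate,
      smul_eq_mul] at hsign
    have hW39 : Nat.card W = 3 ∨ Nat.card W = 9 := by
      have := Nat.le_of_dvd (by norm_num) hW9
      interval_cases hw : Nat.card W <;> omega
    rcases hW39 with h3' | h9'
    · have hn2 : n = 2 := by omega
      rw [hn2] at hsign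
      exact absurd hsign (by decide)
    · omega
  have htwo : ∃ g : G, g ≠ 1 ∧ ∃ a b : Sylow 3 G, a ≠ b ∧ g • a = a ∧ g • b = b := by
    obtain ⟨a, b, hab⟩ := (Finite.one_lt_card_iff_nontrivial.1
      (by omega : 1 < Nat.card (Sylow 3 G))).exists_pair_ne
    obtain ⟨g, hgN, hga⟩ : ∃ g ∈ normalizer ((a : Subgroup G) : Set G), g ∉ (a : Subgroup G) := by
      by_contra hno
      push Not at hno
      have := Nat.le_of_dvd Nat.card_pos (card_dvd_of_le (show normalizer ((a : Subgroup G) : Set G) ≤ _
        from hno))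
      rw [(hcard a).1, (hcard a).2] at this
      omega
    have hgb : g • b ≠ a := fun e => hab (MulAction.injective g (e.trans ((hstab a g).2 hgN).symm)).symm
    obtain ⟨u, hu, -⟩ := hreg a b (g • b) hab.symm hgb
    refine ⟨(u : G)⁻¹ * g, fun e => hga ?_, a, b, hab, ?_, ?_⟩
    · rw [← inv_mul_eq_one.1 e]; exact u.2
    · rw [mul_smul, (hstab a g).2 hgN, hself a _ (inv_mem u.2)]
    · rw [mul_smul, inv_smul_eq_iff, hu]
  have hZ : Cfsg.IsZassenhausGroup G (Sylow 3 G) := by
    refine ⟨inferInstance, h2t, hthree, htwo, fun N hN htr => ?_⟩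
    obtain ⟨g, hg, a, -, -, hga, -⟩ := htwo
    rcases hN.eq_bot_or_eq_top with rfl | rfl
    · exfalso
      obtain ⟨a, b, hab⟩ := (Finite.one_lt_card_iff_nontrivial.1
        (by omega : 1 < Nat.card (Sylow 3 G))).exists_pair_ne
      obtain ⟨⟨m, hm⟩, hmab⟩ := htr.exists_smul_eq a b
      rw [mem_bot] at hm
      subst hm
      exact hab ((one_smul G a).symm.trans hmab)
    · refine ⟨a, fun e => hg ?_⟩
      have : (⟨g, mem_top g⟩ : (⊤ : Subgroup G)) ∈
          MulAction.stabilizer (⊤ : Subgroup G) a := hga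
      rw [e, mem_bot] at this
      exact congrArg Subtype.val this
  obtain ⟨a⟩ := (inferInstance : Nonempty (Sylow 3 G))
  have hres := Cfsg.Agent.S0731.result hZ a (a : Subgroup G) (fun u hu => hself a u hu)
    ((normal_subgroupOf_iff_le_normalizer (fun u hu => hself a u hu)).2
      (fun g hg => (hstab a g).1 hg))
    (IsPGroup.isMulCommutative_of_card_eq_prime_sq (p := 3) (by rw [(hcard a).1]; norm_num))
    (hreg a)
  rcases hres with ⟨h3t, -⟩ | ⟨K, _, _, -, ⟨e⟩⟩
  · exfalso
    obtain ⟨t⟩ : Nonempty (Fin 3 ↪ Sylow 3 G) := Function.Embedding.nonempty_of_card_le (by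
      rw [Fintype.card_fin, ← Nat.card_eq_fintype_card, h10]; norm_num)
    have hsur : Function.Surjective fun g : G => g • t := fun s => MulAction.exists_smul_eq G t s
    have := Nat.card_le_card_of_surjective _ hsur
    rw [h, Nat.card_eq_fintype_card, Fintype.card_embedding_eq, ← Nat.card_eq_fintype_card, h10,
      Fintype.card_fin] at this
    norm_num [Nat.descFactorial] at this
  · have h9 : Fintype.card K = 9 := by
      have hPSL := CfsgLib.Classical.card_PSL_two_mul (F := K)
      rw [Nat.card_congr e.symm.toEquiv, h] at hPSL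
      rw [← Nat.card_eq_fintype_card]
      have hq : Nat.card K ≤ 9 := by
        by_contra hlt
        push Not at hlt
        have h2 : Nat.gcd 2 (Nat.card K - 1) ≤ 2 := Nat.gcd_le_left _ two_pos
        have h100 : 100 ≤ Nat.card K ^ 2 := by nlinarith
        have : Nat.card K * 99 ≤ Nat.card K * (Nat.card K ^ 2 - 1) :=
          Nat.mul_le_mul_left _ (by omega)
        nlinarith
      interval_cases hk : Nat.card K <;> first | rfl | norm_num at hPSL
    obtain ⟨e'⟩ := Cfsg.Agent.S0254.result h9
    exact ⟨e.trans e'⟩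

end CfsgLib.Small
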