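import Mathlib

/-!
# Intersections of Sylow subgroups
-/

set_option autoImplicit false

open Subgroup MulAction
open scoped Pointwise

namespace CfsgLib.Small

variable {G : Type*} [Group G] {p : ℕ}

theorem stabilizer_sylow_eq (P R : Sylow p G) :
    stabilizer ↥(P : Subgroup G) R = (R : Subgroup G).subgroupOf (P : Subgroup G) := by
  ext x
  rw [mem_stabilizer_iff, mem_subgroupOf]
  constructor
  · intro h
    have h1 : (x : G) ∈ (P : Subgroup G) ⊓ normalizer ((R : Subgroup G) : Set G) :=
      ⟨x.2, Sylow.smul_eq_iff_mem_normalizer.mp h⟩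
    exact ((le_of_eq (P.2.inf_normalizer_sylow R)) h1).2
  · intro h
    exact Sylow.smul_eq_iff_mem_normalizer.mpr (le_normalizer (H := (R : Subgroup G)) h)

/-- If `n_p ≢ 1 (mod p^k)` then two distinct Sylow `p`-subgroups meet in index at most
`p ^ (k-1)`. -/
theorem exists_inter_index_le [Finite G] [hp : Fact p.Prime] {k : ℕ}
    (h : ¬ Nat.card (Sylow p G) ≡ 1 [MOD p ^ k]) (P : Sylow p G) :
    ∃ R : Sylow p G, P ≠ R ∧
      ((R : Subgroup G).subgroupOf (P : Subgroup G)).index ≤ p ^ (k - 1) := by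
  classical
  by_contra hne
  push Not at hne
  apply h
  let Ω := orbitRel.Quotient ↥(P : Subgroup G) (Sylow p G)
  have : Fintype Ω := Fintype.ofFinite _
  have hcard : Nat.card (Sylow p G) =
      ∑ ω : Ω, (stabilizer ↥(P : Subgroup G) ω.out).index := by
    rw [Nat.card_congr (selfEquivSigmaOrbitsQuotientStabilizer ↥(P : Subgroup G) (Sylow p G)),
      Nat.card_sigma]
    rfl
  let ω₀ : Ω := Quotient.mk'' P
  have h0 : ω₀.out = P := by
    have hmem : ω₀.out ∈ orbit ↥(P : Subgroup G) P :=
      (orbitRel_apply.mp (Quotient.mk_out' (s₁ := orbitRel ↥(P : Subgroup G) (Sylow p G)) P))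
    obtain ⟨g, hg⟩ := hmem
    rw [← hg]
    exact Sylow.smul_eq_iff_mem_normalizer.mpr (le_normalizer (H := (P : Subgroup G)) g.2)
  rw [hcard, ← Finset.sum_erase_add _ _ (Finset.mem_univ ω₀), h0, stabilizer_sylow_eq,
    subgroupOf_self, index_top]
  conv_rhs => rw [← zero_add 1]
  refine Nat.ModEq.add_right 1 (Nat.modEq_zero_iff_dvd.mpr (Finset.dvd_sum fun ω hω => ?_))
  have hωP : P ≠ ω.out := by
    intro he
    have : ω = ω₀ := by rw [← Quotient.out_eq' ω, ← he]
    exact (Finset.mem_erase.mp hω).1 this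
  have hlt := hne ω.out hωP
  rw [stabilizer_sylow_eq]
  obtain ⟨j, hj⟩ := P.2.index ((ω.out : Subgroup G).subgroupOf (P : Subgroup G))
  rw [hj] at hlt ⊢
  have := (Nat.pow_lt_pow_iff_right hp.out.one_lt).mp hlt
  exact pow_dvd_pow p (by omega)

theorem mem_smul_sylow (g : G) (Q : Sylow p G) (x : G) :
    x ∈ ((g • Q : Sylow p G) : Subgroup G) ↔ g⁻¹ * x * g ∈ (Q : Subgroup G) := by
  have h : ((g • Q : Sylow p G) : Subgroup G) = MulAut.conj g • (Q : Subgroup G) :=
    Sylow.coe_subgroup_smul
  rw [h, Subgroup.mem_pointwise_smul_iff_inv_smul_mem]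
  simp [MulAut.smul_def]

/-- In a finite group with abelian Sylow `p`-subgroups, the intersection of all of them is the
intersection of two of them. -/
theorem exists_inf_eq_iInf [Finite G] [Fact p.Prime]
    (hab : ∀ P : Sylow p G, IsMulCommutative ↥(P : Subgroup G)) :
    ∃ P Q : Sylow p G, (P : Subgroup G) ⊓ (Q : Subgroup G) = ⨅ R : Sylow p G, (R : Subgroup G) := by
  classical
  obtain ⟨⟨P, Q⟩, hmin⟩ := Finite.exists_min
    (fun PQ : Sylow p G × Sylow p G =>
      Nat.card ↥((PQ.1 : Subgroup G) ⊓ (PQ.2 : Subgroup G)))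
  refine ⟨P, Q, le_antisymm (le_iInf fun R => ?_) (le_inf (iInf_le _ P) (iInf_le _ Q))⟩
  set D := (P : Subgroup G) ⊓ (Q : Subgroup G) with hD
  set C := centralizer (D : Set G) with hC
  have hle : ∀ S : Sylow p G, D ≤ (S : Subgroup G) → (S : Subgroup G) ≤ C := by
    intro S hS x hx
    rw [hC, mem_centralizer_iff]
    intro y hy
    exact congrArg Subtype.val ((hab S).is_comm.comm ⟨y, hS hy⟩ ⟨x, hx⟩)
  have hP := hle P inf_le_left
  have hQ := hle Q inf_le_right
  -- a Sylow subgroup of `C` above `R ⊓ C`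
  obtain ⟨S, hS⟩ := (IsPGroup.to_le R.2 (inf_le_left (b := C))).comap_subtype (K := C)
    |>.exists_le_sylow
  obtain ⟨c, hc⟩ := exists_smul_eq ↥C (P.subtype hP) S
  have hPc : (S : Subgroup C) = ((c : G) • P : Sylow p G).toSubgroup.subgroupOf C := by
    rw [← hc, Sylow.smul_subtype hP c]
    rfl
  have hD' : ∀ x, x ∈ D → (c : G)⁻¹ * x * c = x := fun x hx => by
    have := mem_centralizer_iff.mp c.2 x hx
    rw [mul_assoc, this, inv_mul_cancel_left]
  have key : (R : Subgroup G) ⊓ (((c : G) • Q : Sylow p G) : Subgroup G) ≤ D := by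
    intro x hx
    have h2 : (c : G)⁻¹ * x * c ∈ (Q : Subgroup G) := (mem_smul_sylow _ Q x).mp hx.2
    have hxC : x ∈ C := by
      have hCc : (c : G) * ((c : G)⁻¹ * x * c) * (c : G)⁻¹ ∈ C :=
        C.mul_mem (C.mul_mem c.2 (hQ h2)) (C.inv_mem c.2)
      simpa [mul_assoc] using hCc
    have h1 : (c : G)⁻¹ * x * c ∈ (P : Subgroup G) := by
      have hxS : (⟨x, hxC⟩ : C) ∈ (S : Subgroup C) := hS ⟨hx.1, hxC⟩
      rw [hPc, mem_subgroupOf] at hxS
      exact (mem_smul_sylow _ P x).mp hxS
    have hd : (c : G)⁻¹ * x * c ∈ D := ⟨h1, h2⟩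
    have h3 := mem_centralizer_iff.mp c.2 _ hd
    have : (c : G)⁻¹ * x * c = x := by
      have h4 : x * c = (c : G) * ((c : G)⁻¹ * x * c) := by group
      rw [← h3] at h4
      exact (mul_right_cancel h4).symm
    rwa [this] at hd
  have hcard := hmin (R, (c : G) • Q)
  have heq := Subgroup.eq_of_le_of_card_ge key hcard
  exact heq ▸ inf_le_left

theorem card_sylow_congr [Finite G] [Fact p.Prime] (P Q : Sylow p G) :
    Nat.card ↥(P : Subgroup G) = Nat.card ↥(Q : Subgroup G) := by
  rw [P.card_eq_multiplicity, Q.card_eq_multiplicity]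

theorem sylow_eq_of_le [Finite G] [Fact p.Prime] {P Q : Sylow p G}
    (h : (P : Subgroup G) ≤ (Q : Subgroup G)) : P = Q :=
  Sylow.ext (Subgroup.eq_of_le_of_card_ge h (card_sylow_congr Q P).le)

/-- The intersection of two distinct Sylow subgroups is proper in the normalizer-intersection. -/
theorem card_inf_lt_card_inf_normalizer [Finite G] [Fact p.Prime] {P Q : Sylow p G} (hPQ : P ≠ Q) :
    Nat.card ↥((P : Subgroup G) ⊓ (Q : Subgroup G)) <
      Nat.card ↥((P : Subgroup G) ⊓
        normalizer (((P : Subgroup G) ⊓ (Q : Subgroup G) : Subgroup G) : Set G)) := by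
  set D := (P : Subgroup G) ⊓ (Q : Subgroup G) with hD
  set D' := D.subgroupOf (P : Subgroup G) with hD'
  have hne : D' ≠ ⊤ := fun h => hPQ (sylow_eq_of_le ((subgroupOf_eq_top.mp h).trans inf_le_right))
  have := P.2.isNilpotent
  have hlt : D' < normalizer (D' : Set ↥(P : Subgroup G)) :=
    Group.normalizerCondition_of_isNilpotent D' (lt_top_iff_ne_top.mpr hne)
  have hcD : Nat.card ↥D' = Nat.card ↥D :=
    Nat.card_congr (subgroupOfEquivOfLe (inf_le_left (b := (Q : Subgroup G)))).toEquiv
  have hle : (normalizer (D' : Set ↥(P : Subgroup G))).map (P : Subgroup G).subtype ≤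
      (P : Subgroup G) ⊓ normalizer (D : Set G) := by
    rintro _ ⟨g, hg, rfl⟩
    refine ⟨g.2, fun x => ?_⟩
    constructor
    · intro hx
      exact (hg ⟨x, hx.1⟩).mp hx
    · intro hx
      have hxP : x ∈ (P : Subgroup G) := by
        have := mul_mem (mul_mem (inv_mem g.2) hx.1) g.2
        simpa [mul_assoc] using this
      exact (hg ⟨x, hxP⟩).mpr hx
  have h2 : Nat.card ↥D' < Nat.card ↥(normalizer (D' : Set ↥(P : Subgroup G))) := by
    by_contra hc
    exact hlt.ne (Subgroup.eq_of_le_of_card_ge hlt.le (by omega))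
  calc Nat.card ↥D = Nat.card ↥D' := hcD.symm
    _ < _ := h2
    _ = Nat.card ↥((normalizer (D' : Set ↥(P : Subgroup G))).map (P : Subgroup G).subtype) :=
        (Nat.card_congr (equivMapOfInjective _ _ (subtype_injective _)).toEquiv)
    _ ≤ _ := Subgroup.card_le_of_le hle

/-- Properties of the normalizer of a largest intersection of two distinct Sylow subgroups. -/
theorem largest_inter [Finite G] [Fact p.Prime] {P Q : Sylow p G} (hPQ : P ≠ Q)
    (hmax : ∀ P' Q' : Sylow p G, P' ≠ Q' → Nat.card ↥((P' : Subgroup G) ⊓ (Q' : Subgroup G)) ≤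
      Nat.card ↥((P : Subgroup G) ⊓ (Q : Subgroup G))) :
    let D : Subgroup G := (P : Subgroup G) ⊓ (Q : Subgroup G)
    1 < Nat.card (Sylow p ↥(normalizer (D : Set G))) ∧
      (∀ S T : Sylow p ↥(normalizer (D : Set G)), S ≠ T →
        (S : Subgroup ↥(normalizer (D : Set G))) ⊓ T = D.subgroupOf (normalizer (D : Set G))) ∧
      ∀ S : Sylow p ↥(normalizer (D : Set G)),
        ∃! T : Sylow p G, (S : Subgroup ↥(normalizer (D : Set G))).map
          (normalizer (D : Set G)).subtype ≤ (T : Subgroup G) := by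
  intro D
  set N := normalizer (D : Set G) with hN
  have hDN : D ≤ N := le_normalizer
  have hDp : IsPGroup p ↥(D.subgroupOf N) :=
    (P.2.to_le inf_le_left).comap_subtype
  have hDn : (D.subgroupOf N).Normal := Subgroup.normal_in_normalizer
  have hDS : ∀ S : Sylow p ↥N, D ≤ (S : Subgroup N).map N.subtype := by
    intro S
    have := Subgroup.map_mono (f := N.subtype) (hDp.le_sylow_of_normal S)
    rwa [subgroupOf_map_subtype, inf_eq_left.mpr hDN] at this
  have hbig : ∀ S : Sylow p ↥N, Nat.card ↥D < Nat.card ↥((S : Subgroup N).map N.subtype) := by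
    intro S
    refine lt_of_lt_of_le (card_inf_lt_card_inf_normalizer hPQ) ?_
    obtain ⟨S', hS'⟩ := (P.2.to_le (inf_le_left (b := N))).comap_subtype (K := N) |>.exists_le_sylow
    have h1 := Subgroup.card_le_of_le (Subgroup.map_mono (f := N.subtype) hS')
    rw [map_comap_eq_self (by simp)] at h1
    refine h1.trans (le_of_eq ?_)
    rw [← Nat.card_congr (equivMapOfInjective _ _ (subtype_injective N)).toEquiv,
      ← Nat.card_congr (equivMapOfInjective _ _ (subtype_injective N)).toEquiv]
    exact card_sylow_congr S' S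
  have huniq : ∀ S : Sylow p ↥N,
      ∃! T : Sylow p G, (S : Subgroup N).map N.subtype ≤ (T : Subgroup G) := by
    intro S
    obtain ⟨T, hT⟩ := (S.2.map N.subtype).exists_le_sylow
    refine ⟨T, hT, fun T' hT' => ?_⟩
    by_contra hne
    have h1 : _ ≤ Nat.card ↥D := hmax T' T hne
    have h2 := Subgroup.card_le_of_le (le_inf hT' hT)
    exact absurd (hbig S) (by omega)
  have hbigP : ∀ (R R' : Sylow p G), (R = P ∨ R = Q) →
      (R : Subgroup G) ⊓ N ≤ R' → R' = R := by
    intro R R' hR hle
    by_contra hne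
    have h1 : _ ≤ Nat.card ↥D := hmax R' R hne
    have h2 := Subgroup.card_le_of_le (le_inf hle inf_le_left)
    have h3 : Nat.card ↥D < Nat.card ↥((R : Subgroup G) ⊓ N) := by
      rcases hR with rfl | rfl
      · exact card_inf_lt_card_inf_normalizer hPQ
      · have := card_inf_lt_card_inf_normalizer (Ne.symm hPQ)
        rwa [inf_comm (R : Subgroup G) (P : Subgroup G)] at this
    exact absurd h3 (by omega)
  refine ⟨?_, ?_, huniq⟩
  · rw [Finite.one_lt_card_iff_nontrivial]
    by_contra hns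
    have : Subsingleton (Sylow p ↥N) := not_nontrivial_iff_subsingleton.mp hns
    obtain ⟨S⟩ := (inferInstance : Nonempty (Sylow p ↥N))
    obtain ⟨T, hT, -⟩ := huniq S
    have hin : ∀ R : Sylow p G, (R : Subgroup G) ⊓ N ≤ (S : Subgroup N).map N.subtype := by
      intro R
      obtain ⟨S', hS'⟩ := (R.2.to_le (inf_le_left (b := N))).comap_subtype (K := N)
        |>.exists_le_sylow
      rw [Subsingleton.elim S' S] at hS'
      have h1 := Subgroup.map_mono (f := N.subtype) hS'
      rwa [map_comap_eq_self (by simp)] at h1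
    exact hPQ ((hbigP P T (Or.inl rfl) ((hin P).trans hT)).symm.trans
      (hbigP Q T (Or.inr rfl) ((hin Q).trans hT)))
  · intro S T hST
    obtain ⟨A, hA, -⟩ := huniq S
    obtain ⟨B, hB, -⟩ := huniq T
    have hAB : A ≠ B := by
      intro h
      apply hST
      have hsup : IsPGroup p ↥(((S : Subgroup N) ⊔ T : Subgroup N)) := by
        have h1 : ((S : Subgroup N) ⊔ T).map N.subtype ≤ (A : Subgroup G) := by
          rw [Subgroup.map_sup]; exact sup_le hA (h ▸ hB)
        exact (A.2.to_le h1).of_equiv (equivMapOfInjective _ _ (subtype_injective N)).symm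
      exact Sylow.ext ((S.3 hsup le_sup_left).symm.trans (T.3 hsup le_sup_right))
    apply map_injective (subtype_injective N)
    rw [subgroupOf_map_subtype, inf_eq_left.mpr hDN, Subgroup.map_inf _ _ _ (subtype_injective N)]
    refine (Subgroup.eq_of_le_of_card_ge (le_inf (hDS S) (hDS T)) ?_).symm
    exact (Subgroup.card_le_of_le (inf_le_inf hA hB)).trans (hmax A B hAB)

end CfsgLib.Small
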