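import Cfsg.Agent.Lib.Small.Basic
import Cfsg.Agent.Lib.Small.SylowInter

/-!
# Sylow subgroups of prime order and their actions in simple groups
-/

set_option autoImplicit false

open Subgroup
open scoped Nat

namespace CfsgLib.Small

variable {G : Type*} [Group G] [Finite G]

/-- For a Sylow subgroup of prime order in a simple group, `|N(P) : C(P)|` is a divisor `> 1`
of `p - 1`. -/
theorem exists_normalizer_centralizer [IsSimpleGroup G] (hG : ¬ IsMulCommutative G) {p : ℕ}
    [Fact p.Prime] (P : Sylow p G) (hP : Nat.card (P : Subgroup G) = p) :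
    ∃ e : ℕ, 1 < e ∧ e ∣ p - 1 ∧
      Nat.card (centralizer ((P : Subgroup G) : Set G)) * e =
        Nat.card (normalizer ((P : Subgroup G) : Set G)) := by
  set C := centralizer ((P : Subgroup G) : Set G) with hC
  set N := normalizer ((P : Subgroup G) : Set G) with hN
  have hdvd : p ∣ Nat.card G := hP ▸ card_subgroup_dvd_card _
  have hcyc : IsCyclic (P : Subgroup G) := isCyclic_of_prime_card hP
  refine ⟨C.relIndex N, ?_, ?_, ?_⟩
  · have h0 : C.relIndex N ≠ 0 := by
      intro h
      exact Subgroup.index_ne_zero_of_finite (H := C.subgroupOf N) h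
    have h1 : C.relIndex N ≠ 1 := fun h =>
      not_normalizer_le_centralizer hG hdvd P (relIndex_eq_one.mp h)
    omega
  · have key := card_dvd_of_injective _
      (QuotientGroup.kerLift_injective (P : Subgroup G).normalizerMonoidHom)
    rw [normalizerMonoidHom_ker, ← index, ← relIndex, hcyc.card_mulAut, hP,
      Nat.totient_prime Fact.out] at key
    exact key
  · have hle : C ≤ N := centralizer_le_normalizer _
    rw [← relIndex_bot_left C, relIndex_mul_relIndex _ _ _ bot_le hle, relIndex_bot_left]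

omit [Finite G] in
theorem dvd_card_centralizer {p : ℕ} [Fact p.Prime] (P : Sylow p G)
    (hP : Nat.card (P : Subgroup G) = p) :
    p ∣ Nat.card (centralizer ((P : Subgroup G) : Set G)) := by
  have hcyc : IsCyclic (P : Subgroup G) := isCyclic_of_prime_card hP
  have := hcyc.isMulCommutative
  conv_lhs => rw [← hP]
  exact card_dvd_of_le (le_centralizer (P : Subgroup G))

section perm

variable {α : Type*} [Fintype α] [DecidableEq α]

/-- Fixed points of an involution in an action of a simple group: `card α - fix` is divisible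
by `4`. -/
theorem involution_fixed_mod_four [IsSimpleGroup G] (hG : ¬ IsMulCommutative G)
    (f : G →* Equiv.Perm α) {x : G} (hx : x ^ 2 = 1) :
    4 ∣ (f x).support.card := by
  have hs := sign_eq_one hG f x
  have h2 : f x ^ 2 = 1 := by rw [← map_pow, hx, map_one]
  rw [Equiv.Perm.sign_of_pow_two_eq_one h2, Equiv.Perm.card_fixedPoints,
    Equiv.Perm.sum_cycleType, Nat.sub_sub_self (f x).support.card_le_univ] at hs
  obtain ⟨k, hk⟩ := Equiv.Perm.two_dvd_card_support h2
  rw [hk, Nat.mul_div_cancel_left k two_pos] at hs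
  rcases Nat.even_or_odd k with ⟨j, hj⟩ | hk'
  · exact ⟨j, by omega⟩
  · rw [hk'.neg_one_pow] at hs
    exact absurd hs (by decide)

omit [Finite G] in
theorem fixed_card_succ {p : ℕ} [hp : Fact p.Prime] {σ : Equiv.Perm α} (hσ : orderOf σ = p)
    (hα : Fintype.card α = p + 1) :
    σ.IsCycle ∧ σ.support.card = p := by
  have hp' : (orderOf σ).Prime := hσ.symm ▸ hp.out
  obtain ⟨n, hn⟩ := Equiv.Perm.cycleType_prime_order hp'
  have hsum := σ.sum_cycleType
  rw [hn, Multiset.sum_replicate, smul_eq_mul, hσ] at hsum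
  have hle := σ.support.card_le_univ
  rw [hα, ← hsum] at hle
  have : n = 0 := by
    by_contra h
    have h2 : 2 * p ≤ (n + 1) * p := Nat.mul_le_mul_right p (by omega)
    have := hp.out.two_le
    omega
  subst this
  refine ⟨Equiv.Perm.card_cycleType_eq_one.mp (by simp [hn]), by simpa using hsum.symm⟩

omit [Finite G] in
/-- In the symmetric group of degree `p + 1`, an element of order `p` generates its centralizer. -/
theorem mem_zpowers_of_commute {p : ℕ} [hp : Fact p.Prime] {σ c : Equiv.Perm α}
    (hσ : orderOf σ = p) (hα : Fintype.card α = p + 1) (hc : Commute c σ) :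
    c ∈ Subgroup.zpowers σ := by
  obtain ⟨hcyc, hcard⟩ := fixed_card_succ hσ hα
  obtain ⟨a, ha⟩ := Finset.card_pos.mp (by rw [hcard]; exact hp.out.pos : 0 < σ.support.card)
  have hinv : ∀ b, σ b = b ↔ σ (c b) = c b := by
    intro b
    have h : σ (c b) = c (σ b) := by
      rw [← Equiv.Perm.mul_apply, ← Equiv.Perm.mul_apply, hc.eq]
    rw [h, c.injective.eq_iff]
  have hca : c a ∈ σ.support := by
    rw [Equiv.Perm.mem_support] at ha ⊢
    exact fun h => ha ((hinv a).mpr h)
  obtain ⟨i, hi⟩ := hcyc.sameCycle (Equiv.Perm.mem_support.mp ha) (Equiv.Perm.mem_support.mp hca)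
  refine ⟨i, ?_⟩
  apply Equiv.ext
  intro b
  show (σ ^ i) b = c b
  by_cases hb : b ∈ σ.support
  · obtain ⟨j, rfl⟩ := hcyc.sameCycle (Equiv.Perm.mem_support.mp ha) (Equiv.Perm.mem_support.mp hb)
    rw [← Equiv.Perm.mul_apply c, (hc.zpow_right j).eq, Equiv.Perm.mul_apply, ← hi,
      ← Equiv.Perm.mul_apply, ← Equiv.Perm.mul_apply, ← zpow_add, ← zpow_add, add_comm]
  · have hb' : σ b = b := Equiv.Perm.notMem_support.mp hb
    have hcb : c b ∈ σ.supportᶜ := by
      rw [Finset.mem_compl, Equiv.Perm.notMem_support]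
      exact (hinv b).mp hb'
    have h1 : σ.supportᶜ.card = 1 := by rw [Finset.card_compl, hcard, hα]; omega
    rw [Equiv.Perm.zpow_apply_eq_self_of_apply_eq_self hb']
    exact (Finset.card_eq_one.mp h1).elim fun d hd => by
      rw [hd, Finset.mem_singleton] at hcb
      have : b ∈ σ.supportᶜ := Finset.mem_compl.mpr hb
      rw [hd, Finset.mem_singleton] at this
      rw [hcb, this]

omit [Finite G] in
/-- An involution inverting an element of order `p` in degree `p + 1` fixes exactly two points. -/
theorem support_card_of_inverting {p : ℕ} [hp : Fact p.Prime] (hodd : p ≠ 2) {σ t : Equiv.Perm α}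
    (hσ : orderOf σ = p) (hα : Fintype.card α = p + 1) (ht : t ^ 2 = 1)
    (hinv : t * σ * t⁻¹ = σ⁻¹) : t.support.card = p - 1 := by
  obtain ⟨hcyc, hcard⟩ := fixed_card_succ hσ hα
  have hinv' : ∀ b, t (σ b) = σ⁻¹ (t b) := by
    intro b
    rw [← Equiv.Perm.mul_apply, ← Equiv.Perm.mul_apply, ← hinv, inv_mul_cancel_right]
  have hpres : ∀ b, σ b = b → σ (t b) = t b := by
    intro b hb
    have h := hinv' b
    rw [hb] at h
    conv_lhs => rw [h]
    simp
  have hfixcard : σ.supportᶜ.card = 1 := by rw [Finset.card_compl, hcard, hα]; omega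
  obtain ⟨d, hd⟩ := Finset.card_eq_one.mp hfixcard
  have hdfix : σ d = d :=
    Equiv.Perm.notMem_support.mp (Finset.mem_compl.mp (hd ▸ Finset.mem_singleton_self d))
  have htd : t d = d := by
    have : t d ∈ σ.supportᶜ := Finset.mem_compl.mpr (Equiv.Perm.notMem_support.mpr (hpres d hdfix))
    rwa [hd, Finset.mem_singleton] at this
  -- at most one fixed point of `t` on the cycle
  have huniq : ∀ b c, b ∈ σ.support → c ∈ σ.support → t b = b → t c = c → b = c := by
    intro b c hb hc htb htc
    obtain ⟨i, hi⟩ := hcyc.sameCycle (Equiv.Perm.mem_support.mp hb) (Equiv.Perm.mem_support.mp hc)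
    have hconj : t * σ ^ i * t⁻¹ = (σ⁻¹) ^ i := by rw [← conj_zpow, hinv]
    have : t ((σ ^ i) b) = (σ⁻¹ ^ i) (t b) := by
      rw [← Equiv.Perm.mul_apply, ← Equiv.Perm.mul_apply, ← hconj, inv_mul_cancel_right]
    rw [hi, htc, htb, inv_zpow', ← hi] at this
    have h2 : (σ ^ (2 * i)) b = b := by
      rw [two_mul, zpow_add, Equiv.Perm.mul_apply, this, ← Equiv.Perm.mul_apply, ← zpow_add,
        add_neg_cancel, zpow_zero, Equiv.Perm.one_apply]
    have h3 : σ ^ (2 * i) = 1 := by
      by_contra hne
      have hsupp : b ∈ (σ ^ (2 * i)).support := by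
        apply Equiv.Perm.mem_support.mpr
        intro hb2
        apply hne
        apply Equiv.ext
        intro z
        by_cases hz : z ∈ σ.support
        · obtain ⟨j, rfl⟩ := hcyc.sameCycle (Equiv.Perm.mem_support.mp hb) (Equiv.Perm.mem_support.mp hz)
          rw [← Equiv.Perm.mul_apply, ← zpow_add, add_comm, zpow_add, Equiv.Perm.mul_apply, hb2]
          simp
        · exact Equiv.Perm.zpow_apply_eq_self_of_apply_eq_self (Equiv.Perm.notMem_support.mp hz) _
      exact Equiv.Perm.mem_support.mp hsupp h2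
    rw [← orderOf_dvd_iff_zpow_eq_one, hσ] at h3
    have hpi : (p : ℤ) ∣ i := by
      refine (IsCoprime.dvd_of_dvd_mul_left ?_ h3)
      rw [Int.isCoprime_iff_nat_coprime]
      exact (Nat.coprime_primes hp.out Nat.prime_two).mpr hodd
    have : σ ^ i = 1 := by rw [← orderOf_dvd_iff_zpow_eq_one, hσ]; exact hpi
    rw [← hi, this]; rfl
  -- parity
  obtain ⟨k, hk⟩ := Equiv.Perm.two_dvd_card_support ht
  have hsub : t.supportᶜ ⊆ {d} ∪ (t.supportᶜ ∩ σ.support) := by
    intro z hz
    by_cases hzs : z ∈ σ.support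
    · exact Finset.mem_union_right _ (Finset.mem_inter.mpr ⟨hz, hzs⟩)
    · exact Finset.mem_union_left _ (hd ▸ Finset.mem_compl.mpr hzs)
  have hle : (t.supportᶜ ∩ σ.support).card ≤ 1 := by
    rw [Finset.card_le_one]
    intro b hb c hc
    rw [Finset.mem_inter, Finset.mem_compl, Equiv.Perm.notMem_support] at hb hc
    exact huniq b c hb.2 hc.2 hb.1 hc.1
  have h1 := (Finset.card_le_card hsub).trans (Finset.card_union_le _ _)
  have h0 : 1 ≤ t.supportᶜ.card :=
    Finset.card_pos.mpr ⟨d, Finset.mem_compl.mpr (Equiv.Perm.notMem_support.mpr htd)⟩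
  rw [Finset.card_singleton, Finset.card_compl, hα] at *
  have hpodd := hp.out.eq_two_or_odd.resolve_left hodd
  have := t.support.card_le_univ
  omega

end perm

/-- The action on the Sylow subgroups. -/
theorem toPermHom_sylow_injective [IsSimpleGroup G] (hG : ¬ IsMulCommutative G) {p : ℕ}
    [Fact p.Prime] (hp : p ∣ Nat.card G) :
    Function.Injective (MulAction.toPermHom G (Sylow p G)) := by
  rw [← MonoidHom.ker_eq_bot_iff]
  rcases (inferInstance : (MulAction.toPermHom G (Sylow p G)).ker.Normal).eq_bot_or_eq_top with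
    h | h
  · exact h
  · obtain ⟨P⟩ := (inferInstance : Nonempty (Sylow p G))
    refine absurd (top_le_iff.mp fun g _ => ?_) (sylow_normalizer_ne_top hG hp P)
    have hg : g ∈ (MulAction.toPermHom G (Sylow p G)).ker := h ▸ mem_top g
    exact Sylow.smul_eq_iff_mem_normalizer.mp (DFunLike.congr_fun (MonoidHom.mem_ker.mp hg) P)

/-- If `n_p = p + 1` and `P` has order `p`, then `C(P) = P`; if moreover `p ≡ 3 (mod 4)` then
`N(P)` has odd order. -/
theorem sylow_succ [IsSimpleGroup G] (hG : ¬ IsMulCommutative G) {p : ℕ}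
    [hp : Fact p.Prime] (P : Sylow p G) (hP : Nat.card (P : Subgroup G) = p)
    (hn : Nat.card (Sylow p G) = p + 1) :
    centralizer ((P : Subgroup G) : Set G) = (P : Subgroup G) ∧
      (p % 4 = 3 → Odd (Nat.card (normalizer ((P : Subgroup G) : Set G)))) := by
  classical
  have : Fintype (Sylow p G) := Fintype.ofFinite _
  have hdvd : p ∣ Nat.card G := hP ▸ card_subgroup_dvd_card _
  set f := MulAction.toPermHom G (Sylow p G) with hf
  have hinj := toPermHom_sylow_injective hG hdvd
  have hα : Fintype.card (Sylow p G) = p + 1 := by rw [← Nat.card_eq_fintype_card, hn]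
  have hcyc : IsCyclic (P : Subgroup G) := isCyclic_of_prime_card hP
  obtain ⟨y, hy⟩ := hcyc.exists_generator
  have hyo : orderOf (y : G) = p := by
    rw [Subgroup.orderOf_coe, orderOf_eq_card_of_forall_mem_zpowers hy, hP]
  have hgen : (P : Subgroup G) = zpowers (y : G) := by
    refine le_antisymm (fun z hz => ?_) (zpowers_le.mpr y.2)
    obtain ⟨i, hi⟩ := hy ⟨z, hz⟩
    exact ⟨i, congrArg Subtype.val hi⟩
  have hσ : orderOf (f (y : G)) = p := by rw [orderOf_injective f hinj, hyo]
  have hcomm := le_centralizer (P : Subgroup G) (h := hcyc.isMulCommutative)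
  refine ⟨le_antisymm (fun c hc => ?_) hcomm, fun h3 => ?_⟩
  · have hcy : Commute c (y : G) := (mem_centralizer_iff.mp hc y y.2).symm
    obtain ⟨i, hi⟩ := mem_zpowers_of_commute hσ hα (hcy.map f)
    rw [hgen]
    exact ⟨i, hinj (by rw [map_zpow]; exact hi)⟩
  · by_contra hev
    rw [Nat.not_odd_iff_even] at hev
    set N := normalizer ((P : Subgroup G) : Set G) with hN
    obtain ⟨t, ht⟩ := exists_prime_orderOf_dvd_card' (G := N) 2 (even_iff_two_dvd.mp hev)
    have ht2 : ((t : G)) ^ 2 = 1 := by
      rw [← SubmonoidClass.coe_pow, ← ht, pow_orderOf_eq_one, OneMemClass.coe_one]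
    have hty : (t : G) * y * (t : G)⁻¹ ∈ (P : Subgroup G) := (t.2 (y : G)).mp y.2
    replace hty := hgen.le hty
    obtain ⟨i, hi⟩ := hty
    change (y : G) ^ i = (t : G) * y * (t : G)⁻¹ at hi
    have hii : (y : G) ^ (i * i - 1) = 1 := by
      have h' : (t : G) * (y : G) ^ i * (t : G)⁻¹ = (y : G) := by
        rw [hi]
        have : (t : G)⁻¹ = t := by rw [inv_eq_iff_mul_eq_one, ← sq, ht2]
        rw [this]
        have htt : (t : G) * t = 1 := by rw [← sq, ht2]
        have hc : ∀ z : G, (t : G) * ((t : G) * z) = z := fun z => by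
          rw [← mul_assoc, htt, one_mul]
        simp [mul_assoc, htt, hc]
      rw [← conj_zpow, ← hi, ← zpow_mul] at h'
      rw [zpow_sub, zpow_one, h', mul_inv_cancel]
    rw [← orderOf_dvd_iff_zpow_eq_one, hyo, show i * i - 1 = (i - 1) * (i + 1) by ring] at hii
    have hinv : (t : G) * y * (t : G)⁻¹ = (y : G)⁻¹ := by
      rcases (Nat.prime_iff_prime_int.mp hp.out).dvd_or_dvd hii with h | h
      · exfalso
        have h1 : (y : G) ^ i = y := by
          have : (y : G) ^ (i - 1) = 1 := by rwa [← orderOf_dvd_iff_zpow_eq_one, hyo]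
          rwa [zpow_sub, zpow_one, mul_inv_eq_one] at this
        have hcom : (t : G) ∈ centralizer ((P : Subgroup G) : Set G) := by
          rw [hgen, mem_centralizer_iff]
          rintro z ⟨j, rfl⟩
          have : Commute (t : G) (y : G) := mul_inv_eq_iff_eq_mul.mp (hi.symm.trans h1)
          exact (this.zpow_right j).eq.symm
        have hct : (t : G) ∈ (P : Subgroup G) := by
          obtain ⟨k, hk⟩ := mem_zpowers_of_commute hσ hα
            ((Commute.symm (mem_centralizer_iff.mp hcom y y.2)).map f)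
          rw [hgen]
          exact ⟨k, hinj (by rw [map_zpow]; exact hk)⟩
        have := Subgroup.orderOf_dvd_natCard (P : Subgroup G) hct
        rw [hP, Subgroup.orderOf_coe, ht, Nat.prime_dvd_prime_iff_eq Nat.prime_two hp.out] at this
        omega
      · have : (y : G) ^ (i + 1) = 1 := by rwa [← orderOf_dvd_iff_zpow_eq_one, hyo]
        rw [← hi]
        rw [zpow_add, zpow_one] at this
        exact eq_inv_of_mul_eq_one_left this
    have hsupp := support_card_of_inverting (by omega) hσ hα
      (show f (t : G) ^ 2 = 1 by rw [← map_pow, ht2, map_one])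
      (by rw [← map_inv, ← map_mul, ← map_mul, hinv, map_inv])
    have h4 := involution_fixed_mod_four hG f ht2
    omega

theorem exists_subgroup_of_inter [IsSimpleGroup G] (hG : ¬ IsMulCommutative G) {p : ℕ}
    [hp : Fact p.Prime] {a m : ℕ} (ha : 2 ≤ a) (h : Nat.card G = p ^ a * m) (hm : ¬ p ∣ m)
    (hn : Nat.card (Sylow p G) % p ^ 2 ≠ 1) :
    ∃ H : Subgroup G, H ≠ ⊤ ∧ ∃ d : ℕ, 1 < d ∧ d % p = 1 ∧ H.index * d ∣ m := by
  obtain ⟨P⟩ := (inferInstance : Nonempty (Sylow p G))
  have hne : ¬ Nat.card (Sylow p G) ≡ 1 [MOD p ^ 2] := by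
    intro hc
    apply hn
    rw [hc, Nat.mod_eq_of_lt (Nat.one_lt_pow two_ne_zero hp.out.one_lt)]
  obtain ⟨R, hPR, hidx⟩ := exists_inter_index_le hne P
  set D := (P : Subgroup G) ⊓ (R : Subgroup G) with hD
  have hPc := card_sylow_eq a m h hm P
  have hidx' : ((R : Subgroup G).subgroupOf (P : Subgroup G)).index = p := by
    obtain ⟨j, hj⟩ := P.2.index ((R : Subgroup G).subgroupOf (P : Subgroup G))
    rw [hj] at hidx ⊢
    have hj0 : j ≠ 0 := by
      rintro rfl
      rw [pow_zero, index_eq_one, subgroupOf_eq_top] at hj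
      exact hPR (sylow_eq_of_le hj)
    have := (Nat.pow_le_pow_iff_right hp.out.one_lt).mp hidx
    rw [show j = 1 by omega, pow_one]
  have hDp : Nat.card D * p = p ^ a := by
    have := card_mul_index ((R : Subgroup G).subgroupOf (P : Subgroup G))
    rwa [hidx', ← inf_subgroupOf_left,
      Nat.card_congr (subgroupOfEquivOfLe inf_le_left).toEquiv, hPc] at this
  have hDne : D ≠ ⊥ := by
    intro h'
    rw [h', card_bot, one_mul] at hDp
    have : a = 1 := Nat.pow_right_injective hp.out.two_le (show p ^ a = p ^ 1 by rw [← hDp, pow_one])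
    omega
  have hDtop : D ≠ ⊤ := fun h' =>
    sylow_ne_top hG P (top_le_iff.mp (h' ▸ inf_le_left))
  -- `D` is maximal in both, hence normal in both
  have hnorm : ∀ S : Sylow p G, D ≤ (S : Subgroup G) →
      (S : Subgroup G) ≤ normalizer (D : Set G) := by
    intro S hDS
    have hScard := card_sylow_eq a m h hm S
    have hi : (D.subgroupOf (S : Subgroup G)).index = p := by
      have := card_mul_index (D.subgroupOf (S : Subgroup G))
      rw [Nat.card_congr (subgroupOfEquivOfLe hDS).toEquiv, hScard, ← hDp] at this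
      exact Nat.eq_of_mul_eq_mul_left Nat.card_pos this
    have hnorm' : (D.subgroupOf (S : Subgroup G)).Normal := by
      apply Subgroup.normal_of_index_eq_minFac_card
      rw [hi, hScard, Nat.pow_minFac (by omega), hp.out.minFac_eq]
    exact (normal_subgroupOf_iff_le_normalizer hDS).mp hnorm'
  set N := normalizer (D : Set G) with hN
  have hP := hnorm P inf_le_left
  have hR := hnorm R inf_le_right
  refine ⟨N, normalizer_ne_top hDne hDtop, Nat.card (Sylow p N), ?_, Eq.trans (card_sylow_modEq_one p N)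
    (Nat.mod_eq_of_lt hp.out.one_lt), ?_⟩
  · rw [Finite.one_lt_card_iff_nontrivial]
    exact ⟨P.subtype hP, R.subtype hR, fun hc => hPR (Sylow.subtype_injective hc)⟩
  · obtain ⟨r, hr⟩ : p ^ a ∣ Nat.card N := hPc ▸ card_dvd_of_le hP
    have hmul := card_mul_index N
    rw [hr, h, mul_assoc] at hmul
    have hm' : m = r * N.index := (Nat.eq_of_mul_eq_mul_left (pow_pos hp.out.pos a) hmul).symm
    have hrp : ¬ p ∣ r := fun hd => hm (hm' ▸ dvd_mul_of_dvd_left hd _)
    rw [hm', mul_comm r]
    exact Nat.mul_dvd_mul_left _ (card_sylow_dvd a r hr hrp)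

end CfsgLib.Small
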