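import Cfsg.Agent.Lib.Blocks.DefectOneCount
import Cfsg.Agent.Lib.Blocks.ThirdMain
import Cfsg.Agent.Lib.Blocks.PrincipalBlock
import Cfsg.Agent.Lib.BlockOrth.NormalCentralizer
import Cfsg.Agent.Lib.CharApps.InertialThreeInvolution
import Cfsg.Agent.Lib.Small.Count
import Cfsg.Agent.Lib.Blocks.ThreePrimeSimple
import Cfsg.Agent.Lib.Chars.DefectZero

/-!
# Self-centralizing Sylow subgroups of prime order

The degrees in the principal block, and the involution identity when the normalizer is dihedral.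
-/

set_option autoImplicit false
set_option linter.unusedSectionVars false
set_option linter.style.haveILetI false

namespace CfsgLib.Small

open Cfsg CfsgLib.Chars CfsgLib.Blocks CfsgLib.CharApps
open scoped ComplexConjugate

universe u

variable {G : Type u} [Group G] [Fintype G] {p : ℕ} [hp : Fact p.Prime]

/-- The principal block of a group with a self-centralizing Sylow subgroup of prime order. -/
theorem selfCentral_data (u : G) (hu : orderOf u = p) (hsq : ¬ p ^ 2 ∣ Nat.card G)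
    (hC : Subgroup.centralizer ((Subgroup.zpowers u : Subgroup G) : Set G) = Subgroup.zpowers u)
    {e : ℕ} (hN : Nat.card (Subgroup.normalizer ((Subgroup.zpowers u : Subgroup G) : Set G)) = p * e)
    (he2 : 2 ≤ e) (hep : e + 2 ≤ p) :
    ∃ (B Y : Finset (IrrCharacter G)) (ε : ℤ) (a : IrrCharacter G → ℤ),
      (ε = 1 ∨ ε = -1) ∧ Disjoint B Y ∧ B.card = e ∧ Y.Nonempty ∧ principal G ∈ B ∧
      a (principal G) = 1 ∧
      (∀ χ ∈ B, (a χ = 1 ∨ a χ = -1) ∧ (χ : G → ℂ) u = (a χ : ℂ) ∧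
        (charDegree (χ : G → ℂ) : ℤ) ≡ a χ [ZMOD p]) ∧
      (∀ χ ∈ B ∪ Y, ¬ p ∣ charDegree (χ : G → ℂ)) ∧
      (∀ χ : IrrCharacter G, χ ∉ B ∪ Y → (χ : G → ℂ) u = 0) ∧
      (∀ θ ∈ Y, principal G ≠ θ ∧ ∀ g : G, ¬ p ∣ orderOf g →
        (ε : ℂ) * (θ : G → ℂ) g = ∑ χ ∈ B, (a χ : ℂ) * (χ : G → ℂ) g) := by
  classical
  set P := Subgroup.zpowers u with hP
  have hcard : Nat.card P = p := by rw [hP, Nat.card_zpowers, hu]
  obtain ⟨M, hMax, hpM⟩ := BlockOrth.exists_maximal_above p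
  have hM : IsPModular p M := ⟨hp.out, hMax, hpM⟩
  haveI : M.IsPrime := hMax.isPrime
  haveI := irrFintype G
  set C := Subgroup.centralizer (P : Set G) with hCdef
  haveI : Fintype C := Fintype.ofFinite _
  haveI := irrFintype C
  have hPp : IsPGroup p P := IsPGroup.of_card (n := 1) (by rw [pow_one]; exact hcard)
  have hCp : IsPGroup p C := by rw [hC]; exact hPp
  set b := principalBlock M C with hb
  set B₀ := principalBlock M G with hB₀
  have hpair : IsBrauerPairOf p M B₀ P b := isBrauerPairOf_principalPair hpM hPp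
  have hstab : stabPair (⟨P, b⟩ : BrauerPairIdx G) = Subgroup.normalizer (P : Set G) := by
    refine le_antisymm (fun x hx => ?_) fun x hx => ?_
    · have h1 : P.map (MulAut.conj x).toMonoidHom = P := congrArg Sigma.fst hx
      rw [Subgroup.mem_normalizer_iff]
      intro g
      constructor
      · intro hg; rw [← h1]; exact ⟨g, hg, rfl⟩
      · intro hg
        rw [← h1] at hg
        obtain ⟨g', hg', hgg⟩ := hg
        rwa [← (MulAut.conj x).injective hgg]
    · show conjPair x (principalPair M P) = principalPair M P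
      rw [conjPair_principalPair]
      congr 1
      refine Subgroup.eq_of_le_of_card_ge ?_ ?_
      · rintro _ ⟨g, hg, rfl⟩
        exact (Subgroup.mem_normalizer_iff.1 hx g).1 hg
      · rw [Subgroup.card_map_of_injective (MulAut.conj x).injective]
  have hrel : C.relIndex (Subgroup.normalizer (P : Set G)) = e := by
    have h : C.relIndex (Subgroup.normalizer (P : Set G)) * Nat.card C =
        Nat.card (Subgroup.normalizer (P : Set G)) := by
      rw [Subgroup.relIndex, ← Nat.card_congr (Subgroup.subgroupOfEquivOfLe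
        (Subgroup.centralizer_le_normalizer (P : Set G) : C ≤ _)).toEquiv]
      exact Subgroup.index_mul_card _
    rw [show Nat.card C = p by rw [hC]; exact hcard, hN, mul_comm p e] at h
    exact Nat.eq_of_mul_eq_mul_right hp.out.pos h
  obtain ⟨Y, ε, a, hε, hYB, hte, hX, -, -, ha, hY, -, hsum, -, -, -⟩ :=
    defect_one_structure hM hcard hsq hpair
  rw [hstab, hrel] at hte hX hY
  -- the canonical character
  have hθ : ∀ x : C, (x : G) ∈ P →
      ((principal C : IrrCharacter C) : C → ℂ) x = ((principal C : IrrCharacter C) : C → ℂ) 1 :=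
    fun x _ => rfl
  have hθb : principal C ∈ b := principal_mem_principalBlock M
  have hdθ : charDegree ((principal C : IrrCharacter C) : C → ℂ) = 1 := by
    simp [charDegree, principal_apply]
  have hu1 : (⟨u, Subgroup.mem_zpowers u⟩ : P) ≠ 1 := fun h => by
    have h' : u = 1 := congrArg Subtype.val h
    rw [h', orderOf_one] at hu
    exact hp.out.one_lt.ne hu
  have hval : ∀ χ : IrrCharacter G, χ ∈ B₀ → χ ∉ Y → (χ : G → ℂ) u = (a χ : ℂ) := by
    intro χ hχ hχY
    obtain ⟨S, v, hS, hv, hχu⟩ := char_apply_eq_sum hM hcard hsq hpair hθb hθ hχ hu1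
    rw [hstab, hrel] at hS
    have hS1 : S.card = 1 := by nlinarith
    obtain ⟨s, rfl⟩ := Finset.card_eq_one.1 hS1
    rw [hχu, Finset.sum_singleton, (ha χ ⟨hχ, hχY⟩).2 _ (hv s), principal_apply, one_mul]
  have hmod : ∀ χ : IrrCharacter G, χ ∈ B₀ → ∀ c : ℤ,
      (∀ v : P, v ≠ 1 → MemLocalIdeal M (xiFun b (χ : G → ℂ) v - (c : ℂ))) →
      (charDegree (χ : G → ℂ) : ℤ) ≡ c [ZMOD p] := by
    intro χ hχ c hc
    have h := degree_modEq hM hcard hsq hpair hθb hθ hχ hc
    rw [hstab, hrel, Nat.div_self (by omega), hdθ] at h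
    simpa using h
  -- the principal character is not exceptional
  have hone : principal G ∉ Y := by
    intro hmem
    have h := hmod _ (hYB hmem) (ε * e) (fun v hv => by exact_mod_cast hY _ hmem v hv)
    rw [show charDegree ((principal G : IrrCharacter G) : G → ℂ) = 1 by
      simp [charDegree, principal_apply]] at h
    have h1 := Int.ModEq.dvd h
    rcases hε with rfl | rfl
    · have := Int.le_of_dvd (by omega) h1
      push_cast at this; omega
    · have := Int.le_of_dvd (by omega) (dvd_neg.2 h1)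
      push_cast at this; omega
  set Bf := Finset.univ.filter (fun χ : IrrCharacter G => χ ∈ B₀ \ Y) with hBf
  set Yf := Finset.univ.filter (fun χ : IrrCharacter G => χ ∈ Y) with hYf
  have hprin : principal G ∈ Bf := Finset.mem_filter.2
    ⟨Finset.mem_univ _, principal_mem_principalBlock M, hone⟩
  have haprin : a (principal G) = 1 := by
    have := hval _ (principal_mem_principalBlock M) hone
    rw [principal_apply] at this
    exact_mod_cast this.symm
  refine ⟨Bf, Yf, ε, a, hε, ?_, ?_, ?_, hprin, haprin, fun χ hχ => ?_, fun χ hχ => ?_,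
    fun χ hχ => ?_, fun θ hθY => ?_⟩
  · rw [Finset.disjoint_left]
    exact fun χ h1 h2 => (Finset.mem_filter.1 h1).2.2 (Finset.mem_filter.1 h2).2
  · rw [← hX, Nat.card_eq_fintype_card, Fintype.card_of_subtype Bf fun χ => by simp [hBf]]
  · rw [← Finset.card_pos]
    have : Nat.card Y = Yf.card := by
      rw [Nat.card_eq_fintype_card, Fintype.card_of_subtype Yf fun χ => by simp [hYf]]
    rw [this] at hte
    rcases Nat.eq_zero_or_pos Yf.card with h | h
    · rw [h, zero_mul, zero_add] at hte; exact absurd hte.symm hp.out.ne_one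
    · exact h
  · obtain ⟨hχB, hχY⟩ := (Finset.mem_filter.1 hχ).2
    refine ⟨(ha χ ⟨hχB, hχY⟩).1, hval χ hχB hχY, hmod χ hχB _ fun v hv => ?_⟩
    rw [(ha χ ⟨hχB, hχY⟩).2 v hv, sub_self]
    exact MemLocalIdeal.zero'
  · refine not_dvd_degree_of_pair hM hcard hsq hpair ?_
    rcases Finset.mem_union.1 hχ with h | h
    · exact (Finset.mem_filter.1 h).2.1
    · exact hYB (Finset.mem_filter.1 h).2
  · have hχB : χ ∉ B₀ := fun h => hχ (by
      by_cases hy : χ ∈ Y
      · exact Finset.mem_union_right _ (Finset.mem_filter.2 ⟨Finset.mem_univ _, hy⟩)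
      · exact Finset.mem_union_left _ (Finset.mem_filter.2 ⟨Finset.mem_univ _, h, hy⟩))
    by_cases hd : p ∣ charDegree (χ : G → ℂ)
    · refine CfsgLib.Chars.eq_zero_of_dvd_orderOf χ.2 hp.out (deg_eq χ) (n := 1) hsq (by rwa [pow_one])
        (by rw [hu])
    · exfalso
      apply hχB
      obtain ⟨S, hS⟩ := hPp.exists_le_sylow
      have hSP : (S : Subgroup G) = P := by
        refine (Subgroup.eq_of_le_of_card_ge hS ?_).symm
        rw [hcard, S.card_eq_multiplicity]
        have : (Nat.card G).factorization p ≤ 1 := by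
          by_contra hcon
          exact hsq ((pow_dvd_pow p (by omega : 2 ≤ (Nat.card G).factorization p)).trans
            (Nat.ordProj_dvd _ _))
        exact (Nat.pow_le_pow_right hp.out.pos this).trans (by rw [pow_one])
      obtain ⟨b', hb'⟩ := exists_pair_of_not_dvd hM S hSP hcard hsq hd
      have hbb : b' = b := by
        obtain ⟨η, hη⟩ := IsPBlock.nonempty hb'.1.2
        refine IsPBlock.eq_of_mem hb'.1.2 (isPBlock_principalBlock M) hη ?_
        rw [hb, principalBlock_eq]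
        exact mem_blockOf.2 (BlockOrth.sameBlock_of_isPGroup hpM hCp _ _)
      subst hbb
      have h := (existsUnique_block_of_pair hpM hpair.1).unique hb' hpair
      exact h ▸ mem_blockOf_self χ
  · have hθY' : θ ∈ Y := (Finset.mem_filter.1 hθY).2
    refine ⟨fun h => hone (h ▸ hθY'), fun g hg => ?_⟩
    rw [hsum θ hθY' g hg, finsum_mem_eq_sum_of_inter_support_eq (t := Bf) _ (by ext; simp [hBf])]

/-- Degrees are at least two, away from the principal character, in a simple group. -/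
theorem one_lt_charDegree [IsSimpleGroup G] (hG : ¬ IsMulCommutative G) {χ : IrrCharacter G}
    (hne : χ ≠ principal G) : 1 < charDegree (χ : G → ℂ) := by
  rcases Nat.lt_or_ge 1 (charDegree (χ : G → ℂ)) with h | h
  · exact h
  exfalso
  have h1 : charDegree (χ : G → ℂ) = 1 := le_antisymm h (deg_pos χ)
  obtain ⟨lam, hlam⟩ := exists_hom_of_degree_one (isCharacter_of_irr χ.2)
    (by rw [deg_eq χ, h1, Nat.cast_one])
  rcases (inferInstance : lam.ker.Normal).eq_bot_or_eq_top with hk | hk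
  · exact hG ⟨⟨fun x y => lam.ker_eq_bot_iff.1 hk (by rw [map_mul, map_mul, mul_comm])⟩⟩
  · refine hne (Subtype.ext (funext fun g => ?_))
    rw [hlam, principal_apply]
    simp [show lam g = 1 from (hk ▸ Subgroup.mem_top g : g ∈ lam.ker)]

/-- The arithmetic of a dihedral normalizer. -/
theorem dihedral_data [IsSimpleGroup G] (hG : ¬ IsMulCommutative G) (u : G) (hu : orderOf u = p)
    (hsq : ¬ p ^ 2 ∣ Nat.card G)
    (hC : Subgroup.centralizer ((Subgroup.zpowers u : Subgroup G) : Set G) = Subgroup.zpowers u)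
    (hN : Nat.card (Subgroup.normalizer ((Subgroup.zpowers u : Subgroup G) : Set G)) = p * 2)
    (hp5 : 5 ≤ p) :
    ∃ (d f : ℕ) (a ε : ℤ), (a = 1 ∨ a = -1) ∧ (ε = 1 ∨ ε = -1) ∧ (d : ℤ) ≡ a [ZMOD p] ∧
      ε * f = 1 + a * d ∧ 1 < d ∧ 1 < f ∧ d ∣ Nat.card G ∧ f ∣ Nat.card G ∧ ¬ p ∣ d ∧ ¬ p ∣ f ∧
      ∀ t : G, orderOf t = 2 → ∃ z : ℕ, 0 < z ∧ z ≤ 2 * d ∧
        Nat.card (Subgroup.centralizer ({t} : Set G)) ^ 2 * p * d * f = Nat.card G * z ^ 2 := by
  classical
  haveI := irrFintype G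
  obtain ⟨B, Y, ε, a, hε, hdis, hB2, ⟨θ₀, hθ₀⟩, hprin, ha1, hBp, hdeg, hzero, hYv⟩ :=
    selfCentral_data u hu hsq hC hN le_rfl (by omega)
  obtain ⟨χ, hχ⟩ : ∃ χ, B.erase (principal G) = {χ} := Finset.card_eq_one.1
    (by rw [Finset.card_erase_of_mem hprin, hB2])
  have hχB : χ ∈ B := Finset.mem_of_mem_erase (hχ ▸ Finset.mem_singleton_self χ)
  have hχne : χ ≠ principal G := Finset.ne_of_mem_erase (hχ ▸ Finset.mem_singleton_self χ)
  have hBsum : ∀ F : IrrCharacter G → ℂ, ∑ ψ ∈ B, F ψ = F (principal G) + F χ := fun F => by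
    rw [← Finset.add_sum_erase _ _ hprin, hχ, Finset.sum_singleton]
  obtain ⟨haχ, hχu, hχmod⟩ := hBp χ hχB
  set d := charDegree (χ : G → ℂ) with hd
  set f := charDegree (θ₀ : G → ℂ) with hf
  have hYg : ∀ θ ∈ Y, ∀ g : G, ¬ p ∣ orderOf g →
      (ε : ℂ) * (θ : G → ℂ) g = 1 + (a χ : ℂ) * (χ : G → ℂ) g := fun θ hθ g hg => by
    rw [(hYv θ hθ).2 g hg, hBsum, ha1, principal_apply, Int.cast_one, one_mul]
  have h1reg : ¬ p ∣ orderOf (1 : G) := by rw [orderOf_one]; exact hp.out.not_dvd_one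
  have hεC : (ε : ℂ) * (ε : ℂ) = 1 := by rcases hε with rfl | rfl <;> simp
  have hYsame : ∀ θ ∈ Y, ∀ g : G, ¬ p ∣ orderOf g →
      (θ : G → ℂ) g = (θ₀ : G → ℂ) g := fun θ hθ g hg => by
    have h := (hYg θ hθ g hg).trans (hYg θ₀ hθ₀ g hg).symm
    have := congrArg ((ε : ℂ) * ·) h
    simp only [← mul_assoc, hεC, one_mul] at this
    exact this
  have heq : ε * (f : ℤ) = 1 + a χ * (d : ℤ) := by
    have h := hYg θ₀ hθ₀ 1 h1reg
    rw [deg_eq θ₀, deg_eq χ, ← hf, ← hd] at h
    exact_mod_cast h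
  have hθne : θ₀ ≠ principal G := fun h => (hYv θ₀ hθ₀).1 h.symm
  have hdd : ∀ ψ : IrrCharacter G, charDegree (ψ : G → ℂ) ∣ Nat.card G := fun ψ => by
    obtain ⟨n, -, hn, hdvd⟩ := irr_degree_dvd_card ψ.2
    rw [deg_eq ψ, Nat.cast_inj] at hn
    exact hn ▸ hdvd
  refine ⟨d, f, a χ, ε, haχ, hε, hχmod, heq, one_lt_charDegree hG hχne,
    one_lt_charDegree hG hθne, hdd χ, hdd θ₀,
    hdeg χ (Finset.mem_union_left _ hχB), hdeg θ₀ (Finset.mem_union_right _ hθ₀), ?_⟩
  intro t ht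
  have ht2 : t * t = 1 := by rw [← pow_two, ← ht]; exact pow_orderOf_eq_one t
  have htreg : ¬ p ∣ orderOf t := by
    rw [ht]; exact fun h => absurd (Nat.le_of_dvd two_pos h) (by omega)
  have hd0 : (d : ℂ) ≠ 0 := Nat.cast_ne_zero.2 (deg_pos χ).ne'
  have hf0 : (f : ℂ) ≠ 0 := Nat.cast_ne_zero.2 (deg_pos θ₀).ne'
  obtain ⟨x, hx⟩ := exists_int_apply_involution ht2 χ
  -- the column of `u` against the degrees
  have hSY : ∑ θ ∈ Y, conj ((θ : G → ℂ) u) = -(ε : ℂ) := by
    have h := sum_degree_mul (G := G) u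
    have hu1 : u ≠ 1 := fun h => by
      rw [h, orderOf_one] at hu; exact hp.out.one_lt.ne hu
    rw [if_neg hu1, ← Finset.sum_subset (Finset.subset_univ (B ∪ Y)) (fun ψ _ hψ => by
      rw [hzero ψ hψ, mul_zero]), Finset.sum_union hdis, hBsum, principal_apply, principal_apply,
      one_mul, hχu, deg_eq χ, ← hd, Finset.sum_congr rfl (fun θ hθ => by
        rw [hYsame θ hθ 1 h1reg, deg_eq θ₀, ← hf]), ← Finset.mul_sum] at h
    have heq' : (ε : ℂ) * f = 1 + (a χ : ℂ) * d := by exact_mod_cast heq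
    have h2 : (f : ℂ) * ∑ θ ∈ Y, (θ : G → ℂ) u = (f : ℂ) * (-(ε : ℂ)) := by
      linear_combination h + heq'
    rw [← map_sum, mul_left_cancel₀ hf0 h2, map_neg, map_intCast]
  -- the class algebra
  set K := Nat.card {g : G // IsConj t g} with hK
  set cnt := (Finset.univ.filter fun y : G => IsConj t y ∧ IsConj t (y⁻¹ * u)).card with hcnt
  have hconv : conv (classInd t) (classInd t) u = (cnt : ℂ) := by
    rw [hcnt, conv, Finset.card_filter, Nat.cast_sum]
    refine Finset.sum_congr rfl fun y _ => ?_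
    rw [classInd_apply, classInd_apply]
    by_cases h1 : IsConj t y <;> by_cases h2 : IsConj t (y⁻¹ * u) <;>
      simp only [h1, h2, if_true, if_false, and_true, and_false, mul_one, mul_zero, zero_mul,
        Nat.cast_one, Nat.cast_zero]
  have hω : ∀ ψ : IrrCharacter G, omega (ψ : G → ℂ) (classInd t) =
      (K : ℂ) * (ψ : G → ℂ) t / (ψ : G → ℂ) 1 := fun ψ => by
    rw [omega_classInd, centralChar, index_centralizer_eq]
  have hformula : (cnt : ℂ) * Nat.card G = (K : ℂ) ^ 2 * ∑ ψ : IrrCharacter G,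
      (ψ : G → ℂ) t ^ 2 / (ψ : G → ℂ) 1 * conj ((ψ : G → ℂ) u) := by
    rw [← hconv, classFun_eq_sum_omega (isClassFunction_conv (isClassFunction_classInd t)
      (isClassFunction_classInd t)), Finset.sum_mul, Finset.mul_sum]
    refine Finset.sum_congr rfl fun ψ _ => ?_
    rw [omega_conv ψ (isClassFunction_classInd t), hω, idemCoeff]
    have := irr_degree_ne_zero ψ.2
    have := card_ne_zero G
    field_simp
  have heqC : (ε : ℂ) * f = 1 + (a χ : ℂ) * d := by exact_mod_cast heq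
  have hyt := hYg θ₀ hθ₀ t htreg
  rw [← hx] at hyt
  have hkey : (cnt : ℂ) * Nat.card G * (d * f) =
      (K : ℂ) ^ 2 * ((ε : ℂ) * (a χ : ℂ) * ((d : ℂ) - x) ^ 2) := by
    rw [hformula, ← Finset.sum_subset (Finset.subset_univ (B ∪ Y)) (fun ψ _ hψ => by
      rw [hzero ψ hψ, map_zero, mul_zero]), Finset.sum_union hdis, hBsum, principal_apply,
      principal_apply, principal_apply, map_one, hχu, ← hx, deg_eq χ, ← hd, map_intCast,
      Finset.sum_congr rfl (fun θ hθ => by
        rw [hYsame θ hθ 1 h1reg, hYsame θ hθ t htreg, deg_eq θ₀, ← hf]),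
      ← Finset.mul_sum, hSY]
    have haC : (a χ : ℂ) * (a χ : ℂ) = 1 := by rcases haχ with h | h <;> simp [h]
    set y := (θ₀ : G → ℂ) t with hy
    set A := (a χ : ℂ) with hA
    set E := (ε : ℂ) with hE
    have hf' : (f : ℂ) = E * (1 + A * d) := by linear_combination E * heqC - (f : ℂ) * hεC
    have hy' : y = E * (1 + A * x) := by linear_combination E * hyt - y * hεC
    field_simp
    rw [hf', hy']
    linear_combination (-((K : ℂ) ^ 2) * E * d * (1 + A * (x : ℂ)) ^ 2) * hεC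
  have hxd : (x : ℤ) ≠ d := fun h => by
    refine apply_ne_degree (t := t) (fun L hL htL => ?_) χ hχne ?_
    · rcases hL.eq_bot_or_eq_top with h' | h'
      · exfalso
        rw [h', Subgroup.mem_bot] at htL
        rw [htL, orderOf_one] at ht
        exact absurd ht (by norm_num)
      · exact h'
    · rw [← hx, deg_eq χ, ← hd, h, Int.cast_natCast]
  have hcnt0 : cnt ≠ 0 := by
    intro h0
    rw [h0, Nat.cast_zero, zero_mul, zero_mul] at hkey
    have hK0 : (K : ℂ) ≠ 0 := by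
      haveI : Nonempty {g : G // IsConj t g} := ⟨⟨t, IsConj.refl t⟩⟩
      exact Nat.cast_ne_zero.2 Nat.card_pos.ne'
    rcases mul_eq_zero.1 hkey.symm with h | h
    · exact pow_ne_zero 2 hK0 h
    · have hA0 : (ε : ℂ) * (a χ : ℂ) ≠ 0 := by
        rcases haχ with h' | h' <;> rcases hε with h'' | h'' <;> simp [h', h'']
      have := pow_eq_zero_iff two_ne_zero |>.1 ((mul_eq_zero.1 h).resolve_left hA0)
      rw [sub_eq_zero] at this
      exact hxd (by exact_mod_cast this.symm)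
  have hcntp : cnt = p := by
    set N := Subgroup.normalizer ((Subgroup.zpowers u : Subgroup G) : Set G) with hNdef
    have hinvol : ∀ y : G, IsConj t y → y * y = 1 := fun y hy => by
      obtain ⟨c, rfl⟩ := isConj_iff.1 hy
      rw [show c * t * c⁻¹ * (c * t * c⁻¹) = c * (t * t) * c⁻¹ by group, ht2, mul_one,
        mul_inv_cancel]
    have hinv : ∀ y : G, IsConj t y → IsConj t (y⁻¹ * u) → y * u * y⁻¹ = u⁻¹ := by
      intro y h1 h2
      have e1 := hinvol y h1
      have e2 := hinvol _ h2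
      rw [inv_eq_of_mul_eq_one_right e1] at e2 ⊢
      exact eq_inv_of_mul_eq_one_left (by simpa [mul_assoc] using e2)
    obtain ⟨y₀, hy₀⟩ := Finset.card_ne_zero.1 hcnt0
    obtain ⟨hy₀t, hy₀u⟩ := (Finset.mem_filter.1 hy₀).2
    have hy₀i := hinv y₀ hy₀t hy₀u
    have hy₀2 := hinvol y₀ hy₀t
    have hpow : ∀ i : ℕ, y₀ * u ^ i * y₀⁻¹ = (u ^ i)⁻¹ := fun i => by
      rw [← conj_pow, hy₀i, inv_pow]
    have hconj : ∀ i : ℕ, IsConj t (y₀ * u ^ i) := by
      intro i
      obtain ⟨j, hj⟩ : ∃ j : ℕ, (u ^ j) ^ 2 = u ^ i := by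
        refine ⟨i * ((p + 1) / 2), ?_⟩
        rw [← pow_mul, mul_assoc]
        have hodd : p % 2 = 1 := hp.out.eq_two_or_odd.resolve_left (by omega)
        rw [show (p + 1) / 2 * 2 = p + 1 by omega, mul_add, mul_one, pow_add, mul_comm,
          pow_mul, ← hu, pow_orderOf_eq_one, one_pow, one_mul]
      refine hy₀t.trans (isConj_iff.2 ⟨(u ^ j)⁻¹, ?_⟩)
      rw [inv_inv, ← hj, pow_two]
      have := hpow j
      rw [mul_inv_eq_iff_eq_mul] at this
      calc (u ^ j)⁻¹ * y₀ * u ^ j = y₀ * u ^ j * u ^ j := by rw [← this]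
        _ = y₀ * (u ^ j * u ^ j) := mul_assoc _ _ _
    rw [hcnt]
    refine (Finset.card_eq_of_bijective (fun i _ => y₀ * u ^ i) ?_ ?_ ?_)
    · intro y hy
      obtain ⟨h1, h2⟩ := (Finset.mem_filter.1 hy).2
      have hyi := hinv y h1 h2
      have hc : y₀⁻¹ * y ∈ Subgroup.zpowers u := by
        rw [← hC, Subgroup.zpowers_eq_closure, Subgroup.centralizer_closure,
          Subgroup.mem_centralizer_singleton_iff]
        rw [mul_inv_eq_iff_eq_mul] at hyi
        have h3 : y₀⁻¹ * u⁻¹ = u * y₀⁻¹ := by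
          rw [← hy₀i]; group
        calc y₀⁻¹ * y * u = y₀⁻¹ * (u⁻¹ * y) := by rw [mul_assoc, hyi]
          _ = u * (y₀⁻¹ * y) := by rw [← mul_assoc, h3, mul_assoc]
      obtain ⟨i, hi⟩ := mem_powers_iff_mem_zpowers.2 hc
      refine ⟨i % p, Nat.mod_lt _ hp.out.pos, ?_⟩
      rw [← hu, pow_mod_orderOf]
      exact eq_inv_mul_iff_mul_eq.1 hi
    · intro i _
      refine Finset.mem_filter.2 ⟨Finset.mem_univ _, hconj i, ?_⟩
      rw [mul_inv_rev, inv_eq_of_mul_eq_one_right hy₀2]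
      have h3 : (u ^ i)⁻¹ * y₀ = y₀ * u ^ i := by
        have := hpow i
        rw [mul_inv_eq_iff_eq_mul] at this
        exact this.symm
      rw [h3, mul_assoc, ← pow_succ]
      exact hconj (i + 1)
    · intro i j hi hj hij
      exact (pow_injOn_Iio_orderOf (x := u)) (by simpa [hu] using hi) (by simpa [hu] using hj)
        (mul_left_cancel hij)
  refine ⟨((d : ℤ) - x).natAbs, Int.natAbs_pos.2 (sub_ne_zero.2 (Ne.symm hxd)), ?_, ?_⟩
  · have h := char_norm_le (isCharacter_of_irr χ.2) t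
    rw [← hx, deg_eq χ, ← hd, Complex.norm_intCast, Complex.natCast_re] at h
    have h' : x.natAbs ≤ d := by
      rw [← Int.cast_abs, Int.abs_eq_natAbs] at h
      exact_mod_cast h
    omega
  · have hcl : K * Nat.card (Subgroup.centralizer ({t} : Set G)) = Nat.card G :=
      card_isConj_mul_card_centralizer t
    set c := Nat.card (Subgroup.centralizer ({t} : Set G)) with hc
    have hKne : (K : ℂ) ≠ 0 := by
      intro h
      rw [Nat.cast_eq_zero] at h
      rw [h, zero_mul] at hcl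
      exact Nat.card_pos.ne' hcl.symm
    rw [hcntp, ← hcl, Nat.cast_mul] at hkey
    have hkey2 : ((p : ℂ) * c) * (d * f) = (K : ℂ) * ((ε : ℂ) * (a χ : ℂ) * ((d : ℂ) - x) ^ 2) := by
      apply mul_left_cancel₀ hKne
      linear_combination hkey
    have hz : ((p * c * (d * f) : ℕ) : ℤ) = (K : ℤ) * (ε * a χ * ((d : ℤ) - x) ^ 2) := by
      exact_mod_cast hkey2
    have hz' := congrArg Int.natAbs hz
    rw [Int.natAbs_natCast, Int.natAbs_mul, Int.natAbs_natCast, Int.natAbs_mul, Int.natAbs_pow,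
      show (ε * a χ).natAbs = 1 by rcases haχ with h | h <;> rcases hε with h' | h' <;>
        simp [h, h'], one_mul] at hz'
    rw [← hcl]
    calc c ^ 2 * p * d * f = c * (p * c * (d * f)) := by ring
      _ = _ := by rw [hz']; ring

/-- The degree equation for a normalizer of index three over the Sylow subgroup. -/
theorem three_data [IsSimpleGroup G] (hG : ¬ IsMulCommutative G) (u : G) (hu : orderOf u = p)
    (hsq : ¬ p ^ 2 ∣ Nat.card G)
    (hC : Subgroup.centralizer ((Subgroup.zpowers u : Subgroup G) : Set G) = Subgroup.zpowers u)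
    (hN : Nat.card (Subgroup.normalizer ((Subgroup.zpowers u : Subgroup G) : Set G)) = p * 3)
    (hp5 : 5 ≤ p) :
    ∃ (d₁ d₂ f : ℕ) (a₁ a₂ ε : ℤ), (a₁ = 1 ∨ a₁ = -1) ∧ (a₂ = 1 ∨ a₂ = -1) ∧
      (ε = 1 ∨ ε = -1) ∧ (d₁ : ℤ) ≡ a₁ [ZMOD p] ∧ (d₂ : ℤ) ≡ a₂ [ZMOD p] ∧
      ε * f = 1 + a₁ * d₁ + a₂ * d₂ ∧ 1 < d₁ ∧ 1 < d₂ ∧ 1 < f ∧ d₁ ∣ Nat.card G ∧
      d₂ ∣ Nat.card G ∧ f ∣ Nat.card G ∧ ¬ p ∣ d₁ ∧ ¬ p ∣ d₂ ∧ ¬ p ∣ f := by
  classical
  obtain ⟨B, Y, ε, a, hε, hdis, hB3, ⟨θ₀, hθ₀⟩, hprin, ha1, hBp, hdeg, hzero, hYv⟩ :=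
    selfCentral_data u hu hsq hC hN (by omega) (by omega)
  obtain ⟨χ₁, χ₂, hne, hB⟩ : ∃ χ₁ χ₂, χ₁ ≠ χ₂ ∧ B.erase (principal G) = {χ₁, χ₂} :=
    Finset.card_eq_two.1 (by rw [Finset.card_erase_of_mem hprin, hB3])
  have h1 : χ₁ ∈ B.erase (principal G) := hB ▸ Finset.mem_insert_self _ _
  have h2 : χ₂ ∈ B.erase (principal G) := hB ▸ Finset.mem_insert_of_mem (Finset.mem_singleton_self _)
  have h := (hYv θ₀ hθ₀).2 1 (by rw [orderOf_one]; exact hp.out.not_dvd_one)
  rw [← Finset.add_sum_erase _ _ hprin, hB, Finset.sum_pair hne, ha1, principal_apply,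
    deg_eq θ₀, deg_eq χ₁, deg_eq χ₂, ← add_assoc] at h
  have hdd : ∀ ψ : IrrCharacter G, charDegree (ψ : G → ℂ) ∣ Nat.card G := fun ψ => by
    obtain ⟨n, -, hn, hdvd⟩ := irr_degree_dvd_card ψ.2
    rw [deg_eq ψ, Nat.cast_inj] at hn
    exact hn ▸ hdvd
  exact ⟨_, _, _, a χ₁, a χ₂, ε, (hBp χ₁ (Finset.mem_of_mem_erase h1)).1,
    (hBp χ₂ (Finset.mem_of_mem_erase h2)).1, hε, (hBp χ₁ (Finset.mem_of_mem_erase h1)).2.2,
    (hBp χ₂ (Finset.mem_of_mem_erase h2)).2.2, by exact_mod_cast (by simpa using h :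
      (ε : ℂ) * (charDegree (θ₀ : G → ℂ) : ℂ) = 1 + (a χ₁ : ℂ) * (charDegree (χ₁ : G → ℂ) : ℂ) +
        (a χ₂ : ℂ) * (charDegree (χ₂ : G → ℂ) : ℂ)),
    one_lt_charDegree hG (Finset.ne_of_mem_erase h1), one_lt_charDegree hG (Finset.ne_of_mem_erase h2),
    one_lt_charDegree hG (fun h' => (hYv θ₀ hθ₀).1 h'.symm), hdd _, hdd _, hdd _,
    hdeg _ (Finset.mem_union_left _ (Finset.mem_of_mem_erase h1)),
    hdeg _ (Finset.mem_union_left _ (Finset.mem_of_mem_erase h2)),
    hdeg _ (Finset.mem_union_right _ hθ₀)⟩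

/-- A simple group of order `2 ^ a * 3 ^ b * p`. -/
theorem setup_two_three [IsSimpleGroup G] (hG : ¬ IsMulCommutative G) (hp5 : 5 ≤ p) {a b : ℕ}
    (hcard : Nat.card G = 2 ^ a * 3 ^ b * p) :
    ∃ (u : G) (e : ℕ), orderOf u = p ∧ ¬ p ^ 2 ∣ Nat.card G ∧
      Subgroup.centralizer ((Subgroup.zpowers u : Subgroup G) : Set G) = Subgroup.zpowers u ∧
      Nat.card (Subgroup.normalizer ((Subgroup.zpowers u : Subgroup G) : Set G)) = p * e ∧
      1 < e ∧ e ∣ p - 1 ∧ ∃ n : ℕ, n % p = 1 ∧ n * (p * e) = Nat.card G := by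
  obtain ⟨P⟩ : Nonempty (Sylow p G) := inferInstance
  have hnd : ¬ p ∣ 2 ^ a * 3 ^ b := fun h => by
    rcases hp.out.dvd_mul.mp h with h | h
    · have := Nat.le_of_dvd two_pos (hp.out.dvd_of_dvd_pow h); omega
    · have := Nat.le_of_dvd (by norm_num) (hp.out.dvd_of_dvd_pow h); omega
  have hsq : ¬ p ^ 2 ∣ Nat.card G := fun h => hnd (by
    rw [hcard, pow_two] at h
    exact Nat.dvd_of_mul_dvd_mul_right hp.out.pos h)
  have hPc : Nat.card (P : Subgroup G) = p := by
    simpa using card_sylow_eq (p := p) 1 (2 ^ a * 3 ^ b) (by rw [hcard, pow_one, mul_comm]) hnd P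
  obtain ⟨y, hy⟩ := exists_prime_orderOf_dvd_card' (G := (P : Subgroup G)) p (by rw [hPc])
  have hyo : orderOf (y : G) = p := by rw [Subgroup.orderOf_coe, hy]
  have hz : Subgroup.zpowers (y : G) = (P : Subgroup G) :=
    Subgroup.eq_of_le_of_card_ge (Subgroup.zpowers_le.2 y.2) (by rw [hPc, Nat.card_zpowers, hyo])
  have hC := CfsgLib.Blocks.centralizer_sylow_three_prime (G := G) Nat.prime_two Nat.prime_three
    (by omega) (by omega) hcard P
  obtain ⟨e, he1, hed, hce⟩ := exists_normalizer_centralizer hG P hPc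
  rw [show Subgroup.centralizer ((P : Subgroup G) : Set G) = (P : Subgroup G) from hC, hPc] at hce
  refine ⟨y, e, hyo, hsq, by rw [hz]; exact hC, by rw [hz]; exact hce.symm, he1, hed,
    Nat.card (Sylow p G), Eq.trans (card_sylow_modEq_one p G) (Nat.mod_eq_of_lt hp.out.one_lt), ?_⟩
  rw [hce, Sylow.card_eq_index_normalizer P]
  exact Subgroup.index_mul_card _

/-- The candidates left by the degree equation for a dihedral normalizer. -/
theorem mem_dihedral_candidates {N d f : ℕ} {a ε : ℤ} (hN : N ≠ 0) (ha : a = 1 ∨ a = -1)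
    (hε : ε = 1 ∨ ε = -1) (hmod : (d : ℤ) ≡ a [ZMOD p]) (heq : ε * f = 1 + a * d) (hd : 1 < d)
    (hf : 1 < f) (hdN : d ∣ N * p) (hfN : f ∣ N * p) (hpd : ¬ p ∣ d) (hpf : ¬ p ∣ f) :
    (d, f) ∈ ((Nat.divisors N) ×ˢ (Nat.divisors N)).filter
      (fun q : ℕ × ℕ => 1 < q.1 ∧ 1 < q.2 ∧
        ((q.1 % p = 1 ∧ q.2 = q.1 + 1) ∨ ((q.1 + 1) % p = 0 ∧ q.2 + 1 = q.1))) := by
  have h1 : d ∣ N := ((hp.out.coprime_iff_not_dvd.2 hpd).symm).dvd_of_dvd_mul_right hdN
  have h2 : f ∣ N := ((hp.out.coprime_iff_not_dvd.2 hpf).symm).dvd_of_dvd_mul_right hfN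
  refine Finset.mem_filter.2 ⟨Finset.mem_product.2 ⟨Nat.mem_divisors.2 ⟨h1, hN⟩,
    Nat.mem_divisors.2 ⟨h2, hN⟩⟩, hd, hf, ?_⟩
  rcases ha with rfl | rfl
  · left
    refine ⟨?_, ?_⟩
    · have h : ((d % p : ℕ) : ℤ) = ((1 % p : ℕ) : ℤ) := by
        push_cast; exact hmod
      rw [Nat.cast_inj, Nat.mod_eq_of_lt hp.out.one_lt] at h
      exact h
    · rcases hε with rfl | rfl <;> omega
  · right
    refine ⟨?_, ?_⟩
    · have h : (p : ℤ) ∣ ((d + 1 : ℕ) : ℤ) := by
        have := Int.ModEq.dvd hmod.symm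
        push_cast
        simpa using this
      exact Nat.mod_eq_zero_of_dvd (Int.natCast_dvd_natCast.1 h)
    · rcases hε with rfl | rfl <;> omega

end CfsgLib.Small
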