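import Cfsg.Agent.S4441
import Cfsg.Agent.Lib.Small.Count
import Cfsg.Agent.Lib.Chars.Linear
import Cfsg.Agent.Lib.Chars.Integral
import Cfsg.Agent.Lib.CharApps.Codegree
import Cfsg.Agent.Lib.Blocks.ThreePrimeSimple
import Cfsg.Agent.Lib.CharApps.AbelianSylow

/-!
# Degree relations in the principal block of a simple group with a Sylow subgroup of prime order
-/

set_option autoImplicit false

namespace CfsgLib.Small

open Cfsg CfsgLib.Chars CfsgLib.CharApps

universe u

variable {G : Type u} [Group G] [Finite G] [IsSimpleGroup G]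

theorem commutator_eq_top (hG : ¬ IsMulCommutative G) : commutator G = ⊤ := by
  rcases (inferInstance : (commutator G).Normal).eq_bot_or_eq_top with h | h
  · rw [commutator_eq_bot_iff_center_eq_top, center_eq_bot hG] at h
    exact absurd h bot_ne_top
  · exact h

theorem eq_of_degree_one (hG : ¬ IsMulCommutative G) {χ θ : IrrCharacter G}
    (h1 : charDegree (χ : G → ℂ) = 1) (h2 : charDegree (θ : G → ℂ) = 1) : χ = θ := by
  have h := card_degree_one (G := G)
  rw [commutator_eq_top hG, Subgroup.index_top] at h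
  exact Subtype.mk.inj (@Subsingleton.elim _ (Nat.card_eq_one_iff_unique.mp h).1
    ⟨χ, (deg_eq_one_iff χ).mpr h1⟩ ⟨θ, (deg_eq_one_iff θ).mpr h2⟩)

theorem charDegree_dvd_card (χ : IrrCharacter G) : charDegree (χ : G → ℂ) ∣ Nat.card G := by
  obtain ⟨d, -, hd, hdvd⟩ := irr_degree_dvd_card χ.2
  rw [deg_eq, Nat.cast_inj] at hd
  exact hd ▸ hdvd

/-- The signed degrees of the principal block: `e - 1` of them congruent to `1`, and the sum of
all of them together with `1` is congruent to `e`; each divides `|G|`. -/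
theorem exists_degree_relation (hG : ¬ IsMulCommutative G) {p : ℕ} [hp : Fact p.Prime]
    (hodd : p ≠ 2) (P : Sylow p G) (hP : Nat.card (P : Subgroup G) = p) {e : ℕ}
    (he : (Subgroup.centralizer ((P : Subgroup G) : Set G)).relIndex
      (Subgroup.normalizer ((P : Subgroup G) : Set G)) = e) (hep : 2 * e ≤ p - 1) :
    ∃ L : List ℤ, L.length = e - 1 ∧
      (∀ s ∈ L, s ≡ 1 [ZMOD p] ∧ s.natAbs ∣ Nat.card G ∧ 1 < s.natAbs ∧
        s.natAbs ^ 2 < Nat.card G) ∧
      ((1 + L.sum : ℤ) ≡ e [ZMOD p] ∧ (1 + L.sum).natAbs ∣ Nat.card G ∧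
        1 < (1 + L.sum).natAbs ∧ (1 + L.sum).natAbs ^ 2 < Nat.card G) := by
  classical
  haveI := Fintype.ofFinite G
  haveI := irrFintype G
  obtain ⟨M, hM⟩ := CharApps.exists_pModular p
  haveI := hM.2.1.isPrime
  obtain ⟨X, Y, hB, hdisj, hX, hY, εX, ε, hXp, hε, hYdeg, hYeq, hrel⟩ :=
    Agent.S4441.result p M hM hodd P hP e he
  have he0 : 0 < e := by
    rw [← he]
    exact Nat.pos_of_ne_zero fun h => Subgroup.index_ne_zero_of_finite
      (H := (Subgroup.centralizer ((P : Subgroup G) : Set G)).subgroupOf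
        (Subgroup.normalizer ((P : Subgroup G) : Set G))) h
  have hY2 : 1 < Nat.card Y := by
    rw [hY]
    exact (Nat.le_div_iff_mul_le he0).mpr (by omega)
  have hdegne : ∀ χ : IrrCharacter G, χ ≠ principal G → 1 < charDegree (χ : G → ℂ) := by
    intro χ hne
    have h0 := CfsgLib.Blocks.charDegree_pos χ
    by_contra h
    exact hne (eq_of_degree_one hG (by omega) (by
      exact (deg_eq_one_iff (principal G)).mp (principal_apply _)))
  have hprin : principal G ∈ X := by
    have hmem : principal G ∈ X ∪ Y := hB ▸ CfsgLib.Blocks.principal_mem_principalBlock M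
    rcases hmem with h | h
    · exact h
    exfalso
    obtain ⟨a, b, hab⟩ := Finite.one_lt_card_iff_nontrivial.mp hY2
    have key : ∀ θ ∈ Y, θ = principal G := by
      intro θ hθ
      by_contra hne
      have h1 := hYeq θ hθ _ h 1 (by rw [orderOf_one]; exact hp.out.not_dvd_one)
      rw [deg_eq, principal_apply] at h1
      have := hdegne θ hne
      rw [Nat.cast_eq_one] at h1
      omega
    exact hab (Subtype.ext ((key a a.2).trans (key b b.2).symm))
  obtain ⟨⟨θ, hθ⟩⟩ : Nonempty Y := (Finite.card_pos_iff).mp (by omega)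
  set F : Finset (IrrCharacter G) := (Set.toFinite X).toFinset with hF
  let f : IrrCharacter G → ℤ := fun χ => εX χ * (charDegree (χ : G → ℂ) : ℤ)
  have hsq : ∀ χ : IrrCharacter G, charDegree (χ : G → ℂ) ^ 2 < Nat.card G := by
    intro χ
    rw [← sum_degree_sq_nat (G := G)]
    by_cases hne : χ = principal G
    · subst hne
      rw [(deg_eq_one_iff (principal G)).mp (principal_apply _), one_pow, sum_degree_sq_nat]
      exact Finite.one_lt_card
    · rw [← Finset.add_sum_erase _ _ (Finset.mem_univ χ)]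
      have hmem : principal G ∈ (Finset.univ.erase χ : Finset (IrrCharacter G)) :=
        Finset.mem_erase.mpr ⟨Ne.symm hne, Finset.mem_univ _⟩
      have := Finset.single_le_sum (f := fun ψ : IrrCharacter G => charDegree (ψ : G → ℂ) ^ 2)
        (fun _ _ => Nat.zero_le _) hmem
      rw [(deg_eq_one_iff (principal G)).mp (principal_apply _), one_pow] at this
      omega
  have habs : ∀ χ ∈ X, (f χ).natAbs = charDegree (χ : G → ℂ) := by
    intro χ hχ
    rcases (hXp χ hχ).1 with h | h <;> simp [f, h]
  have hεp : εX (principal G) = 1 := by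
    have h1 := (hXp _ hprin).2.1
    rw [(deg_eq_one_iff (principal G)).mp (principal_apply _), Nat.cast_one] at h1
    rcases (hXp _ hprin).1 with h | h
    · exact h
    · rw [h] at h1
      exfalso
      have h2 : (p : ℤ) ∣ 2 := by
        have := h1.dvd
        norm_num at this
        exact this
      have := Nat.le_of_dvd two_pos (Int.natCast_dvd_natCast.mp (by exact_mod_cast h2))
      have := hp.out.two_le
      omega
  refine ⟨((F.erase (principal G)).toList).map f, ?_, ?_, ?_⟩
  · rw [List.length_map, Finset.length_toList, Finset.card_erase_of_mem (by simpa [hF] using hprin),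
      hF, ← Nat.card_eq_card_finite_toFinset, hX]
  · intro s hs
    rw [List.mem_map] at hs
    obtain ⟨χ, hχ, rfl⟩ := hs
    rw [Finset.mem_toList, Finset.mem_erase, hF, Set.Finite.mem_toFinset] at hχ
    rw [habs χ hχ.2]
    refine ⟨?_, charDegree_dvd_card χ, hdegne χ hχ.1, hsq χ⟩
    have h := ((hXp χ hχ.2).2.1).mul_left (εX χ)
    rcases (hXp χ hχ.2).1 with h' | h' <;> simp [f, h'] at h ⊢ <;> exact h
  · have hsum : 1 + (((F.erase (principal G)).toList).map f).sum
        = ε * (charDegree (θ : G → ℂ) : ℤ) := by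
      rw [Finset.sum_map_toList]
      have h := hrel θ hθ 1 (by rw [orderOf_one]; exact hp.out.not_dvd_one)
      rw [finsum_mem_eq_finite_toFinset_sum _ (Set.toFinite X), ← hF,
        ← Finset.add_sum_erase _ _ (show principal G ∈ F by simpa [hF] using hprin),
        principal_apply, hεp] at h
      simp only [deg_eq] at h
      have h' : ((ε * (charDegree (θ : G → ℂ) : ℤ) : ℤ) : ℂ) =
          ((1 + ∑ χ ∈ F.erase (principal G), f χ : ℤ) : ℂ) := by
        push_cast [f]
        rw [h]
        push_cast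
        ring
      exact (Int.cast_injective h').symm
    rw [hsum]
    have hne : θ ≠ principal G := fun h => hdisj.ne_of_mem hprin hθ h.symm
    have habsY : (ε * (charDegree (θ : G → ℂ) : ℤ)).natAbs = charDegree (θ : G → ℂ) := by
      rcases hε with h | h <;> simp [h]
    rw [habsY]
    refine ⟨?_, charDegree_dvd_card θ, hdegne θ hne, hsq θ⟩
    have h := (hYdeg θ hθ).mul_left ε
    rcases hε with h' | h' <;> simp [h'] at h ⊢ <;> exact h

/-- Candidate signed degrees. -/
def signedCands (N p : ℕ) : List ℤ :=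
  let D := (List.range (Nat.sqrt N + 1)).filter fun d => 1 < d && d ∣ N && d * d < N
  ((D.map fun d : ℕ => (d : ℤ)) ++ (D.map fun d : ℕ => -(d : ℤ))).filter
    fun s => (s - 1) % (p : ℤ) == 0

theorem mem_signedCands {N p : ℕ} {s : ℤ} (h1 : s ≡ 1 [ZMOD p]) (h2 : s.natAbs ∣ N)
    (h3 : 1 < s.natAbs) (h4 : s.natAbs ^ 2 < N) : s ∈ signedCands N p := by
  rw [pow_two] at h4
  have hd : s.natAbs ∈ (List.range (Nat.sqrt N + 1)).filter
      fun d => 1 < d && d ∣ N && d * d < N := by
    rw [List.mem_filter, List.mem_range]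
    exact ⟨Nat.lt_succ_of_le (Nat.le_sqrt.mpr h4.le), by simp [h2, h3, h4]⟩
  rw [signedCands, List.mem_filter]
  refine ⟨?_, by simpa [beq_iff_eq] using Int.emod_eq_zero_of_dvd h1.symm.dvd⟩
  rw [List.mem_append, List.mem_map, List.mem_map]
  rcases Int.natAbs_eq s with h | h
  · exact Or.inl ⟨_, hd, h.symm⟩
  · exact Or.inr ⟨_, hd, h.symm⟩

/-- Is there an admissible relation with `e` nonexceptional characters? -/
def relationExists : ℕ → ℕ → ℕ → ℤ → Bool
  | N, p, 0, acc => decide (1 < acc.natAbs ∧ acc.natAbs ∣ N ∧ acc.natAbs * acc.natAbs < N)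
  | N, p, k + 1, acc => (signedCands N p).any fun s => relationExists N p k (acc + s)

theorem relationExists_of_list {N p : ℕ} : ∀ (L : List ℤ) (acc : ℤ),
    (∀ s ∈ L, s ∈ signedCands N p) →
    1 < (acc + L.sum).natAbs → (acc + L.sum).natAbs ∣ N → (acc + L.sum).natAbs ^ 2 < N →
    relationExists N p L.length acc = true := by
  intro L
  induction L with
  | nil =>
    intro acc _ h1 h2 h3
    rw [pow_two] at h3
    simp only [List.sum_nil, add_zero] at h1 h2 h3
    simp [relationExists, h1, h2, h3]
  | cons s L ih =>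
    intro acc hL h1 h2 h3
    rw [List.sum_cons, ← add_assoc] at h1 h2 h3
    simp only [List.length_cons, relationExists, List.any_eq_true]
    exact ⟨s, hL s List.mem_cons_self,
      ih _ (fun t ht => hL t (List.mem_cons_of_mem _ ht)) h1 h2 h3⟩

/-- If no admissible degree relation exists there is no such simple group. -/
theorem false_of_no_relation (hG : ¬ IsMulCommutative G) {p : ℕ} [Fact p.Prime]
    (hodd : p ≠ 2) (P : Sylow p G) (hP : Nat.card (P : Subgroup G) = p) {e N : ℕ}
    (hN : Nat.card G = N)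
    (he : (Subgroup.centralizer ((P : Subgroup G) : Set G)).relIndex
      (Subgroup.normalizer ((P : Subgroup G) : Set G)) = e) (hep : 2 * e ≤ p - 1)
    (hno : relationExists N p (e - 1) 1 = false) : False := by
  obtain ⟨L, hlen, hL, -, hd, h1, h2⟩ := exists_degree_relation hG hodd P hP he hep
  rw [hN] at hd h2
  have := relationExists_of_list (N := N) (p := p) L 1
    (fun s hs => mem_signedCands (hL s hs).1 (hN ▸ (hL s hs).2.1) (hL s hs).2.2.1
      (hN ▸ (hL s hs).2.2.2)) h1 hd h2
  rw [hlen, hno] at this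
  exact Bool.false_ne_true this

/-- In a simple group of order `q₁^a q₂^b p` the index `|N(P) : C(P)|` is `|G| / (n_p p)`. -/
theorem exists_index_three_prime (hG : ¬ IsMulCommutative G) {q r p a b : ℕ} [Fact p.Prime]
    (hq : q.Prime) (hr : r.Prime) (hqp : q ≠ p) (hrp : r ≠ p)
    (hcard : Nat.card G = q ^ a * r ^ b * p) :
    ∃ (P : Sylow p G) (e : ℕ), Nat.card (P : Subgroup G) = p ∧
      (Subgroup.centralizer ((P : Subgroup G) : Set G)).relIndex
        (Subgroup.normalizer ((P : Subgroup G) : Set G)) = e ∧ 1 < e ∧ e ∣ p - 1 ∧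
      e * Nat.card (Sylow p G) = q ^ a * r ^ b ∧ Nat.card (Sylow p G) % p = 1 ∧
      2 * Nat.card G ∣ (Nat.card (Sylow p G)).factorial := by
  obtain ⟨P⟩ := (inferInstance : Nonempty (Sylow p G))
  have hp : p.Prime := Fact.out
  have hnd : ¬ p ∣ q ^ a * r ^ b := fun h => by
    rcases hp.dvd_mul.mp h with h | h
    · exact hqp ((Nat.prime_dvd_prime_iff_eq hp hq).mp (hp.dvd_of_dvd_pow h)).symm
    · exact hrp ((Nat.prime_dvd_prime_iff_eq hp hr).mp (hp.dvd_of_dvd_pow h)).symm
  have hPc : Nat.card (P : Subgroup G) = p := by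
    simpa using card_sylow_eq (p := p) 1 (q ^ a * r ^ b) (by rw [hcard]; ring) hnd P
  obtain ⟨e, he1, he, hce⟩ := exists_normalizer_centralizer hG P hPc
  have hC : Nat.card (Subgroup.centralizer ((P : Subgroup G) : Set G)) = p := by
    rw [show Subgroup.centralizer ((P : Subgroup G) : Set G) = (P : Subgroup G) from
      CfsgLib.Blocks.centralizer_sylow_three_prime hq hr hqp hrp hcard P, hPc]
  have hmul := card_normalizer_mul P
  rw [← hce, hC, hcard] at hmul
  refine ⟨P, e, hPc, ?_, he1, he, ?_, ?_, ?_⟩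
  · have hle : Subgroup.centralizer ((P : Subgroup G) : Set G) ≤
        Subgroup.normalizer ((P : Subgroup G) : Set G) := Subgroup.centralizer_le_normalizer _
    have h := Subgroup.relIndex_mul_relIndex _ _ _ bot_le hle
    rw [Subgroup.relIndex_bot_left, Subgroup.relIndex_bot_left, ← hce] at h
    exact Nat.eq_of_mul_eq_mul_left Nat.card_pos h
  · exact Nat.eq_of_mul_eq_mul_left hp.pos (by linarith)
  · exact Eq.trans (card_sylow_modEq_one p G) (Nat.mod_eq_of_lt hp.one_lt)
  · exact two_mul_card_dvd_factorial_sylow hG (by rw [hcard]; exact dvd_mul_left p _)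

end CfsgLib.Small
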