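import Mathlib

/-!
# A Sylow 2-subgroup of a symmetric group is generated by involutions
-/

set_option autoImplicit false

namespace CfsgLib.Small

/-- A subgroup generated by its elements of square one. -/
def InvolGen {G : Type*} [Group G] (H : Subgroup G) : Prop :=
  H ≤ Subgroup.closure {x : G | x ∈ H ∧ x * x = 1}

theorem involGen_map {G K : Type*} [Group G] [Group K] {H : Subgroup G} (h : InvolGen H)
    (f : G →* K) : InvolGen (H.map f) := by
  refine (Subgroup.map_mono h).trans ?_
  rw [MonoidHom.map_closure]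
  refine Subgroup.closure_mono ?_
  rintro _ ⟨x, ⟨hx, hx2⟩, rfl⟩
  exact ⟨⟨x, hx, rfl⟩, by rw [← map_mul, hx2, map_one]⟩

theorem involGen_sup {G : Type*} [Group G] {H K : Subgroup G} (hH : InvolGen H) (hK : InvolGen K) :
    InvolGen (H ⊔ K) :=
  sup_le (hH.trans (Subgroup.closure_mono fun _ hx => ⟨le_sup_left (b := K) hx.1, hx.2⟩))
    (hK.trans (Subgroup.closure_mono fun _ hx => ⟨le_sup_right (a := H) hx.1, hx.2⟩))

theorem card_sup_of_normalizes {G : Type*} [Group G] {H K : Subgroup G}
    (hn : K ≤ Subgroup.normalizer (H : Set G)) (hd : H ⊓ K = ⊥) :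
    Nat.card ↥(H ⊔ K) = Nat.card H * Nat.card K := by
  rw [← Nat.card_prod]
  refine (Nat.card_congr (Equiv.ofBijective
    (fun p : H × K => (⟨(p.1 : G) * p.2, Subgroup.mul_mem_sup p.1.2 p.2.2⟩ : ↥(H ⊔ K))) ⟨?_, ?_⟩)).symm
  · intro p q h
    exact Subgroup.mul_injective_of_disjoint (disjoint_iff.2 hd) (congrArg Subtype.val h)
  · rintro ⟨x, hx⟩
    have hx' : x ∈ ((H ⊔ K : Subgroup G) : Set G) := hx
    rw [Subgroup.coe_mul_of_right_le_normalizer_left H K hn] at hx'
    obtain ⟨a, ha, b, hb, rfl⟩ := hx'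
    exact ⟨(⟨a, ha⟩, ⟨b, hb⟩), rfl⟩

/-- Flips inside the pairs. -/
def flipPairs (h r : ℕ) : (Fin h → Equiv.Perm (Fin 2)) →* Equiv.Perm (Fin 2 × Fin h ⊕ Fin r) where
  toFun f :=
    { toFun := Sum.elim (fun p => Sum.inl (f p.2 p.1, p.2)) Sum.inr
      invFun := Sum.elim (fun p => Sum.inl ((f p.2)⁻¹ p.1, p.2)) Sum.inr
      left_inv := by rintro (⟨i, j⟩ | l) <;> simp
      right_inv := by rintro (⟨i, j⟩ | l) <;> simp }
  map_one' := by ext (⟨i, j⟩ | l) <;> simp
  map_mul' f g := by ext (⟨i, j⟩ | l) <;> simp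

/-- Permutations of the pairs. -/
def permPairs (h r : ℕ) : Equiv.Perm (Fin h) →* Equiv.Perm (Fin 2 × Fin h ⊕ Fin r) where
  toFun τ := Equiv.sumCongr (Equiv.prodCongr (Equiv.refl _) τ) (Equiv.refl _)
  map_one' := by ext (⟨i, j⟩ | l) <;> simp
  map_mul' f g := by ext (⟨i, j⟩ | l) <;> simp

theorem flipPairs_inl (h r : ℕ) (f : Fin h → Equiv.Perm (Fin 2)) (p : Fin 2 × Fin h) :
    flipPairs h r f (Sum.inl p) = Sum.inl (f p.2 p.1, p.2) := rfl

theorem permPairs_inl (h r : ℕ) (τ : Equiv.Perm (Fin h)) (p : Fin 2 × Fin h) :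
    permPairs h r τ (Sum.inl p) = Sum.inl (p.1, τ p.2) := rfl

theorem exists_sylow_perm_invol : ∀ n : ℕ, ∃ T : Subgroup (Equiv.Perm (Fin n)),
    InvolGen T ∧ Nat.card T = 2 ^ padicValNat 2 n.factorial := by
  intro n
  induction n using Nat.strong_induction_on with
  | _ n ih =>
    rcases Nat.lt_or_ge n 2 with hn | hn
    · refine ⟨⊥, bot_le, ?_⟩
      interval_cases n <;> simp
    obtain ⟨T', hT', hcard'⟩ := ih (n / 2) (Nat.div_lt_self (by omega) one_lt_two)
    let B := (flipPairs (n / 2) (n % 2)).range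
    let T₀ := T'.map (permPairs (n / 2) (n % 2))
    have hfinj : Function.Injective (flipPairs (n / 2) (n % 2)) := by
      intro f g hfg
      funext j
      ext i
      have := congrArg (fun e : Equiv.Perm _ => e (Sum.inl (i, j))) hfg
      simp only [flipPairs_inl, Sum.inl.injEq, Prod.mk.injEq] at this
      rw [this.1]
    have hpinj : Function.Injective (permPairs (n / 2) (n % 2)) := by
      intro f g hfg
      ext j
      have := congrArg (fun e : Equiv.Perm _ => e (Sum.inl (0, j))) hfg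
      simp only [permPairs_inl, Sum.inl.injEq, Prod.mk.injEq, true_and] at this
      rw [this]
    have hnorm : T₀ ≤ Subgroup.normalizer (B : Set (Equiv.Perm _)) := by
      rintro _ ⟨τ, -, rfl⟩
      rw [Subgroup.mem_normalizer_iff]
      have key : ∀ (σ : Equiv.Perm (Fin (n / 2))) (f : Fin (n / 2) → Equiv.Perm (Fin 2)),
          permPairs (n / 2) (n % 2) σ * flipPairs (n / 2) (n % 2) f *
            (permPairs (n / 2) (n % 2) σ)⁻¹ =
          flipPairs (n / 2) (n % 2) (fun j => f (σ⁻¹ j)) := by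
        intro σ f
        rw [mul_inv_eq_iff_eq_mul]
        ext (⟨i, j⟩ | l) <;> simp [flipPairs, permPairs]
      intro x
      constructor
      · rintro ⟨f, rfl⟩
        exact ⟨_, (key τ f).symm⟩
      · rintro ⟨f, hf⟩
        refine ⟨_, ((key τ⁻¹ f).symm.trans ?_)⟩
        rw [hf, map_inv]
        group
    have hdisj : B ⊓ T₀ = ⊥ := by
      rw [eq_bot_iff]
      rintro x ⟨⟨f, hf⟩, ⟨τ, -, rfl⟩⟩
      have : τ = 1 := by
        ext j
        have := congrArg (fun e : Equiv.Perm _ => e (Sum.inl (0, j))) hf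
        simp only [flipPairs_inl, permPairs_inl, Sum.inl.injEq, Prod.mk.injEq] at this
        rw [← this.2]
        rfl
      rw [Subgroup.mem_bot, this, map_one]
    have hB : InvolGen B := by
      rintro _ ⟨f, rfl⟩
      refine Subgroup.subset_closure ⟨⟨f, rfl⟩, ?_⟩
      rw [← map_mul, show f * f = 1 from funext fun j => by
        have : ∀ a : Equiv.Perm (Fin 2), a * a = 1 := by decide
        exact this (f j), map_one]
    have hcardB : Nat.card B = 2 ^ (n / 2) := by
      rw [Nat.card_congr (MonoidHom.ofInjective hfinj).toEquiv.symm, Nat.card_pi]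
      simp [Nat.card_eq_fintype_card, Fintype.card_perm]
    let e : Fin 2 × Fin (n / 2) ⊕ Fin (n % 2) ≃ Fin n :=
      ((Equiv.sumCongr finProdFinEquiv (Equiv.refl _)).trans finSumFinEquiv).trans
        (finCongr (by omega))
    refine ⟨(B ⊔ T₀).map (Equiv.permCongrHom e).toMonoidHom,
      involGen_map (involGen_sup hB (involGen_map hT' _)) _, ?_⟩
    rw [Subgroup.card_map_of_injective (Equiv.permCongrHom e).injective,
      card_sup_of_normalizes hnorm hdisj, hcardB,
      Subgroup.card_map_of_injective hpinj, hcard', ← pow_add]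
    congr 1
    rw [← padicValNat_mul_div_factorial (p := 2) n, padicValNat_factorial_mul, add_comm]

end CfsgLib.Small
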