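import Mathlib

/-!
# Elementary restrictions on finite simple groups of small order

Embedding into alternating groups, Sylow numbers, and transfer consequences.
-/

set_option autoImplicit false

open Subgroup
open scoped Nat

namespace CfsgLib.Small

variable {G : Type*} [Group G]

theorem not_isMulCommutative_of_card [IsSimpleGroup G] (h : ¬ (Nat.card G).Prime) :
    ¬ IsMulCommutative G := by
  intro hc
  let _ : CommGroup G := { (inferInstance : Group G) with mul_comm := fun a b => hc.is_comm.comm a b }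
  exact h (CommGroup.is_simple_iff_prime_card.mp ‹IsSimpleGroup G›)

theorem center_eq_bot [IsSimpleGroup G] (hG : ¬ IsMulCommutative G) : center G = ⊥ := by
  rcases (inferInstance : (center G).Normal).eq_bot_or_eq_top with h | h
  · exact h
  · exact absurd ⟨⟨fun a b => (mem_center_iff.mp (h ▸ mem_top b : b ∈ center G) a)⟩⟩ hG

theorem not_isCyclic_of_not_comm (hG : ¬ IsMulCommutative G) : ¬ IsCyclic G := fun h =>
  hG ⟨⟨fun a b => by
    obtain ⟨g, hg⟩ := h.exists_generator
    obtain ⟨m, rfl⟩ := hg a
    obtain ⟨n, rfl⟩ := hg b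
    exact zpow_mul_comm g m n⟩⟩

/-- A proper subgroup of a simple group has trivial core, so the coset action is faithful. -/
theorem toPermHom_injective [IsSimpleGroup G] {H : Subgroup G} (hH : H ≠ ⊤) :
    Function.Injective (MulAction.toPermHom G (G ⧸ H)) := by
  rw [← MonoidHom.ker_eq_bot_iff, ← Subgroup.normalCore_eq_ker]
  rcases (inferInstance : H.normalCore.Normal).eq_bot_or_eq_top with h | h
  · exact h
  · exact absurd (top_le_iff.mp (h ▸ H.normalCore_le)) hH

theorem index_ne_zero_of_finite' [Finite G] (H : Subgroup G) : H.index ≠ 0 :=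
  Subgroup.index_ne_zero_of_finite

/-- Every homomorphism from a non-abelian simple group to a symmetric group has even image. -/
theorem sign_eq_one [IsSimpleGroup G] (hG : ¬ IsMulCommutative G) {α : Type*} [Fintype α]
    [DecidableEq α] (f : G →* Equiv.Perm α) (g : G) : Equiv.Perm.sign (f g) = 1 := by
  let s := Equiv.Perm.sign.comp f
  rcases (inferInstance : s.ker.Normal).eq_bot_or_eq_top with h | h
  · have hs : Function.Injective s := s.ker_eq_bot_iff.mp h
    exact absurd ⟨⟨fun a b => hs (by rw [map_mul, map_mul, mul_comm])⟩⟩ hG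
  · exact (h ▸ mem_top g : g ∈ s.ker)

theorem range_le_alternatingGroup [IsSimpleGroup G] (hG : ¬ IsMulCommutative G) {α : Type*}
    [Fintype α] [DecidableEq α] (f : G →* Equiv.Perm α) : f.range ≤ alternatingGroup α := by
  rintro _ ⟨g, rfl⟩
  exact Equiv.Perm.mem_alternatingGroup.mpr (sign_eq_one hG f g)

theorem exists_embedding_alternating [Finite G] [IsSimpleGroup G] (hG : ¬ IsMulCommutative G)
    (H : Subgroup G) (hH : H ≠ ⊤) :
    ∃ f : G →* alternatingGroup (Fin H.index), Function.Injective f := by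
  classical
  let e : G ⧸ H ≃ Fin H.index := (Finite.equivFin (G ⧸ H)).trans (finCongr rfl)
  let f : G →* Equiv.Perm (Fin H.index) :=
    e.permCongrHom.toMonoidHom.comp (MulAction.toPermHom G (G ⧸ H))
  have hf : Function.Injective f := e.permCongrHom.injective.comp (toPermHom_injective hH)
  exact ⟨f.codRestrict _ fun g => range_le_alternatingGroup hG f ⟨g, rfl⟩,
    fun a b h => hf (congrArg Subtype.val h)⟩

theorem two_le_index [Finite G] {H : Subgroup G} (hH : H ≠ ⊤) : 2 ≤ H.index := by
  have h0 := Subgroup.index_ne_zero_of_finite (H := H)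
  have h1 : H.index ≠ 1 := fun h => hH (index_eq_one.mp h)
  omega

theorem two_mul_card_dvd_factorial [Finite G] [IsSimpleGroup G] (hG : ¬ IsMulCommutative G)
    {H : Subgroup G} (hH : H ≠ ⊤) : 2 * Nat.card G ∣ H.index ! := by
  obtain ⟨f, hf⟩ := exists_embedding_alternating hG H hH
  have h2 := two_le_index hH
  have : Nontrivial (Fin H.index) := Fin.nontrivial_iff_two_le.mpr h2
  have h := two_mul_nat_card_alternatingGroup (α := Fin H.index)
  rw [Nat.card_perm, Nat.card_fin] at h
  rw [← h]
  exact Nat.mul_dvd_mul_left 2 (Subgroup.card_dvd_of_injective f hf)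

theorem sylow_ne_top [Finite G] [IsSimpleGroup G] (hG : ¬ IsMulCommutative G) {p : ℕ}
    [Fact p.Prime] (P : Sylow p G) : (P : Subgroup G) ≠ ⊤ := by
  intro h
  have hP : IsPGroup p G := (h ▸ P.2).of_equiv Subgroup.topEquiv
  have : Nontrivial G := IsSimpleGroup.toNontrivial
  have := hP.center_nontrivial
  rw [center_eq_bot hG] at this
  exact not_nontrivial_iff_subsingleton.mpr inferInstance this

theorem sylow_normalizer_ne_top [Finite G] [IsSimpleGroup G] (hG : ¬ IsMulCommutative G) {p : ℕ}
    [Fact p.Prime] (hp : p ∣ Nat.card G) (P : Sylow p G) :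
    normalizer ((P : Subgroup G) : Set G) ≠ ⊤ := by
  intro h
  rcases (normalizer_eq_top_iff.mp h).eq_bot_or_eq_top with h | h
  · exact P.ne_bot_of_dvd_card hp h
  · exact sylow_ne_top hG P h

theorem normalizer_ne_top [IsSimpleGroup G] {H : Subgroup G} (h1 : H ≠ ⊥) (h2 : H ≠ ⊤) :
    normalizer (H : Set G) ≠ ⊤ := by
  intro h
  rcases (normalizer_eq_top_iff.mp h).eq_bot_or_eq_top with h | h
  · exact h1 h
  · exact h2 h

theorem card_sylow_eq_index [Finite G] {p : ℕ} [Fact p.Prime] (P : Sylow p G) :
    Nat.card (Sylow p G) = (normalizer ((P : Subgroup G) : Set G)).index :=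
  P.card_eq_index_normalizer

theorem one_lt_card_sylow [Finite G] [IsSimpleGroup G] (hG : ¬ IsMulCommutative G) {p : ℕ}
    [Fact p.Prime] (hp : p ∣ Nat.card G) : 1 < Nat.card (Sylow p G) := by
  obtain ⟨P⟩ := (inferInstance : Nonempty (Sylow p G))
  have h := two_le_index (sylow_normalizer_ne_top hG hp P)
  rw [card_sylow_eq_index P]
  omega

theorem two_mul_card_dvd_factorial_sylow [Finite G] [IsSimpleGroup G] (hG : ¬ IsMulCommutative G)
    {p : ℕ} [Fact p.Prime] (hp : p ∣ Nat.card G) : 2 * Nat.card G ∣ (Nat.card (Sylow p G))! := by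
  obtain ⟨P⟩ := (inferInstance : Nonempty (Sylow p G))
  rw [card_sylow_eq_index P]
  exact two_mul_card_dvd_factorial hG (sylow_normalizer_ne_top hG hp P)

theorem card_sylow_dvd [Finite G] {p : ℕ} [Fact p.Prime] (a m : ℕ)
    (h : Nat.card G = p ^ a * m) (_hm : ¬ p ∣ m) : Nat.card (Sylow p G) ∣ m := by
  obtain ⟨P⟩ := (inferInstance : Nonempty (Sylow p G))
  have hd : Nat.card (Sylow p G) ∣ p ^ a * m := by
    rw [← h]; exact P.card_dvd_index.trans (index_dvd_card _)
  have hc : Nat.Coprime (Nat.card (Sylow p G)) (p ^ a) :=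
    (Nat.Coprime.pow_left a ((Fact.out : p.Prime).coprime_iff_not_dvd.mpr
      (not_dvd_card_sylow p G))).symm
  exact hc.dvd_of_dvd_mul_left hd

theorem card_sylow_eq [Finite G] {p : ℕ} [Fact p.Prime] (a m : ℕ)
    (h : Nat.card G = p ^ a * m) (hm : ¬ p ∣ m) (P : Sylow p G) :
    Nat.card (P : Subgroup G) = p ^ a := by
  rw [P.card_eq_multiplicity, h]
  congr 1
  have hm0 : m ≠ 0 := by rintro rfl; exact hm (dvd_zero p)
  rw [Nat.factorization_mul (pow_ne_zero _ (Fact.out : p.Prime).ne_zero) hm0,
    Finsupp.add_apply, Nat.factorization_eq_zero_of_not_dvd hm,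
    (Fact.out : p.Prime).factorization_pow]
  simp

theorem card_normalizer_mul [Finite G] {p : ℕ} [Fact p.Prime] (P : Sylow p G) :
    Nat.card (normalizer ((P : Subgroup G) : Set G)) * Nat.card (Sylow p G) = Nat.card G := by
  rw [card_sylow_eq_index P, card_mul_index]

/-- Burnside's transfer theorem for simple groups. -/
theorem not_normalizer_le_centralizer [Finite G] [IsSimpleGroup G] (hG : ¬ IsMulCommutative G)
    {p : ℕ} [Fact p.Prime] (hp : p ∣ Nat.card G) (P : Sylow p G) :
    ¬ normalizer ((P : Subgroup G) : Set G) ≤ centralizer ((P : Subgroup G) : Set G) := by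
  intro hle
  have hc := MonoidHom.ker_transferSylow_isComplement' P hle
  rcases (inferInstance : (MonoidHom.transferSylow P hle).ker.Normal).eq_bot_or_eq_top with h | h
  · rw [h] at hc
    exact sylow_ne_top hG P (isComplement'_bot_left.mp hc)
  · rw [h] at hc
    exact P.ne_bot_of_dvd_card hp (isComplement'_top_left.mp hc)

theorem minFac_sylow_not_isCyclic [Finite G] [IsSimpleGroup G] (hG : ¬ IsMulCommutative G)
    {p : ℕ} [Fact p.Prime] (hp : (Nat.card G).minFac = p) (P : Sylow p G) :
    ¬ IsCyclic (P : Subgroup G) := fun h =>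
  not_normalizer_le_centralizer hG (hp ▸ Nat.minFac_dvd _) P (h.normalizer_le_centralizer hp)

/-- The smallest prime divisor of a non-abelian simple group order divides it twice. -/
theorem minFac_sq_dvd [Finite G] [IsSimpleGroup G] (hG : ¬ IsMulCommutative G) :
    (Nat.card G).minFac ^ 2 ∣ Nat.card G := by
  have h1 : Nat.card G ≠ 1 := Finite.one_lt_card.ne'
  have := Fact.mk (Nat.minFac_prime h1)
  set p := (Nat.card G).minFac with hp
  obtain ⟨P⟩ := (inferInstance : Nonempty (Sylow p G))
  obtain ⟨k, hk⟩ := P.2.exists_card_eq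
  have hk2 : 2 ≤ k := by
    by_contra h
    apply minFac_sylow_not_isCyclic hG hp.symm P
    rcases (by omega : k = 0 ∨ k = 1) with rfl | rfl
    · rw [pow_zero] at hk
      have := (Nat.card_eq_one_iff_unique.mp hk).1
      exact isCyclic_of_subsingleton
    · exact isCyclic_of_prime_card (p := p) (by simpa using hk)
  exact (pow_dvd_pow p hk2).trans (hk ▸ card_subgroup_dvd_card _)

theorem ne_twelve [Finite G] [IsSimpleGroup G] (hG : ¬ IsMulCommutative G) :
    Nat.card G ≠ 12 := by
  intro h
  have := Fact.mk Nat.prime_three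
  obtain ⟨P⟩ := (inferInstance : Nonempty (Sylow 3 G))
  have h3 : 3 ∣ Nat.card G := by omega
  have hn := one_lt_card_sylow hG (p := 3) h3
  have hd := card_sylow_dvd (p := 3) 1 4 (G := G) (by omega) (by omega)
  have hm : Nat.card (Sylow 3 G) % 3 = 1 := card_sylow_modEq_one 3 G
  have hn4 : Nat.card (Sylow 3 G) = 4 := by
    have := Nat.le_of_dvd (by norm_num) hd
    interval_cases hn' : Nat.card (Sylow 3 G) <;> omega
  have hN := card_normalizer_mul P
  rw [hn4, h] at hN
  have hP : Nat.card (P : Subgroup G) = 3 := by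
    simpa using card_sylow_eq (p := 3) 1 4 (by omega) (by omega) P
  have hNP : normalizer ((P : Subgroup G) : Set G) = (P : Subgroup G) :=
    (Subgroup.eq_of_le_of_card_ge le_normalizer (by omega)).symm
  refine not_normalizer_le_centralizer hG h3 P ?_
  rw [hNP]
  intro x hx
  rw [mem_centralizer_iff]
  intro y hy
  have : IsCyclic (P : Subgroup G) := isCyclic_of_prime_card (p := 3) hP
  obtain ⟨g, hg⟩ := this.exists_generator
  obtain ⟨m, hm'⟩ := hg ⟨x, hx⟩
  obtain ⟨n, hn'⟩ := hg ⟨y, hy⟩
  have h' := zpow_mul_comm g n m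
  rw [show g ^ m = ⟨x, hx⟩ from hm', show g ^ n = ⟨y, hy⟩ from hn'] at h'
  exact congrArg Subtype.val h'

theorem four_dvd_of_even [Finite G] [IsSimpleGroup G] (hG : ¬ IsMulCommutative G)
    (h : Even (Nat.card G)) : 4 ∣ Nat.card G := by
  have := minFac_sq_dvd hG
  rwa [(Nat.minFac_eq_two_iff _).mpr (even_iff_two_dvd.mp h)] at this

theorem five_le_index [Finite G] [IsSimpleGroup G] (hG : ¬ IsMulCommutative G)
    {H : Subgroup G} (hH : H ≠ ⊤) : 5 ≤ H.index := by
  by_contra hlt
  have hd : 2 * Nat.card G ∣ 24 :=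
    (two_mul_card_dvd_factorial hG hH).trans (Nat.factorial_dvd_factorial (n := 4) (by omega))
  have hd' : Nat.card G ∣ 12 := Nat.dvd_of_mul_dvd_mul_left two_pos (by simpa using hd)
  have hsq := minFac_sq_dvd hG
  have h12 := ne_twelve hG
  have hle := Nat.le_of_dvd (by norm_num) hd'
  have h1 : 1 < Nat.card G := Finite.one_lt_card
  interval_cases hn : Nat.card G <;> first | omega | norm_num at hsq
  all_goals
    have := Fact.mk Nat.prime_two
    obtain ⟨P⟩ := (inferInstance : Nonempty (Sylow 2 G))
    have hP : Nat.card (P : Subgroup G) = 4 := by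
      simpa using card_sylow_eq (p := 2) 2 1 (by omega) (by omega) P
    exact sylow_ne_top hG P (Subgroup.eq_top_of_card_eq _ (by omega))

end CfsgLib.Small
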