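import Cfsg.Agent.Lib.Small.PermSign
import Cfsg.Agent.Lib.Small.SylowInter
import Cfsg.Agent.Lib.Small.SelfCentralPrime
import Cfsg.Agent.Lib.Small.SylowPermInvol
import Cfsg.Agent.S1018

/-!
# No simple group has order 720
-/

set_option autoImplicit false
set_option linter.unusedSectionVars false
set_option linter.style.haveILetI false

namespace CfsgLib.Small.Order720

open Subgroup Cfsg

universe u

section general

variable {G : Type u} [Group G] [Finite G]

theorem eq_one_of_five_two {g : G} (h5 : g ^ 5 = 1) (h2 : g ^ 2 = 1) : g = 1 := by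
  have := pow_gcd_eq_one.2 ⟨h5, h2⟩
  simpa using this

theorem toPerm_ne_one [IsSimpleGroup G] {H : Subgroup G} (hH : H ≠ ⊤) {g : G} (hg : g ≠ 1) :
    MulAction.toPermHom G (G ⧸ H) g ≠ 1 := fun h =>
  hg (toPermHom_injective hH (h.trans (map_one _).symm))

end general

variable {G : Type u} [Group G] [Finite G] [IsSimpleGroup G]

/-- The element of order four normalizing a subgroup of order five. -/
theorem exists_five (h : Nat.card G = 720) :
    ∃ y u : G, orderOf u = 5 ∧ y ^ 4 = 1 ∧ y ^ 2 ≠ 1 ∧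
      centralizer ((zpowers u : Subgroup G) : Set G) = zpowers u ∧
      Nat.card (centralizer ({y ^ 2} : Set G)) = 16 := by
  classical
  haveI := Fintype.ofFinite G
  have hG : ¬ IsMulCommutative G := not_isMulCommutative_of_card (by rw [h]; norm_num)
  have := Fact.mk Nat.prime_five
  have := Fact.mk Nat.prime_two
  obtain ⟨u, e, hu, hsq, hC, hN, he1, hed, n, hn1, hne⟩ :=
    setup_two_three (p := 5) hG le_rfl (a := 4) (b := 2) (by rw [h]; norm_num)
  obtain rfl : e = 4 := by
    rw [h] at hne
    have := Nat.le_of_dvd (by norm_num) hed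
    interval_cases e <;> omega
  set N := normalizer ((zpowers u : Subgroup G) : Set G) with hNdef
  have hu5 : u ^ 5 = 1 := by rw [← hu, pow_orderOf_eq_one]
  have hinv : ∀ s ∈ N, s ^ 2 = 1 → s ≠ 1 → s * u * s⁻¹ = u⁻¹ := by
    intro s hs hs2 hs1
    obtain ⟨i, hi⟩ := (hs u).1 (mem_zpowers u)
    change u ^ i = s * u * s⁻¹ at hi
    have hii : u ^ (i * i) = u := by
      rw [zpow_mul, hi, conj_zpow, hi]
      rw [show s * (s * u * s⁻¹) * s⁻¹ = (s * s) * u * (s * s)⁻¹ by group, ← sq, hs2]
      simp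
    have hd : (5 : ℤ) ∣ (i - 1) * (i + 1) := by
      have h1 : u ^ (i * i - 1) = 1 := by rw [zpow_sub, hii, zpow_one, mul_inv_cancel]
      rw [← orderOf_dvd_iff_zpow_eq_one, hu] at h1
      rw [show (i - 1) * (i + 1) = i * i - 1 by ring]
      exact h1
    rcases (Nat.prime_iff_prime_int.mp Nat.prime_five).dvd_or_dvd hd with hd | hd
    · exfalso
      have h1 : u ^ (i - 1) = 1 := by rw [← orderOf_dvd_iff_zpow_eq_one, hu]; exact hd
      rw [zpow_sub, zpow_one, mul_inv_eq_one, hi] at h1
      have hmem : s ∈ zpowers u := by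
        rw [← hC, mem_centralizer_iff]
        rintro x ⟨k, rfl⟩
        exact ((Commute.zpow_right (mul_inv_eq_iff_eq_mul.1 h1) k).eq).symm
      have h5 : orderOf s ∣ 5 := by
        have := orderOf_dvd_natCard (⟨s, hmem⟩ : zpowers u)
        rwa [Nat.card_zpowers, hu, orderOf_mk] at this
      exact hs1 (eq_one_of_five_two (orderOf_dvd_iff_pow_eq_one.1 h5) hs2)
    · have h1 : u ^ (i + 1) = 1 := by rw [← orderOf_dvd_iff_zpow_eq_one, hu]; exact hd
      rw [zpow_add, zpow_one, hi] at h1
      exact eq_inv_of_mul_eq_one_left h1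
  obtain ⟨y, hyN, hy4, hy2⟩ : ∃ y ∈ N, y ^ 4 = 1 ∧ y ^ 2 ≠ 1 := by
    obtain ⟨T, hT⟩ := Sylow.exists_subgroup_card_pow_prime (G := N) 2 (n := 2) (by rw [hN]; norm_num)
    by_contra hno
    push Not at hno
    have hsq1 : ∀ x ∈ T, (x : G) ^ 2 = 1 := fun x hx => hno _ x.2 (by
      have h4 := orderOf_dvd_natCard (⟨x, hx⟩ : T)
      rw [hT, orderOf_mk, ← Subgroup.orderOf_coe] at h4
      exact orderOf_dvd_iff_pow_eq_one.1 (by simpa using h4))
    obtain ⟨a, b, ha, hb, ha1, hb1, hab⟩ : ∃ a b : N, a ∈ T ∧ b ∈ T ∧ a ≠ 1 ∧ b ≠ 1 ∧ a ≠ b := by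
      haveI : Fintype T := Fintype.ofFinite _
      have hc : 2 < (Finset.univ : Finset T).card := by
        rw [Finset.card_univ, ← Nat.card_eq_fintype_card, hT]; norm_num
      obtain ⟨a, b, c, -, -, -, hab, hac, hbc⟩ := Finset.two_lt_card_iff.1 hc
      by_cases ha : a = 1
      · exact ⟨b, c, b.2, c.2, fun h => hab (ha.trans (Subtype.ext h).symm),
          fun h => hac (ha.trans (Subtype.ext h).symm), fun h => hbc (Subtype.ext h)⟩
      · by_cases hb : b = 1
        · exact ⟨a, c, a.2, c.2, fun h => ha (Subtype.ext h),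
            fun h => hbc (hb.trans (Subtype.ext h).symm), fun h => hac (Subtype.ext h)⟩
        · exact ⟨a, b, a.2, b.2, fun h => ha (Subtype.ext h), fun h => hb (Subtype.ext h),
            fun h => hab (Subtype.ext h)⟩
    have hau := hinv _ a.2 (hsq1 a ha) (fun h => ha1 (Subtype.ext h))
    have hbu := hinv _ b.2 (hsq1 b hb) (fun h => hb1 (Subtype.ext h))
    have hcu : (a : G) * b * u = u * ((a : G) * b) := by
      rw [← mul_inv_eq_iff_eq_mul, show (a : G) * b * u * ((a : G) * b)⁻¹ =
        (a : G) * ((b : G) * u * (b : G)⁻¹) * (a : G)⁻¹ by group, hbu, ← conj_inv, hau, inv_inv]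
    have hmem : (a : G) * b ∈ zpowers u := by
      rw [← hC, mem_centralizer_iff]
      rintro x ⟨k, rfl⟩
      exact ((Commute.zpow_right hcu k).eq).symm
    have h5 : orderOf ((a : G) * b) ∣ 5 := by
      have := orderOf_dvd_natCard (⟨_, hmem⟩ : zpowers u)
      rwa [Nat.card_zpowers, hu, orderOf_mk] at this
    have h1 : (a : G) * b = 1 := eq_one_of_five_two (orderOf_dvd_iff_pow_eq_one.1 h5)
      (hsq1 (a * b) (T.mul_mem ha hb))
    have hbb : (b : G) * b = 1 := by rw [← sq]; exact hsq1 b hb
    exact hab (Subtype.ext (mul_right_cancel (h1.trans hbb.symm)))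
  refine ⟨y, u, hu, hy4, hy2, hC, ?_⟩
  have ht2 : (y ^ 2) ^ 2 = 1 := by rw [← pow_mul]; exact hy4
  have htN : y ^ 2 ∈ N := pow_mem hyN 2
  generalize y ^ 2 = t at hy2 ht2 htN
  have htu : t * u * t⁻¹ = u⁻¹ := hinv t htN ht2 hy2
  have htu' : ∀ k : ℕ, t * u ^ k = (u ^ k)⁻¹ * t := fun k => by
    rw [← mul_inv_eq_iff_eq_mul, ← conj_pow, htu, inv_pow]
  set I : Finset G := Finset.univ.image (fun k : Fin 5 => u ^ (k : ℕ) * t) with hIdef
  have hI5 : I.card = 5 := by
    rw [hIdef, Finset.card_image_of_injective _ (fun a b hab => ?_), Finset.card_univ,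
      Fintype.card_fin]
    exact Fin.ext (pow_injOn_Iio_orderOf (by rw [hu]; exact a.2) (by rw [hu]; exact b.2)
      (mul_right_cancel hab))
  have hIconj : ∀ s ∈ I, ∃ g, g⁻¹ * t * g = s := by
    intro s hs
    obtain ⟨k, -, rfl⟩ := Finset.mem_image.1 hs
    refine ⟨u ^ (2 * (k : ℕ)), ?_⟩
    rw [mul_assoc, htu', ← mul_assoc, ← mul_inv_rev, ← pow_add]
    congr 1
    rw [inv_eq_iff_mul_eq_one, ← pow_add,
      show 2 * (k : ℕ) + 2 * (k : ℕ) + k = 5 * k by ring, pow_mul, hu5, one_pow]
  have hiff : ∀ g : G, g⁻¹ * t * g ∈ N ↔ g⁻¹ * t * g ∈ I := by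
    intro g
    refine ⟨fun hg => ?_, fun hg => ?_⟩
    · set s := g⁻¹ * t * g with hs
      have hs1 : s ≠ 1 := fun h1 => hy2 (by
        rw [show t = g * s * g⁻¹ by rw [hs]; group, h1]; group)
      have hs2 : s ^ 2 = 1 := by
        rw [hs, sq, show g⁻¹ * t * g * (g⁻¹ * t * g) = g⁻¹ * (t * t) * g by group, ← sq t, ht2]
        group
      have hsu := hinv s hg hs2 hs1
      have hcu : s * t * u = u * (s * t) := by
        rw [← mul_inv_eq_iff_eq_mul, show s * t * u * (s * t)⁻¹ = s * (t * u * t⁻¹) * s⁻¹ by group,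
          htu, ← conj_inv, hsu, inv_inv]
      have hmem : s * t ∈ zpowers u := by
        rw [← hC, mem_centralizer_iff]
        rintro x ⟨k, rfl⟩
        exact ((Commute.zpow_right hcu k).eq).symm
      obtain ⟨k, hk, hku⟩ := Finset.mem_image.1
        (((IsOfFinOrder.mem_zpowers_iff_mem_range_orderOf (isOfFinOrder_of_finite u)).1 hmem))
      refine Finset.mem_image.2 ⟨⟨k, by rw [hu] at hk; exact Finset.mem_range.1 hk⟩,
        Finset.mem_univ _, ?_⟩
      change u ^ k * t = s
      rw [hku, mul_assoc, ← sq, ht2, mul_one]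
    · obtain ⟨k, -, hk⟩ := Finset.mem_image.1 hg
      rw [← hk]
      exact mul_mem (pow_mem (le_normalizer (mem_zpowers u)) _) htN
  have hfC := card_fixed_cosets_mul N t
  rw [Nat.card_congr (Equiv.subtypeEquivRight hiff), card_conj_mem I hIconj, hI5, hN] at hfC
  -- bound the fixed cosets
  haveI : Fintype (G ⧸ N) := Fintype.ofFinite _
  have hα : Fintype.card (G ⧸ N) = 36 := by
    have h1 := card_mul_index N
    rw [h, hN, index, Nat.card_eq_fintype_card] at h1
    omega
  have hNtop : N ≠ ⊤ := fun hh => by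
    rw [hh, Subgroup.card_top, h] at hN; norm_num at hN
  have h4 := involution_fixed_mod_four hG (MulAction.toPermHom G (G ⧸ N)) ht2
  set F := Finset.univ.filter (fun x : G ⧸ N => t • x = x) with hF
  have hFc : Nat.card {x : G ⧸ N // t • x = x} = F.card := by
    rw [Nat.card_eq_fintype_card, Fintype.card_subtype]
  rw [hFc] at hfC
  have hsupp : (MulAction.toPermHom G (G ⧸ N) t).support = Fᶜ := by
    ext x
    simp [hF, Equiv.Perm.mem_support]
  rw [hsupp, Finset.card_compl, hα] at h4
  have hPu : Nat.card {x : G ⧸ N // u • x = x} = 1 := by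
    have hf : Nat.card (zpowers u) = 5 ^ (Nat.card G).factorization 5 := by
      rw [Nat.card_zpowers, hu, h, show (720 : ℕ) = 5 * 144 from rfl,
        Nat.factorization_mul (by norm_num) (by norm_num)]
      simp [Nat.prime_five.factorization_self,
        Nat.factorization_eq_zero_of_not_dvd (by norm_num : ¬ 5 ∣ 144)]
    have h1 := (Agent.S1018.result (G := G) 5 (Sylow.ofCard (zpowers u) hf)
      (by rw [Sylow.coe_ofCard, Nat.card_zpowers, hu])).1 u hu
    rw [Sylow.coe_ofCard] at h1
    exact h1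
  have hF8 : F.card ≤ 8 := by
    set A := F.filter (fun x => ¬ u • x = x) with hA
    have hAF : F.card ≤ A.card + 1 := by
      rw [← Finset.card_filter_add_card_filter_not (s := F) (fun x => u • x = x), hA, add_comm]
      refine Nat.add_le_add_left ?_ _
      rw [← hPu, Nat.card_eq_fintype_card, Fintype.card_subtype]
      exact Finset.card_le_card (fun x hx => by simpa using (Finset.mem_filter.1 hx).2)
    have hinj : Set.InjOn (fun q : (G ⧸ N) × Fin 5 => u ^ (q.2 : ℕ) • q.1)
        ↑(A ×ˢ (Finset.univ : Finset (Fin 5))) := by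
      rintro ⟨x, k⟩ hq ⟨x', l⟩ hq' hxx
      simp only [Finset.coe_product, Set.mem_prod, Finset.mem_coe, hA, hF, Finset.mem_filter,
        Finset.mem_univ, true_and, and_true] at hq hq'
      change u ^ (k : ℕ) • x = u ^ (l : ℕ) • x' at hxx
      have hx' : x' = u ^ ((k : ℕ) + 4 * (l : ℕ)) • x := by
        rw [add_comm, pow_add, mul_smul, hxx, ← mul_smul, ← pow_add,
          show 4 * (l : ℕ) + l = 5 * l by ring, pow_mul, hu5, one_pow, one_smul]
      generalize hm : (k : ℕ) + 4 * (l : ℕ) = m at hx'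
      have h2m : u ^ (2 * m) • x = x := by
        have e1 : t • x' = x' := hq'.1
        rw [hx', ← mul_smul, htu', mul_smul, hq.1, inv_smul_eq_iff, ← mul_smul, ← pow_add,
          ← two_mul] at e1
        exact e1.symm
      have hm5 : 5 ∣ m := by
        by_contra hnd
        refine hq.2 ?_
        obtain ⟨j, hj⟩ := exists_pow_eq_self_of_coprime (x := u) (n := 2 * m) (by
          rw [hu, Nat.coprime_comm, Nat.prime_five.coprime_iff_not_dvd]
          omega)
        have hs : ∀ j : ℕ, (u ^ (2 * m)) ^ j • x = x := fun j => by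
          induction j with
          | zero => simp
          | succ j ih => rw [pow_succ, mul_smul, h2m, ih]
        rw [← hj]; exact hs j
      obtain ⟨j, hj⟩ := hm5
      rw [hj, pow_mul, hu5, one_pow, one_smul] at hx'
      exact Prod.ext hx'.symm (Fin.ext (show (k : ℕ) = (l : ℕ) by omega))
    have h5A := Finset.card_le_card_of_injOn
      (t := (Finset.univ : Finset (G ⧸ N)).filter (fun x => ¬ u • x = x))
      (fun q : (G ⧸ N) × Fin 5 => u ^ (q.2 : ℕ) • q.1) (fun q hq => ?_) hinj
    · rw [Finset.card_product, Finset.card_univ, Fintype.card_fin] at h5A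
      have hne : ((Finset.univ : Finset (G ⧸ N)).filter (fun x => ¬ u • x = x)).card = 35 := by
        rw [Finset.filter_not, Finset.card_univ_sdiff, hα, ← Fintype.card_subtype,
          ← Nat.card_eq_fintype_card, hPu]
      omega
    · simp only [Finset.coe_product, Set.mem_prod, Finset.mem_coe, hA, Finset.mem_filter,
        Finset.mem_univ, true_and, and_true] at hq
      simp only [Finset.coe_filter, Finset.mem_univ, true_and, Set.mem_setOf_eq]
      intro hc
      rw [← mul_smul, ← pow_succ', pow_succ, mul_smul, smul_left_cancel_iff] at hc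
      exact hq.2 hc
  have hFpos : 0 < F.card := Finset.card_pos.2 ⟨((1 : G) : G ⧸ N), by
    simp only [hF, Finset.mem_filter, Finset.mem_univ, true_and]
    rw [MulAction.Quotient.smul_coe, smul_eq_mul, mul_one, QuotientGroup.eq]
    simpa using N.inv_mem htN⟩
  have hdvd : Nat.card (centralizer ({t} : Set G)) ∣ 720 := h ▸ card_subgroup_dvd_card _
  obtain ⟨q, hq⟩ := h4
  rcases (by omega : F.card = 4 ∨ F.card = 8) with hc | hc <;> rw [hc] at hfC
  · omega
  · rw [show Nat.card (centralizer ({t} : Set G)) = 32 by omega] at hdvd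
    norm_num at hdvd

/-- Two Sylow `3`-subgroups of a simple group of order 720 meet trivially. -/
theorem sylow_three_inter (h : Nat.card G = 720) [Fact (Nat.Prime 3)] {P R : Sylow 3 G}
    (hPR : P ≠ R) : (P : Subgroup G) ⊓ (R : Subgroup G) = ⊥ := by
  classical
  have hG : ¬ IsMulCommutative G := not_isMulCommutative_of_card (by rw [h]; norm_num)
  by_contra hD
  obtain ⟨y, u, hu, hy4, hy2, hC5, hCt⟩ := exists_five h
  haveI : Nontrivial ↥((P : Subgroup G) ⊓ (R : Subgroup G)) := nontrivial_iff_ne_bot _ |>.2 hD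
  obtain ⟨k, hk, hDc⟩ := (IsPGroup.nontrivial_iff_card
    (P.2.to_le (inf_le_left : (P : Subgroup G) ⊓ (R : Subgroup G) ≤ P))).1 inferInstance
  obtain ⟨⟨z, hz⟩, hzo⟩ := exists_prime_orderOf_dvd_card'
    (G := ↥((P : Subgroup G) ⊓ (R : Subgroup G))) 3 (by rw [hDc]; exact dvd_pow_self 3 hk.ne')
  rw [orderOf_mk] at hzo
  set C := centralizer ({z} : Set G) with hCdef
  have hPc := card_sylow_eq (p := 3) 2 80 (by rw [h]; norm_num) (by norm_num) P
  have hRc := card_sylow_eq (p := 3) 2 80 (by rw [h]; norm_num) (by norm_num) R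
  have hle : ∀ S : Sylow 3 G, Nat.card (S : Subgroup G) = 3 ^ 2 → z ∈ (S : Subgroup G) →
      (S : Subgroup G) ≤ C := fun S hS hzS x hx => by
    have := IsPGroup.isMulCommutative_of_card_eq_prime_sq hS
    exact mem_centralizer_singleton_iff.2
      (congrArg Subtype.val (this.is_comm.comm (⟨x, hx⟩ : (S : Subgroup G)) ⟨z, hzS⟩))
  have hP := hle P hPc hz.1
  have hR := hle R hRc hz.2
  have hzne : z ≠ 1 := fun h1 => by rw [h1, orderOf_one] at hzo; omega
  have hCtop : C ≠ ⊤ := fun hh => hzne (mem_bot.1 (center_eq_bot hG ▸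
    mem_center_iff.2 fun g => mem_centralizer_singleton_iff.1 (by rw [← hCdef, hh]; exact mem_top g)))
  obtain ⟨m, hm⟩ : 9 ∣ Nat.card C := by
    have := card_dvd_of_le hP; rw [hPc] at this; simpa using this
  have hidx : m * C.index = 80 := by
    have := card_mul_index C
    rw [hm, h] at this
    linarith
  -- no element of order five centralizes `z`
  have h5 : ¬ 5 ∣ Nat.card C := by
    intro hd
    have := Fact.mk Nat.prime_five
    obtain ⟨⟨v, hv⟩, hvo⟩ := exists_prime_orderOf_dvd_card' (G := C) 5 hd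
    rw [orderOf_mk] at hvo
    have hfac : (Nat.card G).factorization 5 = 1 := by
      rw [h, show (720 : ℕ) = 5 * 144 from rfl, Nat.factorization_mul (by norm_num) (by norm_num)]
      simp [Nat.prime_five.factorization_self,
        Nat.factorization_eq_zero_of_not_dvd (by norm_num : ¬ 5 ∣ 144)]
    obtain ⟨g, hg⟩ := MulAction.exists_smul_eq G
      (Sylow.ofCard (zpowers v) (by rw [Nat.card_zpowers, hvo, hfac, pow_one]))
      (Sylow.ofCard (zpowers u) (by rw [Nat.card_zpowers, hu, hfac, pow_one]))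
    have hg' := congrArg (fun S : Sylow 5 G => (S : Subgroup G)) hg
    simp only [Sylow.coe_subgroup_smul, Sylow.coe_ofCard] at hg'
    have hgv : g * v * g⁻¹ ∈ zpowers u := by
      rw [← hg']
      have hm' := Subgroup.smul_mem_pointwise_smul v (MulAut.conj g) _ (mem_zpowers v)
      rwa [MulAut.smul_def, MulAut.conj_apply] at hm'
    have hgz : g * z * g⁻¹ ∈ centralizer ((zpowers u : Subgroup G) : Set G) := by
      rw [mem_centralizer_iff]
      intro x hx
      rw [SetLike.mem_coe] at hx
      obtain ⟨i, rfl⟩ : x ∈ zpowers (g * v * g⁻¹) := by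
        rw [Subgroup.eq_of_le_of_card_ge (zpowers_le.2 hgv) (by
          rw [Nat.card_zpowers, Nat.card_zpowers, hu,
            show orderOf (g * v * g⁻¹) = 5 from (MulEquiv.orderOf_eq (MulAut.conj g) v).trans hvo])]
        exact hx
      have hc : Commute (g * v * g⁻¹) (g * z * g⁻¹) := by
        rw [Commute.conj_iff]
        exact mem_centralizer_singleton_iff.1 hv
      exact hc.zpow_left i
    rw [hC5] at hgz
    have := orderOf_dvd_natCard (⟨_, hgz⟩ : zpowers u)
    rw [Nat.card_zpowers, hu, orderOf_mk,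
      show orderOf (g * z * g⁻¹) = 3 from (MulEquiv.orderOf_eq (MulAut.conj g) z).trans hzo] at this
    norm_num at this
  -- two Sylow 3-subgroups inside
  have hn : 1 < Nat.card (Sylow 3 C) := by
    rw [Finite.one_lt_card_iff_nontrivial]
    exact ⟨P.subtype hP, R.subtype hR, fun hc => hPR (Sylow.subtype_injective hc)⟩
  have hm3 : ¬ 3 ∣ m := fun hd => by
    have : 3 ∣ 80 := hidx ▸ hd.mul_right _
    omega
  have hnd := card_sylow_dvd 2 m (by rw [hm]; norm_num) hm3 (p := 3) (G := C)
  have hmod : Nat.card (Sylow 3 C) % 3 = 1 :=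
    Eq.trans (card_sylow_modEq_one 3 C) (Nat.mod_eq_of_lt (by norm_num))
  have hfac := two_mul_card_dvd_factorial hG hCtop
  rw [h] at hfac
  have hm80 : m ∈ Nat.divisors 80 := Nat.mem_divisors.2 ⟨Dvd.intro _ hidx, by norm_num⟩
  have hkey : C.index = 10 ∨ C.index = 20 := by
    have h5m : ¬ 5 ∣ m := fun hd => h5 (by rw [hm]; exact hd.mul_left 9)
    have hnm : Nat.card (Sylow 3 C) ∈ Nat.divisors m :=
      Nat.mem_divisors.2 ⟨hnd, fun h0 => by simp [h0] at hidx⟩
    rw [show Nat.divisors 80 = {1, 2, 4, 5, 8, 10, 16, 20, 40, 80} from by decide +kernel] at hm80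
    simp only [Finset.mem_insert, Finset.mem_singleton] at hm80
    have hdiv1 : Nat.divisors 1 = {1} := by decide
    have hdiv2 : Nat.divisors 2 = {1, 2} := by decide
    rcases hm80 with rfl | rfl | rfl | rfl | rfl | rfl | rfl | rfl | rfl | rfl <;>
      first
        | omega
        | (exfalso; rw [show C.index = 5 by omega] at hfac; exact absurd hfac (by decide))
        | (exfalso; rw [hdiv1] at hnm; simp at hnm; omega)
        | (exfalso; rw [hdiv2] at hnm; simp at hnm; omega)
  -- the element of order four acts without fixed points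
  haveI : Fintype (G ⧸ C) := Fintype.ofFinite _
  have hα : Fintype.card (G ⧸ C) = C.index := by rw [index, Nat.card_eq_fintype_card]
  have hfree : ∀ x : G ⧸ C, y ^ 2 • x ≠ x := by
    intro x
    induction x using QuotientGroup.induction_on with
    | H g =>
      rw [ne_eq, eq_comm, MulAction.Quotient.smul_coe, QuotientGroup.eq, smul_eq_mul, ← mul_assoc]
      intro hmem
      have h1 : g * z * g⁻¹ ∈ centralizer ({y ^ 2} : Set G) := by
        rw [mem_centralizer_singleton_iff]
        rw [hCdef, mem_centralizer_singleton_iff] at hmem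
        calc g * z * g⁻¹ * y ^ 2 = g * (z * (g⁻¹ * y ^ 2 * g)) * g⁻¹ := by group
          _ = y ^ 2 * (g * z * g⁻¹) := by rw [← hmem]; group
      have := orderOf_dvd_natCard (⟨_, h1⟩ : centralizer ({y ^ 2} : Set G))
      rw [hCt, orderOf_mk,
        show orderOf (g * z * g⁻¹) = 3 from (MulEquiv.orderOf_eq (MulAut.conj g) z).trans hzo] at this
      norm_num at this
  set f := MulAction.toPermHom G (G ⧸ C) with hf
  have hs2 : (f y ^ 2).support = Finset.univ := by
    ext x
    simp only [Equiv.Perm.mem_support, Finset.mem_univ, iff_true]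
    rw [← map_pow]
    exact hfree x
  have hs1 : (f y).support = Finset.univ :=
    Finset.univ_subset_iff.1 (hs2 ▸ Equiv.Perm.support_pow_le (f y) 2)
  have hcyc := cycles_of_pow_four (σ := f y) (by rw [← map_pow, hy4, map_one])
  obtain ⟨j, hj⟩ := even_add_cycles (sign_eq_one hG f y)
  rw [hs2, hs1, Finset.card_univ, hα] at hcyc
  rw [hs1, Finset.card_univ, hα] at hj
  omega

/-- No simple group has order 720. -/
theorem not_simple (h : Nat.card G = 720) : False := by
  classical
  haveI := Fintype.ofFinite G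
  have hG : ¬ IsMulCommutative G := not_isMulCommutative_of_card (by rw [h]; norm_num)
  have := Fact.mk Nat.prime_three
  have := Fact.mk Nat.prime_two
  -- there are ten Sylow 3-subgroups
  have hn10 : Nat.card (Sylow 3 G) = 10 := by
    have hd := card_sylow_dvd (p := 3) 2 80 (by rw [h]; norm_num) (by norm_num) (G := G)
    have h1 : 1 < Nat.card (Sylow 3 G) := one_lt_card_sylow hG (by rw [h]; norm_num)
    have hmod : Nat.card (Sylow 3 G) % 9 = 1 := by
      by_contra hne
      obtain ⟨P, R, hPR, hidx⟩ : ∃ P R : Sylow 3 G, P ≠ R ∧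
          ((R : Subgroup G).subgroupOf (P : Subgroup G)).index ≤ 3 := by
        obtain ⟨P⟩ := (inferInstance : Nonempty (Sylow 3 G))
        obtain ⟨R, hR, hi⟩ := exists_inter_index_le (p := 3) (k := 2) (fun hc => hne (by
          simpa [Nat.ModEq] using hc)) P
        exact ⟨P, R, hR, by simpa using hi⟩
      have h0 := card_mul_index ((R : Subgroup G).subgroupOf (P : Subgroup G))
      rw [← inf_subgroupOf_left, Nat.card_congr (subgroupOfEquivOfLe inf_le_left).toEquiv,
        sylow_three_inter h hPR, card_bot, one_mul,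
        card_sylow_eq (p := 3) 2 80 (by rw [h]; norm_num) (by norm_num) P] at h0
      rw [← inf_subgroupOf_left, sylow_three_inter h hPR] at hidx
      omega
    have key : ∀ d ∈ Nat.divisors 80, d % 9 = 1 → 1 < d → d = 10 := by decide +kernel
    exact key _ (Nat.mem_divisors.2 ⟨hd, by norm_num⟩) hmod h1
  haveI : Fintype (Sylow 3 G) := Fintype.ofFinite _
  have hα : Fintype.card (Sylow 3 G) = 10 := by rw [← Nat.card_eq_fintype_card, hn10]
  set f := MulAction.toPermHom G (Sylow 3 G) with hf
  have hinj : Function.Injective f := toPermHom_sylow_injective hG (by rw [h]; norm_num)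
  -- two-transitivity
  have hsemi : ∀ (P Q : Sylow 3 G), Q ≠ P → ∀ z ∈ (P : Subgroup G), z • Q = Q → z = 1 := by
    intro P Q hQ z hz hzQ
    have h1 : z ∈ (P : Subgroup G) ⊓ normalizer ((Q : Subgroup G) : Set G) :=
      ⟨hz, Sylow.smul_eq_iff_mem_normalizer.1 hzQ⟩
    have h2 : z ∈ (P : Subgroup G) ⊓ (Q : Subgroup G) :=
      (IsPGroup.inf_normalizer_sylow P.2 Q).le h1
    rw [sylow_three_inter h hQ.symm] at h2
    exact h2
  have hfixP : ∀ (P : Sylow 3 G), ∀ z ∈ (P : Subgroup G), z • P = P := fun P z hz =>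
    Sylow.smul_eq_iff_mem_normalizer.2 (le_normalizer hz)
  have hreach : ∀ (P Q Q' : Sylow 3 G), Q ≠ P → Q' ≠ P →
      ∃ z ∈ (P : Subgroup G), z • Q = Q' := by
    intro P Q Q' hQ hQ'
    let φ : ↥(P : Subgroup G) → {R : Sylow 3 G // R ≠ P} := fun z => ⟨(z : G) • Q, fun hh => hQ
      (smul_left_cancel (z : G) (hh.trans (hfixP P _ z.2).symm))⟩
    have hφ : Function.Injective φ := by
      intro a b hab
      have h1 : (a : G) • Q = (b : G) • Q := congrArg Subtype.val hab
      have h2 : ((b : G)⁻¹ * a) • Q = Q := by rw [mul_smul, h1, inv_smul_smul]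
      exact Subtype.ext (inv_mul_eq_one.1 (hsemi P Q hQ _
        (mul_mem (inv_mem b.2) a.2) h2)).symm
    haveI : Fintype (P : Subgroup G) := Fintype.ofFinite _
    have hcard : Fintype.card (P : Subgroup G) = Fintype.card {R : Sylow 3 G // R ≠ P} := by
      rw [Fintype.card_subtype_compl, hα, Fintype.card_subtype_eq, ← Nat.card_eq_fintype_card,
        card_sylow_eq (p := 3) 2 80 (by rw [h]; norm_num) (by norm_num) P]
      norm_num
    obtain ⟨z, hz⟩ := ((Fintype.bijective_iff_injective_and_card φ).2 ⟨hφ, hcard⟩).2 ⟨Q', hQ'⟩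
    exact ⟨z, z.2, congrArg Subtype.val hz⟩
  have htwo : ∀ P Q P' Q' : Sylow 3 G, Q ≠ P → Q' ≠ P' → ∃ g : G, g • P = P' ∧ g • Q = Q' := by
    intro P Q P' Q' hQ hQ'
    obtain ⟨g, hg⟩ := MulAction.exists_smul_eq G P P'
    obtain ⟨z, hz, hzQ⟩ := hreach P Q (g⁻¹ • Q') hQ (fun hh => hQ' (by
      rw [← hg, ← hh, smul_inv_smul]))
    exact ⟨g * z, by rw [mul_smul, hfixP P z hz, hg], by rw [mul_smul, hzQ, smul_inv_smul]⟩
  -- involutions: only the identity of a Sylow subgroup commutes with an involution fixing two points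
  have hinvol : ∀ s : G, s ^ 2 = 1 → s ≠ 1 →
      (Finset.univ.filter fun R : Sylow 3 G => s • R = R).card = 2 := by
    intro s hs2 hs1
    set F := Finset.univ.filter fun R : Sylow 3 G => s • R = R with hF
    have hsupp : (f s).support = Fᶜ := by
      ext x
      simp [hF, hf, Equiv.Perm.mem_support]
    have h4 := involution_fixed_mod_four hG f hs2
    have hpos : (f s).support.card ≠ 0 := by
      intro hh
      rw [Finset.card_eq_zero, Equiv.Perm.support_eq_empty_iff] at hh
      exact hs1 (hinj (hh.trans (map_one _).symm))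
    rw [hsupp, Finset.card_compl, hα] at h4 hpos
    have hle := F.card_le_univ
    rw [hα] at hle
    rcases (by omega : F.card = 2 ∨ F.card = 6) with hc | hc
    · exact hc
    exfalso
    obtain ⟨P, hP, Q, hQ, hne⟩ := Finset.one_lt_card.1 (by omega : 1 < F.card)
    simp only [hF, Finset.mem_filter, Finset.mem_univ, true_and] at hP hQ
    haveI : Fintype (P : Subgroup G) := Fintype.ofFinite _
    set A : Subgroup G := (P : Subgroup G) ⊓ centralizer ({s} : Set G) with hA
    have hnorm : s ∈ normalizer ((P : Subgroup G) : Set G) :=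
      Sylow.smul_eq_iff_mem_normalizer.1 hP
    let ψ : A → {R : Sylow 3 G // R ∈ F.erase P} := fun z => ⟨(z : G) • Q, by
      refine Finset.mem_erase.2 ⟨fun hh => hne.symm ?_, ?_⟩
      · rw [← hfixP P _ z.2.1] at hh; exact smul_left_cancel _ hh
      · simp only [hF, Finset.mem_filter, Finset.mem_univ, true_and]
        rw [← mul_smul, ← mem_centralizer_singleton_iff.1 z.2.2, mul_smul, hQ]⟩
    have hψ : Function.Bijective ψ := by
      refine ⟨fun a b hab => ?_, fun R => ?_⟩
      · have h1 : (a : G) • Q = (b : G) • Q := congrArg Subtype.val hab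
        have h2 : ((b : G)⁻¹ * a) • Q = Q := by rw [mul_smul, h1, inv_smul_smul]
        exact Subtype.ext (inv_mul_eq_one.1 (hsemi P Q hne.symm _
          (mul_mem (inv_mem b.2.1) a.2.1) h2)).symm
      · have hR := R.2
        simp only [hF, Finset.mem_erase, Finset.mem_filter, Finset.mem_univ, true_and] at hR
        obtain ⟨z, hz, hzQ⟩ := hreach P Q R hne.symm hR.1
        refine ⟨⟨z, hz, ?_⟩, Subtype.ext hzQ⟩
        have h1 : s * z * s⁻¹ ∈ (P : Subgroup G) := (hnorm z).1 hz
        have h2 : (z⁻¹ * (s * z * s⁻¹)) • Q = Q := by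
          rw [mul_smul, mul_smul, mul_smul, inv_smul_eq_iff.2 hQ.symm, hzQ, hR.2, inv_smul_eq_iff,
            hzQ]
        have h3 := inv_mul_eq_one.1 (hsemi P Q hne.symm _ (mul_mem (inv_mem hz) h1) h2)
        exact mem_centralizer_singleton_iff.2 (mul_inv_eq_iff_eq_mul.1 h3.symm).symm
    have hAc := Nat.card_congr (Equiv.ofBijective ψ hψ)
    rw [Nat.card_eq_fintype_card (α := {R : Sylow 3 G // R ∈ F.erase P}), Fintype.card_coe,
      Finset.card_erase_of_mem (by simp [hF, hP]), hc] at hAc
    have h9 := card_dvd_of_le (inf_le_left : A ≤ (P : Subgroup G))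
    rw [hAc, card_sylow_eq (p := 3) 2 80 (by rw [h]; norm_num) (by norm_num) P] at h9
    norm_num at h9
  have hexact : ∀ s : G, s ^ 2 = 1 → s ≠ 1 → ∀ P Q R : Sylow 3 G, Q ≠ P → s • P = P → s • Q = Q →
      s • R = R → R = P ∨ R = Q := by
    intro s h2 h1 P Q R hne hP hQ hR
    by_contra hh
    push Not at hh
    have h3 : ({P, Q, R} : Finset (Sylow 3 G)).card = 3 := by
      rw [Finset.card_insert_of_notMem (by simp [hne.symm, hh.1.symm]),
        Finset.card_insert_of_notMem (by simp [hh.2.symm]), Finset.card_singleton]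
    have := Finset.card_le_card (show ({P, Q, R} : Finset (Sylow 3 G)) ⊆
      Finset.univ.filter fun R : Sylow 3 G => s • R = R by
        intro x hx
        simp only [Finset.mem_insert, Finset.mem_singleton] at hx
        rcases hx with rfl | rfl | rfl <;> simp [*])
    rw [hinvol s h2 h1] at this
    omega
  -- the stabilizer of two points
  obtain ⟨P₀, Q₀, hQ₀⟩ : ∃ P Q : Sylow 3 G, Q ≠ P := by
    haveI : Nontrivial (Sylow 3 G) := Fintype.one_lt_card_iff_nontrivial.1 (by omega)
    obtain ⟨a, b, hab⟩ := exists_pair_ne (Sylow 3 G)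
    exact ⟨b, a, hab⟩
  set E : Subgroup G := MulAction.stabilizer G P₀ ⊓ MulAction.stabilizer G Q₀ with hE
  have memE : ∀ g : G, g ∈ E ↔ g • P₀ = P₀ ∧ g • Q₀ = Q₀ := fun g => Iff.rfl
  have hEcard : Nat.card E = 8 := by
    let π : G → {x : Sylow 3 G × Sylow 3 G // x.2 ≠ x.1} := fun g =>
      ⟨(g • P₀, g • Q₀), fun hh => hQ₀ (smul_left_cancel g hh)⟩
    have hπ : Function.Surjective π := fun x => by
      obtain ⟨g, hg1, hg2⟩ := htwo P₀ Q₀ x.1.1 x.1.2 hQ₀ x.2
      exact ⟨g, Subtype.ext (Prod.ext hg1 hg2)⟩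
    have hker : ∀ g g' : G, π g = π g' ↔ (g : G ⧸ E) = g' := fun g g' => by
      rw [QuotientGroup.eq, memE, mul_smul, mul_smul, inv_smul_eq_iff, inv_smul_eq_iff,
        Subtype.ext_iff]
      exact ⟨fun hh => ⟨(congrArg Prod.fst hh).symm, (congrArg Prod.snd hh).symm⟩,
        fun hh => Prod.ext hh.1.symm hh.2.symm⟩
    let ρ : G ⧸ E → {x : Sylow 3 G × Sylow 3 G // x.2 ≠ x.1} :=
      Quotient.lift π (fun a b hab => (hker a b).2 (Quotient.sound hab))
    have hρ : Function.Bijective ρ := ⟨fun a b => by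
      induction a using QuotientGroup.induction_on with
      | H a => induction b using QuotientGroup.induction_on with
        | H b => exact fun hab => (hker a b).1 hab,
      fun x => by obtain ⟨g, hg⟩ := hπ x; exact ⟨(g : G ⧸ E), hg⟩⟩
    have h1 := Nat.card_congr (Equiv.ofBijective ρ hρ)
    have h2 : Nat.card {x : Sylow 3 G × Sylow 3 G // x.2 ≠ x.1} = 90 := by
      rw [Nat.card_eq_fintype_card, Fintype.card_congr
        (Equiv.subtypeProdEquivSigmaSubtype fun a b : Sylow 3 G => b ≠ a), Fintype.card_sigma]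
      simp [Fintype.card_subtype_compl, hα]
    have h3 := card_mul_index E
    rw [index, h1, h2, h] at h3
    omega
  obtain ⟨⟨t, htE⟩, ht⟩ := exists_prime_orderOf_dvd_card' (G := E) 2 (by rw [hEcard]; norm_num)
  rw [orderOf_mk] at ht
  have ht2 : t ^ 2 = 1 := by rw [← ht, pow_orderOf_eq_one]
  have ht1 : t ≠ 1 := fun hh => by rw [hh, orderOf_one] at ht; omega
  have htt : t * t = 1 := by rw [← sq, ht2]
  have huniq : ∀ s ∈ E, s ^ 2 = 1 → s ≠ 1 → s = t := by
    -- an involution in `E` inverts `P₀`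
    have hinv : ∀ s ∈ E, s ^ 2 = 1 → s ≠ 1 → ∀ z ∈ (P₀ : Subgroup G), s * z * s⁻¹ = z⁻¹ := by
      intro s hs h2 h1 z hz
      obtain ⟨hsP, hsQ⟩ := (memE s).1 hs
      have hsi : s⁻¹ = s := inv_eq_of_mul_eq_one_left (by rw [← sq, h2])
      have hz' : s * z * s⁻¹ ∈ (P₀ : Subgroup G) :=
        (Sylow.smul_eq_iff_mem_normalizer.1 hsP z).1 hz
      have habP : IsMulCommutative (P₀ : Subgroup G) :=
        IsPGroup.isMulCommutative_of_card_eq_prime_sq (p := 3)
          (card_sylow_eq (p := 3) 2 80 (by rw [h]; norm_num) (by norm_num) P₀)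
      have hcomm : z * (s * z * s⁻¹) = (s * z * s⁻¹) * z :=
        congrArg Subtype.val (habP.is_comm.comm (⟨z, hz⟩ : (P₀ : Subgroup G)) ⟨_, hz'⟩)
      have hw : z * (s * z * s⁻¹) ∈ (P₀ : Subgroup G) := mul_mem hz hz'
      have hsw : s * (z * (s * z * s⁻¹)) * s⁻¹ = z * (s * z * s⁻¹) := by
        calc s * (z * (s * z * s⁻¹)) * s⁻¹ = (s * z * s⁻¹) * ((s * s) * z * (s * s)⁻¹) := by group
          _ = z * (s * z * s⁻¹) := by rw [← sq, h2, inv_one, mul_one, one_mul, hcomm]
      have hfix : s • ((z * (s * z * s⁻¹)) • Q₀) = (z * (s * z * s⁻¹)) • Q₀ := by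
        rw [← mul_smul, show s * (z * (s * z * s⁻¹)) =
          (s * (z * (s * z * s⁻¹)) * s⁻¹) * s by group, hsw, mul_smul, hsQ]
      rcases hexact s h2 h1 P₀ Q₀ _ hQ₀ hsP hsQ hfix with hh | hh
      · exfalso
        rw [← hfixP P₀ _ hw] at hh
        exact hQ₀ (smul_left_cancel _ hh)
      · exact eq_inv_of_mul_eq_one_right (hsemi P₀ Q₀ hQ₀ _ hw hh)
    intro s hs h2 h1
    have hst : s * t ∈ E := mul_mem hs htE
    have hcen : ∀ z ∈ (P₀ : Subgroup G), s * t * z = z * (s * t) := fun z hz => by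
      rw [← mul_inv_eq_iff_eq_mul, show s * t * z * (s * t)⁻¹ = s * (t * z * t⁻¹) * s⁻¹ by group,
        hinv t htE ht2 ht1 z hz, hinv s hs h2 h1 _ (inv_mem hz), inv_inv]
    have h3 : f (s * t) = f 1 := by
      rw [map_one]
      refine Equiv.ext fun R => ?_
      change (s * t) • R = R
      by_cases hR : R = P₀
      · rw [hR]; exact ((memE _).1 hst).1
      · obtain ⟨z, hz, hzR⟩ := hreach P₀ Q₀ R hQ₀ hR
        rw [← hzR, ← mul_smul, hcen z hz, mul_smul, ((memE _).1 hst).2]
    have h4 := hinj h3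
    rw [mul_eq_one_iff_eq_inv] at h4
    rw [h4, inv_eq_iff_mul_eq_one, htt]
  -- the centralizer of `t`
  set C := centralizer ({t} : Set G) with hCdef
  have memC : ∀ g : G, g ∈ C ↔ g * t * g⁻¹ = t := fun g => by
    rw [hCdef, mem_centralizer_singleton_iff, mul_inv_eq_iff_eq_mul]
  have hECle : E ≤ C := fun g hg => by
    rw [memC]
    refine huniq _ (mul_mem (mul_mem hg htE) (inv_mem hg)) ?_ ?_
    · rw [sq, show g * t * g⁻¹ * (g * t * g⁻¹) = g * (t * t) * g⁻¹ by group, htt]; group
    · intro hh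
      exact ht1 (by rw [show t = g⁻¹ * (g * t * g⁻¹) * g by group, hh]; group)
  have hCperm : ∀ g ∈ C, (g • P₀ = P₀ ∧ g • Q₀ = Q₀) ∨ (g • P₀ = Q₀ ∧ g • Q₀ = P₀) := by
    intro g hg
    have hgt := mem_centralizer_singleton_iff.1 hg
    have h1 : t • (g • P₀) = g • P₀ := by rw [← mul_smul, ← hgt, mul_smul, ((memE t).1 htE).1]
    have h2 : t • (g • Q₀) = g • Q₀ := by rw [← mul_smul, ← hgt, mul_smul, ((memE t).1 htE).2]
    rcases hexact t ht2 ht1 P₀ Q₀ _ hQ₀ ((memE t).1 htE).1 ((memE t).1 htE).2 h1 with a | a <;>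
      rcases hexact t ht2 ht1 P₀ Q₀ _ hQ₀ ((memE t).1 htE).1 ((memE t).1 htE).2 h2 with b | b
    · exact absurd (smul_left_cancel g (b.trans a.symm)) hQ₀
    · exact Or.inl ⟨a, b⟩
    · exact Or.inr ⟨a, b⟩
    · exact absurd (smul_left_cancel g (b.trans a.symm)) hQ₀
  -- an involution outside `E` commuting with `t`
  obtain ⟨w, hwC, hwE, hw2⟩ : ∃ w ∈ C, w ∉ E ∧ w * w = 1 := by
    obtain ⟨R, hR⟩ : ∃ R : Sylow 3 G, t • R ≠ R := by
      by_contra hh
      push Not at hh
      exact ht1 (hinj (show f t = f 1 by rw [map_one]; exact Equiv.ext hh))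
    obtain ⟨g, hg1, hg2⟩ := htwo P₀ Q₀ R (t • R) hQ₀ hR
    set s := g * t * g⁻¹ with hs
    have hs2 : s * s = 1 := by
      rw [hs, show g * t * g⁻¹ * (g * t * g⁻¹) = g * (t * t) * g⁻¹ by group, htt]; group
    have hs1 : s ≠ 1 := fun hh => ht1 (by rw [show t = g⁻¹ * s * g by rw [hs]; group, hh]; group)
    have hsR : s • R = R := by
      rw [hs, ← hg1, mul_smul, mul_smul, inv_smul_smul, ((memE t).1 htE).1]
    have hsR' : s • (t • R) = t • R := by
      rw [hs, ← hg2, mul_smul, mul_smul, inv_smul_smul, ((memE t).1 htE).2]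
    refine ⟨s, ?_, fun hsE => hR ?_, hs2⟩
    · have hE' : g⁻¹ * (t * s * t⁻¹) * g ∈ E := by
        rw [memE]
        have hti : t⁻¹ = t := inv_eq_of_mul_eq_one_left htt
        constructor
        · rw [mul_smul, hg1, mul_smul g⁻¹, mul_smul (t * s), hti, mul_smul t s, hsR',
            ← mul_smul t t, htt, one_smul, inv_smul_eq_iff, hg1]
        · rw [mul_smul, hg2, mul_smul g⁻¹, mul_smul (t * s), hti, ← mul_smul t t, htt, one_smul,
            mul_smul t s, hsR, inv_smul_eq_iff, hg2]
      have := huniq _ hE' (by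
        rw [sq, show g⁻¹ * (t * s * t⁻¹) * g * (g⁻¹ * (t * s * t⁻¹) * g) =
          g⁻¹ * t * (s * s) * t⁻¹ * g by group, hs2]
        group) (fun hh => hs1 (by
          rw [show s = t⁻¹ * g * (g⁻¹ * (t * s * t⁻¹) * g) * g⁻¹ * t by group, hh]; group))
      rw [hCdef, mem_centralizer_singleton_iff]
      calc s * t = (g * (g⁻¹ * (t * s * t⁻¹) * g) * g⁻¹) * t := by rw [this, ← hs]
        _ = t * s := by group
    · have hst := huniq s hsE (by rw [sq, hs2]) hs1
      rw [hst] at hsR
      exact hsR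
  have hwswap : w • P₀ = Q₀ ∧ w • Q₀ = P₀ :=
    (hCperm w hwC).resolve_left fun hh => hwE ((memE w).2 hh)
  have hCsplit : ∀ g ∈ C, g ∈ E ∨ w * g ∈ E := by
    intro g hg
    rcases hCperm g hg with hh | hh
    · exact Or.inl ((memE g).2 hh)
    · refine Or.inr ((memE _).2 ⟨?_, ?_⟩)
      · rw [mul_smul, hh.1, hwswap.2]
      · rw [mul_smul, hh.2, hwswap.1]
  have hCcard : Nat.card C = 16 := by
    have hidx : (E.subgroupOf C).index = 2 := by
      rw [index_eq_two_iff]
      refine ⟨⟨w, hwC⟩, fun b => ?_⟩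
      rw [mem_subgroupOf, mem_subgroupOf]
      change Xor ((b : G) * w ∈ E) ((b : G) ∈ E)
      rcases hCsplit (b : G) b.2 with hb | hb
      · exact Or.inr ⟨hb, fun hh => hwE (by simpa using mul_mem (inv_mem hb) hh)⟩
      · refine Or.inl ⟨?_, fun hh => hwE (by simpa using mul_mem hb (inv_mem hh))⟩
        rcases hCsplit ((b : G) * w) (mul_mem b.2 hwC) with h1 | h1
        · exact h1
        · exfalso
          have h3 : w ∈ E := by
            have := mul_mem (inv_mem hb) h1
            rwa [show (w * (b : G))⁻¹ * (w * ((b : G) * w)) = w by group] at this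
          exact hwE h3
    have := card_mul_index (E.subgroupOf C)
    rw [hidx, Nat.card_congr (subgroupOfEquivOfLe hECle).toEquiv, hEcard] at this
    exact this.symm
  -- no element of `E` has order eight
  have hpow4 : ∀ e ∈ E, e ^ 4 = 1 := by
    intro e he
    by_contra h4
    have h8 : e ^ 8 = 1 := by
      have := pow_card_eq_one' (G := E) (x := ⟨e, he⟩)
      rw [hEcard] at this
      exact congrArg Subtype.val this
    have he4 : e ^ 4 = t := huniq _ (pow_mem he 4) (by rw [← pow_mul]; exact h8) h4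
    have hFt := hinvol t ht2 ht1
    have hsupp4 : (f e ^ 4).support.card = 8 := by
      rw [← map_pow, he4, show (f t).support = (Finset.univ.filter fun R : Sylow 3 G => t • R = R)ᶜ by
        ext; simp [hf, Equiv.Perm.mem_support], Finset.card_compl, hFt, hα]
    have hsuppe : (f e).support.card = 8 := by
      refine le_antisymm ?_ (hsupp4 ▸ Finset.card_le_card (Equiv.Perm.support_pow_le (f e) 4))
      have hsub : (f e).support ⊆ (Finset.univ : Finset (Sylow 3 G)) \ {P₀, Q₀} := fun x hx => by
        simp only [Finset.mem_sdiff, Finset.mem_univ, true_and, Finset.mem_insert,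
          Finset.mem_singleton]
        rw [Equiv.Perm.mem_support] at hx
        rintro (rfl | rfl)
        · exact hx ((memE e).1 he).1
        · exact hx ((memE e).1 he).2
      refine (Finset.card_le_card hsub).trans ?_
      rw [Finset.card_univ_sdiff, hα, Finset.card_pair hQ₀.symm]
    have hmem : ∀ n ∈ (f e).cycleType, n = 2 ∨ n = 4 ∨ n = 8 := fun n hn => by
      have h1 := (Equiv.Perm.dvd_of_mem_cycleType hn).trans (orderOf_dvd_of_pow_eq_one
        (show f e ^ 8 = 1 by rw [← map_pow, h8, map_one]))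
      have h2 := Equiv.Perm.two_le_of_mem_cycleType hn
      have h3 := Nat.le_of_dvd (by norm_num) h1
      interval_cases n <;> simp_all
    have h88 := eight_mul_card_of_filter _ hmem (by
      rw [← card_support_pow_eq_sum, Equiv.Perm.sum_cycleType, hsupp4, hsuppe])
    obtain ⟨j, hj⟩ := even_add_cycles (sign_eq_one hG f e)
    rw [Equiv.Perm.sum_cycleType, hsuppe] at h88
    rw [hsuppe] at hj
    omega
  -- the involutions of `C`
  set I : Finset G := Finset.univ.filter (fun s : G => s ∈ C ∧ s * s = 1 ∧ s ≠ 1) with hI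
  have hIconj : ∀ s ∈ I, ∃ g, g⁻¹ * t * g = s := by
    intro s hs
    simp only [hI, Finset.mem_filter, Finset.mem_univ, true_and] at hs
    obtain ⟨P, hP, Q, hQ, hne⟩ := Finset.one_lt_card.1
      (by rw [hinvol s (by rw [sq]; exact hs.2.1) hs.2.2]; norm_num :
        1 < (Finset.univ.filter fun R : Sylow 3 G => s • R = R).card)
    simp only [Finset.mem_filter, Finset.mem_univ, true_and] at hP hQ
    obtain ⟨g, hg1, hg2⟩ := htwo P₀ Q₀ P Q hQ₀ hne.symm
    refine ⟨g⁻¹, ?_⟩
    have hE' : g⁻¹ * s * g ∈ E := by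
      rw [memE]
      constructor
      · rw [mul_smul, hg1, mul_smul, hP, ← hg1, inv_smul_smul]
      · rw [mul_smul, hg2, mul_smul, hQ, ← hg2, inv_smul_smul]
    rw [← huniq _ hE' (by
      rw [sq, show g⁻¹ * s * g * (g⁻¹ * s * g) = g⁻¹ * (s * s) * g by group, hs.2.1]; group)
      (fun hh => hs.2.2 (by rw [show s = g * (g⁻¹ * s * g) * g⁻¹ by group, hh]; group))]
    group
  have hIiff : ∀ g : G, g⁻¹ * t * g ∈ C ↔ g⁻¹ * t * g ∈ I := fun g => by
    simp only [hI, Finset.mem_filter, Finset.mem_univ, true_and]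
    refine ⟨fun hh => ⟨hh, ?_, fun h1 => ht1 ?_⟩, And.left⟩
    · rw [show g⁻¹ * t * g * (g⁻¹ * t * g) = g⁻¹ * (t * t) * g by group, htt]; group
    · rw [show t = g * (g⁻¹ * t * g) * g⁻¹ by group, h1]; group
  have hCtop : C ≠ ⊤ := fun hh => by rw [hh, Subgroup.card_top, h] at hCcard; norm_num at hCcard
  have hImod : I.card % 4 = 1 := by
    haveI : Fintype (G ⧸ C) := Fintype.ofFinite _
    have hα' : Fintype.card (G ⧸ C) = 45 := by
      have h1 := card_mul_index C
      rw [h, hCcard, index, Nat.card_eq_fintype_card] at h1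
      omega
    have hf' := card_fixed_cosets_mul C t
    rw [Nat.card_congr (Equiv.subtypeEquivRight hIiff), card_conj_mem I hIconj, ← hCdef, hCcard,
      Nat.card_eq_fintype_card, Fintype.card_subtype] at hf'
    have h4 := involution_fixed_mod_four hG (MulAction.toPermHom G (G ⧸ C)) ht2
    rw [show (MulAction.toPermHom G (G ⧸ C) t).support =
      (Finset.univ.filter fun x : G ⧸ C => t • x = x)ᶜ by ext; simp [Equiv.Perm.mem_support],
      Finset.card_compl, hα'] at h4
    have hle := Finset.card_le_univ (Finset.univ.filter fun x : G ⧸ C => t • x = x)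
    rw [hα'] at hle
    omega
  -- the elements of `E` inverted by `w`
  have hwt : w * t = t * w := mem_centralizer_singleton_iff.1 hwC
  have htcen : ∀ e ∈ E, e * t = t * e := fun e he => mem_centralizer_singleton_iff.1 (hECle he)
  have hord4 : ∀ e ∈ E, e ≠ 1 → e ≠ t → e * e = t := fun e he h1 h2 => by
    refine huniq _ (mul_mem he he) ?_ ?_
    · rw [← sq e, ← pow_mul]; exact hpow4 e he
    · exact fun hh => h2 (huniq e he (by rw [sq, hh]) h1)
  have hinvE : ∀ e ∈ E, e ≠ 1 → e ≠ t → e⁻¹ = e * t := fun e he h1 h2 =>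
    inv_eq_of_mul_eq_one_right (by rw [← mul_assoc, hord4 e he h1 h2, htt])
  have hwno : ∀ e ∈ E, e ≠ 1 → e ≠ t → w * e * w ≠ e := fun e he h1 h2 hh => by
    -- `w` would permute the two fixed points of `e`, and a fixed point of `w` is one of them
    have hcomm : e * w = w * e := by
      calc e * w = w * e * w * w := by rw [hh]
        _ = w * e * (w * w) := by group
        _ = w * e := by rw [hw2, mul_one]
    have hw1 : w ≠ 1 := fun h' => hwE (h' ▸ one_mem E)
    obtain ⟨A, hA, B, hB, hAB⟩ := Finset.one_lt_card.1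
      (by rw [hinvol w (by rw [sq]; exact hw2) hw1]; norm_num :
        1 < (Finset.univ.filter fun R : Sylow 3 G => w • R = R).card)
    simp only [Finset.mem_filter, Finset.mem_univ, true_and] at hA hB
    have hw' : w ^ 2 = 1 := by rw [sq]; exact hw2
    have hA' : w • (e • A) = e • A := by rw [← mul_smul, ← hcomm, mul_smul, hA]
    have hA'' : w • (e • e • A) = e • e • A := by
      rw [← mul_smul w e, ← hcomm, mul_smul, hA']
    have hfix : t • A = A := by
      rw [← hord4 e he h1 h2, mul_smul]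
      rcases hexact w hw' hw1 A B _ hAB.symm hA hB hA' with hh' | hh'
      · rw [hh', hh']
      · rcases hexact w hw' hw1 A B _ hAB.symm hA hB hA'' with hh'' | hh''
        · exact hh''
        · rw [hh'] at hh''
          exact absurd (smul_left_cancel e (hh''.trans hh'.symm)) hAB.symm
    rcases hexact t ht2 ht1 P₀ Q₀ A hQ₀ ((memE t).1 htE).1 ((memE t).1 htE).2 hfix with hh' | hh'
    · rw [hh', hwswap.1] at hA; exact hQ₀ hA
    · rw [hh', hwswap.2] at hA; exact hQ₀ hA.symm
  -- the involutions outside `E`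
  have hIsplit : ∀ s ∈ I, s = t ∨ ∃ x ∈ E, s = w * x ∧ w * x * w = x⁻¹ := by
    intro s hs
    simp only [hI, Finset.mem_filter, Finset.mem_univ, true_and] at hs
    rcases hCsplit s hs.1 with hsE | hsE
    · exact Or.inl (huniq s hsE (by rw [sq]; exact hs.2.1) hs.2.2)
    · exact Or.inr ⟨w * s, hsE, by rw [← mul_assoc, hw2, one_mul], eq_inv_of_mul_eq_one_left (by
        calc w * (w * s) * w * (w * s) = (w * w) * s * (w * w) * s := by group
          _ = 1 := by rw [hw2, one_mul, mul_one, hs.2.1])⟩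
  obtain ⟨e, he, hwe, he1, het⟩ : ∃ e ∈ E, w * e * w = e⁻¹ ∧ e ≠ 1 ∧ e ≠ t := by
    by_contra hno
    push Not at hno
    have hw1 : w ≠ 1 := fun h' => hwE (h' ▸ one_mem E)
    have hsub : I = {t, w, w * t} := by
      refine Finset.Subset.antisymm (fun s hs => ?_) (fun s hs => ?_)
      · simp only [Finset.mem_insert, Finset.mem_singleton]
        rcases hIsplit s hs with hh | ⟨x, hxE, rfl, hinv⟩
        · exact Or.inl hh
        · by_cases hx : x = 1
          · exact Or.inr (Or.inl (by rw [hx, mul_one]))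
          · exact Or.inr (Or.inr (by rw [hno x hxE hinv hx]))
      · simp only [Finset.mem_insert, Finset.mem_singleton] at hs
        simp only [hI, Finset.mem_filter, Finset.mem_univ, true_and]
        rcases hs with rfl | rfl | rfl
        · exact ⟨hECle htE, htt, ht1⟩
        · exact ⟨hwC, hw2, hw1⟩
        · refine ⟨mul_mem hwC (hECle htE), ?_, fun hh => hwE ?_⟩
          · calc w * t * (w * t) = w * (t * w) * t := by group
              _ = 1 := by rw [← hwt, ← mul_assoc w w t, hw2, one_mul, htt]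
          · rw [mul_eq_one_iff_eq_inv] at hh; rw [hh]; exact inv_mem htE
    have h3 : I.card = 3 := by
      rw [hsub]
      refine Finset.card_eq_three.2 ⟨t, w, w * t, fun hh : t = w => hwE (hh ▸ htE), fun hh : t = w * t => hwE ?_,
        fun hh : w = w * t => ht1 ?_, rfl⟩
      · have := mul_mem htE htE
        rwa [congrArg (· * t) hh, mul_assoc, htt, mul_one] at this
      · exact mul_left_cancel (by rw [mul_one]; exact hh.symm : w * t = w * 1)
    omega
  -- the subgroup generated by the involutions of `C`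
  set K := zpowers e with hK
  have hKcard : Nat.card K = 4 := by
    rw [hK, Nat.card_zpowers]
    refine (Nat.dvd_prime_pow Nat.prime_two).1 (orderOf_dvd_of_pow_eq_one (hpow4 e he) :
      orderOf e ∣ 2 ^ 2) |>.elim fun k hk => ?_
    obtain ⟨hk2, hk⟩ := hk
    interval_cases k
    · exact absurd (orderOf_eq_one_iff.1 (by rw [hk]; rfl)) he1
    · exact absurd (huniq e he (orderOf_dvd_iff_pow_eq_one.1 (by rw [hk]; rfl)) he1) het
    · rw [hk]; rfl
  have hKE : K ≤ E := zpowers_le.2 he
  have hwi : w⁻¹ = w := inv_eq_of_mul_eq_one_left hw2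
  have hwK : zpowers w ≤ normalizer (K : Set G) := by
    rw [zpowers_le]
    refine mem_normalizer_iff.2 fun x => ?_
    have hc : ∀ x ∈ K, w * x * w⁻¹ ∈ K := by
      rintro x ⟨i, rfl⟩
      change w * e ^ i * w⁻¹ ∈ K
      rw [← conj_zpow, hwi, hwe]
      exact zpow_mem (inv_mem (mem_zpowers e)) i
    refine ⟨hc x, fun hx => ?_⟩
    have := hc _ hx
    rwa [show w * (w * x * w⁻¹) * w⁻¹ = (w * w) * x * (w * w)⁻¹ by group, hw2, one_mul, inv_one,
      mul_one] at this
  have hKw : K ⊓ zpowers w = ⊥ := by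
    rw [eq_bot_iff]
    rintro x ⟨hx1, hx2⟩
    obtain ⟨i, rfl⟩ := hx2
    change w ^ i = 1
    rcases Int.even_or_odd i with ⟨j, rfl⟩ | ⟨j, rfl⟩
    · rw [← two_mul, zpow_mul, show w ^ (2 : ℤ) = w * w from zpow_two w, hw2, one_zpow]
    · exfalso
      refine hwE ?_
      have hxx : w ^ (2 * j + 1) ∈ K := hx1
      rw [zpow_add_one, zpow_mul, show w ^ (2 : ℤ) = w * w from zpow_two w, hw2, one_zpow,
        one_mul] at hxx
      exact hKE hxx
  set W := K ⊔ zpowers w with hW
  have hWcard : Nat.card W = 8 := by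
    rw [hW, card_sup_of_normalizes hwK hKw, hKcard, Nat.card_zpowers,
      orderOf_eq_prime (by rw [sq]; exact hw2) (fun h' : w = 1 => hwE (h' ▸ one_mem E))]
  have hmemW : ∀ x ∈ W, x ∈ K ∨ w * x ∈ K ∧ x ∉ E := by
    intro x hx
    have hx' : x ∈ ((K ⊔ zpowers w : Subgroup G) : Set G) := hx
    rw [coe_mul_of_right_le_normalizer_left K _ hwK] at hx'
    obtain ⟨a, ha, b, ⟨i, rfl⟩, rfl⟩ := hx'
    change a * w ^ i ∈ K ∨ w * (a * w ^ i) ∈ K ∧ a * w ^ i ∉ E
    rcases Int.even_or_odd i with ⟨j, rfl⟩ | ⟨j, rfl⟩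
    · left
      rwa [← two_mul, zpow_mul, show w ^ (2 : ℤ) = w * w from zpow_two w, hw2, one_zpow, mul_one]
    · right
      rw [zpow_add_one, zpow_mul, show w ^ (2 : ℤ) = w * w from zpow_two w, hw2, one_zpow, one_mul]
      refine ⟨?_, fun hh => hwE ?_⟩
      · have hwn : w ∈ normalizer (K : Set G) := hwK (mem_zpowers w)
        have := (mem_normalizer_iff.1 hwn a).1 ha
        rwa [hwi, mul_assoc] at this
      · have := mul_mem (inv_mem (hKE ha)) hh
        rwa [inv_mul_cancel_left] at this
  have hIW : ∀ s ∈ I, s ∈ W := by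
    intro s hs
    have htK : t ∈ K := hord4 e he he1 het ▸ mul_mem (mem_zpowers e) (mem_zpowers e)
    rcases hIsplit s hs with rfl | ⟨x, hxE, rfl, hinv⟩
    · exact le_sup_left (b := zpowers w) htK
    · refine mul_mem (le_sup_right (a := K) (mem_zpowers w)) (le_sup_left (b := zpowers w) ?_)
      by_cases hx1 : x = 1
      · rw [hx1]; exact K.one_mem
      by_cases hxt : x = t
      · rw [hxt]; exact htK
      by_contra hxK
      -- `w` centralizes `e x`
      have hex : w * (e * x) * w = e * x := by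
        calc w * (e * x) * w = w * e * (w * w) * x * w := by rw [hw2, mul_one, mul_assoc w e x]
          _ = (w * e * w) * (w * x * w) := by group
          _ = e * x := by
            rw [hwe, hinv, hinvE e he he1 het, hinvE x hxE hx1 hxt,
              show e * t * (x * t) = e * (t * x) * t by group, ← htcen x hxE,
              show e * (x * t) * t = e * x * (t * t) by group, htt, mul_one]
      refine hwno (e * x) (mul_mem he hxE) (fun hh => hxK ?_) (fun hh => hxK ?_) hex
      · rw [mul_eq_one_iff_inv_eq] at hh; rw [← hh]; exact inv_mem (mem_zpowers e)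
      · rw [show x = e⁻¹ * (e * x) by group, hh]; exact mul_mem (inv_mem (mem_zpowers e)) htK
  -- an element of order four outside `W`
  obtain ⟨y, hyE, hyK⟩ : ∃ y ∈ E, y ∉ K := by
    by_contra hh
    push Not at hh
    have := card_dvd_of_le (show E ≤ K from hh)
    rw [hEcard, hKcard] at this
    norm_num at this
  have hy1 : y ≠ 1 := fun hh => hyK (hh ▸ K.one_mem)
  have hyt : y ≠ t := fun hh => hyK (by
    rw [hh, ← hord4 e he he1 het]; exact mul_mem (mem_zpowers e) (mem_zpowers e))
  have hyy : y * y = t := hord4 y hyE hy1 hyt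
  have hIW' : ∀ g : G, g⁻¹ * t * g ∈ W ↔ g⁻¹ * t * g ∈ I := fun g => by
    refine ⟨fun hh => (hIiff g).1 ?_, hIW _⟩
    have hWC : W ≤ C := sup_le (hKE.trans hECle) (zpowers_le.2 hwC)
    exact hWC hh
  have hWtop : W ≠ ⊤ := fun hh => by rw [hh, Subgroup.card_top, h] at hWcard; norm_num at hWcard
  haveI : Fintype (G ⧸ W) := Fintype.ofFinite _
  have hα'' : Fintype.card (G ⧸ W) = 90 := by
    have h1 := card_mul_index W
    rw [h, hWcard, index, Nat.card_eq_fintype_card] at h1
    omega
  have hfW := card_fixed_cosets_mul W t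
  rw [Nat.card_congr (Equiv.subtypeEquivRight hIW'), card_conj_mem I hIconj, ← hCdef, hCcard,
    hWcard, Nat.card_eq_fintype_card, Fintype.card_subtype] at hfW
  have hfree : ∀ x : G ⧸ W, y • x ≠ x := by
    intro x
    induction x using QuotientGroup.induction_on with
    | H g =>
      rw [ne_eq, eq_comm, MulAction.Quotient.smul_coe, QuotientGroup.eq, smul_eq_mul, ← mul_assoc]
      intro hmem
      set z := g⁻¹ * y * g with hz
      have hzz : z * z = g⁻¹ * t * g := by
        rw [hz, show g⁻¹ * y * g * (g⁻¹ * y * g) = g⁻¹ * (y * y) * g by group, hyy]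
      rcases hmemW z hmem with hzK | ⟨hzK, hzE⟩
      · have hzsq : z * z = t := by
          refine hord4 z (hKE hzK) (fun hh => hy1 ?_) (fun hh => ?_)
          · rw [show y = g * z * g⁻¹ by rw [hz]; group, hh]; group
          · rw [hh, htt] at hzz
            exact ht1 (by rw [show t = g * (g⁻¹ * t * g) * g⁻¹ by group, ← hzz]; group)
        have hgC : g ∈ C := by
          rw [memC]
          calc g * t * g⁻¹ = g * (g⁻¹ * t * g) * g⁻¹ := by rw [← hzz, hzsq]
            _ = t := by group
        -- `C` normalizes `K`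
        have hnC : ∀ c ∈ C, ∀ x ∈ K, c * x * c⁻¹ ∈ K := by
          have hnE : ∀ c ∈ E, ∀ x ∈ K, c * x * c⁻¹ ∈ K := by
            have hidx : (K.subgroupOf E).index = 2 := by
              have := card_mul_index (K.subgroupOf E)
              rw [Nat.card_congr (subgroupOfEquivOfLe hKE).toEquiv, hKcard, hEcard] at this
              omega
            have hn := normal_of_index_eq_two hidx
            exact fun c hc x hx => hn.conj_mem ⟨x, hKE hx⟩ hx ⟨c, hc⟩
          intro c hc x hx
          rcases hCsplit c hc with hcE | hcE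
          · exact hnE c hcE x hx
          · have h1 := hnE _ hcE x hx
            have h2 := (mem_normalizer_iff.1 (hwK (mem_zpowers w)) _).1 h1
            rwa [hwi, show w * (w * c * x * (w * c)⁻¹) * w = (w * w) * (c * x * c⁻¹) * (w⁻¹ * w) by
              group, hw2, one_mul, inv_mul_cancel, mul_one] at h2
        refine hyK ?_
        have := hnC g hgC z hzK
        rwa [show g * z * g⁻¹ = y by rw [hz]; group] at this
      · -- elements of `W` outside `E` are involutions
        obtain ⟨i, hi⟩ := hzK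
        change e ^ i = w * z at hi
        have hzw : z = w * e ^ i := by rw [hi, ← mul_assoc, hw2, one_mul]
        have : z * z = 1 := by
          calc z * z = (w * e ^ i * w⁻¹) * e ^ i := by rw [hzw, hwi]; group
            _ = 1 := by rw [← conj_zpow, hwi, hwe, inv_zpow, inv_mul_cancel]
        rw [this] at hzz
        exact ht1 (by rw [show t = g * (g⁻¹ * t * g) * g⁻¹ by group, ← hzz]; group)
  set fW := MulAction.toPermHom G (G ⧸ W) with hfWdef
  have hs1 : (fW y).support = Finset.univ := by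
    ext x
    simp only [Equiv.Perm.mem_support, Finset.mem_univ, iff_true]
    exact hfree x
  have hs2 : (fW y ^ 2).support = (Finset.univ.filter fun x : G ⧸ W => t • x = x)ᶜ := by
    rw [← map_pow, sq, hyy]
    ext x
    simp [hfWdef, Equiv.Perm.mem_support]
  have hcyc := cycles_of_pow_four (σ := fW y) (by
    rw [← map_pow, show y ^ 4 = y * y * (y * y) by simp [pow_succ, mul_assoc], hyy, htt, map_one])
  obtain ⟨j, hj⟩ := even_add_cycles (sign_eq_one hG fW y)
  rw [hs2, hs1, Finset.card_univ, Finset.card_compl, hα''] at hcyc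
  rw [hs1, Finset.card_univ, hα''] at hj
  have hle := Finset.card_le_univ (Finset.univ.filter fun x : G ⧸ W => t • x = x)
  rw [hα''] at hle
  omega

end CfsgLib.Small.Order720
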