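import Cfsg.Agent.Lib.Small.TwoPowerTwoPrimes
import Cfsg.Agent.Lib.Chars.Integral
import Cfsg.Agent.Lib.FT.OddOrderTheorem

/-!
# Simple groups of order `15 · 2 ^ b`, and of order `p r q ^ b`
-/

set_option autoImplicit false

open Cfsg CfsgLib.Chars CfsgLib.CharApps

namespace CfsgLib.Small

universe u

variable {G : Type u} [Group G] [Finite G] [IsSimpleGroup G]

theorem card_fifteen_two_pow (hG : ¬ IsMulCommutative G) {b : ℕ}
    (hcard : Nat.card G = 3 * 5 * 2 ^ b) : Nat.card G = 60 := by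
  classical
  haveI := Fintype.ofFinite G
  haveI := irrFintype G
  haveI : Fact (Nat.Prime 5) := ⟨Nat.prime_five⟩
  haveI : Fact (Nat.Prime 2) := ⟨Nat.prime_two⟩
  have hcard5 : Nat.card G = 3 ^ 1 * 2 ^ b * 5 := by rw [hcard, pow_one]; ring
  have hb : b ≠ 0 := fun h => by
    haveI : Group.IsSolvable G := CfsgLib.FT.isSolvable_of_odd (by rw [hcard, h]; decide)
    exact hG ⟨⟨fun x y => IsSimpleGroup.comm_iff_isSolvable.2 inferInstance x y⟩⟩
  obtain ⟨P, e, hP, he, he1, hed, hen, hmod, -⟩ :=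
    exists_index_three_prime hG Nat.prime_three Nat.prime_two (by norm_num) (by norm_num) hcard5
  rw [pow_one] at hen
  have hC : Subgroup.centralizer ((P : Subgroup G) : Set G) = (P : Subgroup G) :=
    CfsgLib.Blocks.centralizer_sylow_three_prime Nat.prime_three Nat.prime_two (by norm_num)
      (by norm_num) hcard5 P
  have he24 : e = 2 ∨ e = 4 := by
    have := Nat.le_of_dvd (by norm_num) hed
    interval_cases e <;> omega
  -- degree relation in the principal block at 5
  obtain ⟨M, hM⟩ := CharApps.exists_pModular 5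
  haveI := hM.2.1.isPrime
  obtain ⟨χ, hχ1, k, hk⟩ := (Agent.S4500.result 5 3 2 1 1 b Nat.prime_five Nat.prime_three
    Nat.prime_two (by norm_num) (by norm_num) (by norm_num) (by norm_num)
    (by rw [hcard, pow_one, pow_one])).1
  have hχne : χ ≠ principal G := fun h => hχ1 (h ▸ funext fun g => principal_apply g)
  have hd1 : 1 < charDegree (χ : G → ℂ) := by
    have := CfsgLib.Blocks.charDegree_pos χ
    by_contra h
    exact hχne (eq_of_degree_one hG (by omega)
      ((deg_eq_one_iff (principal G)).mp (principal_apply _)))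
  have hdχ : charDegree (χ : G → ℂ) = 3 := by
    have hd := charDegree_dvd_card χ
    rw [hk] at hd hd1 ⊢
    rcases k with _ | _ | k
    · simp at hd1
    · simp
    · exfalso
      have h9 : 3 * 3 ∣ 3 * (5 * 2 ^ b) := by
        refine dvd_trans ?_ (show 3 ^ (k + 1 + 1) ∣ 3 * (5 * 2 ^ b) by rw [← mul_assoc, ← hcard]; exact hd)
        rw [pow_succ, pow_succ, mul_assoc]
        exact dvd_mul_left _ _
      rcases Nat.prime_three.dvd_mul.1 (Nat.dvd_of_mul_dvd_mul_left (by norm_num) h9) with h | h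
      · norm_num at h
      · have := Nat.prime_three.dvd_of_dvd_pow h
        norm_num at this
  have hχB : χ ∈ principalBlock M G :=
    mem_principalBlock_of_selfCentral hM P hP hC χ (by rw [hdχ]; norm_num)
  obtain ⟨X, Y, hB, hdisj, hX, hY, εX, ε, hXp, hε, hYdeg, hYeq, hrel⟩ :=
    Agent.S4441.result 5 M hM (by norm_num) P hP e he
  have hχY : χ ∈ Y := by
    rw [hB] at hχB
    refine hχB.resolve_left fun h => ?_
    have h1 := (hXp χ h).2.1
    rw [hdχ] at h1
    rcases (hXp χ h).1 with h' | h' <;> rw [h'] at h1 <;> exact absurd h1 (by decide)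
  have he2 : e = 2 ∧ ε = -1 := by
    have h1 := hYdeg χ hχY
    rw [hdχ] at h1
    rcases he24 with rfl | rfl <;> rcases hε with rfl | rfl
    · exact absurd h1 (by decide)
    · exact ⟨rfl, rfl⟩
    · exact absurd h1 (by decide)
    · exact absurd h1 (by decide)
  obtain ⟨rfl, rfl⟩ := he2
  have hprin : principal G ∈ X := by
    have hmem : principal G ∈ X ∪ Y := hB ▸ CfsgLib.Blocks.principal_mem_principalBlock M
    refine hmem.resolve_right fun h => ?_
    have h1 := hYeq _ h χ hχY 1 (by rw [orderOf_one]; norm_num)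
    rw [principal_apply, deg_eq, hdχ] at h1
    norm_num at h1
  obtain ⟨ξ, hξX, hξu⟩ : ∃ ξ ∈ X, ξ ≠ principal G := by
    obtain ⟨z, hz, -⟩ := (Nat.card_eq_two_iff' (⟨principal G, hprin⟩ : X)).1 hX
    exact ⟨z.1, z.2, fun h => hz (Subtype.ext h)⟩
  have hXeq : X = {principal G, ξ} := by
    refine Set.Subset.antisymm (fun z hz => ?_) (Set.insert_subset hprin (Set.singleton_subset_iff.2 hξX))
    by_contra hne
    simp only [Set.mem_insert_iff, Set.mem_singleton_iff, not_or] at hne
    have := ((Nat.card_eq_two_iff' (⟨principal G, hprin⟩ : X)).1 hX).unique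
      (y₁ := ⟨z, hz⟩) (y₂ := ⟨ξ, hξX⟩) (fun h => hne.1 (congrArg Subtype.val h))
      (fun h => hξu (congrArg Subtype.val h))
    exact hne.2 (congrArg Subtype.val this)
  have hεp : εX (principal G) = 1 := by
    have h1 := (hXp _ hprin).2.1
    rw [(deg_eq_one_iff (principal G)).mp (principal_apply _), Nat.cast_one] at h1
    refine (hXp _ hprin).1.resolve_right fun h => ?_
    rw [h] at h1
    exact absurd h1 (by decide)
  have hrel' : ∀ θ ∈ Y, ∀ g : G, ¬ 5 ∣ orderOf g →
      -(θ : G → ℂ) g = 1 + (εX ξ : ℂ) * (ξ : G → ℂ) g := by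
    intro θ hθ g hg
    have h := hrel θ hθ g hg
    rw [hXeq, finsum_mem_pair (Ne.symm hξu), hεp, principal_apply] at h
    simpa using h
  have h15 : ¬ 5 ∣ orderOf (1 : G) := by rw [orderOf_one]; norm_num
  have hθdeg : ∀ θ ∈ Y, (θ : G → ℂ) 1 = 3 := by
    intro θ hθ
    rw [hYeq θ hθ χ hχY 1 h15, deg_eq, hdχ]
    norm_num
  have hεξ : εX ξ = -1 ∧ (ξ : G → ℂ) 1 = 4 := by
    have h := hrel' χ hχY 1 h15
    rw [hθdeg χ hχY, deg_eq] at h
    have h' : ((εX ξ * charDegree (ξ : G → ℂ) : ℤ) : ℂ) = ((-4 : ℤ) : ℂ) := by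
      push_cast; linear_combination -h
    have h'' := Int.cast_injective h'
    rcases (hXp ξ hξX).1 with h1 | h1 <;> rw [h1] at h''
    · omega
    · refine ⟨h1, ?_⟩
      rw [deg_eq, show charDegree (ξ : G → ℂ) = 4 by omega]
      norm_num
  obtain ⟨hεξ, hξdeg⟩ := hεξ
  -- an element of order 5
  obtain ⟨⟨x, hxP⟩, hx⟩ := exists_prime_orderOf_dvd_card' (G := (P : Subgroup G)) 5 (by rw [hP])
  rw [Subgroup.orderOf_mk] at hx
  have hx1 : x ≠ 1 := fun h => by rw [h, orderOf_one] at hx; norm_num at hx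
  have hPx : Subgroup.zpowers x = (P : Subgroup G) :=
    CfsgLib.Blocks.zpowers_eq_of_prime_card hP hxP hx1
  have hCx : Nat.card (Subgroup.centralizer ({x} : Set G)) = 5 := by
    rw [← Subgroup.centralizer_closure, ← Subgroup.zpowers_eq_closure, hPx, hC, hP]
  set Yf : Finset (IrrCharacter G) := (Set.toFinite Y).toFinset with hYf
  have hYc : Yf.card = 2 := by
    rw [hYf, ← Nat.card_eq_card_finite_toFinset, hY]
  have hsupp : ∀ w : IrrCharacter G → ℂ, (∀ ψ : IrrCharacter G, (ψ : G → ℂ) x = 0 → w ψ = 0) →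
      ∑ ψ, w ψ = w (principal G) + (w ξ + ∑ θ ∈ Yf, w θ) := by
    intro w hw
    have hpY : principal G ∉ Yf := fun h => Set.disjoint_left.1 hdisj hprin (by simpa [hYf] using h)
    have hξY : ξ ∉ Yf := fun h => Set.disjoint_left.1 hdisj hξX (by simpa [hYf] using h)
    rw [← Finset.sum_subset (Finset.subset_univ (insert (principal G) (insert ξ Yf))) (fun ψ _ h => ?_),
      Finset.sum_insert (by simp [hpY, Ne.symm hξu]), Finset.sum_insert hξY]
    refine hw ψ ?_
    have hnot : ψ ∉ principalBlock M G := by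
      rw [hB, hXeq]
      simpa [hYf, or_assoc] using h
    by_contra hne
    -- characters outside the principal block have degree divisible by 5 and vanish at `x`
    have hnorm := principal_column_norm hM (z := x) ⟨1, by rw [pow_one, hx]⟩
    have h3 := (CfsgLib.Blocks.principal_column hM P (CfsgLib.Blocks.comm_of_prime_card hP)
      (CfsgLib.Blocks.free_of_prime_card hP) hxP hx1).2.2
    rw [Subgroup.zpowers_eq_closure, Subgroup.centralizer_closure, hP, blockCoeff, ← mul_assoc,
      mul_inv_cancel₀ (CfsgLib.Chars.card_ne_zero _), one_mul] at h3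
    haveI := irrFintype (Subgroup.centralizer ({x} : Set G))
    have hBn : ∑ᶠ χ ∈ principalBlock M G, (χ : G → ℂ) x * starRingEnd ℂ ((χ : G → ℂ) x) = (5 : ℂ) := by
      rw [hnorm, show (5 : ℂ) = ((5 : ℕ) : ℂ) by norm_num, ← h3,
        finsum_mem_eq_finite_toFinset_sum _ (Set.toFinite _),
        finsum_mem_eq_finite_toFinset_sum _ (Set.toFinite _), Nat.cast_sum]
      refine Finset.sum_congr rfl fun χ _ => ?_
      rw [conj_deg, deg_eq, sq, Nat.cast_mul]
    have hall := second_orthogonality x x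
    rw [if_pos (IsConj.refl x), hCx, ← Finset.sum_add_sum_compl (Set.toFinite (principalBlock M G)).toFinset,
      ← finsum_mem_eq_finite_toFinset_sum _ (Set.toFinite _), hBn, Nat.cast_ofNat, add_eq_left] at hall
    have h0 : ∑ χ ∈ (Set.toFinite (principalBlock M G)).toFinsetᶜ,
        Complex.normSq ((χ : G → ℂ) x) = 0 := by
      simp only [Complex.mul_conj] at hall
      exact_mod_cast hall
    exact hne (Complex.normSq_eq_zero.1 ((Finset.sum_eq_zero_iff_of_nonneg
      fun a _ => Complex.normSq_nonneg _).1 h0 ψ (by simpa using hnot)))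
  have hξx : (ξ : G → ℂ) x = -1 := by
    have h := (hXp ξ hξX).2.2 x hxP hx1 1 (one_mem _) h15
    rw [mul_one, hεξ] at h
    simpa using h
  have hS : ∑ θ ∈ Yf, starRingEnd ℂ ((θ : G → ℂ) x) = 1 := by
    have h := second_orthogonality (G := G) 1 x
    rw [if_neg (fun hc => hx1 (isConj_one_left.1 hc)), hsupp _ (fun ψ h => by rw [h, map_zero, mul_zero]),
      hξdeg, hξx, principal_apply, principal_apply, map_one, map_neg, map_one,
      Finset.sum_congr rfl fun θ h => by rw [hθdeg θ (by simpa [hYf] using h)], ← Finset.mul_sum] at h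
    linear_combination h / 3
  -- a central involution of a Sylow 2-subgroup
  obtain ⟨T⟩ := (inferInstance : Nonempty (Sylow 2 G))
  have hTcard : Nat.card (T : Subgroup G) = 2 ^ b :=
    card_sylow_eq (p := 2) b (3 * 5) (by rw [hcard]; ring) (by norm_num) T
  haveI : Nontrivial (T : Subgroup G) := Finite.one_lt_card_iff_nontrivial.1
    (by rw [hTcard]; exact Nat.one_lt_two_pow hb)
  haveI := T.isPGroup'.center_nontrivial
  obtain ⟨⟨⟨z, hzT⟩, hzZ⟩, hz⟩ := exists_prime_orderOf_dvd_card'
    (G := Subgroup.center (T : Subgroup G)) 2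
    (T.isPGroup'.to_subgroup _ |>.exists_card_eq.elim fun n hn => by
      rw [hn]
      refine dvd_pow_self 2 fun h => ?_
      rw [h, pow_zero] at hn
      have := Finite.one_lt_card (α := Subgroup.center (T : Subgroup G))
      omega)
  rw [Subgroup.orderOf_mk, Subgroup.orderOf_mk] at hz
  have hCz : Nat.card (Subgroup.centralizer ({z} : Set G)) = 2 ^ b := by
    have hle : (T : Subgroup G) ≤ Subgroup.centralizer ({z} : Set G) := fun t ht =>
      Subgroup.mem_centralizer_singleton_iff.2
        (congrArg Subtype.val (Subgroup.mem_center_iff.1 hzZ ⟨t, ht⟩))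
    obtain ⟨m, hm⟩ := Subgroup.card_dvd_of_le hle
    have hdvd : 2 ^ b * m ∣ 2 ^ b * 15 := by
      rw [← hTcard, ← hm, hTcard, show 2 ^ b * 15 = Nat.card G by rw [hcard]; ring]
      exact Subgroup.card_subgroup_dvd_card _
    rw [hTcard] at hm
    have hm15 := Nat.dvd_of_mul_dvd_mul_left (pow_pos two_pos b) hdvd
    have hno : ∀ q : ℕ, (q = 3 ∨ q = 5) → ¬ q ∣ Nat.card (Subgroup.centralizer ({z} : Set G)) := by
      rintro q (rfl | rfl) hq
      · haveI : Fact (Nat.Prime 3) := ⟨Nat.prime_three⟩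
        obtain ⟨⟨y, hy⟩, hyo⟩ := exists_prime_orderOf_dvd_card' 3 hq
        rw [Subgroup.orderOf_mk] at hyo
        exact CfsgLib.Blocks.not_commute_prime_order Nat.prime_two Nat.prime_five Nat.prime_three
          (by norm_num) (by norm_num) (show Nat.card G = 2 ^ b * 5 ^ 1 * 3 by rw [hcard]; ring)
          hz hyo (Subgroup.mem_centralizer_singleton_iff.1 hy).symm
      · obtain ⟨⟨y, hy⟩, hyo⟩ := exists_prime_orderOf_dvd_card' 5 hq
        rw [Subgroup.orderOf_mk] at hyo
        exact CfsgLib.Blocks.not_commute_prime_order Nat.prime_two Nat.prime_three Nat.prime_five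
          (by norm_num) (by norm_num) (show Nat.card G = 2 ^ b * 3 ^ 1 * 5 by rw [hcard]; ring)
          hz hyo (Subgroup.mem_centralizer_singleton_iff.1 hy).symm
    have : m ∈ Nat.divisors 15 := Nat.mem_divisors.2 ⟨hm15, by norm_num⟩
    rw [show Nat.divisors 15 = {1, 3, 5, 15} by decide] at this
    simp only [Finset.mem_insert, Finset.mem_singleton] at this
    rcases this with rfl | rfl | rfl | rfl
    · simpa using hm
    · exact absurd (hm ▸ dvd_mul_left 3 (2 ^ b)) (hno 3 (Or.inl rfl))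
    · exact absurd (hm ▸ dvd_mul_left 5 (2 ^ b)) (hno 5 (Or.inr rfl))
    · exact absurd (hm ▸ (Dvd.intro 5 rfl : 3 ∣ 15).mul_left (2 ^ b)) (hno 3 (Or.inl rfl))
  have hn : Nat.card {y : G // IsConj z y} = 15 := by
    have h := card_isConj_mul_card_centralizer z
    rw [hCz, hcard] at h
    exact Nat.eq_of_mul_eq_mul_right (pow_pos two_pos b) (h.trans (by ring))
  -- the class structure constant
  set S : Finset G := Finset.univ.filter fun y => IsConj z y ∧ IsConj x (z * y) with hSdef
  have hconst : (15 : ℂ) * ((4 - (ξ : G → ℂ) z) ^ 2 / 12) = 5 * (S.card : ℂ) := by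
    have hw : ∑ ψ : IrrCharacter G,
        (ψ : G → ℂ) z * (ψ : G → ℂ) z * starRingEnd ℂ ((ψ : G → ℂ) x) / (ψ : G → ℂ) 1 =
          (4 - (ξ : G → ℂ) z) ^ 2 / 12 := by
      rw [hsupp _ (fun ψ h => by rw [h, map_zero, mul_zero, zero_div]), hξdeg, hξx, principal_apply,
        principal_apply, principal_apply, map_one, map_neg, map_one]
      have hz5 : ¬ 5 ∣ orderOf z := by rw [hz]; norm_num
      rw [Finset.sum_congr rfl fun θ h => by
        rw [show (θ : G → ℂ) z = (ξ : G → ℂ) z - 1 by
          have := hrel' θ (by simpa [hYf] using h) z hz5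
          rw [hεξ] at this
          push_cast at this
          linear_combination -this, hθdeg θ (by simpa [hYf] using h)],
        ← Finset.sum_div, ← Finset.mul_sum, hS]
      ring
    rw [← hw, show (15 : ℂ) = (Nat.card {y : G // IsConj z y} : ℂ) by rw [hn]; norm_num,
      Finset.mul_sum]
    calc _ = ∑ ψ : IrrCharacter G, ∑ y : G, (if IsConj z y then
          (ψ : G → ℂ) (z * y) * starRingEnd ℂ ((ψ : G → ℂ) x) else 0) := ?_
      _ = ∑ y : G, (if IsConj z y ∧ IsConj x (z * y) then (5 : ℂ) else 0) := ?_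
      _ = _ := ?_
    · refine Finset.sum_congr rfl fun ψ _ => ?_
      simp only [← ite_zero_mul, ← Finset.sum_mul, sum_translate_class ψ.2 z z]
      ring
    · rw [Finset.sum_comm]
      refine Finset.sum_congr rfl fun y _ => ?_
      by_cases hy : IsConj z y
      · simp only [if_pos hy]
        rw [second_orthogonality, if_congr (and_iff_right hy) rfl rfl]
        split_ifs with hc
        · obtain ⟨c, hc'⟩ := isConj_iff.1 hc
          have h5 : Nat.card (Subgroup.centralizer ({z * y} : Set G)) = 5 := by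
            have h1 := card_isConj_mul_card_centralizer x
            have h2 := card_isConj_mul_card_centralizer (z * y)
            rw [Nat.card_congr (Equiv.subtypeEquivRight fun w =>
              ⟨fun h => hc.trans h, fun h => hc.symm.trans h⟩ :
                {w : G // IsConj (z * y) w} ≃ {w : G // IsConj x w}), ← h1, hCx] at h2
            haveI : Nonempty {w : G // IsConj x w} := ⟨⟨x, IsConj.refl x⟩⟩
            exact Nat.eq_of_mul_eq_mul_left Nat.card_pos h2
          rw [h5]; norm_num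
        · rfl
      · simp only [if_neg hy, Finset.sum_const_zero]
        rw [if_neg fun h => hy h.1]
    · rw [← Finset.sum_filter, Finset.sum_const, ← hSdef, nsmul_eq_mul, mul_comm]
  have hsq : (4 - (ξ : G → ℂ) z) ^ 2 = 4 * (S.card : ℂ) := by linear_combination (4 / 5 : ℂ) * hconst
  have hnorm4 : ‖4 - (ξ : G → ℂ) z‖ ≤ 6 := by
    have hb' := char_norm_le (isCharacter_of_irr χ.2) z
    rw [deg_eq, hdχ, show (χ : G → ℂ) z = (ξ : G → ℂ) z - 1 by
      have := hrel' χ hχY z (by rw [hz]; norm_num)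
      rw [hεξ] at this
      push_cast at this
      linear_combination -this] at hb'
    norm_num at hb'
    calc ‖4 - (ξ : G → ℂ) z‖ = ‖(3 : ℂ) - ((ξ : G → ℂ) z - 1)‖ := by ring_nf
      _ ≤ ‖(3 : ℂ)‖ + ‖(ξ : G → ℂ) z - 1‖ := norm_sub_le _ _
      _ ≤ 6 := by rw [Complex.norm_ofNat]; linarith
  have hS9 : S.card ≤ 9 := by
    have h := congrArg (fun c : ℂ => ‖c‖) hsq
    simp only [norm_pow, norm_mul, Complex.norm_natCast, Complex.norm_ofNat] at h
    have : (S.card : ℝ) ≤ 9 := by nlinarith [norm_nonneg (4 - (ξ : G → ℂ) z)]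
    exact_mod_cast this
  have hSpos : 0 < S.card := by
    by_contra h
    rw [show S.card = 0 by omega, Nat.cast_zero, mul_zero, sq_eq_zero_iff, sub_eq_zero] at hsq
    have hzker : z ∈ charKer ξ := by rw [mem_charKer, hξdeg, hsq]
    rw [charKer_eq_bot_of_simple ξ (fun h => hξu (h.trans (Subtype.ext rfl))),
      Subgroup.mem_bot] at hzker
    rw [hzker, orderOf_one] at hz
    norm_num at hz
  -- every conjugate of `x` is a product of two conjugates of `z`
  have hbound : Nat.card {w : G // IsConj x w} ≤ 15 * 9 := by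
    obtain ⟨y₀, hy₀⟩ := Finset.card_pos.1 hSpos
    simp only [hSdef, Finset.mem_filter, Finset.mem_univ, true_and] at hy₀
    let pairs := {w : G × G // IsConj z w.1 ∧ IsConj z w.2 ∧ IsConj x (w.1 * w.2)}
    have h1 : Nat.card {w : G // IsConj x w} ≤ Nat.card pairs := by
      refine Nat.card_le_card_of_surjective (fun w : pairs => ⟨w.1.1 * w.1.2, w.2.2.2⟩) ?_
      rintro ⟨w, hw⟩
      obtain ⟨c, hc⟩ := isConj_iff.1 (hy₀.2.symm.trans hw)
      refine ⟨⟨(c * z * c⁻¹, c * y₀ * c⁻¹), isConj_iff.2 ⟨c, rfl⟩,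
        hy₀.1.trans (isConj_iff.2 ⟨c, rfl⟩), ?_⟩, Subtype.ext ?_⟩
      · show IsConj x (c * z * c⁻¹ * (c * y₀ * c⁻¹))
        rw [conj_mul, hc]; exact hw
      · show c * z * c⁻¹ * (c * y₀ * c⁻¹) = w
        rw [conj_mul, hc]
    have hsel : ∀ a : {a : G // IsConj z a}, ∃ c : G, c * z * c⁻¹ = a := fun a => isConj_iff.1 a.2
    choose c hc using hsel
    have key : ∀ (a y : G) (ha : IsConj z a), IsConj z y → IsConj x (a * y) →
        (c ⟨a, ha⟩)⁻¹ * y * c ⟨a, ha⟩ ∈ S := by
      intro a y ha hy hxy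
      have h' := hc ⟨a, ha⟩
      simp only at h'
      generalize c ⟨a, ha⟩ = cc at h' ⊢
      subst h'
      simp only [hSdef, Finset.mem_filter, Finset.mem_univ, true_and]
      exact ⟨hy.trans (isConj_iff.2 ⟨cc⁻¹, by group⟩), hxy.trans (isConj_iff.2 ⟨cc⁻¹, by group⟩)⟩
    have h2 : Nat.card pairs ≤ Nat.card ({a : G // IsConj z a} × S) := by
      refine Nat.card_le_card_of_injective (fun w : pairs =>
        (⟨w.1.1, w.2.1⟩, ⟨(c ⟨w.1.1, w.2.1⟩)⁻¹ * w.1.2 * c ⟨w.1.1, w.2.1⟩,
          key _ _ w.2.1 w.2.2.1 w.2.2.2⟩)) ?_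
      · intro w w' h
        obtain ⟨h1, h2⟩ := Prod.mk.inj h
        have e1 : w.1.1 = w'.1.1 := congrArg Subtype.val h1
        have e2 := congrArg Subtype.val h2
        simp only [h1] at e2
        exact Subtype.ext (Prod.ext e1 (mul_left_cancel (mul_right_cancel e2)))
    rw [Nat.card_prod, Nat.card_eq_finsetCard, hn] at h2
    exact h1.trans (h2.trans (Nat.mul_le_mul_left _ hS9))
  have hclass : Nat.card {w : G // IsConj x w} = 3 * 2 ^ b := by
    have h := card_isConj_mul_card_centralizer x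
    rw [hCx, hcard] at h
    omega
  rw [hclass] at hbound
  have hb5 : b ≤ 5 := by
    by_contra h
    have : 2 ^ 6 ≤ 2 ^ b := Nat.pow_le_pow_right two_pos (by omega)
    omega
  obtain ⟨n, hn'⟩ : ∃ n, Nat.card (Sylow 5 G) = n := ⟨_, rfl⟩
  rw [hn'] at hen hmod
  rw [hcard]
  interval_cases b <;> omega

theorem card_cases_prq (hG : ¬ IsMulCommutative G) {p r b : ℕ} (hp : p.Prime) (hr : r.Prime)
    (hp2 : p ≠ 2) (hpr : p < r) (hcard : Nat.card G = p * r * 2 ^ b) :
    Nat.card G = 60 ∨ (r = 7 ∧ Nonempty (G ≃* Matrix.ProjectiveSpecialLinearGroup (Fin 2) (ZMod r))) := by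
  classical
  haveI := Fact.mk hr
  haveI := Fintype.ofFinite G
  haveI := irrFintype G
  have hr2 : r ≠ 2 := by have := hp.two_le; omega
  obtain ⟨χ, hχ1, k, hk⟩ := (Agent.S4500.result r p 2 1 1 b hr hp Nat.prime_two hpr.ne' hr2 hp2
    (by norm_num) (by rw [hcard, pow_one, pow_one]; ring)).1
  obtain ⟨n, ρ, hρirr, hρ⟩ := χ.2
  have hn : charDegree (χ : G → ℂ) = n := by
    refine Nat.cast_injective (R := ℂ) ?_
    rw [← deg_eq χ, ← hρ, Representation.char_one, Module.finrank_fin_fun]
  have hnle : n ≤ p := by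
    rw [← hn, hk]
    rcases k with _ | _ | k
    · simp [hp.one_le]
    · simp
    · exfalso
      have hd := charDegree_dvd_card χ
      rw [hk, hcard] at hd
      have hpp : p * p ∣ p * (r * 2 ^ b) := by
        refine dvd_trans ?_ ((mul_assoc p r (2 ^ b)) ▸ hd)
        rw [pow_succ, pow_succ, mul_assoc]
        exact dvd_mul_left _ _
      rcases hp.dvd_mul.1 (Nat.dvd_of_mul_dvd_mul_left hp.pos hpp) with h | h
      · exact hpr.ne ((Nat.prime_dvd_prime_iff_eq hp hr).1 h)
      · exact hp2 ((Nat.prime_dvd_prime_iff_eq hp Nat.prime_two).1 (hp.dvd_of_dvd_pow h))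
  have hρinj : Function.Injective ρ := by
    have hker : ∀ g : G, ρ g = 1 → g = 1 := by
      intro g hg
      have hmem : g ∈ charKer χ := by
        rw [mem_charKer, ← hρ]
        simp [Representation.character, hg]
      rw [charKer_eq_bot_of_simple χ (fun h => hχ1 (congrArg Subtype.val h)), Subgroup.mem_bot] at hmem
      exact hmem
    intro a a' h
    refine (inv_mul_eq_one.1 (hker _ ?_)).symm
    rw [map_mul, h, ← map_mul, inv_mul_cancel, map_one]
  have hdiv : r ∣ Nat.card G := by rw [hcard]; exact (dvd_mul_left r p).mul_right _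
  have hsq : ¬ r ^ 2 ∣ Nat.card G := by
    rw [hcard, show p * r * 2 ^ b = r * (p * 2 ^ b) by ring, sq]
    intro h
    rcases hr.dvd_mul.1 (Nat.dvd_of_mul_dvd_mul_left hr.pos h) with h | h
    · exact hpr.ne' ((Nat.prime_dvd_prime_iff_eq hr hp).1 h)
    · exact hr2 ((Nat.prime_dvd_prime_iff_eq hr Nat.prime_two).1 (hr.dvd_of_dvd_pow h))
  have hnn : ∀ H : Subgroup G, H.Normal → Nat.card H ≠ r := by
    intro H hH h
    rcases hH.eq_bot_or_eq_top with rfl | rfl
    · rw [Subgroup.card_bot] at h; exact hr.ne_one h.symm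
    · rw [Subgroup.card_top] at h
      exact hG (by haveI := isCyclic_of_prime_card h; infer_instance)
  have hle := CfsgLib.SmallDegree.two_mul_degree_add_one_ge ρ hρinj hdiv hsq hnn
  rcases Nat.lt_or_ge r (2 * p + 1) with hlt | hge
  · obtain ⟨rfl, rfl⟩ := exists_prime_degree_data hG hp hp2 hpr hlt hcard
    exact Or.inl (card_fifteen_two_pow hG hcard)
  · have hrp : r = 2 * p + 1 := by omega
    have hnp : n = p := by omega
    have hp3 : 3 ≤ p := by have := hp.two_le; omega
    obtain ⟨i⟩ := CfsgLib.SmallDegree.psl_of_boundary ρ hρinj (by omega) (by omega) hsq hnn hdiv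
    have e : G ≃* Matrix.ProjectiveSpecialLinearGroup (Fin 2) (ZMod r) :=
      ((QuotientGroup.quotientMulEquivOfEq (center_eq_bot hG)).trans QuotientGroup.quotientBot).symm.trans i
    refine Or.inr ⟨?_, ⟨e⟩⟩
    have hc := Nat.card_congr e.toEquiv
    have h2 := CfsgLib.Small.card_PSL_two_prime (F := ZMod r) (ZMod.card r)
      (hr.odd_of_ne_two hr2)
    rw [← hc, hcard, hrp] at h2
    have hb : 2 ^ b = 2 * p + 2 := by
      rw [show (2 * p + 1) ^ 2 - 1 = 2 * p * (2 * p + 2) by
        rw [show (2 * p + 1) ^ 2 = 2 * p * (2 * p + 2) + 1 by ring, Nat.add_sub_cancel],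
        show 2 * (p * (2 * p + 1) * 2 ^ b) = (2 * p + 1) * (2 * p) * 2 ^ b by ring,
        show (2 * p + 1) * (2 * p * (2 * p + 2)) = (2 * p + 1) * (2 * p) * (2 * p + 2) by ring] at h2
      exact Nat.eq_of_mul_eq_mul_left (show 0 < (2 * p + 1) * (2 * p) from
        Nat.mul_pos (by omega) (by omega)) h2
    obtain ⟨b', rfl⟩ : ∃ b', b = b' + 2 := by
      rcases b with _ | _ | b
      · rw [pow_zero] at hb; omega
      · rw [zero_add, pow_one] at hb; omega
      · exact ⟨b, rfl⟩
    rw [pow_succ] at hb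
    have hb1 : b' + 1 ≠ 1 := fun h => by rw [h] at hb; omega
    obtain ⟨-, hP1⟩ := Nat.prime_of_pow_sub_one_prime hb1
      (show (2 ^ (b' + 1) - 1).Prime by rw [show 2 ^ (b' + 1) - 1 = p by omega]; exact hp)
    obtain ⟨-, hP2⟩ := Nat.prime_of_pow_sub_one_prime (n := b' + 2) (by omega)
      (show (2 ^ (b' + 2) - 1).Prime by
        rw [show 2 ^ (b' + 2) - 1 = r by rw [pow_succ]; omega]; exact hr)
    have hb' : b' + 1 = 2 := by
      rcases hP1.eq_two_or_odd with h | h
      · exact h
      · rcases hP2.eq_two_or_odd with h' | h' <;> omega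
    rw [hb'] at hb
    omega

end CfsgLib.Small
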