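import Cfsg.Agent.Lib.Small.PermSign
import Cfsg.Agent.Lib.Small.SelfCentralPrime
import Cfsg.Agent.Lib.Small.PSLPrimes
import Cfsg.Agent.Lib.Small.PrincipalDegrees
import Cfsg.Agent.S0998
import Cfsg.Agent.S0999
import Cfsg.Agent.S1018

/-!
# Tools for sieving the orders of simple groups
-/

set_option autoImplicit false
set_option linter.unusedSectionVars false
set_option linter.style.haveILetI false

namespace CfsgLib.Small

open Subgroup Cfsg

universe u

variable {G : Type u} [Group G] [Finite G] [IsSimpleGroup G]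

/-- The possible numbers of Sylow subgroups must not all be excluded. -/
theorem false_of_sylow_numbers (hG : ¬ IsMulCommutative G) {N : ℕ} (hN : Nat.card G = N)
    (p a m : ℕ) [Fact p.Prime] (hNm : N = p ^ a * m) (hm : ¬ p ∣ m) (ha : a ≠ 0)
    (key : ∀ d ∈ Nat.divisors m, 1 < d → d % p = 1 → ¬ 2 * N ∣ d.factorial) : False := by
  have hp : p.Prime := Fact.out
  have hd : p ∣ Nat.card G := by
    rw [hN, hNm]; exact (dvd_pow_self p ha).mul_right m
  refine key _ (Nat.mem_divisors.2 ⟨card_sylow_dvd a m (by rw [hN, hNm]) hm, fun h => hm (h ▸ dvd_zero p)⟩)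
    (one_lt_card_sylow hG hd) (Eq.trans (card_sylow_modEq_one p G) (Nat.mod_eq_of_lt hp.one_lt)) ?_
  exact hN ▸ two_mul_card_dvd_factorial_sylow hG hd

/-- With `2 p + 1` Sylow subgroups of order `p`, the centralizer of one of them has odd order. -/
theorem not_two_dvd_centralizer_of_two_mul_succ (hG : ¬ IsMulCommutative G) {p : ℕ}
    [hp : Fact p.Prime] (hodd : p ≠ 2) (P : Sylow p G) (hP : Nat.card (P : Subgroup G) = p)
    (hn : Nat.card (Sylow p G) = 2 * p + 1) :
    ¬ 2 ∣ Nat.card (centralizer ((P : Subgroup G) : Set G)) := by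
  classical
  intro h2
  haveI := Fintype.ofFinite (Sylow p G)
  have := Fact.mk Nat.prime_two
  have hdvd : p ∣ Nat.card G := hP ▸ card_subgroup_dvd_card _
  obtain ⟨⟨t, htC⟩, ht⟩ := exists_prime_orderOf_dvd_card'
    (G := centralizer ((P : Subgroup G) : Set G)) 2 h2
  rw [orderOf_mk] at ht
  obtain ⟨⟨z, hzP⟩, hz⟩ := exists_prime_orderOf_dvd_card' (G := (P : Subgroup G)) p (by rw [hP])
  rw [orderOf_mk] at hz
  set f := MulAction.toPermHom G (Sylow p G) with hf
  have hinj := toPermHom_sylow_injective hG hdvd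
  have hzgen : zpowers z = (P : Subgroup G) :=
    eq_of_le_of_card_ge (zpowers_le.2 hzP) (by rw [hP, Nat.card_zpowers, hz])
  have h1 : f t = 1 := by
    refine eq_one_of_commute_two_mul_succ (p := p) hodd (σ := f z) (a := P)
      (by rw [← map_pow, show z ^ p = 1 from orderOf_dvd_iff_pow_eq_one.1 (dvd_of_eq hz), map_one])
      (by rw [← Nat.card_eq_fintype_card, hn]) (fun Q hQ => ?_)
      (Sylow.smul_eq_iff_mem_normalizer.2 (centralizer_le_normalizer _ htC))
      ((show Commute z t from mem_centralizer_iff.1 htC z hzP).map f)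
      (involution_fixed_mod_four hG f (by rw [← ht, pow_orderOf_eq_one]))
    have hQ' : z ∈ normalizer ((Q : Subgroup G) : Set G) := Sylow.smul_eq_iff_mem_normalizer.1 hQ
    have hle : (P : Subgroup G) ⊓ normalizer ((Q : Subgroup G) : Set G) = (P : Subgroup G) :=
      inf_eq_left.2 (hzgen ▸ zpowers_le.2 hQ')
    have hPQ : (P : Subgroup G) ≤ (Q : Subgroup G) :=
      inf_eq_left.1 (((IsPGroup.inf_normalizer_sylow P.2 Q).symm).trans hle)
    exact (Sylow.ext (P.3 Q.2 hPQ))
  have ht1 := hinj (h1.trans (map_one _).symm)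
  rw [ht1, orderOf_one] at ht
  omega

/-- `2 |PSL(2, q)|` for a prime `q`, and `|PSL(2, 2 ^ m)|`. -/
theorem card_of_large_prime (hG : ¬ IsCyclic G) {p : ℕ} (hp : p.Prime) (hp2 : p ≠ 2)
    (hdvd : p ∣ Nat.card G) (hbig : Nat.card G < p ^ 3) :
    2 * Nat.card G = p * (p ^ 2 - 1) ∨
      ∃ m : ℕ, p = 2 ^ m + 1 ∧ Nat.card G = 2 ^ m * ((2 ^ m) ^ 2 - 1) := by
  rcases Agent.S0999.result hG p hp hdvd hbig with
    ⟨F, iF, iT, hF, -, ⟨e⟩⟩ | ⟨m, F, iF, iT, hF, hpm, h3, ⟨e⟩⟩
  · left
    rw [Nat.card_congr e.toEquiv]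
    exact card_PSL_two_prime hF (hp.odd_of_ne_two hp2)
  · right
    refine ⟨m, hpm, ?_⟩
    have h := CfsgLib.Classical.card_PSL_two_mul (F := F)
    have hm : m ≠ 0 := fun h0 => by rw [h0, pow_zero] at hpm; omega
    rw [Nat.card_eq_fintype_card (α := F), hF,
      show Nat.gcd 2 (2 ^ m - 1) = 1 from (Nat.prime_two.coprime_iff_not_dvd).2 (by
        obtain ⟨k, hk⟩ := dvd_pow_self 2 hm
        have := Nat.two_pow_pos m
        omega), one_mul] at h
    rw [Nat.card_congr e.toEquiv, h]

/-- Orders `p r 2 ^ b`. -/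
theorem card_of_p_r_two_pow (hG : ¬ IsCyclic G) {p r b : ℕ} (hp : p.Prime) (hr : r.Prime)
    (hpr : p ≠ r) (hp2 : p ≠ 2) (hr2 : r ≠ 2) (h : Nat.card G = p * r * 2 ^ b) :
    Nat.card G = 60 ∨ Nat.card G = 168 := by
  rcases Agent.S0998.result hG p 2 r b hp Nat.prime_two hr hp2 hpr (fun h => hr2 h.symm) h with
    ⟨F, iF, iT, hF, ⟨e⟩⟩ | ⟨F, iF, iT, hF, ⟨e⟩⟩
  · have h2 := card_PSL_two_prime hF (by decide)
    rw [← Nat.card_congr e.toEquiv] at h2
    norm_num at h2
    omega
  · have h2 := card_PSL_two_prime hF (by decide)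
    rw [← Nat.card_congr e.toEquiv] at h2
    norm_num at h2
    omega

/-- A non-abelian simple group has three prime divisors: its order does not divide `(q r) ^ k`. -/
theorem not_dvd_two_primes (hG : ¬ IsMulCommutative G) {q r : ℕ} (hq : q.Prime) (hr : r.Prime)
    (k : ℕ) : ¬ Nat.card G ∣ (q * r) ^ k := by
  intro h
  have hsub : (Nat.card G).primeFactors ⊆ {q, r} := fun s hs => by
    have hs' := Nat.prime_of_mem_primeFactors hs
    have hd := hs'.dvd_of_dvd_pow ((Nat.dvd_of_mem_primeFactors hs).trans h)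
    simp only [Finset.mem_insert, Finset.mem_singleton]
    rcases hs'.dvd_mul.1 hd with hh | hh
    · exact Or.inl ((Nat.prime_dvd_prime_iff_eq hs' hq).1 hh)
    · exact Or.inr ((Nat.prime_dvd_prime_iff_eq hs' hr).1 hh)
  have h4 := (Finset.card_le_card hsub).trans Finset.card_le_two
  have h5 := CfsgLib.Chars.three_le_card_primeFactors_of_simple (G := G) (fun hc => hG ⟨⟨hc⟩⟩)
  omega

/-- A number whose prime divisors are at most `7` divides a power of `210`. -/
theorem dvd_pow_210 {n k : ℕ} (hn : n ≠ 0) (hk : n < 2 ^ k)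
    (h : ∀ p, p.Prime → p ∣ n → p ≤ 7) : n ∣ 210 ^ k := by
  rw [← Nat.factorization_le_iff_dvd hn (pow_ne_zero _ (by norm_num))]
  intro p
  by_cases hp : p.Prime ∧ p ∣ n
  · have h7 := h p hp.1 hp.2
    have h1 : 1 ≤ (Nat.factorization 210) p := by
      refine (hp.1.dvd_iff_one_le_factorization (by norm_num)).1 ?_
      have := hp.1.two_le
      have := hp.1
      interval_cases p <;> norm_num at *
    rw [Nat.factorization_pow, Finsupp.smul_apply, smul_eq_mul]
    calc n.factorization p ≤ k := by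
          have h2 : p ^ n.factorization p ≤ n := Nat.le_of_dvd (by omega) (Nat.ordProj_dvd n p)
          have h3 : 2 ^ n.factorization p ≤ n :=
            (Nat.pow_le_pow_left hp.1.two_le _).trans h2
          exact ((Nat.pow_lt_pow_iff_right (by norm_num : 1 < 2)).1 (h3.trans_lt hk)).le
      _ = k * 1 := (mul_one k).symm
      _ ≤ _ := Nat.mul_le_mul_left k h1
  · rcases not_and_or.1 hp with hp | hp
    · simp [Nat.factorization_eq_zero_of_not_prime n hp]
    · simp [Nat.factorization_eq_zero_of_not_dvd hp]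

end CfsgLib.Small
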