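import Cfsg.Agent.Lib.Small.Count
import Cfsg.Agent.Lib.Chars.Burnside

/-!
# Automorphisms of groups of order `p` and `p ^ 2`
-/

set_option autoImplicit false

open Subgroup

namespace CfsgLib.Small

theorem eq_succ_of_prime_dvd_card_mulAut {P : Type*} [Group P] [Finite P] {p : ℕ} (hp : p.Prime)
    (hP : Nat.card P = p ^ 2) {ℓ : ℕ} (hℓ : ℓ.Prime) (hpℓ : p < ℓ)
    (hdvd : ℓ ∣ Nat.card (MulAut P)) : ℓ = p + 1 := by
  have := Fact.mk hℓ
  obtain ⟨φ, hφ⟩ := exists_prime_orderOf_dvd_card' ℓ hdvd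
  let Z : Subgroup (MulAut P) := zpowers φ
  have hZ : IsPGroup ℓ Z := IsPGroup.of_card (n := 1) (by rw [Nat.card_zpowers, hφ, pow_one])
  have hmod := hZ.card_modEq_card_fixedPoints P
  let F : Subgroup P :=
    { carrier := {x | φ x = x}
      one_mem' := map_one φ
      mul_mem' := fun {a b} (ha : φ a = a) (hb : φ b = b) => show φ (a * b) = a * b by
        rw [map_mul, ha, hb]
      inv_mem' := fun {a} (ha : φ a = a) => show φ a⁻¹ = a⁻¹ by rw [map_inv, ha] }
  have hfix : Nat.card (MulAction.fixedPoints Z P) = Nat.card F := by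
    refine Nat.card_congr (Equiv.setCongr ?_)
    ext x
    constructor
    · intro hx
      exact hx ⟨φ, mem_zpowers φ⟩
    · intro hx z
      obtain ⟨z, n, rfl⟩ := z
      have hmem : φ ∈ MulAction.stabilizer (MulAut P) x := hx
      exact zpow_mem hmem n
  rw [hfix, hP] at hmod
  have hFd : Nat.card F ∣ p ^ 2 := hP ▸ card_subgroup_dvd_card F
  obtain ⟨i, hi, hFi⟩ := (Nat.dvd_prime_pow hp).mp hFd
  rw [hFi] at hmod
  have hF2 : i ≠ 2 := by
    intro hi2
    have hF : F = ⊤ := eq_top_of_card_eq F (by rw [hFi, hi2, hP])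
    have h1 : φ = 1 := MulEquiv.ext fun x => (hF ▸ mem_top x : x ∈ F)
    rw [h1, orderOf_one] at hφ
    exact hℓ.ne_one hφ.symm
  have hd : ℓ ∣ p ^ 2 - p ^ i :=
    (Nat.modEq_iff_dvd' (Nat.pow_le_pow_right hp.pos hi)).mp hmod.symm
  have hp2 := hp.two_le
  interval_cases i
  · rw [show p ^ 2 - p ^ 0 = (p + 1) * (p - 1) by
      rw [pow_zero, ← Nat.sq_sub_sq, one_pow]] at hd
    rcases hℓ.dvd_mul.mp hd with h | h
    · have := Nat.le_of_dvd (by omega) h
      omega
    · have := Nat.le_of_dvd (by omega) h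
      omega
  · rw [show p ^ 2 - p ^ 1 = p * (p - 1) by rw [pow_one, sq, Nat.mul_sub, mul_one]] at hd
    rcases hℓ.dvd_mul.mp hd with h | h
    · exact absurd ((Nat.prime_dvd_prime_iff_eq hℓ hp).mp h) (by omega)
    · have := Nat.le_of_dvd (by omega) h
      omega
  · exact absurd rfl hF2

variable {G : Type*} [Group G] [Finite G]

/-- If the smallest prime `p` divides a simple group order exactly twice, then `p = 2` and
`3` divides the index. -/
theorem minFac_sq [IsSimpleGroup G] (hG : ¬ IsMulCommutative G) {p : ℕ} [hp : Fact p.Prime]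
    (hmin : (Nat.card G).minFac = p) (P : Sylow p G) (hP : Nat.card (P : Subgroup G) = p ^ 2) :
    p = 2 ∧ 3 ∣ (centralizer ((P : Subgroup G) : Set G)).relIndex
        (normalizer ((P : Subgroup G) : Set G)) := by
  set C := centralizer ((P : Subgroup G) : Set G) with hC
  set N := normalizer ((P : Subgroup G) : Set G) with hN
  have key := card_dvd_of_injective _
    (QuotientGroup.kerLift_injective (P : Subgroup G).normalizerMonoidHom)
  rw [normalizerMonoidHom_ker, ← index, ← relIndex] at key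
  have hne : C.relIndex N ≠ 1 := fun h => not_normalizer_le_centralizer hG
    (hmin ▸ Nat.minFac_dvd _) P (relIndex_eq_one.mp h)
  obtain ⟨ℓ, hℓ, hℓd⟩ := Nat.exists_prime_and_dvd hne
  have hPC : (P : Subgroup G) ≤ C := le_centralizer_iff.mpr fun x hx => by
    have := (IsPGroup.isMulCommutative_of_card_eq_prime_sq hP).is_comm.comm
    rw [mem_centralizer_iff]
    intro y hy
    exact congrArg Subtype.val (this ⟨y, hy⟩ ⟨x, hx⟩)
  have hdG : C.relIndex N ∣ (P : Subgroup G).index :=
    (relIndex_dvd_of_le_left _ hPC).trans (relIndex_dvd_index_of_le le_normalizer)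
  have hℓp : ℓ ≠ p := by
    intro h
    have h' := hℓd.trans hdG
    rw [h] at h'
    exact P.not_dvd_index h'
  have hℓG : ℓ ∣ Nat.card G := hℓd.trans (hdG.trans (index_dvd_card _))
  have hle : p ≤ ℓ := hmin ▸ Nat.minFac_le_of_dvd hℓ.two_le hℓG
  have hℓ3 := eq_succ_of_prime_dvd_card_mulAut hp.out hP hℓ (by omega) (hℓd.trans key)
  have hp2 : p = 2 := by
    rcases hp.out.eq_two_or_odd with h | h
    · exact h
    · rcases hℓ.eq_two_or_odd with h' | h'
      · have := hp.out.two_le
        omega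
      · omega
  exact ⟨hp2, by rwa [show (3 : ℕ) = ℓ by omega]⟩

end CfsgLib.Small
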