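import Cfsg.Agent.Lib.Small.Basic

/-!
# Five elements of order three generating the alternating group of degree seven

Elements `x i` of order three whose products in pairs are involutions behave like the cycles
`(1 2 i)`: adjoining one more of them to `n` others multiplies the order by at most `n + 3`.
-/

set_option autoImplicit false
set_option linter.style.haveILetI false

open Subgroup
open scoped Nat

namespace CfsgLib.Small

variable {G : Type*} [Group G]

theorem mul_eq_sq_mul_sq {a b : G} (ha : a ^ 3 = 1) (hb : b ^ 3 = 1) (h : (a * b) ^ 2 = 1) :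
    b * a = a ^ 2 * b ^ 2 := by
  have h1 : a⁻¹ = a ^ 2 := inv_eq_of_mul_eq_one_right (by rw [← pow_succ', ha])
  have h2 : b⁻¹ = b ^ 2 := inv_eq_of_mul_eq_one_right (by rw [← pow_succ', hb])
  rw [← h1, ← h2, eq_inv_mul_iff_mul_eq, eq_inv_iff_mul_eq_one]
  calc a * (b * a) * b = (a * b) ^ 2 := by rw [sq]; group
    _ = 1 := h

/-- Adjoining a further generator. -/
theorem card_adjoin_three_le [Finite G] {n : ℕ} (L : Fin n → G) (z : G) (hL : ∀ i, L i ^ 3 = 1)
    (hz : z ^ 3 = 1) (hLz : ∀ i, (L i * z) ^ 2 = 1)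
    (hLL : ∀ i j, i ≠ j → (L i * L j) ^ 2 = 1) :
    Nat.card (closure (insert z (Set.range L))) ≤ (n + 3) * Nat.card (closure (Set.range L)) := by
  classical
  set K := closure (Set.range L) with hK
  let τ : Fin 3 ⊕ Fin n → G := Sum.elim (fun i => z ^ (i : ℕ)) (fun j => z ^ 2 * L j)
  have hLK : ∀ i, L i ∈ K := fun i => subset_closure ⟨i, rfl⟩
  let Ω : G → Prop := fun g => ∃ k ∈ K, ∃ i, g = k * τ i
  have hstep : ∀ g, Ω g → ∀ y ∈ insert z (Set.range L), Ω (g * y) := by
    rintro g ⟨k, hk, i, rfl⟩ y hy
    suffices h : Ω (τ i * y) by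
      obtain ⟨k', hk', i', h'⟩ := h
      exact ⟨k * k', mul_mem hk hk', i', by rw [mul_assoc, h', mul_assoc]⟩
    rcases i with ⟨m, hm⟩ | j
    · rcases hy with rfl | ⟨a, rfl⟩
      · interval_cases m
        · exact ⟨1, one_mem _, .inl 1, by simp [τ]⟩
        · exact ⟨1, one_mem _, .inl 2, by simp [τ, sq]⟩
        · exact ⟨1, one_mem _, .inl 0, by simp [τ, ← pow_succ, hz]⟩
      · interval_cases m
        · exact ⟨L a, hLK a, .inl 0, by simp [τ]⟩
        · refine ⟨L a ^ 2, pow_mem (hLK a) 2, .inl 2, ?_⟩
          simpa [τ] using mul_eq_sq_mul_sq (hL a) hz (hLz a)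
        · exact ⟨1, one_mem _, .inr a, by simp [τ]⟩
    · set b := L j with hb
      have hzb : z * b = b ^ 2 * z ^ 2 := mul_eq_sq_mul_sq (hL j) hz (hLz j)
      have hb3 : b ^ 3 = 1 := hL j
      have hbz : z ^ 2 * b ^ 2 = b * z :=
        (mul_eq_sq_mul_sq hz hb3 (by
          have h := hLz j
          rw [sq] at h ⊢
          calc z * b * (z * b) = b⁻¹ * (b * z * (b * z)) * b := by group
            _ = 1 := by rw [h]; group)).symm
      rcases hy with rfl | ⟨a, rfl⟩
      · refine ⟨b ^ 2, pow_mem (hLK j) 2, .inr j, ?_⟩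
        show y ^ 2 * b * y = b ^ 2 * (y ^ 2 * b)
        calc y ^ 2 * b * y = y ^ 2 * (b * y) := mul_assoc _ _ _
          _ = y ^ 2 * (y ^ 2 * b ^ 2) := by rw [hbz]
          _ = y ^ 3 * (y * b) * b := by simp only [pow_succ, pow_zero, one_mul, mul_assoc]
          _ = b ^ 2 * y ^ 2 * b := by rw [hz, one_mul, hzb]
          _ = b ^ 2 * (y ^ 2 * b) := mul_assoc _ _ _
      · by_cases haj : a = j
        · subst haj
          refine ⟨b, hLK a, .inl 1, ?_⟩
          show z ^ 2 * b * b = b * z ^ 1
          rw [pow_one, mul_assoc, ← sq, hbz]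
        · refine ⟨L a * b ^ 2, mul_mem (hLK a) (pow_mem (hLK j) 2), .inr j, ?_⟩
          show z ^ 2 * b * L a = L a * b ^ 2 * (z ^ 2 * b)
          have hza : z ^ 2 * L a ^ 2 = L a * z :=
            (mul_eq_sq_mul_sq hz (hL a) (by
              have h := hLz a
              rw [sq] at h ⊢
              calc z * L a * (z * L a) = (L a)⁻¹ * (L a * z * (L a * z)) * L a := by group
                _ = 1 := by rw [h]; group)).symm
          have hba : b * L a = L a ^ 2 * b ^ 2 :=
            mul_eq_sq_mul_sq (hL a) hb3 (hLL a j haj)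
          calc z ^ 2 * b * L a = z ^ 2 * (b * L a) := mul_assoc _ _ _
            _ = z ^ 2 * (L a ^ 2 * b ^ 2) := by rw [hba]
            _ = (z ^ 2 * L a ^ 2) * b * b := by simp only [pow_succ, pow_zero, one_mul, mul_assoc]
            _ = L a * (z * b) * b := by rw [hza]; group
            _ = L a * b ^ 2 * (z ^ 2 * b) := by rw [hzb]; group
  have hall : ∀ g ∈ closure (insert z (Set.range L)), Ω g := by
    intro g hg
    induction hg using Subgroup.closure_induction_right with
    | one => exact ⟨1, one_mem _, .inl 0, by simp [τ]⟩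
    | mul_right x _ y hy ih => exact hstep x ih y hy
    | mul_inv_cancel x _ y hy ih =>
      have hy3 : y ^ 3 = 1 := by
        rcases hy with rfl | ⟨a, rfl⟩
        · exact hz
        · exact hL a
      have hy' : y⁻¹ = y * y := inv_eq_of_mul_eq_one_right (by rw [← hy3, pow_three])
      rw [hy', ← mul_assoc]
      exact hstep _ (hstep x ih y hy) y hy
  let M := closure (insert z (Set.range L))
  have hKM : K ≤ M := closure_mono (Set.subset_insert _ _)
  have hzM : z ∈ M := subset_closure (Set.mem_insert _ _)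
  have hτ : ∀ i, τ i ∈ M := by
    rintro (i | j)
    · exact pow_mem hzM _
    · exact mul_mem (pow_mem hzM 2) (hKM (hLK j))
  let f : (Fin 3 ⊕ Fin n) × K → M := fun p => ⟨(p.2 : G) * τ p.1, mul_mem (hKM p.2.2) (hτ p.1)⟩
  have hf : Function.Surjective f := by
    rintro ⟨g, hg⟩
    obtain ⟨k, hk, i, rfl⟩ := hall g hg
    exact ⟨(i, ⟨k, hk⟩), rfl⟩
  refine (Nat.card_le_card_of_surjective f hf).trans (le_of_eq ?_)
  rw [Nat.card_prod, Nat.card_sum, Nat.card_fin, Nat.card_fin]
  ring

/-- Four such elements generate a group of order at most `360`. -/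
theorem card_closure_four_le [Finite G] (x : Fin 5 → G) (h3 : ∀ i, x i ^ 3 = 1)
    (h2 : ∀ i j, i ≠ j → (x i * x j) ^ 2 = 1) :
    Nat.card (closure (Set.range fun i : Fin 4 => x i.castSucc)) ≤ 360 := by
  let L : (n : ℕ) → n ≤ 5 → Fin n → G := fun n hn i => x (Fin.castLE hn i)
  have hstep : ∀ (n : ℕ) (hn : n + 1 ≤ 5),
      Nat.card (closure (Set.range (L (n + 1) hn))) ≤
        (n + 3) * Nat.card (closure (Set.range (L n (by omega)))) := by
    intro n hn
    have hr : Set.range (L (n + 1) hn) =
        insert (x (Fin.castLE hn (Fin.last n))) (Set.range (L n (by omega))) := by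
      ext g
      simp only [Set.mem_range, Set.mem_insert_iff]
      constructor
      · rintro ⟨i, rfl⟩
        induction i using Fin.lastCases with
        | last => exact Or.inl rfl
        | cast i => exact Or.inr ⟨i, rfl⟩
      · rintro (rfl | ⟨i, rfl⟩)
        · exact ⟨Fin.last n, rfl⟩
        · exact ⟨i.castSucc, rfl⟩
    rw [hr]
    refine card_adjoin_three_le _ _ (fun i => h3 _) (h3 _) (fun i => h2 _ _ ?_)
      (fun i j hij => h2 _ _ fun h => hij (Fin.castLE_injective _ h))
    intro h
    exact absurd (congrArg Fin.val h) (by simp only [Fin.val_castLE, Fin.val_last]; omega)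
  have h0 : Nat.card (closure (Set.range (L 0 (by omega)))) = 1 := by
    rw [Set.range_eq_empty, Subgroup.closure_empty, card_bot]
  have e1 : Nat.card (closure (Set.range (L 1 (by omega)))) ≤ 3 := by
    have := hstep 0 (by omega); rw [h0] at this; exact this
  have e2 : Nat.card (closure (Set.range (L 2 (by omega)))) ≤ 12 :=
    (hstep 1 (by omega)).trans (Nat.mul_le_mul_left (1 + 3) e1)
  have e3 : Nat.card (closure (Set.range (L 3 (by omega)))) ≤ 60 :=
    (hstep 2 (by omega)).trans (Nat.mul_le_mul_left (2 + 3) e2)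
  have e4 : Nat.card (closure (Set.range (L 4 (by omega)))) ≤ 360 :=
    (hstep 3 (by omega)).trans (Nat.mul_le_mul_left (3 + 3) e3)
  have : (fun i : Fin 4 => x i.castSucc) = L 4 (by omega) := rfl
  rw [this]
  exact e4

/-- A subgroup of index seven identifies a simple group of order `2520`. -/
theorem equiv_alternating_seven_of_index [Finite G] [IsSimpleGroup G] (hN : Nat.card G = 2520)
    {H : Subgroup G} (hH : H.index = 7) : Nonempty (G ≃* alternatingGroup (Fin 7)) := by
  have hG : ¬ IsMulCommutative G := not_isMulCommutative_of_card (by rw [hN]; norm_num)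
  have he := exists_embedding_alternating hG H (fun h => by
    rw [h, index_top] at hH; omega)
  rw [hH] at he
  obtain ⟨f, hf⟩ := he
  refine ⟨MulEquiv.ofBijective f ((Nat.bijective_iff_injective_and_card f).mpr ⟨hf, ?_⟩)⟩
  rw [hN, nat_card_alternatingGroup, Nat.card_fin]
  rfl

/-- Five such elements generating a simple group of order `2520`. -/
theorem equiv_alternating_seven_of_relations [Finite G] [IsSimpleGroup G]
    (hN : Nat.card G = 2520) (x : Fin 5 → G) (h3 : ∀ i, x i ^ 3 = 1)
    (h2 : ∀ i j, i ≠ j → (x i * x j) ^ 2 = 1) (htop : closure (Set.range x) = ⊤) :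
    Nonempty (G ≃* alternatingGroup (Fin 7)) := by
  have hG : ¬ IsMulCommutative G := not_isMulCommutative_of_card (by rw [hN]; norm_num)
  set K := closure (Set.range fun i : Fin 4 => x i.castSucc) with hK
  have hKc : Nat.card K ≤ 360 := card_closure_four_le x h3 h2
  have hr : Set.range x = insert (x (Fin.last 4)) (Set.range fun i : Fin 4 => x i.castSucc) := by
    ext g
    simp only [Set.mem_range, Set.mem_insert_iff]
    constructor
    · rintro ⟨i, rfl⟩
      induction i using Fin.lastCases with
      | last => exact Or.inl rfl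
      | cast i => exact Or.inr ⟨i, rfl⟩
    · rintro (rfl | ⟨i, rfl⟩)
      · exact ⟨_, rfl⟩
      · exact ⟨_, rfl⟩
  have hle : Nat.card G ≤ (4 + 3) * Nat.card K := by
    rw [← card_top (G := G), ← htop, hr]
    exact card_adjoin_three_le _ _ (fun i => h3 _) (h3 _)
      (fun i => h2 _ _ (Fin.castSucc_lt_last i).ne)
      (fun i j hij => h2 _ _ fun h => hij (Fin.castSucc_injective _ h))
  have hKt : K ≠ ⊤ := fun h => by rw [h, card_top, hN] at hKc; omega
  have hdvd := two_mul_card_dvd_factorial hG hKt
  have hmul := card_mul_index K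
  rw [hN] at hdvd hmul hle
  have h7 : 7 ≤ K.index := by
    by_contra hlt
    have h6 : K.index ! ≤ 6 ! := Nat.factorial_le (by omega)
    have := Nat.le_of_dvd (Nat.factorial_pos _) hdvd
    rw [show (6 : ℕ) ! = 720 from rfl] at h6
    omega
  refine equiv_alternating_seven_of_index hN (H := K) ?_
  nlinarith

end CfsgLib.Small
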