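import Cfsg.Agent.Lib.Small.Order2520Dihedral
import Cfsg.Agent.Lib.Small.A7Relations

/-!
# A simple group of order 2520 is the alternating group of degree seven

The thirty-five subgroups of order three that are centralized by involutions split into five
normalized by a fixed Sylow `5`-subgroup up to conjugation and thirty inverted by one of its five
involutions; this gives Carmichael's relations.
-/

set_option autoImplicit false
set_option linter.style.haveILetI false
set_option linter.unusedSectionVars false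

open Subgroup
open scoped Nat

namespace CfsgLib.Small.O2520

universe u

variable {G : Type u} [Group G] [Finite G]

theorem conj_mem_zpowers {g a b : G} (h : g * a * g⁻¹ ∈ zpowers b) {c : G} (hc : c ∈ zpowers a) :
    g * c * g⁻¹ ∈ zpowers b := by
  obtain ⟨i, rfl⟩ := hc
  show g * a ^ i * g⁻¹ ∈ zpowers b
  rw [← conj_zpow]
  exact zpow_mem h i

theorem mem_normalizer_zpowers {g a : G} (h : g * a * g⁻¹ ∈ zpowers a) :
    g ∈ normalizer ((zpowers a : Subgroup G) : Set G) :=
  mem_normalizer_fintype fun _ hc => conj_mem_zpowers h hc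

theorem conj_eq_or_of_mem_normalizer {g a : G} (ha : orderOf a = 3)
    (hg : g ∈ normalizer ((zpowers a : Subgroup G) : Set G)) :
    g * a * g⁻¹ = a ∨ g * a * g⁻¹ = a⁻¹ := by
  refine eq_or_eq_inv_of_mem_zpowers_three (pow_three_eq_one ha)
    ((mem_normalizer_iff.mp hg a).mp (mem_zpowers a)) ?_
  rw [Ne, mul_inv_eq_one, mul_eq_left]
  exact ne_one_of_orderOf ha (by norm_num)

/-- Elements of order dividing four from an inverted element of order three. -/
theorem pow_four_eq_one [IsSimpleGroup G] (hN : Nat.card G = 2520) {g z : G} (hz : orderOf z = 3)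
    (hgz : g * z * g⁻¹ = z⁻¹) : g ^ 4 = 1 := by
  have := Fact.mk Nat.prime_three
  -- the order is even
  have heven : 2 ∣ orderOf g := by
    by_contra hodd
    obtain ⟨k, hk⟩ := Nat.odd_iff.mpr (Nat.two_dvd_ne_zero.mp hodd)
    have hconj : ∀ n : ℕ, g ^ (2 * n) * z * (g ^ (2 * n))⁻¹ = z := by
      intro n
      induction n with
      | zero => simp
      | succ n ih =>
        rw [mul_add, pow_add, mul_inv_rev, show g ^ (2 * n) * g ^ (2 * 1) * z *
          ((g ^ (2 * 1))⁻¹ * (g ^ (2 * n))⁻¹) =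
            g ^ (2 * n) * (g * (g * z * g⁻¹) * g⁻¹) * (g ^ (2 * n))⁻¹ by
          rw [mul_one, sq]; group, hgz, ← conj_inv, hgz, inv_inv, ih]
    have h := hconj k
    have h1 : g ^ (2 * k) = g⁻¹ :=
      eq_inv_of_mul_eq_one_left (by rw [← pow_succ, ← hk, pow_orderOf_eq_one])
    rw [h1, inv_inv] at h
    have h2 : g * z * g⁻¹ = z := by
      calc g * z * g⁻¹ = g * (g⁻¹ * z * g) * g⁻¹ := by rw [h]
        _ = z := by group
    exact ne_inv_of_orderOf_three hz (h2.symm.trans hgz)
  by_cases h3 : 3 ∣ orderOf g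
  · exfalso
    obtain ⟨q, hq⟩ := h3
    have hq0 : q ≠ 0 := by rintro rfl; exact (orderOf_pos g).ne' (by omega)
    obtain ⟨r, hr⟩ := heven
    have hr0 : r ≠ 0 := by rintro rfl; exact (orderOf_pos g).ne' (by omega)
    set w := g ^ q with hw
    have hwo : orderOf w = 3 := by
      rw [hw, orderOf_pow, hq, Nat.gcd_mul_left_left, Nat.mul_div_cancel _ (Nat.pos_of_ne_zero hq0)]
    have hgw : g * w * g⁻¹ = w := by rw [hw, ← pow_succ', pow_succ, mul_inv_cancel_right]
    have hwz : w * z = z * w := by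
      have hmem : g ∈ normalizer ((zpowers z : Subgroup G) : Set G) :=
        mem_normalizer_zpowers (hgz ▸ inv_mem (mem_zpowers z))
      rcases conj_eq_or_of_mem_normalizer hz (pow_mem hmem q) with h | h
      · exact mul_inv_eq_iff_eq_mul.mp h
      · exfalso
        have h1 : w ^ 3 * z * (w ^ 3)⁻¹ = z⁻¹ := by
          calc w ^ 3 * z * (w ^ 3)⁻¹ = w * (w * (w * z * w⁻¹) * w⁻¹) * w⁻¹ := by
                simp only [pow_succ, pow_zero, one_mul, mul_inv_rev, mul_assoc]
            _ = z⁻¹ := by rw [h, ← conj_inv, h, inv_inv, h]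
        rw [pow_three_eq_one hwo, one_mul, inv_one, mul_one] at h1
        exact ne_inv_of_orderOf_three hz h1
    have hne : w ∉ zpowers z := by
      intro h
      rcases eq_or_eq_inv_of_mem_zpowers_three (pow_three_eq_one hz) h
        (ne_one_of_orderOf hwo (by norm_num)) with h1 | h1
      · rw [h1, hgz] at hgw
        exact ne_inv_of_orderOf_three hz hgw.symm
      · rw [h1, ← conj_inv, hgz, inv_inv] at hgw
        exact ne_inv_of_orderOf_three hz hgw
    obtain ⟨S, hzS, hwS, hnorm⟩ := exists_sylow_of_pair hN hz hwo hwz.symm hne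
    have hgS : g ∈ normalizer ((S : Subgroup G) : Set G) :=
      hnorm g (by rw [hgz]; exact inv_mem hzS) (by rw [hgw]; exact hwS)
    refine false_of_normalizes hN S (i := g ^ r) ?_ (pow_mem hgS r) hwS hwo ?_
    · rw [orderOf_pow, hr, Nat.gcd_mul_left_left, Nat.mul_div_cancel _ (Nat.pos_of_ne_zero hr0)]
    · exact ((Commute.refl g).pow_pow q r).eq
  · have hd : orderOf g ∣ 2520 := hN ▸ orderOf_dvd_natCard g
    have hno : ∀ p : ℕ, (p = 5 ∨ p = 7) → ¬ p ∣ orderOf g := by
      intro p hp hdvd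
      obtain ⟨c, hc⟩ := hdvd
      obtain ⟨r, hr⟩ := heven
      have hc0 : c ≠ 0 := by rintro rfl; exact (orderOf_pos g).ne' (by omega)
      have hr0 : r ≠ 0 := by rintro rfl; exact (orderOf_pos g).ne' (by omega)
      have ho : orderOf (g ^ c) = p := by
        rw [orderOf_pow, hc, Nat.gcd_mul_left_left, Nat.mul_div_cancel _ (Nat.pos_of_ne_zero hc0)]
      refine no_commuting_five_seven hN (g := g ^ r) (by rw [ho]; exact hp)
        ((Commute.refl g).pow_pow c r).eq (Or.inl ?_)
      rw [orderOf_pow, hr, Nat.gcd_mul_left_left, Nat.mul_div_cancel _ (Nat.pos_of_ne_zero hr0)]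
    have h5 := hno 5 (Or.inl rfl)
    have h7 := hno 7 (Or.inr rfl)
    have h8 : orderOf g ∣ 8 := by
      refine Nat.Coprime.dvd_of_dvd_mul_left ?_ (show orderOf g ∣ 315 * 8 from hd)
      rw [show (315 : ℕ) = 3 * 3 * 5 * 7 from rfl, Nat.coprime_mul_iff_right,
        Nat.coprime_mul_iff_right, Nat.coprime_mul_iff_right]
      refine ⟨⟨⟨?_, ?_⟩, ?_⟩, ?_⟩
      · exact ((Nat.Prime.coprime_iff_not_dvd Nat.prime_three).mpr h3).symm
      · exact ((Nat.Prime.coprime_iff_not_dvd Nat.prime_three).mpr h3).symm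
      · exact ((Nat.Prime.coprime_iff_not_dvd Nat.prime_five).mpr h5).symm
      · exact ((Nat.Prime.coprime_iff_not_dvd (by norm_num)).mpr h7).symm
    obtain ⟨j, hj3, hj⟩ := (Nat.dvd_prime_pow Nat.prime_two).mp
      (show orderOf g ∣ 2 ^ 3 from h8)
    interval_cases j
    · exact orderOf_dvd_iff_pow_eq_one.mp (by rw [hj]; norm_num)
    · exact orderOf_dvd_iff_pow_eq_one.mp (by rw [hj]; norm_num)
    · exact orderOf_dvd_iff_pow_eq_one.mp (by rw [hj]; norm_num)
    · exact absurd (hj.trans (by norm_num)) (orderOf_ne_eight hN g)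

/-- The relation on which Carmichael's presentation rests. -/
theorem exists_relation [IsSimpleGroup G] (hN : Nat.card G = 2520) {x y s : G}
    (hx : orderOf x = 3) (hy : orderOf y = 5) (hs : orderOf s = 4) (hsy : s * y * s⁻¹ = y ^ 2)
    (hxt : x * s ^ 2 = s ^ 2 * x) :
    ∃ d : ℕ, d % 5 ≠ 0 ∧ (x * (y ^ d * x * (y ^ d)⁻¹)) ^ 2 = 1 := by
  classical
  have := Fact.mk Nat.prime_two
  have := Fact.mk Nat.prime_three
  set t := s ^ 2 with ht'
  have ht : orderOf t = 2 := by rw [ht', orderOf_pow, hs]; norm_num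
  have ht2 : t * t = 1 := mul_self_eq_one ht
  have htinv : t⁻¹ = t := inv_eq_of_mul_eq_one_right ht2
  have htx : Commute x t := hxt
  have hty : t * y * t⁻¹ = y⁻¹ := inverts_of_root hy hsy
  have hy5 : y ^ 5 = 1 := hy ▸ pow_orderOf_eq_one y
  obtain ⟨w, hw, hwx, hws⟩ := exists_dihedral hN hx hs hxt
  set X := (zpowers x : Subgroup G) with hX
  set NX := normalizer (X : Set G) with hNX
  have hXc : Nat.card X = 3 := by rw [hX, Nat.card_zpowers, hx]
  have hsx : s * x * s⁻¹ = x⁻¹ := root_inverts hN hx hs hxt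
  -- the normalizer of `X`
  have hNXc : Nat.card NX = 72 := by
    have hle : centralizer ({x} : Set G) ≤ NX := fun c hc => mem_normalizer_zpowers (by
      rw [mem_centralizer_singleton_iff.mp hc, mul_inv_cancel_right]
      exact mem_zpowers x)
    have hsN : s ∈ NX := mem_normalizer_zpowers (hsx ▸ inv_mem (mem_zpowers x))
    have hd := card_normalizer_dvd hN (H := X) (Or.inl hXc)
    obtain ⟨q, hq⟩ := card_dvd_of_le hle
    rw [(card_centralizer_three hN hx ht hxt).1] at hq
    have hne : q ≠ 1 := by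
      rintro rfl
      have h := eq_of_le_of_card_ge hle
        (by rw [(card_centralizer_three hN hx ht hxt).1, hq])
      have h1 : s ∈ centralizer ({x} : Set G) := h ▸ hsN
      rw [mem_centralizer_singleton_iff.mp h1, mul_inv_cancel_right] at hsx
      exact ne_inv_of_orderOf_three hx hsx
    have := Nat.le_of_dvd (by norm_num) hd
    have : 0 < Nat.card NX := Nat.card_pos
    rw [← hNX] at *
    rw [hq] at this ⊢
    omega
  -- two different involutions of the Sylow normalizer never normalize the same subgroup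
  let T : ℕ → G := fun k => y ^ k * t * (y ^ k)⁻¹
  have hT : ∀ k, T k = y ^ (2 * k) * t := by
    intro k
    have h1 : t * (y ^ k)⁻¹ * t⁻¹ = y ^ k := by
      rw [← conj_inv, ← conj_pow, hty, inv_pow, inv_inv]
    calc T k = y ^ k * (t * (y ^ k)⁻¹ * t⁻¹) * t := by simp only [T]; group
      _ = y ^ (2 * k) * t := by rw [h1, ← pow_add, two_mul]
  have hTo : ∀ k, orderOf (T k) = 2 := fun k => by
    rw [← ht]; exact MulEquiv.orderOf_eq (MulAut.conj (y ^ k)) t
  have hTT : ∀ k, T k * T k = 1 := fun k => mul_self_eq_one (hTo k)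
  have hinj : ∀ (k j : ℕ) (a : G), orderOf a = 3 →
      T k * a * (T k)⁻¹ ∈ zpowers a → T j * a * (T j)⁻¹ ∈ zpowers a → k % 5 = j % 5 := by
    intro k j a ha hk hj
    have hmem : T k * T j ∈ normalizer ((zpowers a : Subgroup G) : Set G) :=
      mul_mem (mem_normalizer_zpowers hk) (mem_normalizer_zpowers hj)
    have hd := card_normalizer_dvd hN (H := zpowers a) (Or.inl (by rw [Nat.card_zpowers, ha]))
    have ho := (Subgroup.orderOf_dvd_natCard _ hmem).trans hd
    have e : T k * T j = y ^ (2 * k) * (y ^ (2 * j))⁻¹ := by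
      have h1 : (T j)⁻¹ = T j := inv_eq_of_mul_eq_one_right (hTT j)
      rw [← h1, hT, hT, mul_inv_rev]
      group
    rw [e] at ho
    have h5 : orderOf (y ^ (2 * k) * (y ^ (2 * j))⁻¹) ∣ 5 := by
      refine orderOf_dvd_iff_pow_eq_one.mpr ?_
      have hp : ∀ n : ℕ, (y ^ n) ^ 5 = 1 := fun n => by
        rw [← pow_mul, mul_comm, pow_mul, hy5, one_pow]
      rw [((Commute.pow_pow_self y _ _).inv_right).mul_pow, inv_pow, hp, hp, inv_one, one_mul]
    have h1 := Nat.eq_one_of_dvd_coprimes (by norm_num : Nat.Coprime 72 5) ho h5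
    rw [orderOf_eq_one_iff, mul_inv_eq_one, pow_eq_pow_iff_modEq, hy] at h1
    unfold Nat.ModEq at h1
    omega
  have hcent : ∀ k, Commute (y ^ k * x * (y ^ k)⁻¹) (T k) := fun k => htx.conj (y ^ k)
  -- the six involutions of the centralizer of `t` inverting `x`
  let c : Fin 3 × Bool → G := fun p => x ^ (p.1 : ℕ) * bif p.2 then w * s else w * s * t
  have hws2 : w * s * (w * s) = 1 := by
    have hw2 : w⁻¹ = w := inv_eq_of_mul_eq_one_right (mul_self_eq_one hw)
    calc w * s * (w * s) = (w * s * w⁻¹) * s := by rw [hw2]; group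
      _ = 1 := by rw [hws, inv_mul_cancel]
  have hwst : Commute (w * s) t := by
    have hst : Commute s t := (Commute.self_pow s 2)
    refine Commute.mul_left ?_ hst
    have h1 : w * t * w⁻¹ = t := by
      rw [ht', ← conj_pow, hws, inv_pow, ← ht', htinv]
    exact mul_inv_eq_iff_eq_mul.mp h1
  have hwsx : w * s * x * (w * s)⁻¹ = x⁻¹ := by
    calc w * s * x * (w * s)⁻¹ = w * (s * x * s⁻¹) * w⁻¹ := by group
      _ = x⁻¹ := by rw [hsx, ← conj_inv, hwx, mul_inv_cancel_right]
  have hc : ∀ p, orderOf (c p) = 2 ∧ Commute (c p) t ∧ c p * x * (c p)⁻¹ = x⁻¹ := by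
    rintro ⟨i, b⟩
    have hg : ∀ g : G, g * g = 1 → Commute g t → g * x * g⁻¹ = x⁻¹ →
        orderOf (x ^ (i : ℕ) * g) = 2 ∧ Commute (x ^ (i : ℕ) * g) t ∧
          x ^ (i : ℕ) * g * x * (x ^ (i : ℕ) * g)⁻¹ = x⁻¹ := by
      intro g hg hgt hgx
      have hconj : x ^ (i : ℕ) * g * x * (x ^ (i : ℕ) * g)⁻¹ = x⁻¹ := by
        calc x ^ (i : ℕ) * g * x * (x ^ (i : ℕ) * g)⁻¹ =
              x ^ (i : ℕ) * (g * x * g⁻¹) * (x ^ (i : ℕ))⁻¹ := by group
          _ = x⁻¹ := by
            rw [hgx, ((Commute.refl x).pow_left (i : ℕ)).inv_right.eq, mul_inv_cancel_right]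
      have hsq : x ^ (i : ℕ) * g * (x ^ (i : ℕ) * g) = 1 := by
        calc x ^ (i : ℕ) * g * (x ^ (i : ℕ) * g) =
              x ^ (i : ℕ) * (g * x ^ (i : ℕ) * g⁻¹) * (g * g) := by group
          _ = 1 := by rw [hg, mul_one, ← conj_pow, hgx, inv_pow, mul_inv_cancel]
      refine ⟨orderOf_eq_prime (by rw [sq, hsq]) fun h1 => ?_, (htx.pow_left _).mul_left hgt, hconj⟩
      rw [h1, one_mul, inv_one, mul_one] at hconj
      exact ne_inv_of_orderOf_three hx hconj
    cases b
    · refine hg (w * s * t) ?_ (hwst.mul_left (Commute.refl t)) ?_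
      · rw [hwst.symm.mul_mul_mul_comm (w * s) t, hws2, ht2, mul_one]
      · calc w * s * t * x * (w * s * t)⁻¹ = w * s * (t * x * t⁻¹) * (w * s)⁻¹ := by group
          _ = x⁻¹ := by rw [← htx.eq, mul_inv_cancel_right, hwsx]
    · exact hg _ hws2 hwst hwsx
  -- their elements of order three
  have hA : ∀ p, ∃ g : G, Commute (g * x * g⁻¹) (c p) := by
    intro p
    obtain ⟨g, hg⟩ := isConj_involution hN hs (hc p).1
    refine ⟨g⁻¹, ?_⟩
    have h := htx.conj g⁻¹
    rwa [show g⁻¹ * t * g⁻¹⁻¹ = c p by rw [ht', ← hg]; group] at h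
  choose gA hgA using hA
  set A : Fin 3 × Bool → G := fun p => gA p * x * (gA p)⁻¹ with hAdef
  have hAo : ∀ p, orderOf (A p) = 3 := fun p => by
    rw [← hx]; exact MulEquiv.orderOf_eq (MulAut.conj (gA p)) x
  have hAx : ∀ p, A p ∉ X := by
    intro p hp
    rcases eq_or_eq_inv_of_mem_zpowers_three (pow_three_eq_one hx) hp
      (ne_one_of_orderOf (hAo p) (by norm_num)) with h | h <;>
    · have h1 : c p * A p * (c p)⁻¹ = A p := by
        rw [← (hgA p).eq, mul_inv_cancel_right]
      rw [h] at h1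
      first
        | exact ne_inv_of_orderOf_three hx (h1.symm.trans (hc p).2.2)
        | (rw [← conj_inv, (hc p).2.2, inv_inv] at h1; exact ne_inv_of_orderOf_three hx h1)
  have hAinv : ∀ p, t * A p * t⁻¹ = (A p)⁻¹ := by
    intro p
    refine (conj_eq_or_eq_inv hN (hAo p) (hc p).1 (hgA p).eq (hc p).2.1.eq.symm).resolve_left
      fun h => hAx p ?_
    exact mem_zpowers_of_commute_involution hN hx (hAo p) ht hxt (mul_inv_eq_iff_eq_mul.mp h).symm
  have hAinj : ∀ p q, zpowers (A p) = zpowers (A q) → p = q := by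
    intro p q h
    by_contra hne
    have hq : Commute (A p) (c q) := by
      obtain ⟨i, hi⟩ : A p ∈ zpowers (A q) := h ▸ mem_zpowers (A p)
      rw [← hi]
      exact (hgA q).zpow_left i
    have hprod : Commute (A p) (c p * c q) := (hgA p).mul_right hq
    obtain ⟨⟨i, b⟩, ⟨j, b'⟩⟩ := p, q
    have hg : (bif b then w * s else w * s * t) * (bif b' then w * s else w * s * t) =
        if b = b' then 1 else t := by
      cases b <;> cases b' <;> simp only [cond_true, cond_false, if_true, if_false, Bool.false_eq_true,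
        Bool.true_eq_false]
      · rw [hwst.symm.mul_mul_mul_comm (w * s) t, hws2, ht2, mul_one]
      · rw [mul_assoc, ← hwst.eq, ← mul_assoc, hws2, one_mul]
      · rw [← mul_assoc, hws2, one_mul]
      · exact hws2
    set g := bif b then w * s else w * s * t with hgdef
    set g' := bif b' then w * s else w * s * t with hg'def
    have hgx : g * x * g⁻¹ = x⁻¹ := by
      have := (hc (⟨0, by norm_num⟩, b)).2.2
      simpa [c] using this
    have hgj : g * x ^ (j : ℕ) = (x ^ (j : ℕ))⁻¹ * g := by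
      rw [← inv_pow, ← hgx, conj_pow, inv_mul_cancel_right]
    have hprod' : c (i, b) * c (j, b') =
        x ^ (i : ℕ) * (x ^ (j : ℕ))⁻¹ * (if b = b' then 1 else t) := by
      show x ^ (i : ℕ) * g * (x ^ (j : ℕ) * g') = _
      rw [← hg]
      calc x ^ (i : ℕ) * g * (x ^ (j : ℕ) * g') = x ^ (i : ℕ) * (g * x ^ (j : ℕ)) * g' := by group
        _ = x ^ (i : ℕ) * (x ^ (j : ℕ))⁻¹ * (g * g') := by rw [hgj]; group
    by_cases hij : i = j
    · subst hij
      have hbb : b ≠ b' := fun hb => hne (by rw [hb])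
      rw [hprod', mul_inv_cancel, one_mul, if_neg hbb] at hprod
      exact hAx _ (mem_zpowers_of_commute_involution hN hx (hAo _) ht hxt hprod.eq)
    · -- a power of `x` commutes with the second element
      set d := x ^ (i : ℕ) * (x ^ (j : ℕ))⁻¹ with hd
      have hdt : Commute d t := (htx.pow_left _).mul_left (htx.pow_left _).inv_left
      have hd2 : Commute (A (i, b)) (d ^ 2) := by
        have h2 := hprod.pow_right 2
        rw [hprod', Commute.mul_pow (by split_ifs; exacts [Commute.one_right d, hdt])] at h2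
        have : (if b = b' then (1 : G) else t) ^ 2 = 1 := by
          split_ifs
          · exact one_pow 2
          · rw [sq, ht2]
        rwa [this, mul_one] at h2
      have hdne : d ^ 2 ≠ 1 := by
        intro h2
        rw [hd, ((Commute.pow_pow_self x _ _).inv_right).mul_pow, inv_pow, mul_inv_eq_one,
          ← pow_mul, ← pow_mul, pow_eq_pow_iff_modEq, hx] at h2
        unfold Nat.ModEq at h2
        exact hij (Fin.ext (by omega))
      have hdx : d ^ 2 ∈ X := pow_mem (mul_mem (pow_mem (mem_zpowers x) _)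
        (inv_mem (pow_mem (mem_zpowers x) _))) 2
      have hxA : Commute (A (i, b)) x := by
        rcases eq_or_eq_inv_of_mem_zpowers_three (pow_three_eq_one hx) hdx hdne with e | e
        · rwa [e] at hd2
        · rw [e] at hd2
          simpa using hd2.inv_right
      obtain ⟨S, hxS, hAS, hnorm⟩ := exists_sylow_of_pair hN hx (hAo _) hxA.eq.symm (hAx _)
      exact false_of_normalizes hN S ht
        (hnorm t (by rwa [← htx.eq, mul_inv_cancel_right]) (by rw [hAinv]; exact inv_mem hAS))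
        hxS hx hxt
  -- thirty-five cosets
  let rep : Fin 5 ⊕ Fin 5 × (Fin 3 × Bool) → G :=
    Sum.elim (fun k => y ^ (k : ℕ)) (fun p => y ^ (p.1 : ℕ) * gA p.2)
  have hsame : ∀ g h : G, (g : G ⧸ NX) = (h : G ⧸ NX) →
      zpowers (g * x * g⁻¹) = zpowers (h * x * h⁻¹) := by
    intro g h e
    rw [QuotientGroup.eq] at e
    rcases conj_eq_or_of_mem_normalizer hx e with e1 | e1
    · congr 1
      calc g * x * g⁻¹ = g * ((g⁻¹ * h) * x * (g⁻¹ * h)⁻¹) * g⁻¹ := by rw [e1]
        _ = h * x * h⁻¹ := by group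
    · rw [← zpowers_inv (g := g * x * g⁻¹)]
      congr 1
      calc (g * x * g⁻¹)⁻¹ = g * x⁻¹ * g⁻¹ := by group
        _ = g * ((g⁻¹ * h) * x * (g⁻¹ * h)⁻¹) * g⁻¹ := by rw [e1]
        _ = h * x * h⁻¹ := by group
  have hinlT : ∀ k : ℕ, T k * (y ^ k * x * (y ^ k)⁻¹) * (T k)⁻¹ = y ^ k * x * (y ^ k)⁻¹ :=
    fun k => by rw [← (hcent k).eq, mul_inv_cancel_right]
  have hinrT : ∀ (k : ℕ) p, T k * (y ^ k * gA p * x * (y ^ k * gA p)⁻¹) * (T k)⁻¹ =
      (y ^ k * gA p * x * (y ^ k * gA p)⁻¹)⁻¹ := by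
    intro k p
    have e : y ^ k * gA p * x * (y ^ k * gA p)⁻¹ = y ^ k * A p * (y ^ k)⁻¹ := by
      rw [hAdef]; group
    rw [e]
    calc T k * (y ^ k * A p * (y ^ k)⁻¹) * (T k)⁻¹ = y ^ k * (t * A p * t⁻¹) * (y ^ k)⁻¹ := by
          simp only [T]; group
      _ = (y ^ k * A p * (y ^ k)⁻¹)⁻¹ := by rw [hAinv]; group
  have ho3 : ∀ g : G, orderOf (g * x * g⁻¹) = 3 := fun g => by
    rw [← hx]; exact MulEquiv.orderOf_eq (MulAut.conj g) x
  have hnorm_of_eq : ∀ (k : ℕ) (a b : G), zpowers a = zpowers b → T k * a * (T k)⁻¹ ∈ zpowers a →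
      T k * b * (T k)⁻¹ ∈ zpowers b := by
    intro k a b e h
    rw [← e]
    exact conj_mem_zpowers h (e ▸ mem_zpowers b)
  have hrep : Function.Injective fun v => (rep v : G ⧸ NX) := by
    intro u v e
    have hz := hsame _ _ e
    have key : ∀ (j : Fin 5) (p : Fin 5 × (Fin 3 × Bool)),
        zpowers (rep (.inl j) * x * (rep (.inl j))⁻¹) ≠
          zpowers (rep (.inr p) * x * (rep (.inr p))⁻¹) := by
      rintro j ⟨k, p⟩ hz
      have h1 : T (k : ℕ) * (rep (.inr (k, p)) * x * (rep (.inr (k, p)))⁻¹) * (T (k : ℕ))⁻¹ =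
          (rep (.inr (k, p)) * x * (rep (.inr (k, p)))⁻¹)⁻¹ := hinrT k p
      have h2 : T (j : ℕ) * (rep (.inl j) * x * (rep (.inl j))⁻¹) * (T (j : ℕ))⁻¹ =
          rep (.inl j) * x * (rep (.inl j))⁻¹ := hinlT j
      set a := rep (.inl j) * x * (rep (.inl j))⁻¹ with ha
      set b := rep (.inr (k, p)) * x * (rep (.inr (k, p)))⁻¹ with hb
      have hkj := hinj k j b (ho3 _) (h1 ▸ inv_mem (mem_zpowers b))
        (hnorm_of_eq _ _ _ hz (by rw [h2]; exact mem_zpowers a))
      have : k = j := Fin.ext (by have := k.isLt; have := j.isLt; omega)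
      subst this
      obtain ⟨i, hi⟩ : b ∈ zpowers a := hz ▸ mem_zpowers b
      rw [← hi, ← conj_zpow, h2] at h1
      exact ne_inv_of_orderOf_three (ho3 _) (hi ▸ h1 : b = b⁻¹)
    rcases u with j | ⟨k, p⟩ <;> rcases v with j' | ⟨k', p'⟩
    · have h2 := hinlT j
      have h2' := hinlT j'
      have := hinj j j' _ (ho3 (y ^ (j' : ℕ)))
        (hnorm_of_eq _ _ _ hz (by show T j * (y ^ (j : ℕ) * x * (y ^ (j : ℕ))⁻¹) * _ ∈ _
                                  rw [h2]; exact mem_zpowers _))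
        (by rw [h2']; exact mem_zpowers _)
      exact congrArg Sum.inl (Fin.ext (by have := j.isLt; have := j'.isLt; omega))
    · exact absurd hz (key j (k', p'))
    · exact absurd hz.symm (key j' (k, p))
    · have hkk := hinj k k' _ (ho3 (y ^ (k' : ℕ) * gA p'))
        (hnorm_of_eq _ _ _ hz (by
          show T k * (y ^ (k : ℕ) * gA p * x * (y ^ (k : ℕ) * gA p)⁻¹) * _ ∈ _
          rw [hinrT]; exact inv_mem (mem_zpowers _)))
        (by rw [hinrT]; exact inv_mem (mem_zpowers _))
      obtain rfl : k = k' := Fin.ext (by have := k.isLt; have := k'.isLt; omega)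
      have : p = p' := by
        apply hAinj
        have hz' : zpowers (y ^ (k : ℕ) * gA p * x * (y ^ (k : ℕ) * gA p)⁻¹) =
            zpowers (y ^ (k : ℕ) * gA p' * x * (y ^ (k : ℕ) * gA p')⁻¹) := hz
        have hback : ∀ q q', zpowers (y ^ (k : ℕ) * gA q * x * (y ^ (k : ℕ) * gA q)⁻¹) =
            zpowers (y ^ (k : ℕ) * gA q' * x * (y ^ (k : ℕ) * gA q')⁻¹) →
            A q ∈ zpowers (A q') := by
          intro q q' h
          have h1 : (y ^ (k : ℕ)) * A q * (y ^ (k : ℕ))⁻¹ ∈
              zpowers ((y ^ (k : ℕ)) * A q' * (y ^ (k : ℕ))⁻¹) := by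
            have e : ∀ r, (y ^ (k : ℕ)) * A r * (y ^ (k : ℕ))⁻¹ =
                y ^ (k : ℕ) * gA r * x * (y ^ (k : ℕ) * gA r)⁻¹ := fun r => by rw [hAdef]; group
            rw [e, e, ← h]
            exact mem_zpowers _
          obtain ⟨n, hn⟩ := h1
          refine ⟨n, ?_⟩
          have hn' : (y ^ (k : ℕ) * A q' * (y ^ (k : ℕ))⁻¹) ^ n =
              y ^ (k : ℕ) * A q * (y ^ (k : ℕ))⁻¹ := hn
          rw [conj_zpow] at hn'
          exact mul_left_cancel (mul_right_cancel hn')
        exact le_antisymm (zpowers_le.mpr (hback p p' hz'))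
          (zpowers_le.mpr (hback p' p hz'.symm))
      rw [this]
  have hidx : Nat.card (G ⧸ NX) = 35 := by
    have := card_mul_index NX
    rw [hNXc, hN] at this
    change NX.index = 35
    omega
  have hsurj : Function.Surjective fun v => (rep v : G ⧸ NX) :=
    ((Nat.bijective_iff_injective_and_card _).mpr ⟨hrep, by
      rw [hidx, Nat.card_sum, Nat.card_prod, Nat.card_prod, Nat.card_fin, Nat.card_fin,
        Nat.card_eq_fintype_card, Fintype.card_bool]⟩).2
  -- a conjugate of `x` commuting with it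
  obtain ⟨S, hxS⟩ := exists_sylow_mem_three (G := G) hx
  set NS := normalizer ((S : Subgroup G) : Set G) with hNS
  obtain ⟨n, hn, hnx⟩ : ∃ n ∈ NS, n * x * n⁻¹ ∉ X := by
    by_contra hne
    push Not at hne
    have hNS36 : Nat.card NS = 36 := (card_sylow_three hN S).2
    have hd9 : Nat.card (NS ⊓ centralizer ({x} : Set G) : Subgroup G) ≤ 9 := by
      set D := (NS ⊓ centralizer ({x} : Set G) : Subgroup G) with hD
      have hd : Nat.card D ∣ 4 * 9 := (hNS36 ▸ card_dvd_of_le inf_le_left : Nat.card D ∣ 36)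
      refine Nat.le_of_dvd (by norm_num) (Nat.Coprime.dvd_of_dvd_mul_left ?_ hd)
      rw [show (4 : ℕ) = 2 ^ 2 from rfl]
      refine Nat.Coprime.pow_right 2 (Nat.Coprime.symm
        ((Nat.Prime.coprime_iff_not_dvd Nat.prime_two).mpr fun h2 => ?_))
      obtain ⟨v, hv⟩ := exists_prime_orderOf_dvd_card' (G := D) 2 h2
      exact false_of_normalizes hN S (i := (v : G)) (by rw [Subgroup.orderOf_coe, hv]) v.2.1 hxS hx
        (mem_centralizer_singleton_iff.mp v.2.2).symm
    have hle2 : Nat.card {g : G // ∃ h ∈ NS, h * x * h⁻¹ = g} ≤ 2 := by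
      let f : {g : G // ∃ h ∈ NS, h * x * h⁻¹ = g} → Bool := fun g => decide (g.1 = x)
      refine (Nat.card_le_card_of_injective f ?_).trans (by
        rw [Nat.card_eq_fintype_card, Fintype.card_bool])
      rintro ⟨g, h, hh, rfl⟩ ⟨g', h', hh', rfl⟩ e
      have hcase : ∀ h ∈ NS, h * x * h⁻¹ = x ∨ h * x * h⁻¹ = x⁻¹ := fun h hh =>
        eq_or_eq_inv_of_mem_zpowers_three (pow_three_eq_one hx) (hne h hh)
          (ne_one_of_orderOf (ho3 h) (by norm_num))
      have hxi : x⁻¹ ≠ x := (ne_inv_of_orderOf_three hx).symm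
      rcases hcase h hh with e1 | e1 <;> rcases hcase h' hh' with e2 | e2 <;>
        simp_all [f]
    have := card_conjOrbit_mul NS x
    rw [hNS36] at this
    have := Nat.mul_le_mul hle2 hd9
    omega
  set z := n * x * n⁻¹ with hz
  have hzS : z ∈ (S : Subgroup G) := (mem_normalizer_iff.mp hn x).mp hxS
  have hzo : orderOf z = 3 := ho3 n
  have hxz : Commute x z := commute_of_mem_sylow_three hN S hxS hzS
  obtain ⟨v, hv⟩ := hsurj (n : G ⧸ NX)
  have hzv := hsame _ _ hv
  rcases v with j | ⟨k, p⟩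
  · -- five commuting subgroups
    exfalso
    have hj : (j : ℕ) % 5 ≠ 0 := by
      intro h0
      have h0' : (j : ℕ) = 0 := by have := j.isLt; omega
      apply hnx
      have hz' : zpowers (y ^ (j : ℕ) * x * (y ^ (j : ℕ))⁻¹) = zpowers z := hzv
      rw [h0', pow_zero, one_mul, inv_one, mul_one] at hz'
      rw [hX, hz']
      exact mem_zpowers z
    have hcomm1 : Commute x (y ^ (j : ℕ) * x * (y ^ (j : ℕ))⁻¹) := by
      have hz' : zpowers (y ^ (j : ℕ) * x * (y ^ (j : ℕ))⁻¹) = zpowers z := hzv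
      obtain ⟨i, hi⟩ : y ^ (j : ℕ) * x * (y ^ (j : ℕ))⁻¹ ∈ zpowers z := hz' ▸ mem_zpowers _
      rw [← hi]
      exact hxz.zpow_right i
    -- doubling
    have hdouble : ∀ d : ℕ, Commute x (y ^ d * x * (y ^ d)⁻¹) →
        Commute x (y ^ (2 * d) * x * (y ^ (2 * d))⁻¹) := by
      intro d hd
      have h1 := hd.conj s
      rw [hsx] at h1
      have e : s * (y ^ d * x * (y ^ d)⁻¹) * s⁻¹ = (y ^ (2 * d) * x * (y ^ (2 * d))⁻¹)⁻¹ := by
        calc s * (y ^ d * x * (y ^ d)⁻¹) * s⁻¹ =
              (s * y ^ d * s⁻¹) * (s * x * s⁻¹) * (s * y ^ d * s⁻¹)⁻¹ := by group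
          _ = (y ^ (2 * d) * x * (y ^ (2 * d))⁻¹)⁻¹ := by
            rw [← conj_pow, hsy, hsx, ← pow_mul, conj_inv]
      rw [e] at h1
      simpa using h1.inv_inv
    have hper : ∀ d : ℕ, y ^ d = y ^ (d % 5) := fun d => by rw [← hy, pow_mod_orderOf]
    have hallc : ∀ d : ℕ, d % 5 ≠ 0 → Commute x (y ^ d * x * (y ^ d)⁻¹) := by
      intro d hd
      have h0 := hcomm1
      have h1 := hdouble _ h0
      have h2 := hdouble _ h1
      have h3 := hdouble _ h2
      rw [hper] at h0 h1 h2 h3 ⊢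
      have key : ∀ a b : Fin 5, (a : ℕ) ≠ 0 → (b : ℕ) ≠ 0 → (b : ℕ) = (a : ℕ) % 5 ∨
          (b : ℕ) = 2 * (a : ℕ) % 5 ∨ (b : ℕ) = 2 * (2 * (a : ℕ)) % 5 ∨
            (b : ℕ) = 2 * (2 * (2 * (a : ℕ))) % 5 := by decide
      rcases key j ⟨d % 5, by omega⟩ (fun h => hj (by omega)) hd with e | e | e | e <;>
        simp only at e <;> rw [e] <;> assumption
    let a : Fin 5 → G := fun i => y ^ (i : ℕ) * x * (y ^ (i : ℕ))⁻¹
    have hallS : ∀ i, a i ∈ (zpowers x ⊔ zpowers z : Subgroup G) := by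
      intro i
      have h0 : a ⟨0, by norm_num⟩ = x := by simp [a]
      have hj' : a j ∈ (zpowers x ⊔ zpowers z : Subgroup G) := by
        refine mem_sup_right ?_
        have hz' : zpowers (a j) = zpowers z := hzv
        exact hz' ▸ mem_zpowers _
      have hSeq : ∀ T' : Sylow 3 G, x ∈ (T' : Subgroup G) → a j ∈ (T' : Subgroup G) →
          zpowers x ⊔ zpowers z ≤ (T' : Subgroup G) := by
        intro T' h1 h2
        have hz' : zpowers (a j) = zpowers z := hzv
        exact sup_le (zpowers_le.mpr h1) (hz' ▸ zpowers_le.mpr h2)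
      have hcx : ∀ k : Fin 5, Commute x (a k) := by
        intro k
        by_cases hk : (k : ℕ) % 5 = 0
        · rw [show k = ⟨0, by norm_num⟩ from Fin.ext (show (k : ℕ) = 0 by have := k.isLt; omega), h0]
        · exact hallc k hk
      have hcj : Commute (a j) (a i) := by
        set d := ((i : ℕ) + 5 - j) with hd
        have hbase : Commute x (y ^ d * x * (y ^ d)⁻¹) := by
          by_cases hd0 : d % 5 = 0
          · rw [hper, hd0, pow_zero, one_mul, inv_one, mul_one]
          · exact hallc d hd0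
        have h1 := hbase.conj (y ^ (j : ℕ))
        have e : y ^ (j : ℕ) * (y ^ d * x * (y ^ d)⁻¹) * (y ^ (j : ℕ))⁻¹ = a i := by
          rw [show y ^ (j : ℕ) * (y ^ d * x * (y ^ d)⁻¹) * (y ^ (j : ℕ))⁻¹ =
            y ^ ((j : ℕ) + d) * x * (y ^ ((j : ℕ) + d))⁻¹ by rw [pow_add]; group, hper,
            show ((j : ℕ) + d) % 5 = i by have := i.isLt; have := j.isLt; omega]
        rwa [e] at h1
      -- centralizing a Sylow subgroup
      have hne : a j ∉ zpowers x := by
        intro h
        apply hnx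
        have hz' : zpowers (a j) = zpowers z := hzv
        exact (zpowers_le.mpr h) (hz' ▸ mem_zpowers z)
      obtain ⟨T', hxT, hjT, hnT⟩ := exists_sylow_of_pair hN hx (ho3 _) (hcx j).eq hne
      have hle : zpowers x ⊔ zpowers z ≤ (T' : Subgroup G) := hSeq T' hxT hjT
      have hTeq : zpowers x ⊔ zpowers z = (T' : Subgroup G) := by
        obtain ⟨R, hxR, hzR, -⟩ := exists_sylow_of_pair hN hx hzo hxz.eq hnx
        have hle' : zpowers x ⊔ zpowers (a j) ≤ zpowers x ⊔ zpowers z :=
          sup_le le_sup_left (zpowers_le.mpr hj')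
        refine le_antisymm hle (le_trans ?_ hle')
        have hd := card_dvd_of_le (sup_le (zpowers_le.mpr hxT) (zpowers_le.mpr hjT) :
          zpowers x ⊔ zpowers (a j) ≤ (T' : Subgroup G))
        rw [card_sylow_three_eq hN T'] at hd
        refine (eq_of_le_of_card_ge (sup_le (zpowers_le.mpr hxT) (zpowers_le.mpr hjT)) ?_).ge
        rw [card_sylow_three_eq hN T']
        have h3 : 3 ≤ Nat.card (zpowers x ⊔ zpowers (a j) : Subgroup G) := by
          have := card_le_of_le (le_sup_left : zpowers x ≤ zpowers x ⊔ zpowers (a j))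
          rwa [Nat.card_zpowers, hx] at this
        have hne3 : Nat.card (zpowers x ⊔ zpowers (a j) : Subgroup G) ≠ 3 := fun h => hne (by
          rw [eq_of_le_of_card_ge (le_sup_left : zpowers x ≤ zpowers x ⊔ zpowers (a j))
            (by rw [h, Nat.card_zpowers, hx])]
          exact mem_sup_right (mem_zpowers _))
        obtain ⟨e, he2, he⟩ := (Nat.dvd_prime_pow Nat.prime_three).mp
          (show Nat.card (zpowers x ⊔ zpowers (a j) : Subgroup G) ∣ 3 ^ 2 from hd)
        interval_cases e <;> rw [he] at h3 hne3 ⊢ <;> omega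
      rw [hTeq]
      have hp : IsPGroup 3 (zpowers (a i)) :=
        IsPGroup.of_card (n := 1) (by rw [Nat.card_zpowers, ho3, pow_one])
      refine ((hp.inf_normalizer_sylow T').le ⟨mem_zpowers _, hnT _ ?_ ?_⟩).2
      · rw [← (hcx i).eq, mul_inv_cancel_right]; exact hxT
      · rw [← hcj.eq, mul_inv_cancel_right]; exact hjT
    obtain ⟨R, hxR, hzR, -⟩ := exists_sylow_of_pair hN hx hzo hxz.eq hnx
    let f : Fin 5 × Bool → {g : (R : Subgroup G) // g ≠ 1} := fun p =>
      ⟨⟨bif p.2 then a p.1 else (a p.1)⁻¹, by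
        have h := sup_le (zpowers_le.mpr hxR) (zpowers_le.mpr hzR) (hallS p.1)
        cases p.2
        · exact inv_mem h
        · exact h⟩, fun h1 => by
        have h2 : (bif p.2 then a p.1 else (a p.1)⁻¹) = 1 := congrArg Subtype.val h1
        cases hp2 : p.2 <;> rw [hp2] at h2
        · exact ne_one_of_orderOf (ho3 (y ^ (p.1 : ℕ))) (by norm_num) (inv_eq_one.mp h2)
        · exact ne_one_of_orderOf (ho3 (y ^ (p.1 : ℕ))) (by norm_num) h2⟩
    have hf : Function.Injective f := by
      rintro ⟨i, b⟩ ⟨i', b'⟩ e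
      have e' : (bif b then a i else (a i)⁻¹) = bif b' then a i' else (a i')⁻¹ :=
        congrArg (fun g : {g : (R : Subgroup G) // g ≠ 1} => ((g : (R : Subgroup G)) : G)) e
      have hzz : zpowers (a i) = zpowers (a i') := by
        cases b <;> cases b' <;> simp only [cond_true, cond_false] at e'
        · rw [inv_injective e']
        · rw [← zpowers_inv (g := a i), e']
        · rw [e', zpowers_inv]
        · rw [e']
      have := hinj i i' _ (ho3 (y ^ (i' : ℕ)))
        (hnorm_of_eq _ _ _ hzz (by rw [hinlT]; exact mem_zpowers _))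
        (by rw [hinlT]; exact mem_zpowers _)
      obtain rfl : i = i' := Fin.ext (by have := i.isLt; have := i'.isLt; omega)
      have hne' : a i ≠ (a i)⁻¹ := ne_inv_of_orderOf_three (ho3 _)
      cases b <;> cases b' <;> simp only [cond_true, cond_false] at e'
      · rfl
      · exact absurd e'.symm hne'
      · exact absurd e' hne'
      · rfl
    have : Fintype G := Fintype.ofFinite G
    have := Nat.card_le_card_of_injective f hf
    rw [Nat.card_prod, Nat.card_fin, Nat.card_eq_fintype_card (α := Bool), Fintype.card_bool,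
      Nat.card_eq_fintype_card, Fintype.card_subtype_compl, Fintype.card_subtype_eq,
      ← Nat.card_eq_fintype_card, card_sylow_three_eq hN R] at this
    omega
  · -- one of the involutions inverts `z`
    have hr : T (k : ℕ) * z * (T (k : ℕ))⁻¹ = z⁻¹ := by
      have h1 := hinrT k p
      have hz' : zpowers (y ^ (k : ℕ) * gA p * x * (y ^ (k : ℕ) * gA p)⁻¹) = zpowers z := hzv
      obtain ⟨i, hi⟩ : z ∈ zpowers (y ^ (k : ℕ) * gA p * x * (y ^ (k : ℕ) * gA p)⁻¹) :=
        hz' ▸ mem_zpowers z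
      rw [← hi, ← conj_zpow, h1, inv_zpow]
    have hk0 : (k : ℕ) % 5 ≠ 0 := by
      intro h0
      have h0' : (k : ℕ) = 0 := by have := k.isLt; omega
      have hT0 : T (k : ℕ) = t := by simp [T, h0']
      rw [hT0] at hr
      obtain ⟨R, hxR, hzR, hnR⟩ := exists_sylow_of_pair hN hx hzo hxz.eq hnx
      exact false_of_normalizes hN R ht
        (hnR t (by rwa [← htx.eq, mul_inv_cancel_right]) (hr ▸ inv_mem hzR)) hxR hx hxt
    refine ⟨2 * (k : ℕ), by omega, ?_⟩
    have h4 := pow_four_eq_one hN hzo (g := x * T (k : ℕ)) (by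
      calc x * T (k : ℕ) * z * (x * T (k : ℕ))⁻¹ = x * (T (k : ℕ) * z * (T (k : ℕ))⁻¹) * x⁻¹ := by
            group
        _ = z⁻¹ := by rw [hr, hxz.inv_right.eq, mul_inv_cancel_right])
    have e : x * (y ^ (2 * (k : ℕ)) * x * (y ^ (2 * (k : ℕ)))⁻¹) =
        x * T (k : ℕ) * (x * T (k : ℕ)) := by
      calc x * (y ^ (2 * (k : ℕ)) * x * (y ^ (2 * (k : ℕ)))⁻¹) =
            x * (y ^ (2 * (k : ℕ)) * (t * x * t⁻¹) * (y ^ (2 * (k : ℕ)))⁻¹) := by
              rw [← htx.eq, mul_inv_cancel_right]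
        _ = x * (T (k : ℕ) * x * (T (k : ℕ))⁻¹) := by rw [hT]; group
        _ = x * T (k : ℕ) * (x * T (k : ℕ)) := by
              rw [inv_eq_of_mul_eq_one_right (hTT _)]; group
    rw [e, ← sq, ← pow_mul]
    exact h4

/-- A simple group of order `2520` is the alternating group of degree seven. -/
theorem equiv_alternating_seven [IsSimpleGroup G] (hN : Nat.card G = 2520) :
    Nonempty (G ≃* alternatingGroup (Fin 7)) := by
  classical
  have hG := not_comm hN
  have := Fact.mk Nat.prime_three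
  have := Fact.mk Nat.prime_five
  obtain ⟨y, s, hy, hs, hsy, hN20⟩ := exists_order_four hN
  set t := s ^ 2 with ht'
  have ht : orderOf t = 2 := by rw [ht', orderOf_pow, hs]; norm_num
  obtain ⟨x₀, hx₀⟩ := exists_prime_orderOf_dvd_card' (G := centralizer ({t} : Set G)) 3
    (by rw [card_centralizer_involution hN ht]; norm_num)
  set x := (x₀ : G) with hxdef
  have hx : orderOf x = 3 := by rw [hxdef, Subgroup.orderOf_coe, hx₀]
  have hxt : x * t = t * x := mem_centralizer_singleton_iff.mp x₀.2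
  have hsx : s * x * s⁻¹ = x⁻¹ := root_inverts hN hx hs hxt
  obtain ⟨d₀, hd₀, hrel⟩ := exists_relation hN hx hy hs hsy hxt
  have hper : ∀ d : ℕ, y ^ d = y ^ (d % 5) := fun d => by rw [← hy, pow_mod_orderOf]
  let R : ℕ → Prop := fun d => (x * (y ^ d * x * (y ^ d)⁻¹)) ^ 2 = 1
  have hdouble : ∀ d, R d → R (2 * d) := by
    intro d hd
    have h1 : s * (x * (y ^ d * x * (y ^ d)⁻¹)) ^ 2 * s⁻¹ = 1 := by
      rw [show (x * (y ^ d * x * (y ^ d)⁻¹)) ^ 2 = 1 from hd, mul_one, mul_inv_cancel]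
    rw [← conj_pow] at h1
    have e : s * (x * (y ^ d * x * (y ^ d)⁻¹)) * s⁻¹ =
        x⁻¹ * (y ^ (2 * d) * x⁻¹ * (y ^ (2 * d))⁻¹) := by
      calc s * (x * (y ^ d * x * (y ^ d)⁻¹)) * s⁻¹ = (s * x * s⁻¹) *
            ((s * y ^ d * s⁻¹) * (s * x * s⁻¹) * (s * y ^ d * s⁻¹)⁻¹) := by group
        _ = x⁻¹ * (y ^ (2 * d) * x⁻¹ * (y ^ (2 * d))⁻¹) := by
          rw [← conj_pow, hsy, hsx, ← pow_mul]
    rw [e, sq] at h1
    show (x * (y ^ (2 * d) * x * (y ^ (2 * d))⁻¹)) ^ 2 = 1
    rw [sq]
    set c := y ^ (2 * d)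
    calc x * (c * x * c⁻¹) * (x * (c * x * c⁻¹)) =
          x * (x⁻¹ * (c * x⁻¹ * c⁻¹) * (x⁻¹ * (c * x⁻¹ * c⁻¹)))⁻¹ * x⁻¹ := by group
      _ = 1 := by rw [h1]; group
  have hR : ∀ d : ℕ, d % 5 ≠ 0 → R d := by
    intro d hd
    have h0 : R d₀ := hrel
    have h1 := hdouble _ h0
    have h2 := hdouble _ h1
    have h3 := hdouble _ h2
    simp only [R] at h0 h1 h2 h3 ⊢
    rw [hper] at h0 h1 h2 h3 ⊢
    have key : ∀ a b : Fin 5, (a : ℕ) ≠ 0 → (b : ℕ) ≠ 0 → (b : ℕ) = (a : ℕ) % 5 ∨
        (b : ℕ) = 2 * (a : ℕ) % 5 ∨ (b : ℕ) = 2 * (2 * (a : ℕ)) % 5 ∨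
          (b : ℕ) = 2 * (2 * (2 * (a : ℕ))) % 5 := by decide
    rcases key ⟨d₀ % 5, Nat.mod_lt _ (by norm_num)⟩ ⟨d % 5, Nat.mod_lt _ (by norm_num)⟩ hd₀ hd
      with e | e | e | e <;> simp only at e
    · rw [show d % 5 = d₀ % 5 by omega]; exact h0
    · rw [show d % 5 = 2 * d₀ % 5 by omega]; exact h1
    · rw [show d % 5 = 2 * (2 * d₀) % 5 by omega]; exact h2
    · rw [show d % 5 = 2 * (2 * (2 * d₀)) % 5 by omega]; exact h3
  let a : Fin 5 → G := fun i => y ^ (i : ℕ) * x * (y ^ (i : ℕ))⁻¹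
  have ha3 : ∀ i, a i ^ 3 = 1 := fun i => by
    rw [conj_pow, pow_three_eq_one hx, mul_one, mul_inv_cancel]
  have ha2 : ∀ i j, i ≠ j → (a i * a j) ^ 2 = 1 := by
    intro i j hij
    set d := ((j : ℕ) + 5 - i) with hd
    have hd0 : d % 5 ≠ 0 := by
      intro h
      exact hij (Fin.ext (by have := i.isLt; have := j.isLt; omega))
    have e : a i * a j = y ^ (i : ℕ) * (x * (y ^ d * x * (y ^ d)⁻¹)) * (y ^ (i : ℕ))⁻¹ := by
      have e1 : y ^ (j : ℕ) = y ^ (i : ℕ) * y ^ d := by
        rw [← pow_add, hper (i + d)]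
        congr 1
        have := i.isLt; have := j.isLt; omega
      simp only [a, e1]
      group
    rw [e, conj_pow, hR d hd0, mul_one, mul_inv_cancel]
  set H := closure (Set.range a) with hH
  set M := normalizer (H : Set G) with hM
  have haH : ∀ i, a i ∈ H := fun i => subset_closure ⟨i, rfl⟩
  have hmemM : ∀ g : G, (∀ i, g * a i * g⁻¹ ∈ H) → g ∈ M := by
    intro g hg
    have hle : H ≤ H.comap (MulAut.conj g).toMonoidHom :=
      (closure_le _).mpr (by rintro _ ⟨i, rfl⟩; exact hg i)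
    exact mem_normalizer_fintype fun h hh => hle hh
  have hyM : y ∈ M := hmemM y fun i => by
    have e : y * a i * y⁻¹ = a ⟨((i : ℕ) + 1) % 5, Nat.mod_lt _ (by norm_num)⟩ := by
      simp only [a]
      rw [← hper, pow_succ']
      group
    rw [e]; exact haH _
  have hsM : s ∈ M := hmemM s fun i => by
    have e : s * a i * s⁻¹ = (a ⟨2 * (i : ℕ) % 5, Nat.mod_lt _ (by norm_num)⟩)⁻¹ := by
      simp only [a]
      rw [← hper]
      calc s * (y ^ (i : ℕ) * x * (y ^ (i : ℕ))⁻¹) * s⁻¹ =
            (s * y ^ (i : ℕ) * s⁻¹) * (s * x * s⁻¹) * (s * y ^ (i : ℕ) * s⁻¹)⁻¹ := by group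
        _ = (y ^ (2 * (i : ℕ)) * x * (y ^ (2 * (i : ℕ)))⁻¹)⁻¹ := by
          rw [← conj_pow, hsy, hsx, ← pow_mul, conj_inv]
    rw [e]; exact inv_mem (haH _)
  have hxH : x ∈ H := by
    have := haH ⟨0, by norm_num⟩
    simpa [a] using this
  have hxM : x ∈ M := le_normalizer hxH
  by_cases hMt : M = ⊤
  · have hHn : H.Normal := normalizer_eq_top_iff.mp hMt
    rcases hHn.eq_bot_or_eq_top with h | h
    · exact absurd (mem_bot.mp (h ▸ hxH)) (ne_one_of_orderOf hx (by norm_num))
    · exact equiv_alternating_seven_of_relations hN a ha3 ha2 h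
  exfalso
  have hmul := card_mul_index M
  rw [hN] at hmul
  have h60 : 60 ∣ Nat.card M := by
    have h4 := Subgroup.orderOf_dvd_natCard M hsM
    have h5 := Subgroup.orderOf_dvd_natCard M hyM
    have h3 := Subgroup.orderOf_dvd_natCard M hxM
    rw [hs] at h4; rw [hy] at h5; rw [hx] at h3
    omega
  have hfac := two_mul_card_dvd_factorial hG hMt
  rw [hN] at hfac
  have h7 : 7 ≤ M.index := by
    by_contra hlt
    have := Nat.le_of_dvd (Nat.factorial_pos _) hfac
    have h6 : M.index ! ≤ 6 ! := Nat.factorial_le (by omega)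
    rw [show (6 : ℕ) ! = 720 from rfl] at h6
    omega
  -- a Sylow five-subgroup fixes one coset
  set P := (zpowers y : Subgroup G) with hP
  have hPM : P ≤ M := zpowers_le.mpr hyM
  have hNP : normalizer (P : Set G) ≤ M := by
    have hsN : s ∈ normalizer (P : Set G) :=
      mem_normalizer_zpowers (hsy ▸ pow_mem (mem_zpowers y) 2)
    have h4 := Subgroup.orderOf_dvd_natCard (normalizer (P : Set G) ⊓ M : Subgroup G) ⟨hsN, hsM⟩
    have h5 := Subgroup.orderOf_dvd_natCard (normalizer (P : Set G) ⊓ M : Subgroup G)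
      ⟨le_normalizer (mem_zpowers y), hyM⟩
    rw [hs] at h4; rw [hy] at h5
    have heq : (normalizer (P : Set G) ⊓ M : Subgroup G) = normalizer (P : Set G) :=
      eq_of_le_of_card_ge inf_le_left (hN20.le.trans (Nat.le_of_dvd Nat.card_pos
        (Nat.Coprime.mul_dvd_of_dvd_of_dvd (by norm_num : Nat.Coprime 4 5) h4 h5)))
    exact inf_eq_left.mp heq
  have hfix : Nat.card (MulAction.fixedPoints P (G ⧸ M)) = 1 := by
    have : Subsingleton (MulAction.fixedPoints P (G ⧸ M)) := ⟨by
      suffices hone : ∀ q : MulAction.fixedPoints P (G ⧸ M), (q : G ⧸ M) = ((1 : G) : G ⧸ M) from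
        fun p q => Subtype.ext ((hone p).trans (hone q).symm)
      rintro ⟨q, hq⟩
      induction q using QuotientGroup.induction_on with
      | _ g =>
        have hyg : (⟨y, mem_zpowers y⟩ : P) • (g : G ⧸ M) = (g : G ⧸ M) := hq ⟨y, mem_zpowers y⟩
        have hyg' : g⁻¹ * (y * g) ∈ M := QuotientGroup.eq.mp hyg.symm
        set u := g⁻¹ * y * g⁻¹⁻¹ with hu
        have huM : u ∈ M := by rw [hu, inv_inv, mul_assoc]; exact hyg'
        have huo : orderOf u = 5 := by
          rw [← hy]; exact MulEquiv.orderOf_eq (MulAut.conj g⁻¹) y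
        have hsyl : ∀ v : G, v ∈ M → orderOf v = 5 →
            ∃ R : Sylow 5 M, (R : Subgroup M) = (zpowers v).subgroupOf M := by
          intro v hv hvo
          obtain ⟨R, hR⟩ := (IsPGroup.of_card (p := 5) (n := 1)
            (by rw [Nat.card_congr (subgroupOfEquivOfLe (zpowers_le.mpr hv)).toEquiv,
              Nat.card_zpowers, hvo, pow_one] :
              Nat.card ((zpowers v).subgroupOf M) = 5 ^ 1)).exists_le_sylow
          refine ⟨R, (eq_of_le_of_card_ge hR ?_).symm⟩
          obtain ⟨j, hj⟩ := R.2.exists_card_eq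
          have hd : Nat.card (R : Subgroup M) ∣ 2520 :=
            (card_subgroup_dvd_card _).trans ⟨_, hmul.symm⟩
          rw [Nat.card_congr (subgroupOfEquivOfLe (zpowers_le.mpr hv)).toEquiv,
            Nat.card_zpowers, hvo, hj]
          rw [hj] at hd
          rcases j with _ | _ | j
          · norm_num
          · norm_num
          · exact absurd ((pow_dvd_pow 5 (by omega : 2 ≤ j + 1 + 1)).trans hd) (by norm_num)
        obtain ⟨R, hR⟩ := hsyl y hyM hy
        obtain ⟨R', hR'⟩ := hsyl u huM huo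
        obtain ⟨m, hm⟩ := MulAction.exists_smul_eq M R' R
        have hmem : m * ⟨u, huM⟩ * m⁻¹ ∈ (R : Subgroup M) := by
          rw [← hm, Sylow.coe_subgroup_smul]
          exact ⟨⟨u, huM⟩, by rw [hR']; exact mem_zpowers u, rfl⟩
        rw [hR, mem_subgroupOf] at hmem
        have hmg : (m : G) * g⁻¹ ∈ normalizer (P : Set G) := mem_normalizer_zpowers (by
          have e : (m : G) * g⁻¹ * y * ((m : G) * g⁻¹)⁻¹ = (m : G) * u * (m : G)⁻¹ := by
            rw [hu]; group
          rw [e]; exact hmem)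
        have hg : g⁻¹ ∈ M := by
          have := mul_mem (inv_mem m.2) (hNP hmg)
          rwa [inv_mul_cancel_left] at this
        exact QuotientGroup.eq.mpr (by simpa using hg)⟩
    have : Nonempty (MulAction.fixedPoints P (G ⧸ M)) := ⟨⟨((1 : G) : G ⧸ M), fun q =>
      QuotientGroup.eq.mpr (by
        show ((q : G) * 1)⁻¹ * 1 ∈ M
        simpa using inv_mem (hPM q.2))⟩⟩
    exact Nat.card_of_subsingleton this.some
  have hPg : IsPGroup 5 P := IsPGroup.of_card (n := 1) (by rw [hP, Nat.card_zpowers, hy, pow_one])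
  have hmod := hPg.card_modEq_card_fixedPoints (G ⧸ M)
  rw [hfix] at hmod
  have hmod' : M.index % 5 = 1 := hmod
  obtain ⟨q, hq⟩ := h60
  rw [hq] at hmul
  have hq42 : M.index ∈ Nat.divisors 42 := Nat.mem_divisors.mpr ⟨⟨q, by nlinarith⟩, by norm_num⟩
  rw [show Nat.divisors 42 = {1, 2, 3, 6, 7, 14, 21, 42} from by decide] at hq42
  simp only [Finset.mem_insert, Finset.mem_singleton] at hq42
  have h21 : M.index = 21 := by omega
  have hM120 : Nat.card M = 120 := by
    rw [hq]; rw [h21] at hmul; omega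
  have h12 : 12 ∣ Nat.card (M ⊓ centralizer ({t} : Set G) : Subgroup G) := by
    have h4 := Subgroup.orderOf_dvd_natCard (M ⊓ centralizer ({t} : Set G) : Subgroup G)
      ⟨hsM, mem_centralizer_singleton_iff.mpr (by rw [ht', ← pow_succ', ← pow_succ])⟩
    have h3 := Subgroup.orderOf_dvd_natCard (M ⊓ centralizer ({t} : Set G) : Subgroup G)
      ⟨hxM, mem_centralizer_singleton_iff.mpr hxt⟩
    rw [hs] at h4; rw [hx] at h3
    omega
  have hsq := sq_card_inf_centralizer_le hN hy hyM (inverts_of_root hy hsy)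
  rw [← ht', hM120] at hsq
  have := Nat.le_of_dvd Nat.card_pos h12
  nlinarith

end CfsgLib.Small.O2520
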