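import Cfsg.Agent.Lib.Transfer.Alperin
import Cfsg.Agent.Lib.Small.SylowInter

/-!
# Odd order automorphisms of 2-subgroups of dihedral groups
-/

set_option autoImplicit false

open Subgroup

namespace CfsgLib.Small

theorem eq_one_of_pow_of_odd {G : Type*} [Group G] [Finite G] {R : Subgroup G}
    (hR : IsPGroup 2 R) {c : G} (hc : c ∈ R) {m : ℕ} (hm : Odd m) (h : c ^ m = 1) : c = 1 := by
  obtain ⟨e, he⟩ := IsPGroup.iff_orderOf.mp hR ⟨c, hc⟩
  rw [← Subgroup.orderOf_coe] at he
  simp only at he
  rw [← orderOf_eq_one_iff]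
  exact Nat.eq_one_of_dvd_coprimes ((Nat.coprime_two_left.mpr hm).pow_left e) he.dvd
    (orderOf_dvd_of_pow_eq_one h)

theorem conj_pow_apply {G : Type*} [Group G] {g r c : G} (hgc : Commute g c)
    (h : g * r * g⁻¹ = c * r) (m : ℕ) : g ^ m * r * (g ^ m)⁻¹ = c ^ m * r := by
  induction m with
  | zero => simp
  | succ m ih =>
    rw [pow_succ g, show g ^ m * g * r * (g ^ m * g)⁻¹ = g ^ m * (g * r * g⁻¹) * (g ^ m)⁻¹ by group,
      h, show g ^ m * (c * r) * (g ^ m)⁻¹ = g ^ m * c * (g ^ m)⁻¹ * (g ^ m * r * (g ^ m)⁻¹) by group,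
      ih, (hgc.pow_left m).eq, mul_inv_cancel_right, ← mul_assoc, ← pow_succ']

/-- An element of odd order normalising a 2-subgroup `R` of dihedral type and centralising an
involution of `R` centralises `R`. -/
theorem commute_of_dihedral_type {G : Type*} [Group G] [Finite G] {R : Subgroup G}
    (hR : IsPGroup 2 R) {n : ℕ} (hn : n ≠ 0) (f : R →* DihedralGroup n)
    (hf : Function.Injective f) {t g : G} (htR : t ∈ R) (ht : orderOf t = 2)
    (hg : g ∈ normalizer (R : Set G)) (hgo : Odd (orderOf g)) (hgt : Commute g t)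
    {r : G} (hr : r ∈ R) : Commute g r := by
  classical
  have : NeZero n := ⟨hn⟩
  set A : Subgroup (DihedralGroup n) := zpowers (DihedralGroup.r (1 : ZMod n)) with hA
  have hAi : A.index = 2 := by
    have := A.card_mul_index
    rw [Nat.card_zpowers, DihedralGroup.orderOf_r_one, DihedralGroup.nat_card] at this
    exact Nat.eq_of_mul_eq_mul_left (Nat.pos_of_ne_zero hn) (by linarith)
  have hAn : A.Normal := normal_of_index_eq_two hAi
  set K := A.comap f with hK
  have hKi : K.index ∣ 2 := by
    rw [index_comap, ← hAi]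
    exact Subgroup.relIndex_dvd_index_of_normal A f.range
  have hKc : IsCyclic K := by
    let fr : K →* A :=
      { toFun := fun k => ⟨f k, k.2⟩
        map_one' := Subtype.ext (map_one f)
        map_mul' := fun a b => Subtype.ext (map_mul f _ _) }
    exact isCyclic_of_injective fr fun a b e =>
      Subtype.ext (hf (congrArg Subtype.val e))
  obtain ⟨k, hk⟩ := hKc.exists_generator
  -- an element `a ∈ R` whose cyclic group has index `≤ 2` and is centralised by `g`
  obtain ⟨a, haR, hai, hga⟩ : ∃ a ∈ R, Nat.card R ≤ 2 * orderOf a ∧ Commute g a := by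
    set x : G := ((k : R) : G) with hx
    have hxR : x ∈ R := (k : R).2
    have hKcard : Nat.card K = orderOf x := by
      rw [hx, Subgroup.orderOf_coe, Subgroup.orderOf_coe, orderOf_eq_card_of_forall_mem_zpowers hk]
    have hRK : Nat.card R ≤ 2 * orderOf x := by
      rw [← K.card_mul_index, hKcard, mul_comm]
      exact Nat.mul_le_mul_right _ (Nat.le_of_dvd two_pos hKi)
    by_cases hexp : orderOf x ≤ 2
    · exact ⟨t, htR, hRK.trans (by omega), hgt⟩
    refine ⟨x, hxR, hRK, ?_⟩
    -- every element of order at least 3 of `R` lies in `K`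
    have hmem : g * x * g⁻¹ ∈ R := (hg x).mp hxR
    have hin : (⟨_, hmem⟩ : R) ∈ K := by
      show f ⟨_, hmem⟩ ∈ A
      rcases hd : f ⟨_, hmem⟩ with i | i
      · exact ⟨(i.val : ℤ), by simp [DihedralGroup.r_one_zpow]⟩
      · exfalso
        have h2 : orderOf (g * x * g⁻¹) = 2 := by
          rw [← DihedralGroup.orderOf_sr i, ← hd, orderOf_injective f hf, ← Subgroup.orderOf_coe]
        rw [show orderOf (g * x * g⁻¹) = orderOf x from MulEquiv.orderOf_eq (MulAut.conj g) x] at h2
        omega
    obtain ⟨i, hi⟩ := hk ⟨_, hin⟩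
    have hi' : g * x * g⁻¹ = x ^ i := by
      have := congrArg (fun z : K => ((z : R) : G)) hi
      simp only [SubgroupClass.coe_zpow] at this
      rw [hx]
      exact this.symm
    -- an automorphism of odd order of a cyclic 2-group is trivial
    have hpow : ∀ m : ℕ, g ^ m * x * (g ^ m)⁻¹ = x ^ (i ^ m) := by
      intro m
      induction m with
      | zero => simp
      | succ m ih =>
        rw [pow_succ' g, show g * g ^ m * x * (g * g ^ m)⁻¹ = g * (g ^ m * x * (g ^ m)⁻¹) * g⁻¹ by
          group, ih, ← conj_zpow, hi', ← zpow_mul, ← pow_succ']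
    have h1 := hpow (orderOf g)
    rw [pow_orderOf_eq_one, one_mul, inv_one, mul_one] at h1
    obtain ⟨e, he⟩ := IsPGroup.iff_orderOf.mp hR ⟨x, hxR⟩
    rw [← Subgroup.orderOf_coe] at he
    simp only at he
    have hunit : ((i : ZMod (2 ^ e)) ^ orderOf g) = 1 := by
      rw [← Int.cast_pow, ← Int.cast_one, ZMod.intCast_eq_intCast_iff_dvd_sub, ← he,
        orderOf_dvd_sub_iff_zpow_eq_zpow, zpow_one, ← h1]
    have he0 : e ≠ 0 := by rintro rfl; rw [pow_zero] at he; omega
    have hone : (i : ZMod (2 ^ e)) = 1 := by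
      have hu : IsUnit (i : ZMod (2 ^ e)) :=
        IsUnit.of_pow_eq_one hunit (orderOf_pos g).ne'
      obtain ⟨u, hu'⟩ := hu
      have hug : u ^ orderOf g = 1 := Units.ext (by rw [Units.val_pow_eq_pow_val, hu', hunit]; rfl)
      have hd1 : orderOf u ∣ 2 ^ (e - 1) := by
        have := orderOf_dvd_natCard u
        rwa [Nat.card_eq_fintype_card, ZMod.card_units_eq_totient,
          Nat.totient_prime_pow Nat.prime_two (Nat.pos_of_ne_zero he0), show (2 - 1 : ℕ) = 1 from rfl,
          mul_one] at this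
      have hu1 : u = 1 := orderOf_eq_one_iff.mp (Nat.eq_one_of_dvd_coprimes
        ((Nat.coprime_two_left.mpr hgo).pow_left (e - 1)) hd1 (orderOf_dvd_of_pow_eq_one hug))
      rw [← hu', hu1, Units.val_one]
    have hxi : x ^ i = x := by
      conv_rhs => rw [← zpow_one x]
      rw [← orderOf_dvd_sub_iff_zpow_eq_zpow, he]
      rw [← Int.cast_one, ZMod.intCast_eq_intCast_iff_dvd_sub] at hone
      have := hone.neg_right
      rwa [neg_sub] at this
    rw [hxi] at hi'
    exact mul_inv_eq_iff_eq_mul.mp hi'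
  -- now `r`
  by_cases hra : r ∈ zpowers a
  · obtain ⟨i, rfl⟩ := hra
    exact hga.zpow_right i
  set A' := (zpowers a).subgroupOf R with hA'
  have hA'i : A'.index = 2 := by
    have h1 := A'.card_mul_index
    rw [Nat.card_congr (subgroupOfEquivOfLe (zpowers_le.mpr haR)).toEquiv, Nat.card_zpowers] at h1
    have hpos : 0 < orderOf a := orderOf_pos a
    have hle : A'.index ≤ 2 := Nat.le_of_mul_le_mul_left (by linarith) hpos
    have hne : A'.index ≠ 1 := fun e =>
      hra ((eq_top_iff.mp (index_eq_one.mp e)) (mem_top (⟨r, hr⟩ : R)))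
    have h0 : A'.index ≠ 0 := Subgroup.index_ne_zero_of_finite
    omega
  have hgr : g * r * g⁻¹ ∈ R := (hg r).mp hr
  set c := g * r * g⁻¹ * r⁻¹ with hcdef
  have hcA : c ∈ zpowers a := by
    have h1 : g * r * g⁻¹ ∉ zpowers a := by
      intro h'
      obtain ⟨i, hi⟩ := h'
      apply hra
      refine ⟨i, ?_⟩
      change a ^ i = _ at hi
      show a ^ i = r
      have h2 : g⁻¹ * (a ^ i) * g = a ^ i := by
        rw [(hga.inv_left.zpow_right i).eq, inv_mul_cancel_right]
      rw [← h2, hi]
      group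
    have := (mul_mem_iff_of_index_two hA'i (a := ⟨_, hgr⟩) (b := ⟨_, inv_mem hr⟩)).mpr
      (iff_of_false h1 fun h' => hra (inv_mem_iff.mp h'))
    exact this
  obtain ⟨j, hj⟩ := hcA
  have hgc : Commute g c := by rw [← hj]; exact hga.zpow_right j
  have hconj : g * r * g⁻¹ = c * r := by rw [hcdef]; group
  have h1 := conj_pow_apply hgc hconj (orderOf g)
  rw [pow_orderOf_eq_one, one_mul, inv_one, mul_one, right_eq_mul] at h1
  have hc1 := eq_one_of_pow_of_odd hR (mul_mem hgr (inv_mem hr)) hgo h1
  rw [mul_inv_eq_one] at hc1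
  exact mul_inv_eq_iff_eq_mul.mp hc1

end CfsgLib.Small
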