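import Cfsg.Agent.Lib.Small.TwoPowerTwoPrimes
import Cfsg.Agent.Lib.CharApps.InertialThreeInvolution
import Cfsg.Agent.Lib.CharApps.ClassCount

/-!
# Congruences for character values, and signed principal block data
-/

set_option autoImplicit false
set_option linter.style.haveILetI false
set_option linter.unusedSectionVars false

open Cfsg CfsgLib.Chars CfsgLib.CharApps CfsgLib.Blocks

namespace CfsgLib.Small

universe u

variable {G : Type u} [Group G] [Finite G]

/-- In a perfect group the determinant of an involution is one, so `χ(t) ≡ χ(1) (mod 4)`. -/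
theorem four_dvd_degree_sub (hperf : commutator G = ⊤) (χ : IrrCharacter G) {t : G}
    (ht : t * t = 1) {m : ℤ} (hm : (m : ℂ) = (χ : G → ℂ) t) :
    (4 : ℤ) ∣ (charDegree (χ : G → ℂ) : ℤ) - m := by
  classical
  obtain ⟨d, ρ, hρ, hρχ⟩ := χ.2
  have hd : charDegree (χ : G → ℂ) = d := by simp [charDegree, ← hρχ]
  obtain ⟨b, μ, hμ, hb⟩ := exists_eigenbasis (ρ t) (N := 2) two_pos
    (by rw [← map_pow, sq, ht, map_one])
  have htr : (χ : G → ℂ) t = ∑ i, μ i := by
    rw [← hρχ]
    exact trace_eq_sum_of_eigenbasis (ρ t) b μ hb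
  have hdet : LinearMap.det (ρ t) = ∏ i, μ i := by
    rw [← LinearMap.det_toMatrix b, show LinearMap.toMatrix b b (ρ t) = Matrix.diagonal μ from
      Matrix.ext fun i j => by
        rw [LinearMap.toMatrix_apply, hb, map_smul, Module.Basis.repr_self]
        by_cases h : i = j
        · subst h; simp
        · simp [Matrix.diagonal_apply_ne _ h, Ne.symm h], Matrix.det_diagonal]
  have hdet1 : LinearMap.det (ρ t) = 1 := by
    have h1 : (CharsMore.detHom ρ).ker = ⊤ := top_le_iff.mp
      (hperf ▸ Abelianization.commutator_subset_ker _)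
    have h2 := MonoidHom.mem_ker.mp (h1.ge (Subgroup.mem_top t))
    have h3 := CharsMore.coe_detHom ρ t
    rw [h2, Units.val_one] at h3
    exact h3.symm
  have hpm : ∀ i, μ i = 1 ∨ μ i = -1 := fun i => sq_eq_one_iff.mp (hμ i)
  set S := Finset.univ.filter (fun i => μ i = -1) with hS
  have hout : ∀ i, i ∉ S → μ i = 1 := fun i hi => (hpm i).resolve_right (by simpa [hS] using hi)
  have hprod : ∏ i, μ i = (-1 : ℂ) ^ S.card := by
    rw [← Finset.prod_subset (Finset.subset_univ S) (fun i _ hi => hout i hi),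
      Finset.prod_congr rfl (fun i hi => (Finset.mem_filter.mp hi).2), Finset.prod_const]
  rw [hdet, hprod] at hdet1
  obtain ⟨k, hk⟩ : Even S.card := by
    by_contra h
    rw [(Nat.not_even_iff_odd.mp h).neg_one_pow] at hdet1
    norm_num at hdet1
  have hsum : ∑ i, μ i = (d : ℂ) - 2 * (S.card : ℂ) := by
    have h1 : ∀ i, μ i = 1 - 2 * (if i ∈ S then 1 else 0) := by
      intro i
      by_cases hi : i ∈ S
      · rw [if_pos hi, (Finset.mem_filter.mp hi).2]; norm_num
      · rw [if_neg hi, hout i hi]; norm_num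
    rw [Finset.sum_congr rfl fun i _ => h1 i, Finset.sum_sub_distrib, ← Finset.mul_sum,
      Finset.sum_boole, Finset.sum_const, Finset.card_univ, Fintype.card_fin,
      Finset.filter_mem_eq_inter, Finset.univ_inter, nsmul_one]
    congr 1
    simp
  rw [htr, hsum] at hm
  have hm' : m = (d : ℤ) - 2 * (S.card : ℤ) := by exact_mod_cast hm
  rw [hd, hm', hk]
  exact ⟨k, by push_cast; ring⟩

/-- An integral value of a character of the principal block at an element whose centralizer has
order divisible by `p`, when `p²` does not divide the group order. -/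
theorem int_congr_of_principalBlock {p : ℕ} [hp : Fact p.Prime] {M : Ideal AlgInt}
    (hM : IsPModular p M) (hsq : ¬ p ^ 2 ∣ Nat.card G) {χ : IrrCharacter G}
    (hχ : χ ∈ principalBlock M G) {g : G}
    (hg : p ∣ Nat.card (Subgroup.centralizer ({g} : Set G))) {m : ℤ}
    (hm : (m : ℂ) = (χ : G → ℂ) g) : (p : ℤ) ∣ m - charDegree (χ : G → ℂ) := by
  haveI := hM.2.1.isPrime
  have h : MemLocalIdeal M (centralChar (fun _ : G => (1 : ℂ)) g -
      centralChar (χ : G → ℂ) g) := hχ g
  have hd : (χ : G → ℂ) 1 ≠ 0 := deg_ne_zero χ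
  have h2 := MemLocalIdeal.mul_right' h
    (show ((charDegree (χ : G → ℂ) : ℕ) : ℂ) ∈ loc M from natCast_mem_loc _)
  set i := (Subgroup.centralizer ({g} : Set G)).index with hi
  have h3 : (centralChar (fun _ : G => (1 : ℂ)) g - centralChar (χ : G → ℂ) g) *
      ((charDegree (χ : G → ℂ) : ℕ) : ℂ) =
      (((i : ℤ) * ((charDegree (χ : G → ℂ) : ℤ) - m) : ℤ) : ℂ) := by
    rw [centralChar, centralChar, ← hi, ← hm, deg_eq]
    rw [deg_eq] at hd
    push_cast
    field_simp
  rw [h3] at h2
  have h4 := dvd_of_memLocalIdeal_intCast hM.2.2 h2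
  have h5 : ¬ (p : ℤ) ∣ (i : ℤ) := fun hdvd => by
    refine hsq ?_
    rw [← Subgroup.card_mul_index (Subgroup.centralizer ({g} : Set G)), ← hi, sq]
    exact mul_dvd_mul hg (by exact_mod_cast hdvd)
  have h6 := ((Nat.prime_iff_prime_int.1 hp.out).dvd_mul.1 h4).resolve_left h5
  have h7 := h6.neg_right
  rwa [neg_sub] at h7

/-- An integral value at an element of order dividing `p` is congruent to the degree. -/
theorem int_congr_of_pow_eq_one {p : ℕ} [hp : Fact p.Prime] (χ : IrrCharacter G) {g : G}
    (hg : g ^ p = 1) {m : ℤ} (hm : (m : ℂ) = (χ : G → ℂ) g) :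
    (p : ℤ) ∣ m - charDegree (χ : G → ℂ) := by
  obtain ⟨M, hM⟩ := CharApps.exists_pModular p
  haveI := hM.2.1.isPrime
  haveI := Fintype.ofFinite G
  have h := char_sub_degree_mem hM.2.2 χ hg
  rw [← hm, deg_eq] at h
  exact dvd_of_memLocalIdeal_intCast hM.2.2 (by push_cast; exact h)

end CfsgLib.Small
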