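import Cfsg.Agent.Lib.CharApps.PrimeClassBound
import Cfsg.Agent.Lib.Chars.TwoConjugates
import Cfsg.Agent.Lib.Chars.DefectZero
import Cfsg.Agent.Lib.CharApps.ClassCount

/-!
# The column of an inverted self-centralizing element of prime order
-/

set_option autoImplicit false
set_option linter.unusedSectionVars false
set_option linter.style.haveILetI false

open Cfsg CfsgLib.Chars CfsgLib.CharApps

namespace CfsgLib.Small

universe u

variable {G : Type u} [Group G] [Finite G]

/-- For an involution inverting an element of prime order, the two sums of a character over the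
cosets of the cyclic group are `p (a + b)` and `p (a - b)` for natural numbers `a`, `b`. -/
theorem exists_dihedral_sums {p : ℕ} [hp : Fact p.Prime] (χ : IrrCharacter G) {u z : G}
    (hu : u ^ p = 1) (hz : z * z = 1) (hinv : z * u * z⁻¹ = u⁻¹) :
    ∃ a b : ℕ, ∑ i ∈ Finset.range p, (χ : G → ℂ) (u ^ i) = (p : ℂ) * (a + b) ∧
      ∑ i ∈ Finset.range p, (χ : G → ℂ) (u ^ i * z) = (p : ℂ) * (a - b) := by
  classical
  obtain ⟨d, ρ, -, hρ⟩ := χ.2
  simp only [← hρ]
  set Z : Module.End ℂ (Fin d → ℂ) := ρ z with hZ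
  have hshift : ∀ w : G, w ^ p = 1 →
      (∑ i ∈ Finset.range p, ρ (w ^ i)) * ρ w = ∑ i ∈ Finset.range p, ρ (w ^ i) := by
    intro w hw
    rw [Finset.sum_mul]
    simp only [← map_mul, ← pow_succ]
    have h1 := Finset.sum_range_succ (fun i => ρ (w ^ i)) p
    have h2 := Finset.sum_range_succ' (fun i => ρ (w ^ i)) p
    simp only [hw, pow_zero] at h1 h2
    exact add_right_cancel (h2.symm.trans h1)
  set E : Module.End ℂ (Fin d → ℂ) := ∑ i ∈ Finset.range p, ρ (u ^ i) with hE
  have hEu : ∀ k : ℕ, E * ρ (u ^ k) = E := by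
    intro k
    induction k with
    | zero => rw [pow_zero, map_one, mul_one]
    | succ k ih => rw [pow_succ, map_mul, ← mul_assoc, ih, hE]; exact hshift u hu
  have hEE : E * E = (p : ℂ) • E := by
    conv_lhs => arg 2; rw [hE]
    rw [Finset.mul_sum, Finset.sum_congr rfl fun k _ => hEu k, Finset.sum_const, Finset.card_range,
      ← Nat.cast_smul_eq_nsmul ℂ]
  have hinv' : ∑ i ∈ Finset.range p, ρ ((u⁻¹) ^ i) = E := by
    have h1 : E = (∑ i ∈ Finset.range p, ρ ((u⁻¹) ^ i)) * ρ u⁻¹ := by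
      rw [Finset.sum_mul, hE, ← Finset.sum_range_reflect]
      refine Finset.sum_congr rfl fun i hi => ?_
      rw [← map_mul, ← pow_succ, inv_pow]
      congr 1
      refine eq_inv_of_mul_eq_one_left ?_
      rw [← pow_add, show p - 1 - i + (i + 1) = p by have := Finset.mem_range.mp hi; omega, hu]
    rw [h1]
    exact (hshift u⁻¹ (by rw [inv_pow, hu, inv_one])).symm
  have hZE : Z * E = E * Z := by
    conv_rhs => rw [← hinv']
    rw [hE, Finset.mul_sum, Finset.sum_mul]
    refine Finset.sum_congr rfl fun i _ => ?_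
    rw [hZ, ← map_mul, ← map_mul, ← hinv, conj_pow, inv_mul_cancel_right]
  have hZZ : Z * Z = 1 := by rw [hZ, ← map_mul, hz, map_one]
  have hp0 : (p : ℂ) ≠ 0 := Nat.cast_ne_zero.mpr hp.out.ne_zero
  -- the two idempotents
  have hidem : ∀ ε : ℂ, ε * ε = 1 →
      ∃ a : ℕ, LinearMap.trace ℂ _ (E + ε • (E * Z)) = 2 * (p : ℂ) * a := by
    intro ε hε
    set T : Module.End ℂ (Fin d → ℂ) := E + ε • (E * Z) with hT
    have h1 : E * (E * Z) = (p : ℂ) • (E * Z) := by rw [← mul_assoc, hEE, smul_mul_assoc]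
    have h2 : E * Z * E = (p : ℂ) • (E * Z) := by rw [mul_assoc, hZE, h1]
    have h3 : E * Z * (E * Z) = (p : ℂ) • E := by
      rw [← mul_assoc, h2, smul_mul_assoc, mul_assoc, hZZ, mul_one]
    have hTT : T * T = (2 * (p : ℂ)) • T := by
      rw [hT]
      simp only [mul_add, add_mul, smul_mul_assoc, mul_smul_comm, hEE, h1, h2, h3, smul_smul,
        smul_add]
      match_scalars <;> first | ring1 | linear_combination (p : ℂ) * hε
    have hI : IsIdempotentElem ((2 * (p : ℂ))⁻¹ • T) := by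
      unfold IsIdempotentElem
      rw [smul_mul_assoc, mul_smul_comm, hTT, smul_smul, smul_smul]
      congr 1
      field_simp
    refine ⟨Module.finrank ℂ (LinearMap.range ((2 * (p : ℂ))⁻¹ • T)), ?_⟩
    rw [← (LinearMap.IsIdempotentElem.isProj_range _ hI).trace, map_smul, smul_eq_mul,
      ← mul_assoc, mul_inv_cancel₀ (mul_ne_zero two_ne_zero hp0), one_mul]
  obtain ⟨a, ha⟩ := hidem 1 (one_mul 1)
  obtain ⟨b, hb⟩ := hidem (-1) (by norm_num)
  have hsum : ∀ w : G, ∑ i ∈ Finset.range p, ρ.character (u ^ i * w) =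
      LinearMap.trace ℂ _ (E * ρ w) := by
    intro w
    rw [hE, Finset.sum_mul, map_sum]
    refine Finset.sum_congr rfl fun i _ => ?_
    rw [Representation.character, map_mul ρ]
  have hs1 := hsum 1
  simp only [mul_one, map_one] at hs1
  rw [map_add, map_smul, smul_eq_mul, ← hsum z, ← hs1] at ha hb
  refine ⟨a, b, ?_, ?_⟩
  · linear_combination (ha + hb) / 2
  · linear_combination (ha - hb) / 2

/-- The number of ways an element of order `p` generating its centralizer is a product of two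
conjugates of an involution inverting it. -/
theorem card_pairs_inverting {p : ℕ} [hp : Fact p.Prime] (hodd : p ≠ 2) {u z : G}
    (hu : orderOf u = p)
    (hC : Subgroup.centralizer ({u} : Set G) = Subgroup.zpowers u)
    (hz : z * z = 1) (hinv : z * u * z⁻¹ = u⁻¹) :
    Nat.card {ab : G × G // (ab.1 * z * ab.1⁻¹) * (ab.2 * z * ab.2⁻¹) = u} =
      p * Nat.card (Subgroup.centralizer ({z} : Set G)) ^ 2 := by
  classical
  haveI := Fintype.ofFinite G
  have hzinv : z⁻¹ = z := inv_eq_of_mul_eq_one_left hz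
  have hup : u ^ p = 1 := by rw [← hu, pow_orderOf_eq_one]
  have hzu : ∀ w ∈ Subgroup.zpowers u, z * w = w⁻¹ * z := by
    rintro _ ⟨i, rfl⟩
    rw [← mul_inv_eq_iff_eq_mul, ← conj_zpow, hinv, inv_zpow]
  -- every element of the coset is conjugate to z
  have hconj : ∀ w ∈ Subgroup.zpowers u, IsConj z (w * z) := by
    rintro w hw
    refine isConj_iff.mpr ⟨w ^ ((p + 1) / 2), ?_⟩
    have hk : w ^ ((p + 1) / 2) ∈ Subgroup.zpowers u := Subgroup.pow_mem _ hw _
    have h2 := hzu _ (Subgroup.inv_mem _ hk)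
    rw [inv_inv] at h2
    rw [mul_assoc, h2, ← mul_assoc, ← pow_add]
    congr 1
    obtain ⟨i, rfl⟩ := hw
    have := hp.out.eq_two_or_odd.resolve_left hodd
    rw [show (p + 1) / 2 + (p + 1) / 2 = p + 1 by omega, pow_succ, ← zpow_natCast, ← zpow_mul,
      mul_comm i, zpow_mul, zpow_natCast, hup, one_zpow, one_mul]
  have key : ∀ x y : G, IsConj z x → IsConj z y → x * y = u →
      ∃ w : Subgroup.zpowers u, (w : G) * z = x := by
    intro x y hx hy hxy
    have hsq : ∀ v : G, IsConj z v → v * v = 1 := fun v hv => by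
      obtain ⟨c, rfl⟩ := isConj_iff.mp hv
      rw [show c * z * c⁻¹ * (c * z * c⁻¹) = c * (z * z) * c⁻¹ by group, hz, mul_one,
        mul_inv_cancel]
    have h1 : x * u * x = u⁻¹ := by
      rw [← hxy, mul_inv_rev, ← mul_assoc, hsq x hx, one_mul, inv_eq_of_mul_eq_one_left (hsq x hx),
        inv_eq_of_mul_eq_one_left (hsq y hy)]
    have hxi : x⁻¹ = x := inv_eq_of_mul_eq_one_left (hsq x hx)
    have hcent : x * z ∈ Subgroup.centralizer ({u} : Set G) := by
      rw [Subgroup.mem_centralizer_singleton_iff]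
      have h2 : z * u = u⁻¹ * z := mul_inv_eq_iff_eq_mul.mp hinv
      have h3 : x * u⁻¹ = u * x := by
        rw [← h1, ← mul_assoc, ← mul_assoc, hsq x hx, one_mul]
      rw [mul_assoc, h2, ← mul_assoc, h3, mul_assoc]
    rw [hC] at hcent
    exact ⟨⟨x * z, hcent⟩, by simp [mul_assoc, hz]⟩
  have hsec : ∀ w : Subgroup.zpowers u, IsConj z (((w : G) * z)⁻¹ * u) := by
    intro w
    rw [mul_inv_rev, hzinv, hzu _ (Subgroup.inv_mem _ w.2), inv_inv]
    obtain ⟨i, hi⟩ := w.2
    have h1 : (w : G) * z * u = (w : G) * u⁻¹ * z := by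
      rw [mul_assoc, mul_inv_eq_iff_eq_mul.mp hinv, ← mul_assoc]
    rw [h1]
    exact hconj _ (Subgroup.mul_mem _ w.2 (Subgroup.inv_mem _ (Subgroup.mem_zpowers u)))
  have e : {ab : G × G // (ab.1 * z * ab.1⁻¹) * (ab.2 * z * ab.2⁻¹) = u} ≃
      Σ w : Subgroup.zpowers u, {a : G // a * z * a⁻¹ = (w : G) * z} ×
        {b : G // b * z * b⁻¹ = ((w : G) * z)⁻¹ * u} :=
    { toFun := fun ab => ⟨⟨ab.1.1 * z * ab.1.1⁻¹ * z, by
          obtain ⟨w, hw⟩ := key _ _ (isConj_iff.mpr ⟨_, rfl⟩) (isConj_iff.mpr ⟨_, rfl⟩) ab.2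
          rw [← hw, mul_assoc _ z z, hz, mul_one]
          exact w.2⟩,
        ⟨ab.1.1, by simp [mul_assoc, hz]⟩,
        ⟨ab.1.2, eq_inv_mul_of_mul_eq (by simp only [mul_assoc _ z z, hz, mul_one]; exact ab.2)⟩⟩
      invFun := fun q => ⟨(q.2.1.1, q.2.2.1), by rw [q.2.1.2, q.2.2.2, mul_inv_cancel_left]⟩
      left_inv := fun ab => rfl
      right_inv := by
        rintro ⟨⟨w, hw⟩, ⟨a, ha⟩, ⟨b, hb⟩⟩
        obtain rfl : w = a * z * a⁻¹ * z := by rw [ha, mul_assoc, hz, mul_one]
        rfl }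
  rw [Nat.card_congr e, Nat.card_sigma,
    Finset.sum_congr rfl (g := fun _ => Nat.card (Subgroup.centralizer ({z} : Set G)) ^ 2)
      (fun w _ => by rw [Nat.card_prod, card_conj_fiber z (hconj _ w.2), card_conj_fiber z (hsec w),
        sq])]
  rw [Finset.sum_const, Finset.card_univ, smul_eq_mul, ← Nat.card_eq_fintype_card,
    Nat.card_zpowers, hu]

end CfsgLib.Small
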