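import Cfsg.Agent.S4441
import Cfsg.Agent.S4500
import Cfsg.Agent.S0960
import Cfsg.Agent.Lib.Small.PrincipalDegrees
import Cfsg.Agent.Lib.Small.Order60
import Cfsg.Agent.Lib.Small.PSLPrimes
import Cfsg.Agent.Lib.SmallDegree.Boundary
import Cfsg.Agent.Lib.CharApps.PrincipalColumns
import Cfsg.Agent.Lib.Blocks.FreePrincipal
import Cfsg.Agent.Lib.Blocks.DefectOnePrincipal

/-!
# Simple groups of order `p r 2 ^ b`
-/

set_option autoImplicit false

open Cfsg CfsgLib.Chars CfsgLib.CharApps

namespace CfsgLib.Small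

universe u

variable {G : Type u} [Group G] [Finite G]

/-- With a self-centralizing Sylow subgroup of prime order every character of degree prime to `r`
lies in the principal block. -/
theorem mem_principalBlock_of_selfCentral {r : ℕ} [hr : Fact r.Prime] {M : Ideal AlgInt}
    (hM : IsPModular r M) (R : Sylow r G) (hR : Nat.card (R : Subgroup G) = r)
    (hC : Subgroup.centralizer ((R : Subgroup G) : Set G) = (R : Subgroup G))
    (ψ : IrrCharacter G) (hψ : ¬ r ∣ charDegree (ψ : G → ℂ)) : ψ ∈ principalBlock M G := by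
  classical
  haveI := Fintype.ofFinite G
  haveI := irrFintype G
  haveI := hM.2.1.isPrime
  haveI : Nontrivial (R : Subgroup G) :=
    Finite.one_lt_card_iff_nontrivial.1 (by rw [hR]; exact hr.out.one_lt)
  obtain ⟨⟨u, hu⟩, hu1⟩ := exists_ne (1 : (R : Subgroup G))
  have hu1' : u ≠ 1 := fun h => hu1 (Subtype.ext h)
  have hz : Subgroup.zpowers u = (R : Subgroup G) :=
    CfsgLib.Blocks.zpowers_eq_of_prime_card hR hu hu1'
  have hou : orderOf u = r := by rw [← Nat.card_zpowers, hz]; exact hR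
  have hCu : Subgroup.centralizer (Subgroup.zpowers u : Set G) = Subgroup.centralizer ({u} : Set G) := by
    rw [Subgroup.zpowers_eq_closure, Subgroup.centralizer_closure]
  have hCcard : Nat.card (Subgroup.centralizer ({u} : Set G)) = r := by
    rw [← hCu, hz, hC, hR]
  have h3 := (CfsgLib.Blocks.principal_column hM R (CfsgLib.Blocks.comm_of_prime_card hR)
    (CfsgLib.Blocks.free_of_prime_card hR) hu hu1').2.2
  rw [hCu, hR, blockCoeff, ← mul_assoc, mul_inv_cancel₀ (CfsgLib.Chars.card_ne_zero _), one_mul]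
    at h3
  have hnorm := principal_column_norm hM (z := u) ⟨1, by rw [pow_one, hou]⟩
  haveI := irrFintype (Subgroup.centralizer ({u} : Set G))
  have hB : ∑ᶠ χ ∈ principalBlock M G, (χ : G → ℂ) u * starRingEnd ℂ ((χ : G → ℂ) u) = (r : ℂ) := by
    rw [hnorm, ← h3,
      finsum_mem_eq_finite_toFinset_sum _ (Set.toFinite _),
      finsum_mem_eq_finite_toFinset_sum _ (Set.toFinite _), Nat.cast_sum]
    refine Finset.sum_congr rfl fun χ _ => ?_
    rw [conj_deg, deg_eq, sq, Nat.cast_mul]
  have hall := second_orthogonality u u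
  rw [if_pos (IsConj.refl u), hCcard, ← Finset.sum_add_sum_compl (Set.toFinite (principalBlock M G)).toFinset,
    ← finsum_mem_eq_finite_toFinset_sum _ (Set.toFinite _), hB, add_eq_left] at hall
  by_contra hnot
  have h0 : ∑ χ ∈ (Set.toFinite (principalBlock M G)).toFinsetᶜ, Complex.normSq ((χ : G → ℂ) u) = 0 := by
    simp only [Complex.mul_conj] at hall
    exact_mod_cast hall
  have h1 := (Finset.sum_eq_zero_iff_of_nonneg fun a _ => Complex.normSq_nonneg _).1 h0 ψ
    (by simpa using hnot)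
  exact char_ne_zero_of_pElement r (isCharacter_of_irr ψ.2) (deg_eq ψ) hψ (v := u) (k := 1)
    (by rw [pow_one, ← hou, pow_orderOf_eq_one]) (Complex.normSq_eq_zero.1 h1)

variable [IsSimpleGroup G]

/-- The arithmetic: `p = r - e` with `e` a power of two. -/
theorem exists_prime_degree_data (hG : ¬ IsMulCommutative G) {p r b : ℕ} (hp : p.Prime)
    [hr : Fact r.Prime] (hp2 : p ≠ 2) (hpr : p < r) (hrp : r < 2 * p + 1)
    (hcard : Nat.card G = p * r * 2 ^ b) : p = 3 ∧ r = 5 := by
  classical
  haveI := Fintype.ofFinite G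
  haveI := irrFintype G
  have hr2 : r ≠ 2 := by have := hp.two_le; omega
  have hcard' : Nat.card G = p ^ 1 * 2 ^ b * r := by rw [hcard, pow_one]; ring
  obtain ⟨R, e, hR, he, he1, her, hen, -, -⟩ := exists_index_three_prime hG hp Nat.prime_two
    hpr.ne (Ne.symm hr2) hcard'
  rw [pow_one] at hen
  have hpodd : p % 2 = 1 := hp.eq_two_or_odd.resolve_left hp2
  have hrodd : r % 2 = 1 := hr.out.eq_two_or_odd.resolve_left hr2
  have hr1 : 1 < r := hr.out.one_lt
  -- `e` is a power of two
  obtain ⟨j, hj⟩ : ∃ j, e = 2 ^ j := by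
    have hpe : ¬ p ∣ e := fun h => by
      obtain ⟨k, hk⟩ := h.trans her
      have h2 : 2 ≤ k ∨ k = 1 ∨ k = 0 := by omega
      rcases h2 with h2 | rfl | rfl
      · have := Nat.mul_le_mul_left p h2
        omega
      · omega
      · omega
    have hd : e ∣ 2 ^ b := ((hp.coprime_iff_not_dvd.2 hpe).symm).dvd_of_dvd_mul_left ⟨_, hen.symm⟩
    obtain ⟨j, -, hj⟩ := (Nat.dvd_prime_pow Nat.prime_two).1 hd
    exact ⟨j, hj⟩
  have hj0 : j ≠ 0 := fun h => by rw [h, pow_zero] at hj; omega
  have heven : e % 2 = 0 := by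
    rw [hj]; obtain ⟨i, rfl⟩ := Nat.exists_eq_succ_of_ne_zero hj0; rw [pow_succ]; omega
  have hele : e ≤ r - 1 := Nat.le_of_dvd (by omega) her
  -- a character of degree `p`
  obtain ⟨χ, hχ1, k, hk⟩ := (Agent.S4500.result r p 2 1 1 b hr.out hp Nat.prime_two hpr.ne' hr2 hp2
    (by norm_num) (by rw [hcard, pow_one, pow_one]; ring)).1
  have hχne : χ ≠ principal G := fun h => hχ1 (h ▸ funext fun g => principal_apply g)
  have hdegne : ∀ χ : IrrCharacter G, χ ≠ principal G → 1 < charDegree (χ : G → ℂ) := by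
    intro χ hne
    have h0 := CfsgLib.Blocks.charDegree_pos χ
    by_contra h
    exact hne (eq_of_degree_one hG (by omega)
      ((deg_eq_one_iff (principal G)).mp (principal_apply _)))
  have hdp : charDegree (χ : G → ℂ) = p := by
    have hd := charDegree_dvd_card χ
    have h1 := hdegne χ hχne
    rw [hk] at hd h1 ⊢
    rcases k with _ | _ | k
    · simp at h1
    · simp
    · exfalso
      have hpp : p * p ∣ p * r * 2 ^ b := by
        refine dvd_trans ?_ (hcard ▸ hd)
        rw [pow_succ, pow_succ, mul_assoc]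
        exact dvd_mul_left _ _
      rw [mul_assoc] at hpp
      rcases hp.dvd_mul.1 (Nat.dvd_of_mul_dvd_mul_left hp.pos hpp) with h | h
      · exact hpr.ne ((Nat.prime_dvd_prime_iff_eq hp hr.out).1 h)
      · exact hp2 ((Nat.prime_dvd_prime_iff_eq hp Nat.prime_two).1 (hp.dvd_of_dvd_pow h))
  obtain ⟨M, hM⟩ := CharApps.exists_pModular r
  haveI := hM.2.1.isPrime
  have hC : Subgroup.centralizer ((R : Subgroup G) : Set G) = (R : Subgroup G) :=
    CfsgLib.Blocks.centralizer_sylow_three_prime hp Nat.prime_two hpr.ne (Ne.symm hr2) hcard' R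
  have hχB : χ ∈ principalBlock M G := mem_principalBlock_of_selfCentral hM R hR hC χ
    (by rw [hdp]; exact fun h => hpr.ne' ((Nat.prime_dvd_prime_iff_eq hr.out hp).1 h))
  obtain ⟨X, Y, hB, hdisj, hX, hY, εX, ε, hXp, hε, hYdeg, hYeq, hrel⟩ :=
    Agent.S4441.result r M hM hr2 R hR e he
  -- `p ≢ ±1`, so `χ` is exceptional and `p + e = r`
  have hsmall : ∀ z : ℤ, (r : ℤ) ∣ z → -(2 * r : ℤ) < z → z < 2 * r → z = 0 ∨ z = r ∨ z = -(r : ℤ) := by
    rintro z ⟨c, rfl⟩ h1 h2
    have hr0 : (0 : ℤ) < r := by exact_mod_cast hr.out.pos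
    have c1 : -2 < c := by nlinarith
    have c2 : c < 2 := by nlinarith
    obtain rfl | rfl | rfl : c = -1 ∨ c = 0 ∨ c = 1 := by omega
    all_goals simp
  have hχY : χ ∈ Y := by
    rw [hB] at hχB
    refine hχB.resolve_left fun h => ?_
    have h1 := (hXp χ h).2.1.dvd
    rw [hdp] at h1
    rcases (hXp χ h).1 with h' | h' <;> rw [h'] at h1 <;>
      rcases hsmall _ h1 (by have := hp.two_le; omega) (by omega) with h2 | h2 | h2 <;>
      (have := hp.two_le; omega)
  have hpe : ε = -1 ∧ p + e = r := by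
    have h1 := (hYdeg χ hχY).dvd
    rw [hdp] at h1
    rcases hε with rfl | rfl
    · exfalso
      rcases hsmall _ h1 (by omega) (by omega) with h2 | h2 | h2 <;> omega
    · refine ⟨rfl, ?_⟩
      rcases hsmall _ h1 (by omega) (by omega) with h2 | h2 | h2 <;> omega
  obtain ⟨rfl, hpe⟩ := hpe
  have hprin : principal G ∈ X := by
    have hmem : principal G ∈ X ∪ Y := hB ▸ CfsgLib.Blocks.principal_mem_principalBlock M
    refine hmem.resolve_right fun h => ?_
    have h1 := hYeq _ h χ hχY 1 (by rw [orderOf_one]; exact hr.out.not_dvd_one)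
    rw [principal_apply, deg_eq, hdp] at h1
    have := hp.two_le
    have : 1 = p := by exact_mod_cast h1
    omega
  have hεp : εX (principal G) = 1 := by
    have h1 := (hXp _ hprin).2.1.dvd
    rw [(deg_eq_one_iff (principal G)).mp (principal_apply _), Nat.cast_one] at h1
    refine (hXp _ hprin).1.resolve_right fun h => ?_
    rw [h] at h1
    rcases hsmall _ h1 (by omega) (by omega) with h2 | h2 | h2 <;> omega
  set F : Finset (IrrCharacter G) := (Set.toFinite X).toFinset with hF
  set f : IrrCharacter G → ℤ := fun ψ => εX ψ * (charDegree (ψ : G → ℂ) : ℤ) with hf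
  have hsum : ∑ ψ ∈ F.erase (principal G), f ψ = -((p : ℤ) + 1) := by
    have h := hrel χ hχY 1 (by rw [orderOf_one]; exact hr.out.not_dvd_one)
    rw [finsum_mem_eq_finite_toFinset_sum _ (Set.toFinite X), ← hF,
      ← Finset.add_sum_erase _ _ (show principal G ∈ F by simpa [hF] using hprin),
      principal_apply, hεp] at h
    simp only [deg_eq, hdp] at h
    have h' : ((∑ ψ ∈ F.erase (principal G), f ψ : ℤ) : ℂ) = ((-((p : ℤ) + 1) : ℤ) : ℂ) := by
      push_cast [hf]
      push_cast at h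
      linear_combination -h
    exact Int.cast_injective h'
  -- degrees of the nonexceptional characters
  have hterm : ∀ ψ ∈ F.erase (principal G),
      (charDegree (ψ : G → ℂ) ∣ p * 2 ^ b ∧ ((r : ℤ) ∣ εX ψ - charDegree (ψ : G → ℂ)) ∧
        (εX ψ = 1 ∨ εX ψ = -1) ∧ 1 < charDegree (ψ : G → ℂ)) := by
    intro ψ hψ
    rw [Finset.mem_erase, hF, Set.Finite.mem_toFinset] at hψ
    have h1 := (hXp ψ hψ.2).2.1.dvd
    refine ⟨?_, h1, (hXp ψ hψ.2).1, hdegne ψ hψ.1⟩
    have hnd : ¬ r ∣ charDegree (ψ : G → ℂ) := fun h => by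
      have h2 : (r : ℤ) ∣ εX ψ := by
        have := dvd_add h1 (Int.natCast_dvd_natCast.2 h)
        simpa using this
      rcases (hXp ψ hψ.2).1 with h' | h' <;> rw [h'] at h2
      · have := Int.le_of_dvd one_pos h2; omega
      · have := Int.le_of_dvd one_pos (dvd_neg.1 h2); omega
    have hd := charDegree_dvd_card ψ
    rw [hcard, show p * r * 2 ^ b = (p * 2 ^ b) * r by ring] at hd
    exact ((hr.out.coprime_iff_not_dvd.2 hnd).symm).dvd_of_dvd_mul_right hd
  rcases Nat.lt_or_ge j 2 with hj2 | hj2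
  · obtain rfl : j = 1 := by omega
    rw [pow_one] at hj
    subst hj
    have hFc : (F.erase (principal G)).card = 1 := by
      rw [Finset.card_erase_of_mem (by simpa [hF] using hprin), hF,
        ← Nat.card_eq_card_finite_toFinset, hX]
    obtain ⟨ψ, hψ⟩ := Finset.card_eq_one.1 hFc
    rw [hψ, Finset.sum_singleton] at hsum
    obtain ⟨hd, -, hs, -⟩ := hterm ψ (by rw [hψ]; simp)
    have hdeg : charDegree (ψ : G → ℂ) = p + 1 := by
      rcases hs with h | h <;> rw [hf] at hsum <;> simp only [h] at hsum <;> omega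
    rw [hdeg] at hd
    have hd2 : p + 1 ∣ 2 ^ b :=
      (Nat.coprime_self_add_left.2 (Nat.coprime_one_left p) |> fun h => h).dvd_of_dvd_mul_left hd
    obtain ⟨m, -, hm⟩ := (Nat.dvd_prime_pow Nat.prime_two).1 hd2
    have hm1 : m ≠ 1 := fun h => by rw [h, pow_one] at hm; have := hp.two_le; omega
    obtain ⟨-, hmp⟩ := Nat.prime_of_pow_sub_one_prime hm1
      (show (2 ^ m - 1).Prime by rw [show 2 ^ m - 1 = p by omega]; exact hp)
    obtain ⟨i, hi⟩ := Nat.pow_of_pow_add_prime (a := 2) (by norm_num) hmp.ne_zero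
      (show (2 ^ m + 1).Prime by rw [show 2 ^ m + 1 = r by omega]; exact hr.out)
    obtain rfl : m = 2 := by
      rcases i with _ | i
      · exact absurd hi hm1
      · exact ((Nat.prime_dvd_prime_iff_eq Nat.prime_two hmp).1 (hi ▸ dvd_pow_self 2 (by omega))).symm
    omega
  · exfalso
    obtain ⟨i, rfl⟩ : ∃ i, j = i + 2 := ⟨j - 2, by omega⟩
    have he4 : e % 4 = 0 := by rw [hj, pow_add]; omega
    have h4 : ∀ ψ ∈ F.erase (principal G), (4 : ℤ) ∣ f ψ := by
      intro ψ hψ
      obtain ⟨hd, hm, hs, hgt⟩ := hterm ψ hψ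
      by_contra hnot
      have hn4 : ¬ 4 ∣ charDegree (ψ : G → ℂ) := fun h =>
        hnot (Dvd.dvd.mul_left (Int.natCast_dvd_natCast.2 h : ((4 : ℕ) : ℤ) ∣ _) _)
      -- so `d` is one of `2`, `p`, `2 p`
      have hdc : charDegree (ψ : G → ℂ) = 2 ∨ charDegree (ψ : G → ℂ) = p ∨
          charDegree (ψ : G → ℂ) = 2 * p := by
        set d := charDegree (ψ : G → ℂ) with hddef
        by_cases hpd : p ∣ d
        · obtain ⟨d', hd'⟩ := hpd
          rw [hd'] at hd
          obtain ⟨c, -, hc⟩ := (Nat.dvd_prime_pow Nat.prime_two).1 (Nat.dvd_of_mul_dvd_mul_left hp.pos hd)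
          rcases c with _ | _ | c
          · rw [hc, pow_zero, mul_one] at hd'; exact Or.inr (Or.inl hd')
          · rw [hc, pow_one] at hd'; exact Or.inr (Or.inr (by rw [hd', mul_comm]))
          · exact absurd (by rw [hd', hc, pow_add]; exact ⟨p * 2 ^ c, by ring⟩ : 4 ∣ d) hn4
        · obtain ⟨c, -, hc⟩ := (Nat.dvd_prime_pow Nat.prime_two).1
            (((hp.coprime_iff_not_dvd.2 hpd).symm).dvd_of_dvd_mul_left hd)
          rcases c with _ | _ | c
          · rw [hc, pow_zero] at hgt; omega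
          · exact Or.inl hc
          · exact absurd (by rw [hc, pow_add]; exact ⟨2 ^ c, by ring⟩ : 4 ∣ d) hn4
      obtain ⟨q, hq⟩ := hm
      rcases hdc with h | h | h <;> rcases hs with h' | h' <;> rw [h, h'] at hq <;> push_cast at hq
      all_goals
        have h1 : -3 < q := by nlinarith [show (1 : ℤ) < r by exact_mod_cast hr1]
        have h2 : q < 3 := by nlinarith [show (1 : ℤ) < r by exact_mod_cast hr1]
        obtain rfl | rfl | rfl | rfl | rfl : q = -2 ∨ q = -1 ∨ q = 0 ∨ q = 1 ∨ q = 2 := by omega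
      all_goals
        -- `r = 2 e + 1` would give two consecutive Fermat primes
        first
        | omega
        | (exfalso
           obtain ⟨i₁, hi₁⟩ := Nat.pow_of_pow_add_prime (a := 2) (n := i + 2) (by norm_num) (by omega)
             (show (2 ^ (i + 2) + 1).Prime by rw [show 2 ^ (i + 2) + 1 = p by omega]; exact hp)
           obtain ⟨i₂, hi₂⟩ := Nat.pow_of_pow_add_prime (a := 2) (n := i + 3) (by norm_num) (by omega)
             (show (2 ^ (i + 3) + 1).Prime by
               rw [show 2 ^ (i + 3) + 1 = r by rw [pow_succ]; omega]; exact hr.out)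
           rcases i₁ with _ | i₁ <;> rcases i₂ with _ | i₂ <;> simp only [pow_succ, pow_zero] at hi₁ hi₂ <;> omega)
    have h5 : (4 : ℤ) ∣ ∑ ψ ∈ F.erase (principal G), f ψ := Finset.dvd_sum h4
    rw [hsum] at h5
    have h6 : r % 4 = 1 := by
      obtain ⟨c, hc⟩ := her
      have : (r - 1) % 4 = 0 := by rw [hc, Nat.mul_mod, he4]; simp
      omega
    omega

end CfsgLib.Small
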