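import Mathlib
import Cfsg.Prelude.Def_Transfer
import Cfsg.Agent.Lib.PGroups.Extraspecial
import Cfsg.Agent.Lib.Base.Transport

/-!
# Extraspecial groups of order 32 with an automorphism of order five

The involution counts needed for the centraliser `2^{1+4}:A₅` of the Hall–Janko group: such a
group has 12 elements with square one, an involutory automorphism inverted with an element of order
five inverts 8 elements and fixes 4 of the 12.
-/

set_option autoImplicit false
set_option linter.unusedSectionVars false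

namespace CfsgLib.Small

open Subgroup

/-- The sign sum: `(2N - |H|)² = |H| |Z(H)|` for squares and commutators in `{1, z}`. -/
theorem two_mul_card_sq_one_sub_sq {H : Type*} [Group H] [Finite H] {z : H}
    (hzc : z ∈ center H) (hz1 : z ≠ 1) (hz2 : z * z = 1) (hsq : ∀ a : H, a ^ 2 = 1 ∨ a ^ 2 = z)
    (hcm : ∀ a b : H, a * b = b * a ∨ a * b = b * a * z) (hexp : ∀ d ∈ center H, d ^ 2 = 1) :
    (2 * (Nat.card {x : H // x ^ 2 = 1} : ℤ) - Nat.card H) ^ 2 =
      Nat.card H * Nat.card (center H) := by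
  classical
  have := Fintype.ofFinite H
  have hz : ∀ a : H, a * z = z * a := fun a => mem_center_iff.1 hzc a
  let ε : H → ℤ := fun x => if x ^ 2 = 1 then 1 else -1
  let c : H → H → ℤ := fun a d => if a * d = d * a then 1 else -1
  have hεmul : ∀ a d : H, ε a * ε (a * d) = c a d * ε d := by
    intro a d
    rcases hcm d a with h | h
    · have hpow : (a * d) ^ 2 = a ^ 2 * d ^ 2 := Commute.mul_pow h.symm 2
      simp only [ε, c, hpow, if_pos h.symm, one_mul]
      rcases hsq a with ha | ha <;> rcases hsq d with hd | hd <;> simp [ha, hd, hz1, hz2]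
    · have hne : a * d ≠ d * a := fun he => hz1 (by
        rw [← he] at h; exact mul_left_cancel (a := a * d) (h.symm.trans (mul_one _).symm))
      have hpow : (a * d) ^ 2 = a ^ 2 * d ^ 2 * z := by
        calc (a * d) ^ 2 = a * (d * a) * d := by rw [sq]; simp only [mul_assoc]
          _ = a * (a * d * z) * d := by rw [h]
          _ = a * a * d * (z * d) := by simp only [mul_assoc]
          _ = a ^ 2 * d ^ 2 * z := by rw [← hz d, sq, sq]; simp only [mul_assoc]
      simp only [ε, c, hpow, if_neg hne]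
      rcases hsq a with ha | ha <;> rcases hsq d with hd | hd <;> simp [ha, hd, hz1, hz2]
  have hinner : ∀ d : H, ∑ a : H, c a d = if d ∈ center H then (Fintype.card H : ℤ) else 0 := by
    intro d
    by_cases hd : d ∈ center H
    · rw [if_pos hd]
      have : ∀ a : H, c a d = 1 := fun a => if_pos (mem_center_iff.1 hd a)
      simp [this]
    · rw [if_neg hd]
      obtain ⟨a₀, ha₀⟩ : ∃ a₀ : H, a₀ * d ≠ d * a₀ := by
        by_contra hall
        push Not at hall
        exact hd (mem_center_iff.2 hall)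
      have h0 : a₀ * d = d * a₀ * z := (hcm a₀ d).resolve_left ha₀
      have hflip : ∀ a : H, c (a₀ * a) d = - c a d := by
        intro a
        rcases hcm a d with h | h
        · have h2 : a₀ * a * d = d * (a₀ * a) * z := by
            rw [mul_assoc, h, ← mul_assoc, h0, mul_assoc (d * a₀), ← hz a, ← mul_assoc,
              mul_assoc d]
          have hne : a₀ * a * d ≠ d * (a₀ * a) := fun he => hz1 (by
            rw [he] at h2
            exact mul_left_cancel (a := d * (a₀ * a)) (h2.symm.trans (mul_one _).symm))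
          simp only [c, if_pos h, if_neg hne]
        · have h2 : a₀ * a * d = d * (a₀ * a) := by
            calc a₀ * a * d = a₀ * (d * a * z) := by rw [mul_assoc, h]
              _ = a₀ * d * a * z := by simp only [mul_assoc]
              _ = d * a₀ * (z * a) * z := by rw [h0]; simp only [mul_assoc]
              _ = d * a₀ * a * (z * z) := by rw [← hz a]; simp only [mul_assoc]
              _ = d * (a₀ * a) := by rw [hz2, mul_one, mul_assoc]
          have hne : a * d ≠ d * a := fun he => hz1 (by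
            rw [he] at h; exact mul_left_cancel (a := d * a) (h.symm.trans (mul_one _).symm))
          simp only [c, if_pos h2, if_neg hne, neg_neg]
      have hsum : ∑ a : H, c a d = ∑ a : H, c (a₀ * a) d :=
        (Fintype.sum_equiv (Equiv.mulLeft a₀) _ _ fun a => rfl).symm
      rw [Finset.sum_congr rfl fun a _ => hflip a, Finset.sum_neg_distrib] at hsum
      omega
  have hS : ∑ x : H, ε x = 2 * (Nat.card {x : H // x ^ 2 = 1} : ℤ) - Nat.card H := by
    have h1 : ∀ x : H, ε x = 2 * (if x ^ 2 = 1 then (1 : ℤ) else 0) - 1 := fun x => by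
      simp only [ε]; split_ifs <;> ring
    rw [Finset.sum_congr rfl fun x _ => h1 x, Finset.sum_sub_distrib, ← Finset.mul_sum,
      Finset.sum_boole, Nat.card_eq_fintype_card, Nat.card_eq_fintype_card, Fintype.card_subtype]
    simp
  rw [← hS, sq, Finset.sum_mul_sum]
  calc ∑ a : H, ∑ b : H, ε a * ε b = ∑ a : H, ∑ d : H, c a d * ε d := by
        refine Finset.sum_congr rfl fun a _ => ?_
        rw [← Fintype.sum_equiv (Equiv.mulLeft a) (fun d => ε a * ε (a * d)) (fun b => ε a * ε b)
          fun d => rfl]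
        exact Finset.sum_congr rfl fun d _ => hεmul a d
    _ = ∑ d : H, (if d ∈ center H then (Fintype.card H : ℤ) else 0) := by
        rw [Finset.sum_comm]
        refine Finset.sum_congr rfl fun d _ => ?_
        rw [← Finset.sum_mul, hinner d]
        by_cases hd : d ∈ center H
        · simp [ε, hexp d hd, hd]
        · simp [hd]
    _ = _ := by
        rw [← Finset.sum_filter, Finset.sum_const, nsmul_eq_mul, Nat.card_eq_fintype_card,
          Nat.card_eq_fintype_card, Fintype.card_subtype, mul_comm]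

/-- A permutation of prime order fixes a number of points congruent to the total. -/
theorem card_fixed_modEq {α : Type*} [Finite α] {p : ℕ} [Fact p.Prime] {σ : Equiv.Perm α}
    (h : σ ^ p = 1) : Nat.card {x : α // σ x = x} ≡ Nat.card α [MOD p] := by
  classical
  have := Fintype.ofFinite α
  have h1 := Equiv.Perm.card_compl_support_modEq (p := p) (n := 1) (σ := σ) (by rwa [pow_one])
  rw [Nat.card_eq_fintype_card, Nat.card_eq_fintype_card, Fintype.card_subtype]
  convert h1 using 2
  ext x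
  simp

/-- An automorphism of prime order fixes, in an invariant set, a number of elements congruent to
the total. -/
theorem card_fixed_aut_modEq {Q : Type*} [Group Q] [Finite Q] {p : ℕ} [Fact p.Prime] {φ : MulAut Q}
    (hφ : φ ^ p = 1) {P : Q → Prop} (hP : ∀ q, P q → P (φ q)) :
    Nat.card {q : Q // P q ∧ φ q = q} ≡ Nat.card {q : Q // P q} [MOD p] := by
  let F : {q : Q // P q} → {q : Q // P q} := fun x => ⟨φ x.1, hP x.1 x.2⟩
  have hF : Function.Injective F := fun a b he =>
    Subtype.ext (φ.injective (congrArg Subtype.val he :))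
  let f : Equiv.Perm {q : Q // P q} := Equiv.ofBijective F (Finite.injective_iff_bijective.1 hF)
  have hf : ∀ (n : ℕ) (x : {q : Q // P q}), ((f ^ n) x).1 = (φ ^ n) x.1 := by
    intro n
    induction n with
    | zero => intro x; simp
    | succ n ih =>
      intro x
      rw [pow_succ', pow_succ', Equiv.Perm.mul_apply, MulAut.mul_apply, ← ih x]
      rfl
  have hm := card_fixed_modEq (p := p) (σ := f) (Equiv.ext fun x => Subtype.ext (by
    rw [hf, hφ]; rfl))
  have e : Nat.card {q : Q // P q ∧ φ q = q} = Nat.card {x // f x = x} :=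
    Nat.card_congr
      { toFun := fun q => ⟨⟨q.1, q.2.1⟩, Subtype.ext q.2.2⟩
        invFun := fun x => ⟨x.1.1, x.1.2, congrArg Subtype.val x.2⟩
        left_inv := fun q => rfl
        right_inv := fun x => rfl }
  rw [e]
  exact hm

/-- An extraspecial 2-group with its central involution. -/
structure ESTwo (Q : Type*) [Group Q] (z : Q) : Prop where
  extra : Cfsg.IsExtraspecial 2 Q
  center_iff : ∀ x : Q, x ∈ center Q ↔ x = 1 ∨ x = z
  ne_one : z ≠ 1
  mul_self : z * z = 1
  sq_eq : ∀ a : Q, a ^ 2 = 1 ∨ a ^ 2 = z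
  comm_eq : ∀ a b : Q, a * b = b * a ∨ a * b = b * a * z

theorem exists_ESTwo {Q : Type*} [Group Q] [Finite Q] (h : Cfsg.IsExtraspecial 2 Q) :
    ∃ z, ESTwo Q z := by
  haveI : Fact (Nat.Prime 2) := ⟨Nat.prime_two⟩
  obtain ⟨⟨z, hzc⟩, hzne, hzuniq⟩ := (Nat.card_eq_two_iff' (1 : center Q)).1 h.2
  have hz1 : z ≠ 1 := fun he => hzne (Subtype.ext he)
  have hZ : ∀ x : Q, x ∈ center Q ↔ x = 1 ∨ x = z := by
    refine fun x => ⟨fun hx => ?_, ?_⟩
    · by_cases hx1 : x = 1
      · exact Or.inl hx1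
      · exact Or.inr (congrArg Subtype.val (hzuniq ⟨x, hx⟩ fun he => hx1 (congrArg Subtype.val he)))
    · rintro (rfl | rfl)
      exacts [one_mem _, hzc]
  refine ⟨z, h, hZ, hz1, ?_, fun a => (hZ _).1 (CfsgLib.PGroups.Extraspecial.pow_mem_center h a),
    fun a b => ?_⟩
  · rcases (hZ _).1 (mul_mem hzc hzc) with he | he
    · exact he
    · exact absurd (mul_eq_left.1 he) hz1
  · rcases (hZ _).1 (CfsgLib.PGroups.Extraspecial.commutator_mem_center h a b) with he | he
    · exact Or.inl (commutatorElement_eq_one_iff_mul_comm.1 he)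
    · right
      rw [mem_center_iff.1 hzc, ← he, commutatorElement_def]
      simp [mul_assoc]

namespace ESTwo

variable {Q : Type*} [Group Q] {z : Q} (S : ESTwo Q z)
include S

theorem mem_center : z ∈ center Q := (S.center_iff z).2 (Or.inr rfl)

theorem mul_comm_z (a : Q) : a * z = z * a := mem_center_iff.1 S.mem_center a

theorem map_z (φ : MulAut Q) : φ z = z := by
  have hm : φ z ∈ center Q := mem_center_iff.2 fun x => by
    obtain ⟨y, rfl⟩ := φ.surjective x
    rw [← map_mul, ← map_mul, S.mul_comm_z y]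
  rcases (S.center_iff _).1 hm with he | he
  · exact absurd ((map_eq_one_iff φ φ.injective).1 he) S.ne_one
  · exact he

theorem map_center (φ : MulAut Q) {x : Q} (hx : x ∈ center Q) : φ x = x := by
  rcases (S.center_iff x).1 hx with he | he <;> rw [he]
  exacts [map_one φ, S.map_z φ]

theorem sq_center {x : Q} (hx : x ∈ center Q) : x ^ 2 = 1 := by
  rcases (S.center_iff x).1 hx with he | he <;> rw [he]
  exacts [one_pow 2, (sq z).trans S.mul_self]

theorem sq_mul_z (x : Q) : (x * z) ^ 2 = x ^ 2 := by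
  rw [Commute.mul_pow (S.mul_comm_z x : x * z = z * x), sq z, S.mul_self, mul_one]

/-- The twelve elements of square one. -/
theorem card_sq_one [Finite Q] (hQ : Nat.card Q = 32) {γ : MulAut Q} (hγ : γ ^ 5 = 1)
    (hfix : ∀ q, γ q = q → q ∈ center Q) : Nat.card {q : Q // q ^ 2 = 1} = 12 := by
  haveI : Fact (Nat.Prime 5) := ⟨by norm_num⟩
  have e := two_mul_card_sq_one_sub_sq S.mem_center S.ne_one S.mul_self S.sq_eq S.comm_eq
    fun d hd => S.sq_center hd
  rw [hQ, S.extra.2] at e
  have hm := card_fixed_aut_modEq hγ (P := fun q => q ^ 2 = 1) fun q hq => by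
    rw [← map_pow, hq, map_one]
  have hc : Nat.card {q : Q // q ^ 2 = 1 ∧ γ q = q} = 2 :=
    (Nat.card_congr (Equiv.subtypeEquivRight fun q =>
      ⟨fun hq => hfix q hq.2, fun hq => ⟨S.sq_center hq, S.map_center γ hq⟩⟩)).trans S.extra.2
  rw [hc] at hm
  unfold Nat.ModEq at hm
  have e' : (2 * (Nat.card {q : Q // q ^ 2 = 1} : ℤ) - 32) ^ 2 = 8 ^ 2 := by
    push_cast at e; rw [e]; norm_num
  rcases sq_eq_sq_iff_eq_or_eq_neg.1 e' with he | he <;> omega

/-- For a noncentral involution: either it commutes with all elements of square one, or only with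
those in `{1, z, u, uz}`. -/
theorem commute_dichotomy [Finite Q] (hQ : Nat.card Q = 32)
    (hN : Nat.card {q : Q // q ^ 2 = 1} = 12) {u : Q} (hu : u ^ 2 = 1) (huc : u ∉ center Q) :
    (∀ x : Q, x ^ 2 = 1 → x * u = u * x) ∨
      (∀ x : Q, x ^ 2 = 1 → x * u = u * x → x = 1 ∨ x = z ∨ x = u ∨ x = u * z) := by
  classical
  haveI : Fact (Nat.Prime 2) := ⟨Nat.prime_two⟩
  let H := centralizer ({u} : Set Q)
  have hHmem : ∀ x, x ∈ H ↔ x * u = u * x := fun x => mem_centralizer_singleton_iff
  have hcH : center Q ≤ H := center_le_centralizer _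
  have hzH : z ∈ H := hcH S.mem_center
  have hidx : H.index ≤ 2 := (CfsgLib.PGroups.index_centralizer_singleton_le (le_refl (center Q))
    fun g => CfsgLib.PGroups.Extraspecial.commutator_mem_center S.extra g u).trans S.extra.2.le
  have hH : Nat.card H = 16 := by
    have e := Subgroup.index_mul_card H
    rw [hQ] at e
    have hne : H.index ≠ 1 := fun he => huc (mem_center_iff.2 fun g =>
      (hHmem g).1 (Subgroup.index_eq_one.1 he ▸ mem_top g))
    have hpos : 0 < H.index := Nat.pos_of_ne_zero Subgroup.FiniteIndex.index_ne_zero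
    have hh : H.index = 2 := by omega
    rw [hh] at e
    omega
  have hCH : Nat.card (centralizer (H : Set Q)) = 4 := by
    have e := CfsgLib.PGroups.Extraspecial.card_mul_card_centralizer S.extra hcH
    rw [hH, hQ] at e
    omega
  have huz : u ≠ z := fun he => huc (he ▸ S.mem_center)
  have hu1 : u ≠ 1 := fun he => huc (he ▸ one_mem _)
  have huz1 : u * z ≠ 1 := fun he => huz ((eq_inv_of_mul_eq_one_left he).trans
    (inv_eq_of_mul_eq_one_right S.mul_self))
  have huzz : u * z ≠ z := fun he => hu1 (mul_eq_right.1 he)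
  have huzu : u * z ≠ u := fun he => S.ne_one (mul_eq_left.1 he)
  have hsub : ({1, z, u, u * z} : Set Q) ⊆ centralizer (H : Set Q) := by
    rintro x (rfl | rfl | rfl | rfl)
    · exact one_mem _
    · exact fun y _ => S.mul_comm_z y
    · exact fun y hy => (hHmem y).1 hy
    · exact mul_mem (fun y hy => (hHmem y).1 hy) (fun y _ => S.mul_comm_z y)
  have hn4 : ({1, z, u, u * z} : Set Q).ncard = 4 := by
    rw [Set.ncard_insert_of_notMem (by simp [S.ne_one.symm, hu1.symm, huz1.symm]),
      Set.ncard_insert_of_notMem (by simp [huz.symm, huzz.symm]), Set.ncard_pair huzu.symm]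
  have hset : ({1, z, u, u * z} : Set Q) = (centralizer (H : Set Q) : Set Q) :=
    Set.eq_of_subset_of_ncard_le hsub
      (by rw [hn4, ← Nat.card_coe_set_eq]; exact hCH.le)
  have hCH4 : ∀ x ∈ centralizer (H : Set Q), x = 1 ∨ x = z ∨ x = u ∨ x = u * z := by
    intro x hx
    have hx' : x ∈ ({1, z, u, u * z} : Set Q) := by rw [hset]; exact hx
    simpa using hx'
  have hCsq : ∀ x ∈ centralizer (H : Set Q), x ^ 2 = 1 ∧ x ∈ H := by
    intro x hx
    rcases hCH4 x hx with he | he | he | he <;> rw [he]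
    exacts [⟨one_pow 2, one_mem _⟩, ⟨S.sq_center S.mem_center, hzH⟩,
      ⟨hu, (hHmem u).2 rfl⟩, ⟨(S.sq_mul_z u).trans hu, mul_mem ((hHmem u).2 rfl) hzH⟩]
  have hcen : ∀ d : H, d ∈ center H ↔ (d : Q) ∈ centralizer (H : Set Q) := fun d =>
    ⟨fun hd y hy => congrArg Subtype.val (mem_center_iff.1 hd ⟨y, hy⟩),
      fun hd => mem_center_iff.2 fun y => Subtype.ext (hd y.1 y.2)⟩
  have hcenH : Nat.card (center H) = 4 := by
    rw [← hCH]
    exact Nat.card_congr
      { toFun := fun x => ⟨x.1.1, (hcen x.1).1 x.2⟩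
        invFun := fun x => ⟨⟨x.1, (hCsq x.1 x.2).2⟩, (hcen ⟨x.1, (hCsq x.1 x.2).2⟩).2 x.2⟩
        left_inv := fun x => rfl
        right_inv := fun x => rfl }
  have hexpH : ∀ d ∈ center H, d ^ 2 = 1 := fun d hd =>
    Subtype.ext (hCsq _ ((hcen d).1 hd)).1
  have e := two_mul_card_sq_one_sub_sq (H := H) (z := ⟨z, hzH⟩)
    (mem_center_iff.2 fun y => Subtype.ext (S.mul_comm_z y.1))
    (fun he => S.ne_one (congrArg Subtype.val he)) (Subtype.ext S.mul_self)
    (fun a => (S.sq_eq a.1).imp (fun he => Subtype.ext he) (fun he => Subtype.ext he))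
    (fun a b => (S.comm_eq a.1 b.1).imp (fun he => Subtype.ext he) (fun he => Subtype.ext he)) hexpH
  rw [hH, hcenH] at e
  let ι : {x : H // x ^ 2 = 1} → {q : Q // q ^ 2 = 1} := fun x => ⟨x.1.1, congrArg Subtype.val x.2⟩
  have hι : Function.Injective ι := fun a b he =>
    Subtype.ext (Subtype.ext (congrArg Subtype.val he :))
  obtain h4 | h12 : Nat.card {x : H // x ^ 2 = 1} = 4 ∨ Nat.card {x : H // x ^ 2 = 1} = 12 := by
    have e' : (2 * (Nat.card {x : H // x ^ 2 = 1} : ℤ) - 16) ^ 2 = 8 ^ 2 := by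
      push_cast at e; rw [e]; norm_num
    rcases sq_eq_sq_iff_eq_or_eq_neg.1 e' with he | he <;> omega
  · right
    intro x hx hxu
    let j : center H → {x : H // x ^ 2 = 1} := fun d => ⟨d.1, hexpH d.1 d.2⟩
    have hj : Function.Bijective j := (Nat.bijective_iff_injective_and_card j).2
      ⟨fun a b he => Subtype.ext (congrArg Subtype.val he :), by rw [hcenH, h4]⟩
    obtain ⟨d, hd⟩ := hj.2 ⟨⟨x, (hHmem x).2 hxu⟩, Subtype.ext hx⟩
    have hdx : (d.1 : Q) = x := congrArg (fun y : {x : H // x ^ 2 = 1} => (y.1 : Q)) hd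
    exact hCH4 x (hdx ▸ (hcen d.1).1 d.2)
  · left
    intro x hx
    have hb : Function.Bijective ι :=
      (Nat.bijective_iff_injective_and_card ι).2 ⟨hι, by rw [hN, h12]⟩
    obtain ⟨y, hy⟩ := hb.2 ⟨x, hx⟩
    have hyx : (y.1 : Q) = x := congrArg Subtype.val hy
    exact (hHmem x).1 (hyx ▸ y.1.2)

/-- Two commuting elements of square one differ by a central element. -/
theorem commuting_pair [Finite Q] (hQ : Nat.card Q = 32) {γ : MulAut Q} (hγ : γ ^ 5 = 1)
    (hfix : ∀ q, γ q = q → q ∈ center Q) {u : Q} (hu : u ^ 2 = 1) (huc : u ∉ center Q) {x : Q}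
    (hx : x ^ 2 = 1) (hxu : x * u = u * x) : x = 1 ∨ x = z ∨ x = u ∨ x = u * z := by
  classical
  haveI : Fact (Nat.Prime 2) := ⟨Nat.prime_two⟩
  haveI : Fact (Nat.Prime 5) := ⟨by norm_num⟩
  have hN := S.card_sq_one hQ hγ hfix
  refine (S.commute_dichotomy hQ hN hu huc).resolve_left (fun hall => ?_) x hx hxu
  have hcomm : ∀ a : Q, a ^ 2 = 1 → ∀ b : Q, b ^ 2 = 1 → a * b = b * a := by
    intro a ha b hb
    by_cases hac : a ∈ center Q
    · exact (mem_center_iff.1 hac b).symm
    rcases S.commute_dichotomy hQ hN ha hac with ha' | ha'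
    · exact (ha' b hb).symm
    · rcases ha' u hu (hall a ha).symm with he | he | he | he
      · exact absurd (he ▸ one_mem _) huc
      · exact absurd (he ▸ S.mem_center) huc
      · rw [← he]; exact (hall b hb).symm
      · have hae : a = u * z := by rw [he, mul_assoc, S.mul_self, mul_one]
        rw [hae, mul_assoc, ← S.mul_comm_z b, ← mul_assoc, ← hall b hb, mul_assoc]
  let L := closure {a : Q | a ^ 2 = 1}
  have hLγ : ∀ a, a ∈ L → γ a ∈ L := by
    intro a ha
    induction ha using Subgroup.closure_induction with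
    | mem y hy =>
      have hy2 : y ^ 2 = 1 := hy
      exact subset_closure (show (γ y) ^ 2 = 1 by rw [← map_pow, hy2, map_one])
    | one => rw [map_one]; exact one_mem _
    | mul a b _ _ ha hb => rw [map_mul]; exact mul_mem ha hb
    | inv a _ ha => rw [map_inv]; exact inv_mem ha
  have hm := card_fixed_aut_modEq hγ (P := fun a => a ∈ L) hLγ
  have hc : Nat.card {a : Q // a ∈ L ∧ γ a = a} = 2 :=
    (Nat.card_congr (Equiv.subtypeEquivRight fun a =>
      ⟨fun ha => hfix a ha.2, fun ha => ⟨subset_closure (S.sq_center ha), S.map_center γ ha⟩⟩)).trans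
        S.extra.2
  rw [hc] at hm
  have hgt : 3 ≤ Nat.card L := by
    have hu1 : u ≠ 1 := fun he => huc (he ▸ one_mem _)
    have huz : u ≠ z := fun he => huc (he ▸ S.mem_center)
    have h3 : ({1, z, u} : Set Q).ncard = 3 := by
      rw [Set.ncard_insert_of_notMem (by simp [S.ne_one.symm, hu1.symm]), Set.ncard_pair huz.symm]
    rw [← h3]
    change _ ≤ (L : Set Q).ncard
    refine Set.ncard_le_ncard ?_
    rintro a (rfl | rfl | rfl)
    exacts [one_mem _, subset_closure (S.sq_center S.mem_center), subset_closure hu]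
  have hdvd : Nat.card L ∣ 2 ^ 5 := by simpa [hQ] using Subgroup.card_subgroup_dvd_card L
  obtain ⟨k, hk5, hk⟩ := (Nat.dvd_prime_pow Nat.prime_two).1 hdvd
  have hk' : k = 5 := by
    have hm' : 2 % 5 = 2 ^ k % 5 := by rw [← hk]; exact hm
    rw [hk] at hgt
    clear hk hm hc
    interval_cases k <;> simp_all
  have hL : L = ⊤ := Subgroup.eq_top_of_card_eq _ (by rw [hk, hk', hQ]; norm_num)
  refine CfsgLib.PGroups.Extraspecial.not_isMulCommutative S.extra ⟨⟨fun a b => ?_⟩⟩
  have key : L ≤ centralizer (L : Set Q) := by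
    rw [closure_le]
    intro y hy
    show y ∈ centralizer (L : Set Q)
    rw [centralizer_closure]
    exact fun w hw => hcomm w hw y hy
  exact (key (hL ▸ mem_top a : a ∈ L) b (hL ▸ mem_top b : b ∈ L)).symm

/-- The elements fixed modulo the centre. -/
def fixedMod (_S : ESTwo Q z) (φ : MulAut Q) : Subgroup Q :=
  ((QuotientGroup.mk' (center Q)).comp φ.toMonoidHom).eqLocus (QuotientGroup.mk' (center Q))

theorem mk_eq_iff (a b : Q) :
    QuotientGroup.mk' (center Q) a = QuotientGroup.mk' (center Q) b ↔ a * b⁻¹ ∈ center Q := by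
  rw [← (QuotientGroup.eq_one_iff (N := center Q) (a * b⁻¹))]
  show _ ↔ QuotientGroup.mk' (center Q) (a * b⁻¹) = 1
  rw [map_mul, map_inv, mul_inv_eq_one]

theorem mem_fixedMod (φ : MulAut Q) (q : Q) : q ∈ S.fixedMod φ ↔ φ q * q⁻¹ ∈ center Q :=
  S.mk_eq_iff (φ q) q

theorem center_le_fixedMod (φ : MulAut Q) : center Q ≤ S.fixedMod φ := fun x hx => by
  rw [S.mem_fixedMod, S.map_center φ hx, mul_inv_cancel]; exact one_mem _

theorem inverted_mem (φ : MulAut Q) {q : Q} (hq : φ q = q⁻¹) : q ∈ S.fixedMod φ := by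
  rw [S.mem_fixedMod, hq, ← mul_inv_rev, ← sq]
  rcases S.sq_eq q with he | he <;> rw [he]
  exacts [inv_mem (one_mem _), inv_mem S.mem_center]

/-- The homomorphism `q ↦ q⁻¹ φ(q)` modulo the centre. -/
def delta (φ : MulAut Q) : Q →* Q ⧸ center Q :=
  MonoidHom.mk' (fun q => (QuotientGroup.mk' (center Q) q)⁻¹ * QuotientGroup.mk' (center Q) (φ q))
    fun a b => by
      have hab : ∀ x y : Q ⧸ center Q, x * y = y * x := by
        intro x y
        obtain ⟨a, rfl⟩ := QuotientGroup.mk'_surjective (center Q) x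
        obtain ⟨b, rfl⟩ := QuotientGroup.mk'_surjective (center Q) y
        rw [← map_mul, ← map_mul]
        rcases S.comm_eq a b with he | he
        · rw [he]
        · rw [he, map_mul, show QuotientGroup.mk' (center Q) z = 1 from
            (QuotientGroup.eq_one_iff z).2 S.mem_center, mul_one]
      rw [map_mul, map_mul, map_mul, mul_inv_rev,
        hab (QuotientGroup.mk' (center Q) b)⁻¹ (QuotientGroup.mk' (center Q) a)⁻¹]
      simp only [mul_assoc]
      congr 1
      rw [← mul_assoc, hab (QuotientGroup.mk' (center Q) b)⁻¹ (QuotientGroup.mk' (center Q) (φ a)),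
        mul_assoc]

theorem card_fixedMod_mul [Finite Q] (hQ : Nat.card Q = 32) (φ : MulAut Q) :
    Nat.card (S.fixedMod φ) * Nat.card ((S.delta φ).range.comap (QuotientGroup.mk' (center Q))) = 64 := by
  let π := QuotientGroup.mk' (center Q)
  have hker : (S.delta φ).ker = S.fixedMod φ := by
    ext q
    rw [MonoidHom.mem_ker, S.mem_fixedMod, ← S.mk_eq_iff]
    show (π q)⁻¹ * π (φ q) = 1 ↔ _
    rw [inv_mul_eq_one, eq_comm]
  have h1 : Nat.card ((S.delta φ).range.comap π) = Nat.card (S.delta φ).range * 2 := by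
    have e : ((S.delta φ).range.comap π).index = (S.delta φ).range.index :=
      Subgroup.index_comap_of_surjective _ (QuotientGroup.mk'_surjective (center Q))
    have e1 := Subgroup.index_mul_card ((S.delta φ).range.comap π)
    have e2 := Subgroup.index_mul_card (S.delta φ).range
    have e3 : Nat.card (Q ⧸ center Q) * 2 = 32 := by
      have := Subgroup.index_mul_card (center Q)
      rw [S.extra.2, hQ] at this
      exact this
    rw [e, hQ] at e1
    refine Nat.eq_of_mul_eq_mul_left
      (Nat.pos_of_ne_zero (Subgroup.FiniteIndex.index_ne_zero (H := (S.delta φ).range))) ?_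
    rw [e1, ← mul_assoc, e2, e3]
  have h3 : Nat.card (S.fixedMod φ) * Nat.card (S.delta φ).range = 32 := by
    rw [← hker, ← hQ, ← Subgroup.index_ker, Subgroup.card_mul_index]
  rw [h1, ← mul_assoc, h3]
  norm_num

theorem inverted_count [Finite Q] (hQ : Nat.card Q = 32) (φ : MulAut Q) (hφ : φ * φ = 1) :
    64 ≤ Nat.card (S.fixedMod φ) * Nat.card {q : Q // φ q = q⁻¹} := by
  let π := QuotientGroup.mk' (center Q)
  have hsub : ∀ x ∈ (S.delta φ).range.comap π, φ x = x⁻¹ := by
    rintro x ⟨q, hq⟩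
    have hq' : π x = π (q⁻¹ * φ q) := by rw [← hq, map_mul, map_inv]; rfl
    have hm := (S.mk_eq_iff _ _).1 hq'
    have hφφ : φ (φ q) = q := by rw [← MulAut.mul_apply, hφ, MulAut.one_apply]
    have hc : φ (q⁻¹ * φ q) = (q⁻¹ * φ q)⁻¹ := by
      rw [map_mul, map_inv, hφφ, mul_inv_rev, inv_inv]
    rcases (S.center_iff _).1 hm with he | he
    · rw [mul_inv_eq_one] at he
      rw [he]; exact hc
    · rw [mul_inv_eq_iff_eq_mul] at he
      rw [he, map_mul, S.map_z, hc]
      conv_rhs => rw [mul_inv_rev, inv_eq_of_mul_eq_one_right S.mul_self]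
      exact (S.mul_comm_z _).symm
  rw [← S.card_fixedMod_mul hQ φ]
  exact Nat.mul_le_mul_left _ (Nat.card_le_card_of_injective (fun x => ⟨x.1, hsub x.1 x.2⟩)
    fun a b he => Subtype.ext (congrArg Subtype.val he :))

theorem inverted_le [Finite Q] (φ : MulAut Q) :
    Nat.card {q : Q // φ q = q⁻¹} ≤ Nat.card (S.fixedMod φ) :=
  Nat.card_le_card_of_injective (fun x => ⟨x.1, S.inverted_mem φ x.2⟩)
    fun a b he => Subtype.ext (congrArg Subtype.val he :)

theorem eight_le_fixedMod [Finite Q] (hQ : Nat.card Q = 32) (φ : MulAut Q)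
    (hφ : ∀ q, φ (φ q) * q⁻¹ ∈ center Q) : 8 ≤ Nat.card (S.fixedMod φ) := by
  have hle : (S.delta φ).range.comap (QuotientGroup.mk' (center Q)) ≤ S.fixedMod φ := by
    rintro x ⟨q, hq⟩
    have hq' : QuotientGroup.mk' (center Q) x = QuotientGroup.mk' (center Q) (q⁻¹ * φ q) := by
      rw [← hq, map_mul, map_inv]; rfl
    obtain ⟨c, hc, rfl⟩ : ∃ c ∈ center Q, x = c * (q⁻¹ * φ q) :=
      ⟨x * (q⁻¹ * φ q)⁻¹, (S.mk_eq_iff _ _).1 hq', (inv_mul_cancel_right _ _).symm⟩
    refine mul_mem (S.center_le_fixedMod φ hc) ?_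
    obtain ⟨c', hc', h2⟩ : ∃ c' ∈ center Q, φ (φ q) = q * c' :=
      ⟨φ (φ q) * q⁻¹, hφ q, by rw [← mem_center_iff.1 (hφ q) q |>.symm, inv_mul_cancel_right]⟩
    rw [S.mem_fixedMod, map_mul, map_inv, h2, mul_inv_rev, inv_inv]
    -- both sides differ by the commutator and a square
    have e : (φ q)⁻¹ * (q * c') * ((φ q)⁻¹ * q) = ((φ q)⁻¹ * q) ^ 2 * c' := by
      rw [sq, ← mul_assoc (φ q)⁻¹ q c']
      simp only [mul_assoc]
      rw [mem_center_iff.1 hc' ((φ q)⁻¹ * q) |>.symm]
      simp only [mul_assoc]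
    rw [e]
    refine mul_mem ?_ hc'
    rcases S.sq_eq ((φ q)⁻¹ * q) with he | he <;> rw [he]
    exacts [one_mem _, S.mem_center]
  by_contra hlt
  have h1 := S.card_fixedMod_mul hQ φ
  have h2 : Nat.card (S.fixedMod φ) * Nat.card
      ((S.delta φ).range.comap (QuotientGroup.mk' (center Q))) ≤ 7 * 7 :=
    Nat.mul_le_mul (by omega) (by have := Subgroup.card_le_of_le hle; omega)
  omega

theorem card_fixedMod [Finite Q] (hQ : Nat.card Q = 32) {γ κ κ' : MulAut Q} (hγ : γ ^ 5 = 1)
    (hfix : ∀ q, γ q = q → q ∈ center Q) (hκ : κ * κ = 1)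
    (hκ' : ∀ q, κ' (κ' q) * q⁻¹ ∈ center Q)
    (hW : ∀ q, κ q * q⁻¹ ∈ center Q → κ' q * q⁻¹ ∈ center Q → γ q * q⁻¹ ∈ center Q) :
    Nat.card (S.fixedMod κ) = 8 := by
  haveI : Fact (Nat.Prime 2) := ⟨Nat.prime_two⟩
  have hinf : S.fixedMod κ ⊓ S.fixedMod κ' = center Q := by
    refine le_antisymm (fun q hq => ?_)
      (le_inf (S.center_le_fixedMod κ) (S.center_le_fixedMod κ'))
    obtain ⟨hq1, hq2⟩ := hq
    refine hfix q ?_
    rcases (S.center_iff _).1 (hW q ((S.mem_fixedMod κ q).1 hq1) ((S.mem_fixedMod κ' q).1 hq2)) with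
      he | he
    · exact mul_inv_eq_one.1 he
    · rw [mul_inv_eq_iff_eq_mul] at he
      have h2 : γ (γ q) = q := by rw [he, map_mul, S.map_z, he, ← mul_assoc, S.mul_self, one_mul]
      have h5 : γ (γ (γ (γ (γ q)))) = q := by
        have e5 : (γ ^ 5) q = q := by rw [hγ]; rfl
        simpa [pow_succ, MulAut.mul_apply] using e5
      rwa [h2, h2] at h5
  have hn : (S.fixedMod κ).Normal :=
    CfsgLib.PGroups.Extraspecial.normal_of_center_le S.extra (S.center_le_fixedMod κ)
  have h1 := (CfsgLib.Base.card_sup_mul_card_inf (S.fixedMod κ') (S.fixedMod κ)).symm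
  rw [sup_comm, inf_comm] at h1
  have h2 : Nat.card ↥(S.fixedMod κ ⊔ S.fixedMod κ') ≤ 32 := hQ ▸ Subgroup.card_le_card_group _
  have h3 : Nat.card ↥(S.fixedMod κ ⊓ S.fixedMod κ') = 2 := by rw [hinf]; exact S.extra.2
  rw [h3] at h1
  have := S.eight_le_fixedMod hQ κ (fun q => by
    rw [← MulAut.mul_apply, hκ, MulAut.one_apply, mul_inv_cancel]; exact one_mem _)
  have := S.eight_le_fixedMod hQ κ' hκ'
  nlinarith

/-- An element of square one outside the centre fixed modulo the centre. -/
theorem exists_fixed_pair [Finite Q] (hN : Nat.card {q : Q // q ^ 2 = 1} = 12)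
    {κ : MulAut Q} (hκ : κ * κ = 1) : ∃ u : Q, u ^ 2 = 1 ∧ u ∉ center Q ∧ u ∈ S.fixedMod κ := by
  haveI : Fact (Nat.Prime 2) := ⟨Nat.prime_two⟩
  let π := QuotientGroup.mk' (center Q)
  have hκκ : ∀ q, κ (κ q) = q := fun q => by rw [← MulAut.mul_apply, hκ, MulAut.one_apply]
  let T : Set (Q ⧸ center Q) := {x | ∃ q : Q, q ^ 2 = 1 ∧ π q = x}
  have hT : Nat.card T = 6 := by
    have e := Nat.card_congr (QuotientGroup.preimageMkEquivSubgroupProdSet (center Q) T)
    rw [Nat.card_prod, S.extra.2] at e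
    have : Nat.card (QuotientGroup.mk (s := center Q) ⁻¹' T) = 12 := by
      rw [← hN]
      refine Nat.card_congr (Equiv.subtypeEquivRight fun x => ?_)
      refine ⟨?_, fun hx => ⟨x, hx, rfl⟩⟩
      rintro ⟨q, hq, hqx⟩
      rcases (S.center_iff _).1 ((S.mk_eq_iff q x).1 hqx) with he | he
      · rw [mul_inv_eq_one] at he; rw [← he]; exact hq
      · rw [mul_inv_eq_iff_eq_mul, ← S.mul_comm_z] at he
        rw [← S.sq_mul_z x, ← he]; exact hq
    omega
  have hZκ : center Q ≤ (center Q).comap κ.toMonoidHom := by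
    intro x hx
    show κ x ∈ center Q
    rw [S.map_center κ hx]; exact hx
  let κb : Q ⧸ center Q →* Q ⧸ center Q := QuotientGroup.map _ _ κ.toMonoidHom hZκ
  have hκb : ∀ q, κb (π q) = π (κ q) := fun q => rfl
  have hmaps : ∀ x : T, κb x.1 ∈ T := by
    rintro ⟨x, q, hq, rfl⟩
    exact ⟨κ q, by rw [← map_pow, hq, map_one], (hκb q).symm⟩
  let F : T → T := fun x => ⟨κb x.1, hmaps x⟩
  have hinv : Function.Involutive F := by
    rintro ⟨x, q, hq, rfl⟩
    exact Subtype.ext (by show κb (κb (π q)) = π q; rw [hκb, hκb, hκκ])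
  have hm := card_fixed_modEq (p := 2) (σ := (Function.Involutive.toPerm F hinv)) (Equiv.ext fun x => by
    rw [sq]; exact hinv x)
  rw [hT] at hm
  let one' : {x // (Function.Involutive.toPerm F hinv) x = x} :=
    ⟨⟨1, 1, one_pow 2, map_one π⟩, Subtype.ext (map_one κb)⟩
  have hne : Nat.card {x // (Function.Involutive.toPerm F hinv) x = x} ≠ 1 := fun he => by
    rw [he] at hm; exact absurd hm (by decide)
  obtain ⟨⟨⟨x, q, hq, rfl⟩, hxf⟩, hx⟩ : ∃ y : {x // (Function.Involutive.toPerm F hinv) x = x}, y ≠ one' := by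
    by_contra hall
    push Not at hall
    exact hne (Nat.card_eq_one_iff_unique.2 ⟨⟨fun a b => (hall a).trans (hall b).symm⟩, ⟨one'⟩⟩)
  refine ⟨q, hq, fun hc => hx ?_, ?_⟩
  · exact Subtype.ext (Subtype.ext ((QuotientGroup.eq_one_iff q).2 hc))
  · exact (S.mem_fixedMod κ q).2 ((S.mk_eq_iff _ _).1 (congrArg Subtype.val hxf :))

/-- An involutory `κ` in a dihedral relation with `γ` inverts every element fixed modulo the
centre. -/
theorem fixedMod_inverted [Finite Q] (hQ : Nat.card Q = 32) {γ κ κ' : MulAut Q} (hγ : γ ^ 5 = 1)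
    (hfix : ∀ q, γ q = q → q ∈ center Q) (hκ : κ * κ = 1)
    (hκ' : ∀ q, κ' (κ' q) * q⁻¹ ∈ center Q)
    (hW : ∀ q, κ q * q⁻¹ ∈ center Q → κ' q * q⁻¹ ∈ center Q → γ q * q⁻¹ ∈ center Q) :
    ∀ q ∈ S.fixedMod κ, κ q = q⁻¹ := by
  intro q hq
  have hW8 := S.card_fixedMod hQ hγ hfix hκ hκ' hW
  have h1 := S.inverted_count hQ κ hκ
  have h2 := S.inverted_le κ
  rw [hW8] at h1 h2
  have hb : Function.Bijective
      (fun x : {q : Q // κ q = q⁻¹} => (⟨x.1, S.inverted_mem κ x.2⟩ : S.fixedMod κ)) :=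
    (Nat.bijective_iff_injective_and_card _).2
      ⟨fun a b he => Subtype.ext (congrArg Subtype.val he :), by rw [hW8]; omega⟩
  obtain ⟨x, hx⟩ := hb.2 ⟨q, hq⟩
  have hxq : x.1 = q := congrArg Subtype.val hx
  exact hxq ▸ x.2

/-- An involutory automorphism `κ` in a dihedral relation with `γ` inverts 8 elements and fixes 4 of
the 12 elements of square one. -/
theorem counts [Finite Q] (hQ : Nat.card Q = 32) {γ κ κ' : MulAut Q} (hγ : γ ^ 5 = 1)
    (hfix : ∀ q, γ q = q → q ∈ center Q) (hκ : κ * κ = 1)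
    (hκ' : ∀ q, κ' (κ' q) * q⁻¹ ∈ center Q)
    (hW : ∀ q, κ q * q⁻¹ ∈ center Q → κ' q * q⁻¹ ∈ center Q → γ q * q⁻¹ ∈ center Q) :
    Nat.card {q : Q // κ q = q⁻¹} = 8 ∧ Nat.card {q : Q // q ^ 2 = 1 ∧ κ q = q} = 4 := by
  have hW8 := S.card_fixedMod hQ hγ hfix hκ hκ' hW
  have hT8 : Nat.card {q : Q // κ q = q⁻¹} = 8 := by
    have h1 := S.inverted_count hQ κ hκ
    have h2 := S.inverted_le κ
    rw [hW8] at h1 h2
    omega
  have hTall := S.fixedMod_inverted hQ hγ hfix hκ hκ' hW
  have hWab : ∀ a ∈ S.fixedMod κ, ∀ b ∈ S.fixedMod κ, a * b = b * a := by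
    intro a ha b hb
    have e := hTall _ (mul_mem ha hb)
    rw [map_mul, hTall a ha, hTall b hb, mul_inv_rev] at e
    apply inv_injective
    rw [mul_inv_rev, mul_inv_rev, e]
  refine ⟨hT8, ?_⟩
  have hN := S.card_sq_one hQ hγ hfix
  obtain ⟨u, hu, huc, huW⟩ := S.exists_fixed_pair hN hκ
  have hfu : ∀ y, y ^ 2 = 1 → y ∈ S.fixedMod κ → κ y = y := fun y hy hyW => by
    rw [hTall y hyW]; exact inv_eq_of_mul_eq_one_right ((sq y).symm.trans hy)
  have hset : {x : Q | x ^ 2 = 1 ∧ κ x = x} = {1, z, u, u * z} := by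
    ext x
    constructor
    · rintro ⟨hx, hxf⟩
      have hxW : x ∈ S.fixedMod κ :=
        (S.mem_fixedMod κ x).2 (by rw [hxf, mul_inv_cancel]; exact one_mem _)
      simpa using S.commuting_pair hQ hγ hfix hu huc hx (hWab x hxW u huW)
    · have huz2 : (u * z) ^ 2 = 1 := (S.sq_mul_z u).trans hu
      rintro (rfl | rfl | rfl | rfl)
      exacts [⟨one_pow 2, map_one κ⟩, ⟨S.sq_center S.mem_center, S.map_z κ⟩,
        ⟨hu, hfu _ hu huW⟩,
        ⟨huz2, hfu _ huz2 (mul_mem huW (S.center_le_fixedMod κ S.mem_center))⟩]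
  change Nat.card {x : Q | x ^ 2 = 1 ∧ κ x = x} = 4
  rw [Nat.card_coe_set_eq, hset]
  have huz : u ≠ z := fun he => huc (he ▸ S.mem_center)
  have hu1 : u ≠ 1 := fun he => huc (he ▸ one_mem _)
  have huz1 : u * z ≠ 1 := fun he => huz ((eq_inv_of_mul_eq_one_left he).trans
    (inv_eq_of_mul_eq_one_right S.mul_self))
  have huzz : u * z ≠ z := fun he => hu1 (mul_eq_right.1 he)
  have huzu : u * z ≠ u := fun he => S.ne_one (mul_eq_left.1 he)
  rw [Set.ncard_insert_of_notMem (by simp [S.ne_one.symm, hu1.symm, huz1.symm]),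
    Set.ncard_insert_of_notMem (by simp [huz.symm, huzz.symm]), Set.ncard_pair huzu.symm]

end ESTwo

end CfsgLib.Small
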