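import Mathlib
import Cfsg.Agent.Lib.Spor.J2.Perm315

/-!
# Replaying deductions in a table of an action on 315 points

A group acts, `K` records which entries of the table are known to hold, a step of the log adds
one entry read off a relation at a point.
-/

set_option autoImplicit false
set_option linter.unusedSectionVars false

namespace CfsgLib.Small.JTwoTable

open CfsgLib.J2 (getP)

/-- a letter: a generator, and whether the exponent is positive -/
abbrev Letter := ℕ × Bool

variable {G : Type*} [Group G]

/-- the value of a letter -/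
def evL (X : ℕ → G) (l : Letter) : G := if l.2 then X l.1 else (X l.1)⁻¹

/-- the value of a word -/
def ev (X : ℕ → G) (w : List Letter) : G := (w.map (evL X)).prod

/-- the inverse word -/
def invW (w : List Letter) : List Letter := (w.map fun l => (l.1, !l.2)).reverse

theorem ev_cons (X : ℕ → G) (l : Letter) (w : List Letter) : ev X (l :: w) = evL X l * ev X w := by
  simp [ev]

theorem ev_append (X : ℕ → G) (v w : List Letter) : ev X (v ++ w) = ev X v * ev X w := by
  simp [ev]

theorem ev_invW (X : ℕ → G) : ∀ w : List Letter, ev X (invW w) = (ev X w)⁻¹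
  | [] => by simp [ev, invW]
  | l :: w => by
    have h : invW (l :: w) = invW w ++ [(l.1, !l.2)] := by simp [invW]
    rw [h, ev_append, ev_invW X w, ev_cons X l, mul_inv_rev]
    congr 1
    rcases l with ⟨g, b⟩
    cases b <;> simp [ev, evL]

variable {α : Type*} [MulAction G α]

/-- the entry of generator `g` at `p` holds -/
def Good (X : ℕ → G) (P : ℕ → α) (img : List ℕ) (g p : ℕ) : Prop :=
  X g • P p = P (getP (img.getD g 0) p)

/-- index of an entry -/
def idx (g p : ℕ) : ℕ := g * 315 + p

/-- every recorded entry holds -/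
def Inv (X : ℕ → G) (P : ℕ → α) (img : List ℕ) (K : ℕ) : Prop :=
  ∀ g p, p < 315 → Nat.testBit K (idx g p) = true → Good X P img g p

/-- move along a letter by a known entry -/
def stepL (img inv : List ℕ) (K : ℕ) (l : Letter) (p : ℕ) : Option ℕ :=
  if l.2 then
    if Nat.blt p 315 && Nat.testBit K (idx l.1 p) then some (getP (img.getD l.1 0) p) else none
  else
    if Nat.blt (getP (inv.getD l.1 0) p) 315 &&
        Nat.testBit K (idx l.1 (getP (inv.getD l.1 0) p)) &&
        Nat.beq (getP (img.getD l.1 0) (getP (inv.getD l.1 0) p)) p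
      then some (getP (inv.getD l.1 0) p) else none

/-- move along a word, read from the right -/
def scan (img inv : List ℕ) (K : ℕ) : List Letter → ℕ → Option ℕ
  | [], p => some p
  | l :: w, p => (scan img inv K w p).bind (stepL img inv K l)

theorem stepL_sound {X : ℕ → G} {P : ℕ → α} {img inv : List ℕ} {K : ℕ} (hK : Inv X P img K)
    {l : Letter} {p q : ℕ} (h : stepL img inv K l p = some q) : evL X l • P p = P q := by
  rcases l with ⟨g, b⟩
  cases b <;> simp only [stepL, Bool.false_eq_true, if_false, if_true] at h <;>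
    split at h <;> try simp at h
  · next hc =>
    simp only [Bool.and_eq_true, Nat.blt_eq] at hc
    subst h
    have := hK g _ hc.1.1 hc.1.2
    rw [Good, Nat.eq_of_beq_eq_true hc.2] at this
    simp [evL, ← this]
  · next hc =>
    simp only [Bool.and_eq_true, Nat.blt_eq] at hc
    subst h
    simp only [evL, if_true]
    exact hK g p hc.1 hc.2

theorem scan_sound {X : ℕ → G} {P : ℕ → α} {img inv : List ℕ} {K : ℕ} (hK : Inv X P img K) :
    ∀ {w : List Letter} {p q : ℕ}, scan img inv K w p = some q → ev X w • P p = P q
  | [], p, q, h => by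
    simp only [scan, Option.some.injEq] at h
    subst h
    simp [ev]
  | l :: w, p, q, h => by
    simp only [scan, Option.bind_eq_some_iff] at h
    obtain ⟨m, hm, hq⟩ := h
    rw [ev_cons, mul_smul, scan_sound hK hm, stepL_sound hK hq]

/-- one step: relation, start, position of the entry being added -/
def step (img inv : List ℕ) (rels : List (List Letter)) (K : ℕ) (e : ℕ × ℕ × ℕ) : Option ℕ :=
  match (rels.getD e.1 []).drop e.2.2 with
  | [] => none
  | l :: w2 =>
    match scan img inv K w2 e.2.1, scan img inv K (invW ((rels.getD e.1 []).take e.2.2)) e.2.1 with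
    | some p, some q =>
      if l.2 then
        if Nat.beq (getP (img.getD l.1 0) p) q && Nat.blt p 315
          then some (K ||| (1 <<< idx l.1 p)) else none
      else
        if Nat.beq (getP (img.getD l.1 0) q) p && Nat.blt q 315
          then some (K ||| (1 <<< idx l.1 q)) else none
    | _, _ => none

/-- run a log -/
def run (img inv : List ℕ) (rels : List (List Letter)) : List (ℕ × ℕ × ℕ) → ℕ → Option ℕ
  | [], K => some K
  | e :: r, K => (step img inv rels K e).bind (run img inv rels r)

theorem idx_inj {g p g' p' : ℕ} (hp : p < 315) (hp' : p' < 315) (h : idx g p = idx g' p') :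
    g = g' ∧ p = p' := by
  unfold idx at h
  omega

theorem inv_add {X : ℕ → G} {P : ℕ → α} {img : List ℕ} {K g p : ℕ} (hK : Inv X P img K)
    (hp : p < 315) (h : Good X P img g p) : Inv X P img (K ||| (1 <<< idx g p)) := by
  intro g' p' hp' hb
  rw [Nat.testBit_lor, Bool.or_eq_true, Nat.one_shiftLeft, Nat.testBit_two_pow] at hb
  rcases hb with hb | hb
  · exact hK g' p' hp' hb
  · obtain ⟨rfl, rfl⟩ := idx_inj hp hp' (of_decide_eq_true hb)
    exact h

theorem step_sound {X : ℕ → G} {P : ℕ → α} {img inv : List ℕ} {rels : List (List Letter)}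
    (hrel : ∀ r ∈ rels, ev X r = 1) {K K' : ℕ} (hK : Inv X P img K) {e : ℕ × ℕ × ℕ}
    (h : step img inv rels K e = some K') : Inv X P img K' := by
  obtain ⟨ri, s, i⟩ := e
  unfold step at h
  have hr : ev X (rels.getD ri []) = 1 := by
    by_cases hi : ri < rels.length
    · rw [List.getD_eq_getElem _ _ hi]; exact hrel _ (List.getElem_mem hi)
    · rw [List.getD_eq_default _ _ (by omega)]; simp [ev]
  split at h
  · simp at h
  next l w2 hd =>
  split at h
  · next p q hp hq =>
    have e1 := scan_sound hK hp
    have e2 := scan_sound hK hq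
    rw [ev_invW] at e2
    have e3 : evL X l • P p = P q := by
      rw [← e2, ← e1]
      rw [← List.take_append_drop i (rels.getD ri []), ev_append, hd, ev_cons] at hr
      rw [smul_smul, eq_inv_of_mul_eq_one_right hr]
    rcases l with ⟨g, b⟩
    cases b <;> simp only [Bool.false_eq_true, if_false, if_true] at h <;>
      split at h <;> try simp at h
    · next hc =>
      simp only [Bool.and_eq_true, Nat.blt_eq] at hc
      subst h
      refine inv_add hK hc.2 ?_
      rw [Good, Nat.eq_of_beq_eq_true hc.1]
      simp only [evL, Bool.false_eq_true, if_false] at e3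
      rw [← e3, smul_inv_smul]
    · next hc =>
      simp only [Bool.and_eq_true, Nat.blt_eq] at hc
      subst h
      refine inv_add hK hc.2 ?_
      rw [Good, Nat.eq_of_beq_eq_true hc.1]
      simpa [evL] using e3
  · simp at h

theorem run_sound {X : ℕ → G} {P : ℕ → α} {img inv : List ℕ} {rels : List (List Letter)}
    (hrel : ∀ r ∈ rels, ev X r = 1) : ∀ {log : List (ℕ × ℕ × ℕ)} {K K' : ℕ}, Inv X P img K →
      run img inv rels log K = some K' → Inv X P img K'
  | [], K, K', hK, h => by
    simp only [run, Option.some.injEq] at h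
    exact h ▸ hK
  | e :: r, K, K', hK, h => by
    simp only [run, Option.bind_eq_some_iff] at h
    obtain ⟨K1, h1, h2⟩ := h
    exact run_sound hrel (step_sound hrel hK h1) h2

/-- the entries of a tree: `(parent, child, generator, positive)` -/
def tree (img : List ℕ) : List (ℕ × ℕ × ℕ × Bool) → ℕ → ℕ → Option ℕ
  | [], _, K => some K
  | (a, b, g, s) :: r, A, K =>
    if Nat.testBit A a && !Nat.testBit A b && Nat.blt a 315 && Nat.blt b 315 &&
        (if s then Nat.beq (getP (img.getD g 0) a) b else Nat.beq (getP (img.getD g 0) b) a)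
      then tree img r (A ||| (1 <<< b)) (K ||| (1 <<< idx g (if s then a else b))) else none

theorem tree_sound {X : ℕ → G} {img : List ℕ} :
    ∀ {t : List (ℕ × ℕ × ℕ × Bool)} {A K K' : ℕ} {P : ℕ → α},
      (∀ g p, p < 315 → Nat.testBit K (idx g p) = true → Good X P img g p ∧
        Nat.testBit A p = true ∧ Nat.testBit A (getP (img.getD g 0) p) = true) →
      tree img t A K = some K' →
      ∃ P' : ℕ → α, (∀ i, Nat.testBit A i = true → P' i = P i) ∧ Inv X P' img K'
  | [], A, K, K', P, hK, h => by
    simp only [tree, Option.some.injEq] at h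
    exact ⟨P, fun _ _ => rfl, fun g p hp hb => (hK g p hp (h.symm ▸ hb)).1⟩
  | (a, b, g, s) :: r, A, K, K', P, hK, h => by
    rw [tree] at h
    obtain ⟨hc, h⟩ := Option.ite_none_right_eq_some.1 h
    · simp only [Bool.and_eq_true, Nat.blt_eq, Bool.not_eq_true'] at hc
      obtain ⟨⟨⟨⟨hA, hB⟩, ha⟩, hb⟩, he⟩ := hc
      let P1 := Function.update P b (evL X (g, s) • P a)
      have hne : ∀ i, Nat.testBit A i = true → P1 i = P i := fun i hi =>
        Function.update_of_ne (fun e => by rw [e, hB] at hi; simp at hi) _ _
      have hA1 : ∀ i, Nat.testBit A i = true → Nat.testBit (A ||| (1 <<< b)) i = true := fun i hi => by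
        rw [Nat.testBit_lor, hi, Bool.true_or]
      have hb1 : Nat.testBit (A ||| (1 <<< b)) b = true := by
        rw [Nat.testBit_lor, Nat.one_shiftLeft, Nat.testBit_two_pow_self, Bool.or_true]
      have hinv : ∀ g' p', p' < 315 →
          Nat.testBit (K ||| (1 <<< idx g (if s then a else b))) (idx g' p') = true →
          Good X P1 img g' p' ∧ Nat.testBit (A ||| (1 <<< b)) p' = true ∧
            Nat.testBit (A ||| (1 <<< b)) (getP (img.getD g' 0) p') = true := by
        intro g' p' hp' hbit
        rw [Nat.testBit_lor, Bool.or_eq_true, Nat.one_shiftLeft, Nat.testBit_two_pow] at hbit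
        rcases hbit with hbit | hbit
        · obtain ⟨h3, h4, h5⟩ := hK g' p' hp' hbit
          refine ⟨?_, hA1 _ h4, hA1 _ h5⟩
          rw [Good, hne _ h4, hne _ h5]
          exact h3
        · obtain ⟨hg, hp''⟩ := idx_inj (by cases s <;> simp [ha, hb]) hp' (of_decide_eq_true hbit)
          subst hg
          subst hp''
          have hPa : P1 a = P a := hne a hA
          have hPb : P1 b = evL X (g, s) • P a := Function.update_self _ _ _
          cases s <;> simp only [Bool.false_eq_true, if_false, if_true] at he hPb ⊢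
          · rw [Good, Nat.eq_of_beq_eq_true he, hPa, hPb]
            exact ⟨by simp [evL], hb1, hA1 _ hA⟩
          · rw [Good, Nat.eq_of_beq_eq_true he, hPa, hPb]
            exact ⟨by simp [evL], hA1 _ hA, hb1⟩
      obtain ⟨P', h1, h2⟩ := tree_sound hinv h
      exact ⟨P', fun i hi => (h1 i (hA1 i hi)).trans (hne i hi), h2⟩

/-- the table follows from the relations -/
theorem table (X : ℕ → G) (c : α) (img inv : List ℕ) (rels : List (List Letter))
    (t : List (ℕ × ℕ × ℕ × Bool)) (log : List (ℕ × ℕ × ℕ)) (base : List ℕ) (o : ℕ) (ho : o < 315)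
    (hbase : ∀ g ∈ base, X g • c = c ∧ getP (img.getD g 0) o = o)
    (hrel : ∀ r ∈ rels, ev X r = 1) (n K : ℕ)
    (h : (tree img t (1 <<< o) (base.foldl (fun K g => K ||| (1 <<< idx g o)) 0)).bind
      (run img inv rels log) = some K)
    (hfull : ((List.range n).all fun g => (List.range 315).all fun p =>
      Nat.testBit K (idx g p)) = true) :
    ∃ P : ℕ → α, P o = c ∧ ∀ g < n, ∀ p < 315, X g • P p = P (getP (img.getD g 0) p) := by
  simp only [Option.bind_eq_some_iff] at h
  obtain ⟨K1, h1, h2⟩ := h
  have hb : ∀ (l : List ℕ) (K : ℕ), (∀ g ∈ l, g ∈ base) →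
      (∀ g p, p < 315 → Nat.testBit K (idx g p) = true → g ∈ base ∧ p = o) →
      ∀ g p, p < 315 → Nat.testBit (l.foldl (fun K g => K ||| (1 <<< idx g o)) K) (idx g p) = true →
        g ∈ base ∧ p = o := by
    intro l
    induction l with
    | nil => intro K _ h; simpa using h
    | cons a l ih =>
      intro K hl hK
      refine ih _ (fun g hg => hl g (List.mem_cons_of_mem _ hg)) fun g p hp hbit => ?_
      rw [Nat.testBit_lor, Bool.or_eq_true, Nat.one_shiftLeft, Nat.testBit_two_pow] at hbit
      rcases hbit with hbit | hbit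
      · exact hK g p hp hbit
      · obtain ⟨rfl, rfl⟩ := idx_inj ho hp (of_decide_eq_true hbit)
        exact ⟨hl _ List.mem_cons_self, rfl⟩
  obtain ⟨P, hP, hinv⟩ := tree_sound (X := X) (P := fun _ => c) (fun g p hp hbit => by
    obtain ⟨hg, rfl⟩ := hb base 0 (fun _ h => h) (fun g p _ h => by simp at h) g p hp hbit
    obtain ⟨h3, h4⟩ := hbase g hg
    refine ⟨h3, ?_, ?_⟩ <;> simp only [h4, Nat.one_shiftLeft, Nat.testBit_two_pow_self]) h1
  refine ⟨P, hP o (by rw [Nat.one_shiftLeft, Nat.testBit_two_pow_self]), fun g hg p hp => ?_⟩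
  simp only [List.all_eq_true, List.mem_range] at hfull
  exact run_sound hrel hinv h2 g p hp (hfull g hg p hp)

end CfsgLib.Small.JTwoTable
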