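import Cfsg.Agent.Lib.Small.JankoTwoCert
import Cfsg.Agent.Lib.Small.JankoTwoTable
import Cfsg.Agent.Lib.Spor.J2.Simple

/-!
# Checking the certificate
-/

set_option autoImplicit false
set_option maxRecDepth 100000
set_option maxHeartbeats 0

namespace CfsgLib.Small.JTwoCert

open CfsgLib.J2 (getP Rep genPerm foldP imgGen)
open CfsgLib.Small.JTwoTable

/-- replay, then look at every entry -/
def replayOK : Bool :=
  match (JTwoTable.tree img tree (1 <<< 33) ([0, 1, 2, 3, 4].foldl
      (fun K g => K ||| (1 <<< idx g 33)) 0)).bind (run img inv rels log) with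
  | some K => (List.range 8).all fun g => (List.range 315).all fun p => Nat.testBit K (idx g p)
  | none => false

theorem replay_ok : replayOK = true := by decide +kernel

theorem match_true {o : Option ℕ} {f : ℕ → Bool}
    (h : (match o with | some K => f K | none => false) = true) : ∃ K, o = some K ∧ f K = true := by
  cases o with
  | none => simp at h
  | some K => exact ⟨K, rfl, h⟩

theorem replay_spec : ∃ K, (JTwoTable.tree img tree (1 <<< 33) ([0, 1, 2, 3, 4].foldl
      (fun K g => K ||| (1 <<< idx g 33)) 0)).bind (run img inv rels log) = some K ∧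
    ((List.range 8).all fun g => (List.range 315).all fun p => Nat.testBit K (idx g p)) = true :=
  match_true replay_ok

theorem base_ok : ([0, 1, 2, 3, 4].all fun g => Nat.beq (getP (img.getD g 0) 33) 33) = true := by
  decide +kernel

/-- the words give the listed permutations -/
def wordsOK : Bool :=
  (List.range 8).all fun g =>
    Nat.beq (foldP ((words.getD g []).map genPerm)) (img.getD g 0)

theorem words_ok : wordsOK = true := by decide +kernel

theorem getP_lt : ((List.range 8).all fun g => (List.range 315).all fun p =>
    Nat.blt (getP (img.getD g 0) p) 315) = true := by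
  decide +kernel

theorem imgGen_mem (g : ℕ) (hg : g < 8) : ∃ σ ∈ imgGen, Rep σ (img.getD g 0) := by
  have h := words_ok
  simp only [wordsOK, List.all_eq_true, List.mem_range] at h
  let ρ : Fin 4 → Equiv.Perm (Fin 315) := fun k => CfsgLib.J2.toLines (CfsgLib.J2.gen k)
  refine ⟨((words.getD g []).map ρ).prod, list_prod_mem ?_, ?_⟩
  · intro x hx
    obtain ⟨k, -, rfl⟩ := List.mem_map.1 hx
    exact Subgroup.subset_closure (CfsgLib.J2.repSet_gens0 ▸ ⟨k, rfl⟩)
  · rw [← Nat.eq_of_beq_eq_true (h g hg)]
    refine CfsgLib.J2.rep_foldP _ _ (List.forall₂_map_left_iff.2 (List.forall₂_map_right_iff.2 ?_))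
    exact List.forall₂_same.2 fun k _ => CfsgLib.J2.gen_rep k

end CfsgLib.Small.JTwoCert
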