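import Mathlib
import Cfsg.Prelude.Def_Local
import Cfsg.Prelude.Def_TwoFusion
import Cfsg.Agent.Lib.Components.FStar
import Cfsg.Agent.Lib.Base.Transport
import Cfsg.Agent.Lib.Small.ExtraspecialThirtyTwo
import Cfsg.Agent.Lib.Small.SylowPermInvol

/-!
# The pair counts in the Thompson order formula for the Hall–Janko involution pattern

`a(z) = 120 * 8` inside `2^{1+4}:A₅` and `a(t) = 15 * 13` inside `2^2 × A₅`.
-/

set_option autoImplicit false

namespace CfsgLib.Small.JTwoOrder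

open Subgroup

set_option maxRecDepth 100000 in
theorem a5_card_invol :
    Nat.card {x : alternatingGroup (Fin 5) // x ^ 2 = 1 ∧ x ≠ 1} = 15 := by
  rw [Nat.card_eq_fintype_card]
  decide +kernel

set_option maxRecDepth 100000 in
theorem a5_inverted_five : ∀ k : alternatingGroup (Fin 5), k ^ 2 = 1 → k ≠ 1 →
    ∃ g : alternatingGroup (Fin 5), g ^ 5 = 1 ∧ g ≠ 1 ∧ (k * g) ^ 2 = 1 := by
  decide +kernel

set_option maxRecDepth 100000 in
theorem a5_odd_pow : ∀ x : alternatingGroup (Fin 5), x ^ 2 = 1 ∨ x ^ 15 = 1 := by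
  decide +kernel

set_option maxRecDepth 100000 in
theorem a5_pairs : Nat.card {p : alternatingGroup (Fin 5) × alternatingGroup (Fin 5) //
    p.1 ^ 2 = 1 ∧ p.1 ≠ 1 ∧ p.2 ^ 2 = 1 ∧ (p.1 * p.2) ^ 15 = 1} = 195 := by
  rw [Nat.card_eq_fintype_card]
  decide +kernel

variable {G : Type*} [Group G]

/-- An element in the group generated by the product of two involutions, itself an involution,
commutes with both. -/
theorem commute_of_mem_zpowers_mul {u v x : G} (hu : u ^ 2 = 1) (hv : v ^ 2 = 1) (hx : x ^ 2 = 1)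
    (h : x ∈ zpowers (u * v)) : u * x = x * u ∧ v * x = x * v := by
  obtain ⟨n, rfl⟩ := h
  have hu' : u⁻¹ = u := inv_eq_of_mul_eq_one_right ((sq u).symm.trans hu)
  have hv' : v⁻¹ = v := inv_eq_of_mul_eq_one_right ((sq v).symm.trans hv)
  have hx' : ((u * v) ^ n)⁻¹ = (u * v) ^ n := inv_eq_of_mul_eq_one_right ((sq _).symm.trans hx)
  have key : u * (u * v) ^ n * u⁻¹ = (u * v) ^ n := by
    rw [← conj_zpow, show u * (u * v) * u⁻¹ = (u * v)⁻¹ by
      rw [mul_inv_rev, hu', hv', ← mul_assoc, ← sq, hu, one_mul], inv_zpow, hx']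
  have h1 : u * (u * v) ^ n = (u * v) ^ n * u := mul_inv_eq_iff_eq_mul.1 key
  have h2 : Commute (u * v) ((u * v) ^ n) := (Commute.refl _).zpow_right n
  refine ⟨h1, ?_⟩
  have h3 : Commute u⁻¹ ((u * v) ^ n) := (show Commute u ((u * v) ^ n) from h1).inv_left
  have h4 := h3.mul_left h2
  rw [inv_mul_cancel_left] at h4
  exact h4.eq

theorem not_isConj_one {z x : G} (hz : orderOf z = 2) (h : IsConj z x) : x ≠ 1 := fun he => by
  subst he
  obtain ⟨c, hc⟩ := isConj_iff.1 h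
  rw [conj_eq_one_iff] at hc
  subst hc
  simp at hz

theorem sq_of_isConj {z x : G} (hz : orderOf z = 2) (h : IsConj z x) : x ^ 2 = 1 := by
  obtain ⟨c, rfl⟩ := isConj_iff.1 h
  rw [conj_pow, ← hz, pow_orderOf_eq_one, mul_one, mul_inv_cancel]

theorem orderOf_two {x : G} (h : x ^ 2 = 1) (h1 : x ≠ 1) : orderOf x = 2 :=
  orderOf_eq_prime h h1

variable [Finite G]

/-- The pairs for `t` inside `C(t) = V × B`. -/
theorem card_t_gen (z t : G) (hz : orderOf z = 2) (ht : orderOf t = 2) (hzt : ¬ IsConj z t)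
    (V B : Subgroup G) (hVB : Cfsg.IsInternalDirectProduct V B (centralizer ({t} : Set G)))
    (hV : Nat.card ↥V = 4) (hV2 : ∀ v ∈ V, v ^ 2 = 1) (htV : t ∈ V)
    (hB15 : ∀ x ∈ B, x ^ 2 = 1 ∨ x ^ 15 = 1)
    (hBz : ∀ x ∈ B, orderOf x = 2 → IsConj x z)
    (hCt : ∀ x ∈ centralizer ({t} : Set G), orderOf x = 2 → x ∉ B → IsConj x t) :
    Nat.card ↥(centralizer ({t} : Set G)) = 4 * Nat.card ↥B ∧
      Nat.card {p : G × G // IsConj z p.1 ∧ IsConj t p.2 ∧ t ∈ zpowers (p.1 * p.2)} =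
        Nat.card {p : B × B // p.1 ^ 2 = 1 ∧ p.1 ≠ 1 ∧ p.2 ^ 2 = 1 ∧ (p.1 * p.2) ^ 15 = 1} := by
  obtain ⟨hVC, hBC, hcomm, hdisj, hsup⟩ := hVB
  have ht2 : t ^ 2 = 1 := by rw [← ht, pow_orderOf_eq_one]
  have ht1 : t ≠ 1 := fun he => by rw [he] at ht; simp at ht
  have hnorm : B ≤ normalizer (V : Set G) := fun b hb => by
    rw [mem_normalizer_iff]
    intro v
    refine ⟨fun hv => by rwa [← hcomm v hv b hb, mul_inv_cancel_right], fun hv => ?_⟩
    have := hcomm _ hv b hb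
    rw [inv_mul_cancel_right] at this
    rw [mul_left_cancel this]
    exact hv
  have hcardC : Nat.card ↥(centralizer ({t} : Set G)) = 4 * Nat.card ↥B := by
    rw [← hsup, CfsgLib.Small.card_sup_of_normalizes hnorm hdisj, hV]
  refine ⟨hcardC, ?_⟩
  have hdec : ∀ x ∈ centralizer ({t} : Set G), ∃ a ∈ V, ∃ b ∈ B, a * b = x := by
    intro x hx
    let f : V × B → ↥(centralizer ({t} : Set G)) :=
      fun p => ⟨p.1.1 * p.2.1, mul_mem (hVC p.1.2) (hBC p.2.2)⟩
    have hf : Function.Bijective f := (Nat.bijective_iff_injective_and_card f).2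
      ⟨fun p q h => mul_injective_of_disjoint (disjoint_iff.2 hdisj) (congrArg Subtype.val h :),
        by rw [Nat.card_prod, hcardC, hV]⟩
    obtain ⟨⟨a, b⟩, hab⟩ := hf.2 ⟨x, hx⟩
    exact ⟨a.1, a.2, b.1, b.2, congrArg Subtype.val hab⟩
  have htB : t ∉ B := fun h => ht1 (mem_bot.1 (hdisj ▸ ⟨htV, h⟩))
  have hodd : ∀ x ∈ B, ∀ n : ℤ, Odd n → x ^ n = 1 → x ^ 15 = 1 := by
    intro x hx n hn h1
    rcases hB15 x hx with h2 | h
    · obtain ⟨m, rfl⟩ := hn
      rw [zpow_add, zpow_mul, zpow_one, show x ^ (2 : ℤ) = 1 from (zpow_natCast x 2).trans h2,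
        one_zpow, one_mul] at h1
      rw [h1, one_pow]
    · exact h
  refine Nat.card_congr (Equiv.symm (Equiv.ofBijective (fun p => ⟨((p.1.1 : G), t * (p.1.2 : G)), ?_⟩)
    ⟨?_, ?_⟩))
  · obtain ⟨⟨u, b⟩, hu, hu1, hb, hub⟩ := p
    have hu' : (u : G) ^ 2 = 1 := congrArg Subtype.val hu
    have hb' : (b : G) ^ 2 = 1 := congrArg Subtype.val hb
    have hub' : ((u : G) * b) ^ 15 = 1 := congrArg Subtype.val hub
    have htb : Commute t (b : G) := hcomm t htV b b.2
    have htu : Commute t (u : G) := hcomm t htV u u.2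
    have hvB : t * (b : G) ∉ B := fun h => htB (by simpa using mul_mem h (inv_mem b.2))
    refine ⟨(hBz u u.2 (orderOf_two hu' fun h => hu1 (Subtype.ext h))).symm,
      (hCt _ (mul_mem (hVC htV) (hBC b.2)) (orderOf_two ?_ fun h => hvB (h ▸ one_mem B)) hvB).symm,
      ?_⟩
    · rw [htb.mul_pow, ht2, hb', one_mul]
    · refine mem_zpowers_iff.2 ⟨15, ?_⟩
      show ((u : G) * (t * b)) ^ (15 : ℤ) = t
      rw [show (u : G) * (t * b) = t * (u * b) by rw [← mul_assoc, ← mul_assoc, htu.eq],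
        show (15 : ℤ) = ((15 : ℕ) : ℤ) from rfl, zpow_natCast, (htu.mul_right htb).mul_pow, hub',
        mul_one, show (15 : ℕ) = 2 * 7 + 1 from rfl, pow_add, pow_mul, ht2, one_pow, one_mul,
        pow_one]
  · intro p q h
    have h' := congrArg Subtype.val h
    exact Subtype.ext (Prod.ext (Subtype.ext (congrArg Prod.fst h' :))
      (Subtype.ext (mul_left_cancel (congrArg Prod.snd h' :))))
  · rintro ⟨⟨u, v⟩, hu, hv, hm⟩
    have hu2 := sq_of_isConj hz hu
    have hu1 := not_isConj_one hz hu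
    have hv2 := sq_of_isConj ht hv
    have hv1 := not_isConj_one ht hv
    obtain ⟨hut, hvt⟩ := commute_of_mem_zpowers_mul hu2 hv2 ht2 hm
    have huC : u ∈ centralizer ({t} : Set G) := mem_centralizer_singleton_iff.2 hut
    have hvC : v ∈ centralizer ({t} : Set G) := mem_centralizer_singleton_iff.2 hvt
    have huB : u ∈ B := by
      by_contra h
      exact hzt (hu.trans (hCt u huC (orderOf_two hu2 hu1) h))
    have hvB : v ∉ B := fun h => hzt ((hBz v h (orderOf_two hv2 hv1)).symm.trans hv.symm)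
    obtain ⟨a, ha, b, hb, rfl⟩ := hdec v hvC
    have hab : Commute a b := hcomm a ha b hb
    have hau : Commute a u := hcomm a ha u huB
    have ha2 : a ^ 2 = 1 := hV2 a ha
    have hb2 : b ^ 2 = 1 := by rwa [hab.mul_pow, ha2, one_mul] at hv2
    obtain ⟨n, hn⟩ := hm
    have hn' : (a * (u * b)) ^ n = t := by
      rw [← hn]
      show (a * (u * b)) ^ n = (u * (a * b)) ^ n
      rw [← mul_assoc, ← mul_assoc, hau.eq]
    rw [(hau.mul_right hab).mul_zpow] at hn'
    have hVpart : a ^ n = t ∧ (u * b) ^ n = 1 := by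
      have h1 : t⁻¹ * a ^ n = ((u * b) ^ n)⁻¹ := by
        rw [← hn', mul_inv_rev, inv_mul_cancel_right]
      have h2 : t⁻¹ * a ^ n ∈ V ⊓ B :=
        Subgroup.mem_inf.2 ⟨mul_mem (inv_mem htV) (zpow_mem ha n),
          h1 ▸ inv_mem (zpow_mem (mul_mem huB hb) n)⟩
      rw [hdisj, mem_bot] at h2
      exact ⟨(inv_mul_eq_one.1 h2).symm, inv_eq_one.1 (h1.symm.trans h2)⟩
    have hodd' : Odd n := by
      rcases Int.even_or_odd n with ⟨m, rfl⟩ | h
      · exfalso
        apply ht1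
        rw [← hVpart.1, ← two_mul, zpow_mul, show a ^ (2 : ℤ) = 1 from (zpow_natCast a 2).trans ha2,
          one_zpow]
      · exact h
    have hat : a = t := by
      obtain ⟨m, rfl⟩ := hodd'
      rw [← hVpart.1, zpow_add, zpow_mul, zpow_one,
        show a ^ (2 : ℤ) = 1 from (zpow_natCast a 2).trans ha2, one_zpow, one_mul]
    refine ⟨⟨(⟨u, huB⟩, ⟨b, hb⟩), Subtype.ext hu2, fun h => hu1 (congrArg Subtype.val h),
      Subtype.ext hb2, Subtype.ext (hodd _ (mul_mem huB hb) n hodd' hVpart.2)⟩,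
      Subtype.ext (Prod.ext rfl ?_)⟩
    show t * b = a * b
    rw [hat]

/-- The pairs for `t` inside `C(t) = V × A₅`. -/
theorem card_t (z t : G) (hz : orderOf z = 2) (ht : orderOf t = 2) (hzt : ¬ IsConj z t)
    (V B : Subgroup G) (hVB : Cfsg.IsInternalDirectProduct V B (centralizer ({t} : Set G)))
    (hV : Nat.card ↥V = 4) (hV2 : ∀ v ∈ V, v ^ 2 = 1) (htV : t ∈ V)
    (hB : Nonempty (↥B ≃* alternatingGroup (Fin 5)))
    (hBz : ∀ x ∈ B, orderOf x = 2 → IsConj x z)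
    (hCt : ∀ x ∈ centralizer ({t} : Set G), orderOf x = 2 → x ∉ B → IsConj x t) :
    Nat.card ↥(centralizer ({t} : Set G)) = 240 ∧
      Nat.card {p : G × G // IsConj z p.1 ∧ IsConj t p.2 ∧ t ∈ zpowers (p.1 * p.2)} = 195 := by
  obtain ⟨e⟩ := hB
  have hB15 : ∀ x ∈ B, x ^ 2 = 1 ∨ x ^ 15 = 1 := by
    intro x hx
    rcases a5_odd_pow (e ⟨x, hx⟩) with h | h <;>
      rw [← map_pow, map_eq_one_iff e e.injective] at h
    · exact Or.inl (congrArg Subtype.val h)
    · exact Or.inr (congrArg Subtype.val h)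
  obtain ⟨h1, h2⟩ := card_t_gen z t hz ht hzt V B hVB hV hV2 htV hB15 hBz hCt
  refine ⟨?_, ?_⟩
  · rw [h1, Nat.card_congr e.toEquiv, nat_card_alternatingGroup, Nat.card_fin]
    rfl
  · rw [h2, ← a5_pairs]
    refine Nat.card_congr ((e.toEquiv.prodCongr e.toEquiv).subtypeEquiv fun p => ?_)
    show _ ↔ (e p.1) ^ 2 = 1 ∧ e p.1 ≠ 1 ∧ (e p.2) ^ 2 = 1 ∧ (e p.1 * e p.2) ^ 15 = 1
    simp only [← map_pow, ← map_mul, map_eq_one_iff e e.injective, ne_eq]

/-- The pairs for `z` from the counts in `C(z)`. -/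
theorem card_pairs (z t : G) (hz : orderOf z = 2) (ht : orderOf t = 2) (hzt : ¬ IsConj z t)
    (C : Subgroup G) (hzC : z ∈ C) (hmemC : ∀ x : G, x * z = z * x → x ∈ C)
    (Qc : Subgroup C) [Qc.Normal] (zq : Qc) (S : ESTwo Qc zq) (hzq : (zq : C) = ⟨z, hzC⟩)
    (hQz : ∀ x ∈ Qc.map C.subtype, orderOf x = 2 → IsConj x z)
    (hCz : ∀ x ∈ C, orderOf x = 2 → x ∉ Qc.map C.subtype → IsConj x t)
    (hkey : ∀ v : C, v ^ 2 = 1 → v ∉ Qc →
      Nat.card {q : Qc // q ^ 2 = 1 ∧ MulAut.conjNormal v q ≠ q} = 8 ∧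
        ∀ u : Qc, u ^ 2 = 1 → u ∉ center Qc → ∀ x : Qc, x ^ 2 = 1 → x * u = u * x →
          x = 1 ∨ x = zq ∨ x = u ∨ x = u * zq)
    (hinv : Nat.card {v : C // v ^ 2 = 1 ∧ v ∉ Qc} = 120) :
    Nat.card {p : G × G // IsConj z p.1 ∧ IsConj t p.2 ∧ z ∈ zpowers (p.1 * p.2)} = 960 := by
  classical
  have hz2 : z ^ 2 = 1 := by rw [← hz, pow_orderOf_eq_one]
  have hz1 : z ≠ 1 := fun he => by rw [he] at hz; simp at hz
  have hzQ : (⟨z, hzC⟩ : C) ∈ Qc := hzq ▸ zq.2
  let cn : C →* MulAut Qc := MulAut.conjNormal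
  have hcn : ∀ (x : C) (q : Qc), ((cn x q : Qc) : C) = x * q * x⁻¹ := fun x q =>
    MulAut.conjNormal_apply x q
  have hQmem : ∀ x : C, (x : G) ∈ Qc.map C.subtype ↔ x ∈ Qc := fun x =>
    mem_map_iff_mem C.subtype_injective
  have hval : ∀ p : Σ v : {v : C // v ^ 2 = 1 ∧ v ∉ Qc}, {q : Qc // q ^ 2 = 1 ∧ cn v.1 q ≠ q},
      IsConj z ((p.2.1 : C) : G) ∧ IsConj t (p.1.1 : G) ∧
        z ∈ zpowers (((p.2.1 : C) : G) * (p.1.1 : G)) := by
    rintro ⟨⟨v, hv, hvQ⟩, q, hq, hqne⟩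
    have hq1 : q ≠ 1 := fun h => hqne (by rw [h, map_one])
    have hqz : q ≠ zq := fun h => hqne (by rw [h, S.map_z])
    have hqc : q ∉ center Qc := fun h => ((S.center_iff q).1 h).elim hq1 hqz
    have hqG : ((q : C) : G) ^ 2 = 1 := congrArg (fun y : Qc => ((y : C) : G)) hq
    have hqG1 : ((q : C) : G) ≠ 1 := fun h => hq1 (Subtype.ext (Subtype.ext h))
    refine ⟨(hQz _ ((hQmem _).2 q.2) (orderOf_two hqG hqG1)).symm,
      (hCz _ v.2 (orderOf_two (congrArg Subtype.val hv)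
        fun h => hvQ (by rw [show v = 1 from Subtype.ext h]; exact one_mem _))
        fun h => hvQ ((hQmem v).1 h)).symm, ?_⟩
    let q' := cn v q
    have hq' : q' ^ 2 = 1 := by rw [← map_pow, hq, map_one]
    have hc : ((q * q' : Qc) : C) = ((q : C) * v) ^ 2 := by
      show (q : C) * (cn v q : Qc) = _
      have hv' : v⁻¹ = v := inv_eq_of_mul_eq_one_right ((sq _).symm.trans hv)
      rw [hcn, hv', sq]
      simp only [mul_assoc]
    have hgoal : ∀ n : ℕ, ((q : C) * v) ^ n = (zq : C) →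
        z ∈ zpowers (((q : C) : G) * (v : G)) := by
      intro n hn
      refine mem_zpowers_iff.2 ⟨n, ?_⟩
      rw [hzq] at hn
      rw [zpow_natCast]
      exact congrArg Subtype.val hn
    rcases S.sq_eq (q * q') with h1 | h1
    · have hcomm : q' * q = q * q' := by
        have ha : q⁻¹ = q := inv_eq_of_mul_eq_one_right ((sq _).symm.trans hq)
        have hb : q'⁻¹ = q' := inv_eq_of_mul_eq_one_right ((sq _).symm.trans hq')
        have h3 : (q * q')⁻¹ = q * q' := inv_eq_of_mul_eq_one_right ((sq _).symm.trans h1)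
        rwa [mul_inv_rev, ha, hb] at h3
      rcases (hkey v hv hvQ).2 q hq hqc q' hq' hcomm with h2 | h2 | h2 | h2
      · exact absurd ((map_eq_one_iff (cn v) (cn v).injective).1 h2) hq1
      · exact absurd ((cn v).injective (h2.trans (S.map_z (cn v)).symm)) hqz
      · exact absurd h2 hqne
      · refine hgoal 2 ?_
        rw [← hc, h2, ← mul_assoc, ← sq, hq, one_mul]
    · refine hgoal 4 ?_
      rw [show 4 = 2 * 2 from rfl, pow_mul, ← hc]
      exact congrArg Subtype.val h1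
  let f : (Σ v : {v : C // v ^ 2 = 1 ∧ v ∉ Qc}, {q : Qc // q ^ 2 = 1 ∧ cn v.1 q ≠ q}) →
      {p : G × G // IsConj z p.1 ∧ IsConj t p.2 ∧ z ∈ zpowers (p.1 * p.2)} :=
    fun p => ⟨(((p.2.1 : C) : G), (p.1.1 : G)), hval p⟩
  have hf : Function.Bijective f := by
    constructor
    · rintro ⟨⟨v, hv⟩, q, hq⟩ ⟨⟨v', hv'⟩, q', hq'⟩ h
      have h' := congrArg Subtype.val h
      obtain rfl : v = v' := Subtype.ext (congrArg Prod.snd h' :)
      obtain rfl : q = q' := Subtype.ext (Subtype.ext (congrArg Prod.fst h' :))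
      rfl
    · rintro ⟨⟨u, v⟩, hu, hv, hm⟩
      have hu2 := sq_of_isConj hz hu
      have hu1 := not_isConj_one hz hu
      have hv2 := sq_of_isConj ht hv
      have hv1 := not_isConj_one ht hv
      obtain ⟨huz, hvz⟩ := commute_of_mem_zpowers_mul hu2 hv2 hz2 hm
      let u' : C := ⟨u, hmemC u huz⟩
      let v' : C := ⟨v, hmemC v hvz⟩
      have huQ : u' ∈ Qc := by
        by_contra h
        exact hzt (hu.trans (hCz u u'.2 (orderOf_two hu2 hu1) fun hh => h ((hQmem u').1 hh)))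
      have hvQ : v' ∉ Qc := fun h =>
        hzt ((hQz v ((hQmem v').2 h) (orderOf_two hv2 hv1)).symm.trans hv.symm)
      have hv'2 : v' ^ 2 = 1 := Subtype.ext hv2
      refine ⟨⟨⟨v', hv'2, hvQ⟩, ⟨⟨u', huQ⟩, Subtype.ext (Subtype.ext hu2), ?_⟩⟩, rfl⟩
      intro hfixq
      have hfixv : v * u = u * v := by
        have h1 : v' * u' * v'⁻¹ = u' :=
          (hcn v' ⟨u', huQ⟩).symm.trans (congrArg Subtype.val hfixq)
        exact congrArg Subtype.val (mul_inv_eq_iff_eq_mul.1 h1)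
      have huv2 : (u * v) ^ 2 = 1 := by
        rw [Commute.mul_pow (show Commute u v from hfixv.symm), hu2, hv2, one_mul]
      obtain ⟨n, hn⟩ := hm
      have hn' : (u * v) ^ n = z := hn
      rcases Int.even_or_odd n with ⟨m, rfl⟩ | ⟨m, rfl⟩
      · rw [← two_mul, zpow_mul, show (u * v) ^ (2 : ℤ) = 1 from (zpow_natCast _ 2).trans huv2,
          one_zpow] at hn'
        exact hz1 hn'.symm
      · rw [zpow_add, zpow_mul, zpow_one,
          show (u * v) ^ (2 : ℤ) = 1 from (zpow_natCast _ 2).trans huv2, one_zpow, one_mul] at hn'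
        apply hvQ
        have h3 : v' = u' * ⟨z, hzC⟩ := Subtype.ext (by
          show v = u * z
          rw [← hn', ← mul_assoc, ← sq, hu2, one_mul])
        rw [h3]
        exact mul_mem huQ hzQ
  rw [← Nat.card_congr (Equiv.ofBijective f hf)]
  have : Fintype {v : C // v ^ 2 = 1 ∧ v ∉ Qc} := Fintype.ofFinite _
  rw [Nat.card_sigma, Finset.sum_congr rfl fun v _ => (hkey v.1 v.2.1 v.2.2).1,
    Finset.sum_const, Finset.card_univ, ← Nat.card_eq_fintype_card, hinv, smul_eq_mul]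


/-- The pairs for `z` inside `C(z) = 2^{1+4}:A₅`. -/
theorem card_z (z t : G) (hz : orderOf z = 2) (ht : orderOf t = 2) (hzt : ¬ IsConj z t)
    (hex : Cfsg.IsExtraspecial 2
      ↥(Cfsg.generalizedFittingSubgroup ↥(centralizer ({z} : Set G))))
    (hQ : Nat.card ↥(Cfsg.pCore 2 ↥(centralizer ({z} : Set G))) = 32)
    (K : Subgroup G) (hK : Nonempty (↥K ≃* alternatingGroup (Fin 5)))
    (hKC : K ⊔ (Cfsg.pCore 2 ↥(centralizer ({z} : Set G))).map
      (centralizer ({z} : Set G)).subtype = centralizer ({z} : Set G))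
    (hKQ : K ⊓ (Cfsg.pCore 2 ↥(centralizer ({z} : Set G))).map
      (centralizer ({z} : Set G)).subtype = ⊥)
    (hQz : ∀ x ∈ (Cfsg.pCore 2 ↥(centralizer ({z} : Set G))).map
      (centralizer ({z} : Set G)).subtype, orderOf x = 2 → IsConj x z)
    (hCz : ∀ x ∈ centralizer ({z} : Set G), orderOf x = 2 →
      x ∉ (Cfsg.pCore 2 ↥(centralizer ({z} : Set G))).map
        (centralizer ({z} : Set G)).subtype → IsConj x t) :
    Nat.card ↥(centralizer ({z} : Set G)) = 1920 ∧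
      Nat.card {p : G × G // IsConj z p.1 ∧ IsConj t p.2 ∧ z ∈ zpowers (p.1 * p.2)} = 960 := by
  classical
  haveI : Fact (Nat.Prime 2) := ⟨Nat.prime_two⟩
  haveI : Fact (Nat.Prime 5) := ⟨by norm_num⟩
  generalize hCdef : centralizer ({z} : Set G) = C at *
  obtain ⟨eK⟩ := hK
  have hfs : Cfsg.generalizedFittingSubgroup ↥C = Cfsg.pCore 2 ↥C :=
    CfsgLib.Components.fstar_eq_pCore_of_isPGroup hex.1.1
  have hcle : centralizer (Cfsg.pCore 2 ↥C : Set C) ≤ Cfsg.pCore 2 ↥C := by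
    have := CfsgLib.Components.centralizer_fstar_le (G := ↥C)
    rwa [hfs] at this
  rw [hfs] at hex
  have hnQ : (Cfsg.pCore 2 ↥C).Normal :=
    hfs ▸ (inferInstance : (Cfsg.generalizedFittingSubgroup ↥C).Normal)
  generalize Cfsg.pCore 2 ↥C = Qc at *
  have hzC : z ∈ C := hCdef ▸ mem_centralizer_singleton_iff.2 rfl
  have hmemC : ∀ x : G, x * z = z * x → x ∈ C :=
    fun x hx => hCdef ▸ mem_centralizer_singleton_iff.2 hx
  have hCcomm : ∀ x : C, x * ⟨z, hzC⟩ = ⟨z, hzC⟩ * x := fun x => Subtype.ext (by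
    show (x : G) * z = z * x
    exact mem_centralizer_singleton_iff.1 (hCdef ▸ x.2))
  have hz2 : z ^ 2 = 1 := by rw [← hz, pow_orderOf_eq_one]
  have hz1 : z ≠ 1 := fun he => by rw [he] at hz; simp at hz
  have hzQ : (⟨z, hzC⟩ : C) ∈ Qc := hcle fun x _ => hCcomm x
  have hKle : K ≤ C := le_sup_left.trans_eq hKC
  let Kc := K.subgroupOf C
  let e : Kc ≃* alternatingGroup (Fin 5) := (subgroupOfEquivOfLe hKle).trans eK
  have hinfc : Kc ⊓ Qc = ⊥ := by
    rw [eq_bot_iff]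
    rintro x ⟨hx1, hx2⟩
    have : (x : G) ∈ K ⊓ Qc.map C.subtype := ⟨hx1, mem_map_of_mem _ hx2⟩
    rw [hKQ, mem_bot] at this
    exact mem_bot.2 (Subtype.ext this)
  have hsupc : Kc ⊔ Qc = ⊤ := by
    apply map_injective C.subtype_injective
    rw [Subgroup.map_sup, subgroupOf_map_subtype, inf_eq_left.2 hKle, hKC, ← MonoidHom.range_eq_map,
      range_subtype]
  have hcardC : Nat.card ↥C = 1920 := by
    rw [← card_top, ← hsupc, CfsgLib.Base.card_sup_of_disjoint _ _ hinfc, hQ,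
      Nat.card_congr e.toEquiv, nat_card_alternatingGroup, Nat.card_fin]
    rfl
  refine ⟨hcardC, ?_⟩
  have hdec : ∀ x : C, ∃ k ∈ Kc, ∃ q ∈ Qc, k * q = x := by
    intro x
    have hx : x ∈ ((Kc ⊔ Qc : Subgroup C) : Set C) := by rw [hsupc]; exact mem_top x
    rw [mul_normal] at hx
    exact Set.mem_mul.1 hx
  let cn : C →* MulAut Qc := MulAut.conjNormal
  have hcn : ∀ (x : C) (q : Qc), ((cn x q : Qc) : C) = x * q * x⁻¹ := fun x q =>
    MulAut.conjNormal_apply x q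
  obtain ⟨zq, S⟩ := exists_ESTwo hex
  have hzq : (zq : C) = ⟨z, hzC⟩ := by
    have hc : (⟨⟨z, hzC⟩, hzQ⟩ : Qc) ∈ center Qc :=
      mem_center_iff.2 fun q => Subtype.ext (hCcomm q)
    rcases (S.center_iff _).1 hc with he | he
    · exact absurd (congrArg (fun y : Qc => ((y : C) : G)) he) hz1
    · exact (congrArg Subtype.val he).symm
  -- fixed points of elements of order five
  have hfix : ∀ g ∈ Kc, g ≠ 1 → g ^ 5 = 1 → ∀ q : Qc, cn g q = q → q ∈ center Qc := by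
    intro g hgK hg1 hg5
    let F : Subgroup Qc := (cn g).toMonoidHom.eqLocus (MonoidHom.id Qc)
    have hm := card_fixed_aut_modEq (p := 5) (φ := cn g) (by rw [← map_pow, hg5, map_one])
      (P := fun _ => True) fun _ _ => trivial
    have h1 : Nat.card {q : Qc // True ∧ cn g q = q} = Nat.card F :=
      Nat.card_congr (Equiv.subtypeEquivRight fun q => Iff.of_eq (true_and _))
    have h2 : Nat.card {q : Qc // True} = 32 :=
      (Nat.card_congr (Equiv.subtypeUnivEquiv fun _ => trivial)).trans hQ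
    rw [h1, h2] at hm
    have hdvd : Nat.card F ∣ 2 ^ 5 := by simpa [hQ] using card_subgroup_dvd_card F
    obtain ⟨k, hk5, hk⟩ := (Nat.dvd_prime_pow Nat.prime_two).1 hdvd
    have hm' : 2 ^ k % 5 = 32 % 5 := hk ▸ hm
    obtain hk1 | hk5' : k = 1 ∨ k = 5 := by interval_cases k <;> simp at hm' ⊢
    · intro q hq
      have hle : center Qc ≤ F := fun x hx => S.map_center (cn g) hx
      have heq : center Qc = F := Subgroup.eq_of_le_of_card_ge hle (by rw [hk, hk1, hex.2, pow_one])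
      rw [heq]
      exact hq
    · exfalso
      have htop : F = ⊤ := Subgroup.eq_top_of_card_eq _ (by rw [hk, hk5', hQ]; norm_num)
      have hgc : g ∈ centralizer (Qc : Set C) := by
        intro q hq
        have h3 : cn g ⟨q, hq⟩ = ⟨q, hq⟩ := (htop ▸ mem_top _ : (⟨q, hq⟩ : Qc) ∈ F)
        have h4 : g * q * g⁻¹ = q := (hcn g ⟨q, hq⟩).symm.trans (congrArg Subtype.val h3)
        exact (mul_inv_eq_iff_eq_mul.1 h4).symm
      exact hg1 (mem_bot.1 (hinfc ▸ ⟨hgK, hcle hgc⟩))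
  have hfive : ∀ k ∈ Kc, k ^ 2 = 1 → k ≠ 1 →
      ∃ g ∈ Kc, g ^ 5 = 1 ∧ g ≠ 1 ∧ (k * g) ^ 2 = 1 := by
    intro k hk hk2 hk1
    obtain ⟨g, hg5, hg1, hkg⟩ := a5_inverted_five (e ⟨k, hk⟩)
      (by rw [← map_pow, map_eq_one_iff e e.injective]; exact Subtype.ext hk2)
      (fun h => hk1 (congrArg Subtype.val ((map_eq_one_iff e e.injective).1 h)))
    obtain ⟨⟨g, hgK⟩, rfl⟩ := e.surjective g
    rw [← map_pow, map_eq_one_iff e e.injective] at hg5
    rw [← map_mul, ← map_pow, map_eq_one_iff e e.injective] at hkg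
    refine ⟨g, hgK, congrArg Subtype.val hg5, fun h => hg1 ?_, congrArg Subtype.val hkg⟩
    subst h
    exact map_one e
  -- decomposition of the outer involutions
  have hvdec : ∀ v : C, v ^ 2 = 1 → v ∉ Qc →
      ∃ k ∈ Kc, k ^ 2 = 1 ∧ k ≠ 1 ∧ ∃ q ∈ Qc, k * q = v := by
    intro v hv hvQ
    obtain ⟨k, hk, q, hq, rfl⟩ := hdec v
    refine ⟨k, hk, ?_, fun h => hvQ (by rw [h, one_mul]; exact hq), q, hq, rfl⟩
    have hm : k ^ 2 ∈ Qc := by
      rw [← QuotientGroup.eq_one_iff, QuotientGroup.mk_pow]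
      have h2 := congrArg (fun x : C => (x : C ⧸ Qc)) hv
      simp only [QuotientGroup.mk_pow, QuotientGroup.mk_mul, (QuotientGroup.eq_one_iff q).2 hq,
        mul_one, QuotientGroup.mk_one] at h2
      exact h2
    exact mem_bot.1 (hinfc ▸ ⟨pow_mem hk 2, hm⟩)
  -- the counts for one outer involution
  have hkey : ∀ v : C, v ^ 2 = 1 → v ∉ Qc →
      Nat.card {q : Qc // cn v q = q⁻¹} = 8 ∧
        Nat.card {q : Qc // q ^ 2 = 1 ∧ cn v q ≠ q} = 8 ∧
        ∀ u : Qc, u ^ 2 = 1 → u ∉ center Qc → ∀ x : Qc, x ^ 2 = 1 → x * u = u * x →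
          x = 1 ∨ x = zq ∨ x = u ∨ x = u * zq := by
    intro v hv hvQ
    obtain ⟨k, hk, hk2, hk1, q0, hq0, hvkq⟩ := hvdec v hv hvQ
    obtain ⟨g, hgK, hg5, hg1, hkg⟩ := hfive k hk hk2 hk1
    have hγ : cn g ^ 5 = 1 := by rw [← map_pow, hg5, map_one]
    have hκ : cn v * cn v = 1 := by rw [← map_mul, ← sq, hv, map_one]
    have hκ' : ∀ q : Qc, cn (k * g) (cn (k * g) q) * q⁻¹ ∈ center Qc := fun q => by
      rw [← MulAut.mul_apply, ← map_mul, ← sq, hkg, map_one, MulAut.one_apply, mul_inv_cancel]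
      exact one_mem _
    have hf := hfix g hgK hg1 hg5
    have hW : ∀ q : Qc, cn v q * q⁻¹ ∈ center Qc → cn (k * g) q * q⁻¹ ∈ center Qc →
        cn g q * q⁻¹ ∈ center Qc := by
      intro q hqv hqg
      let q0' : Qc := ⟨q0, hq0⟩
      obtain ⟨c, hc, hcq⟩ : ∃ c ∈ center Qc, cn q0 q = q * c := by
        have hval : cn q0 q = q0' * q * q0'⁻¹ := Subtype.ext (hcn q0 q)
        rcases S.comm_eq q0' q with he | he
        · exact ⟨1, one_mem _, by rw [hval, he, mul_inv_cancel_right, mul_one]⟩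
        · exact ⟨zq, S.mem_center, by
            rw [hval, he, mul_assoc (q * q0'), ← S.mul_comm_z q0'⁻¹, ← mul_assoc,
              mul_inv_cancel_right]⟩
      have hkq : cn k q * q⁻¹ ∈ center Qc := by
        have h5 : cn v q = cn k q * c := by
          rw [← hvkq, map_mul, MulAut.mul_apply, hcq, map_mul, S.map_center _ hc]
        rw [h5, mul_assoc, ← mem_center_iff.1 hc q⁻¹, ← mul_assoc] at hqv
        exact (Subgroup.mul_mem_cancel_right _ hc).1 hqv
      have h6 : cn g q = cn k (cn (k * g) q) := by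
        rw [← MulAut.mul_apply, ← map_mul, ← mul_assoc, ← sq, hk2, one_mul]
      have h7 : cn g q * q⁻¹ = cn k (cn (k * g) q * q⁻¹) * (cn k q * q⁻¹) := by
        rw [map_mul, map_inv, ← h6, ← mul_assoc, inv_mul_cancel_right]
      rw [h7]
      exact mul_mem (by rw [S.map_center _ hqg]; exact hqg) hkq
    obtain ⟨hT, hfixd⟩ := S.counts hQ hγ hf hκ hκ' hW
    refine ⟨hT, ?_, fun u hu huc x hx hxu => S.commuting_pair hQ hγ hf hu huc hx hxu⟩
    have hN := S.card_sq_one hQ hγ hf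
    have hsum := Nat.card_congr (Equiv.sumCompl fun q : {q : Qc // q ^ 2 = 1} => cn v q.1 = q.1)
    rw [Nat.card_sum, hN,
      Nat.card_congr (Equiv.subtypeSubtypeEquivSubtypeInter (fun q : Qc => q ^ 2 = 1)
        fun q => cn v q = q),
      Nat.card_congr (Equiv.subtypeSubtypeEquivSubtypeInter (fun q : Qc => q ^ 2 = 1)
        fun q => ¬ cn v q = q), hfixd] at hsum
    change Nat.card {q : Qc // q ^ 2 = 1 ∧ ¬ cn v q = q} = 8
    omega
  -- the outer involutions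
  have hinv : Nat.card {v : C // v ^ 2 = 1 ∧ v ∉ Qc} = 120 := by
    have hcong : Nat.card {k : Kc // k ^ 2 = 1 ∧ k ≠ 1} = 15 := by
      rw [← a5_card_invol]
      refine Nat.card_congr (e.toEquiv.subtypeEquiv fun k => ?_)
      show _ ↔ (e k) ^ 2 = 1 ∧ e k ≠ 1
      rw [← map_pow, ne_eq, ne_eq, map_eq_one_iff e e.injective, map_eq_one_iff e e.injective]
    have hnotQ : ∀ k : {k : Kc // k ^ 2 = 1 ∧ k ≠ 1}, (k.1 : C) ∉ Qc := fun k h =>
      k.2.2 (Subtype.ext (mem_bot.1 (hinfc ▸ ⟨k.1.2, h⟩)))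
    have hksq : ∀ k : {k : Kc // k ^ 2 = 1 ∧ k ≠ 1}, (k.1 : C) ^ 2 = 1 := fun k =>
      congrArg Subtype.val k.2.1
    have hmem : ∀ p : Σ k : {k : Kc // k ^ 2 = 1 ∧ k ≠ 1}, {q : Qc // cn k.1.1 q = q⁻¹},
        ((p.1.1 : C) * (p.2.1 : C)) ^ 2 = 1 ∧ (p.1.1 : C) * (p.2.1 : C) ∉ Qc := by
      rintro ⟨k, q, hq⟩
      have h1 : (k.1 : C) * q * (k.1 : C)⁻¹ = (q : C)⁻¹ :=
        (hcn _ q).symm.trans (congrArg Subtype.val hq)
      have hk' : (k.1 : C)⁻¹ = k.1 := inv_eq_of_mul_eq_one_right ((sq _).symm.trans (hksq k))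
      rw [hk'] at h1
      refine ⟨?_, fun h => hnotQ k (by simpa using mul_mem h (inv_mem q.2))⟩
      show ((k.1 : C) * (q : C)) ^ 2 = 1
      rw [sq, ← mul_assoc, h1, inv_mul_cancel]
    let f : (Σ k : {k : Kc // k ^ 2 = 1 ∧ k ≠ 1}, {q : Qc // cn k.1.1 q = q⁻¹}) →
        {v : C // v ^ 2 = 1 ∧ v ∉ Qc} := fun p => ⟨(p.1.1 : C) * (p.2.1 : C), hmem p⟩
    have hf : Function.Bijective f := by
      constructor
      · rintro ⟨⟨k, hk⟩, q, hq⟩ ⟨⟨k', hk'⟩, q', hq'⟩ h
        have h' : (k, q) = (k', q') :=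
          mul_injective_of_disjoint (disjoint_iff.2 hinfc) (congrArg Subtype.val h :)
        obtain ⟨rfl, rfl⟩ := Prod.ext_iff.1 h'
        rfl
      · rintro ⟨v, hv, hvQ⟩
        obtain ⟨k, hk, hk2, hk1, q, hq, rfl⟩ := hvdec v hv hvQ
        refine ⟨⟨⟨⟨k, hk⟩, Subtype.ext hk2, fun h => hk1 (congrArg Subtype.val h)⟩, ⟨q, hq⟩, ?_⟩,
          rfl⟩
        apply Subtype.ext
        rw [hcn]
        show k * q * k⁻¹ = q⁻¹
        have hk' : k⁻¹ = k := inv_eq_of_mul_eq_one_right ((sq _).symm.trans hk2)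
        rw [hk']
        exact eq_inv_of_mul_eq_one_left (by rw [mul_assoc, ← sq]; exact hv)
    rw [← Nat.card_congr (Equiv.ofBijective f hf)]
    have : Fintype {k : Kc // k ^ 2 = 1 ∧ k ≠ 1} := Fintype.ofFinite _
    rw [Nat.card_sigma, Finset.sum_congr rfl fun k _ => (hkey k.1.1 (hksq k) (hnotQ k)).1,
      Finset.sum_const, Finset.card_univ, ← Nat.card_eq_fintype_card, hcong, smul_eq_mul]
  exact card_pairs z t hz ht hzt C hzC hmemC Qc zq S hzq hQz hCz
    (fun v hv hvQ => (hkey v hv hvQ).2) hinv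

end CfsgLib.Small.JTwoOrder
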