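import Mathlib
import Cfsg.Prelude.Def_Local
import Cfsg.Agent.Lib.Small.ExtraspecialThirtyTwo
import Cfsg.Agent.Lib.Small.JankoTwoOrder
import Cfsg.Agent.Lib.Involutions.Basic

/-!
# The centraliser `2^{1+4}.A₅` of a group of Hall–Janko type

`C = C(z)` with `Q` extraspecial of order 32, self-centralising, `C/Q ≅ A₅`, `z` not weakly closed in
`Q` and at least two classes of involutions. The involutions of `Q` are conjugate to `z`, the 120
involutions of `C \ Q` form one class of `C`, and are not conjugate to `z`.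
-/

set_option autoImplicit false
set_option linter.unusedSectionVars false

namespace CfsgLib.Small.JTwoType

open Subgroup
open scoped commutatorElement

set_option maxRecDepth 100000 in
theorem a5_conj_invol : ∀ a b : alternatingGroup (Fin 5), a ^ 2 = 1 → a ≠ 1 → b ^ 2 = 1 → b ≠ 1 →
    ∃ c : alternatingGroup (Fin 5), c * a * c⁻¹ = b := by
  decide +kernel

set_option maxRecDepth 100000 in
theorem a5_exists_five : ∃ x : alternatingGroup (Fin 5), x ^ 5 = 1 ∧ x ≠ 1 := by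
  decide +kernel

/-- The hypotheses on the centraliser of the involution. -/
structure Pre (G : Type*) [Group G] where
  /-- the central involution -/
  z : G
  ord : orderOf z = 2
  /-- the extraspecial normal subgroup -/
  Q : Subgroup (centralizer ({z} : Set G))
  extra : Cfsg.IsExtraspecial 2 Q
  card : Nat.card Q = 32
  cent : centralizer (Q : Set (centralizer ({z} : Set G))) ≤ Q
  /-- the projection onto `A₅` -/
  proj : centralizer ({z} : Set G) →* alternatingGroup (Fin 5)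
  proj_surj : Function.Surjective proj
  proj_ker : proj.ker = Q

/-- The hypotheses on a group of Hall–Janko type. -/
structure Setup (G : Type*) [Group G] extends Pre G where
  weak : ∃ g : G, (∃ hq : g * z * g⁻¹ ∈ centralizer ({z} : Set G),
    (⟨g * z * g⁻¹, hq⟩ : centralizer ({z} : Set G)) ∈ Q) ∧ g * z * g⁻¹ ≠ z
  two : ∃ x y : G, orderOf x = 2 ∧ orderOf y = 2 ∧ ¬ IsConj x y

namespace Pre

variable {G : Type*} [Group G] [Finite G] (S : Pre G)

/-- The centraliser of `z`. -/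
abbrev C : Subgroup G := centralizer ({S.z} : Set G)

instance normal : S.Q.Normal := S.proj_ker ▸ inferInstance

theorem mem_C (x : G) : x ∈ S.C ↔ x * S.z = S.z * x := mem_centralizer_singleton_iff

theorem proj_eq_one (x : S.C) : S.proj x = 1 ↔ x ∈ S.Q := by
  rw [← MonoidHom.mem_ker, S.proj_ker]

theorem z_sq : S.z ^ 2 = 1 := by rw [← S.ord, pow_orderOf_eq_one]

theorem z_ne_one : S.z ≠ 1 := fun he => by
  have := S.ord
  rw [he] at this
  simp at this

/-- `z` in its centraliser. -/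
def zC : S.C := ⟨S.z, mem_centralizer_singleton_iff.2 rfl⟩

theorem zC_comm (x : S.C) : x * S.zC = S.zC * x := Subtype.ext (by
  show (x : G) * S.z = S.z * x
  exact (S.mem_C x).1 x.2)

theorem zC_mem : S.zC ∈ S.Q := S.cent fun x _ => S.zC_comm x

/-- `z` in `Q`. -/
def zQ : S.Q := ⟨S.zC, S.zC_mem⟩

theorem zQ_val : ((S.zQ : S.C) : G) = S.z := rfl

theorem es : ESTwo S.Q S.zQ := by
  obtain ⟨w, hw⟩ := exists_ESTwo S.extra
  have hc : S.zQ ∈ center S.Q := mem_center_iff.2 fun q => Subtype.ext (S.zC_comm q)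
  rcases (hw.center_iff _).1 hc with he | he
  · exact absurd (congrArg (fun y : S.Q => ((y : S.C) : G)) he) S.z_ne_one
  · exact he ▸ hw

theorem card_C : Nat.card S.C = 1920 := by
  rw [← Subgroup.card_mul_index S.Q, S.card, ← S.proj_ker, Subgroup.index_ker,
    MonoidHom.range_eq_top.2 S.proj_surj, card_top, nat_card_alternatingGroup, Nat.card_fin]
  rfl

/-- The action of `C` on `Q`. -/
def cn : S.C →* MulAut S.Q := MulAut.conjNormal

theorem cn_apply (x : S.C) (q : S.Q) : ((S.cn x q : S.Q) : S.C) = x * q * x⁻¹ :=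
  MulAut.conjNormal_apply x q

theorem cn_inner (x : S.C) (hx : x ∈ S.Q) (q : S.Q) : S.cn x q * q⁻¹ ∈ center S.Q := by
  have he : S.cn x q * q⁻¹ = ⁅(⟨x, hx⟩ : S.Q), q⁆ := Subtype.ext (by
    rw [Subgroup.coe_mul, S.cn_apply]
    rfl)
  rw [he]
  haveI : Fact (Nat.Prime 2) := ⟨Nat.prime_two⟩
  exact CfsgLib.PGroups.Extraspecial.commutator_mem_center S.extra _ _

theorem pow_four (q : S.Q) : q ^ 4 = 1 := by
  rw [show 4 = 2 * 2 from rfl, pow_mul]
  rcases S.es.sq_eq q with h | h <;> rw [h]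
  · exact one_pow 2
  · exact (sq S.zQ).trans S.es.mul_self

theorem fix_five {g : S.C} (h5 : g ^ 5 = 1) (hg : S.proj g ≠ 1) :
    ∀ q : S.Q, S.cn g q = q → q ∈ center S.Q := by
  haveI : Fact (Nat.Prime 5) := ⟨by norm_num⟩
  let F : Subgroup S.Q := (S.cn g).toMonoidHom.eqLocus (MonoidHom.id S.Q)
  have hm := card_fixed_aut_modEq (p := 5) (φ := S.cn g) (by rw [← map_pow, h5, map_one])
    (P := fun _ => True) fun _ _ => trivial
  have h1 : Nat.card {q : S.Q // True ∧ S.cn g q = q} = Nat.card F :=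
    Nat.card_congr (Equiv.subtypeEquivRight fun q => Iff.of_eq (true_and _))
  have h2 : Nat.card {q : S.Q // True} = 32 :=
    (Nat.card_congr (Equiv.subtypeUnivEquiv fun _ => trivial)).trans S.card
  rw [h1, h2] at hm
  have hdvd : Nat.card F ∣ 2 ^ 5 := by simpa [S.card] using card_subgroup_dvd_card F
  obtain ⟨k, hk5, hk⟩ := (Nat.dvd_prime_pow Nat.prime_two).1 hdvd
  have hm' : 2 ^ k % 5 = 32 % 5 := hk ▸ hm
  obtain hk1 | hk5' : k = 1 ∨ k = 5 := by interval_cases k <;> simp at hm' ⊢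
  · intro q hq
    have hle : center S.Q ≤ F := fun x hx => S.es.map_center (S.cn g) hx
    rw [Subgroup.eq_of_le_of_card_ge hle (by rw [hk, hk1, S.extra.2, pow_one])]
    exact hq
  · exfalso
    have htop : F = ⊤ := Subgroup.eq_top_of_card_eq _ (by rw [hk, hk5', S.card]; norm_num)
    apply hg
    rw [S.proj_eq_one]
    refine S.cent fun q hq => ?_
    have h3 : S.cn g ⟨q, hq⟩ = ⟨q, hq⟩ := (htop ▸ mem_top _ : (⟨q, hq⟩ : S.Q) ∈ F)
    have h4 : g * q * g⁻¹ = q := (S.cn_apply g ⟨q, hq⟩).symm.trans (congrArg Subtype.val h3)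
    exact (mul_inv_eq_iff_eq_mul.1 h4).symm

theorem lift_five {x : alternatingGroup (Fin 5)} (hx : x ^ 5 = 1) :
    ∃ g : S.C, g ^ 5 = 1 ∧ S.proj g = x := by
  obtain ⟨y, rfl⟩ := S.proj_surj x
  refine ⟨y ^ 16, ?_, ?_⟩
  · rw [← map_pow, S.proj_eq_one] at hx
    have h := congrArg Subtype.val (S.pow_four ⟨y ^ 5, hx⟩)
    rw [SubgroupClass.coe_pow, OneMemClass.coe_one] at h
    calc (y ^ 16) ^ 5 = ((y ^ 5) ^ 4) ^ 4 := by rw [← pow_mul, ← pow_mul, ← pow_mul]
      _ = 1 := by rw [h, one_pow]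
  · rw [map_pow, show 16 = 5 * 3 + 1 from rfl, pow_succ, pow_mul, hx, one_pow, one_mul]

theorem exists_gamma : ∃ g : S.C, g ^ 5 = 1 ∧ S.proj g ≠ 1 := by
  obtain ⟨x, hx, hx1⟩ := a5_exists_five
  obtain ⟨g, h5, hg⟩ := S.lift_five hx
  exact ⟨g, h5, hg.symm ▸ hx1⟩

theorem card_sq_one : Nat.card {q : S.Q // q ^ 2 = 1} = 12 := by
  obtain ⟨g, h5, hg⟩ := S.exists_gamma
  exact S.es.card_sq_one S.card (γ := S.cn g) (by rw [← map_pow, h5, map_one]) (S.fix_five h5 hg)

theorem pair {u : S.Q} (hu : u ^ 2 = 1) (huc : u ∉ center S.Q) {x : S.Q} (hx : x ^ 2 = 1)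
    (hxu : x * u = u * x) : x = 1 ∨ x = S.zQ ∨ x = u ∨ x = u * S.zQ := by
  obtain ⟨g, h5, hg⟩ := S.exists_gamma
  exact S.es.commuting_pair S.card (γ := S.cn g) (by rw [← map_pow, h5, map_one])
    (S.fix_five h5 hg) hu huc hx hxu

theorem outer_data {v : S.C} (hv : v ^ 2 = 1) (hvQ : v ∉ S.Q) :
    ∃ γ κ' : MulAut S.Q, γ ^ 5 = 1 ∧ (∀ q, γ q = q → q ∈ center S.Q) ∧
      S.cn v * S.cn v = 1 ∧ (∀ q, κ' (κ' q) * q⁻¹ ∈ center S.Q) ∧
      ∀ q, S.cn v q * q⁻¹ ∈ center S.Q → κ' q * q⁻¹ ∈ center S.Q → γ q * q⁻¹ ∈ center S.Q := by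
  obtain ⟨x, hx5, hx1, hvx⟩ := JTwoOrder.a5_inverted_five (S.proj v)
    (by rw [← map_pow, hv, map_one]) fun h => hvQ ((S.proj_eq_one v).1 h)
  obtain ⟨g, h5, hg⟩ := S.lift_five hx5
  refine ⟨S.cn g, S.cn (v * g), by rw [← map_pow, h5, map_one], S.fix_five h5 (hg.symm ▸ hx1),
    by rw [← map_mul, ← sq, hv, map_one], fun q => ?_, fun q hqv hqg => ?_⟩
  · rw [← MulAut.mul_apply, ← map_mul, ← sq]
    exact S.cn_inner _ ((S.proj_eq_one _).1 (by rw [map_pow, map_mul, hg, hvx])) q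
  · have h6 : S.cn g q = S.cn v (S.cn (v * g) q) := by
      rw [← MulAut.mul_apply, ← map_mul, ← mul_assoc, ← sq, hv, one_mul]
    have h7 : S.cn g q * q⁻¹ = S.cn v (S.cn (v * g) q * q⁻¹) * (S.cn v q * q⁻¹) := by
      rw [map_mul, map_inv, ← h6, ← mul_assoc, inv_mul_cancel_right]
    rw [h7]
    exact mul_mem (by rw [S.es.map_center _ hqg]; exact hqg) hqv

theorem outer_counts {v : S.C} (hv : v ^ 2 = 1) (hvQ : v ∉ S.Q) :
    Nat.card {q : S.Q // S.cn v q = q⁻¹} = 8 ∧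
      Nat.card {q : S.Q // q ^ 2 = 1 ∧ S.cn v q = q} = 4 ∧
      Nat.card {q : S.Q // q ^ 2 = 1 ∧ S.cn v q ≠ q} = 8 := by
  classical
  obtain ⟨γ, κ', hγ, hf, hκ, hκ', hW⟩ := S.outer_data hv hvQ
  obtain ⟨hT, hfixd⟩ := S.es.counts S.card hγ hf hκ hκ' hW
  refine ⟨hT, hfixd, ?_⟩
  have hsum := Nat.card_congr (Equiv.sumCompl fun q : {q : S.Q // q ^ 2 = 1} => S.cn v q.1 = q.1)
  rw [Nat.card_sum, S.card_sq_one,
    Nat.card_congr (Equiv.subtypeSubtypeEquivSubtypeInter (fun q : S.Q => q ^ 2 = 1)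
      fun q => S.cn v q = q),
    Nat.card_congr (Equiv.subtypeSubtypeEquivSubtypeInter (fun q : S.Q => q ^ 2 = 1)
      fun q => ¬ S.cn v q = q), hfixd] at hsum
  change Nat.card {q : S.Q // q ^ 2 = 1 ∧ ¬ S.cn v q = q} = 8
  omega

theorem outer_inverted {v : S.C} (hv : v ^ 2 = 1) (hvQ : v ∉ S.Q) {q : S.Q}
    (hq : S.cn v q * q⁻¹ ∈ center S.Q) : S.cn v q = q⁻¹ := by
  obtain ⟨γ, κ', hγ, hf, hκ, hκ', hW⟩ := S.outer_data hv hvQ
  exact S.es.fixedMod_inverted S.card hγ hf hκ hκ' hW q ((S.es.mem_fixedMod _ q).2 hq)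

/-- A fixed element of `Q` has square one. -/
theorem fixed_sq {v : S.C} (hv : v ^ 2 = 1) (hvQ : v ∉ S.Q) {q : S.Q} (hq : S.cn v q = q) :
    q ^ 2 = 1 := by
  have h := S.outer_inverted hv hvQ (q := q) (by rw [hq, mul_inv_cancel]; exact one_mem _)
  rw [hq] at h
  rw [sq]
  exact eq_inv_iff_mul_eq_one.1 h

theorem conj_cn (x : S.C) (q : S.Q) : IsConj ((q : S.C) : G) ((S.cn x q : S.C) : G) :=
  isConj_iff.2 ⟨x, (congrArg Subtype.val (S.cn_apply x q)).symm⟩

/-- The noncentral elements of square one in `Q` form one orbit under `C`. -/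
theorem noncentral_conj (u₀ q : S.Q) (hu0 : u₀ ^ 2 = 1) (hu0c : u₀ ∉ center S.Q) (hq : q ^ 2 = 1)
    (hqc : q ∉ center S.Q) : ∃ c : S.C, S.cn c u₀ = q := by
  classical
  -- swapping a noncentral involution with its product by `z`
  have hflip : ∀ r : S.Q, r ∉ center S.Q → ∃ c : S.C, S.cn c r = r * S.zQ := by
    intro r hr
    obtain ⟨p, hp⟩ : ∃ p : S.Q, p * r ≠ r * p := by
      by_contra hall
      push Not at hall
      exact hr (mem_center_iff.2 hall)
    have he : p * r = r * p * S.zQ := (S.es.comm_eq p r).resolve_left hp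
    have hcn : S.cn (p : S.C) r = r * S.zQ := Subtype.ext (by
      rw [S.cn_apply]
      rw [mul_inv_eq_iff_eq_mul]
      calc (p : S.C) * r = ((r * p * S.zQ : S.Q) : S.C) := congrArg Subtype.val he
        _ = ((r * S.zQ * p : S.Q) : S.C) := by rw [mul_assoc r, S.es.mul_comm_z p, ← mul_assoc]
        _ = _ := rfl)
    exact ⟨_, hcn⟩
  obtain ⟨g, h5, hg⟩ := S.exists_gamma
  let γ := S.cn g
  -- no nontrivial power of `γ` fixes `u₀` modulo the centre
  have hmove : ∀ d : ℕ, 0 < d → d < 5 → ∀ c ∈ center S.Q, (γ ^ d) u₀ ≠ u₀ * c := by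
    intro d hd hd5 c hc he
    have h2 : (γ ^ (2 * d)) u₀ = u₀ := by
      rw [two_mul, pow_add, MulAut.mul_apply, he, map_mul, he, S.es.map_center (γ ^ d) hc, mul_assoc,
        ← sq, S.es.sq_center hc, mul_one]
    refine hu0c (S.fix_five (g := g ^ (2 * d)) ?_ ?_ u₀ ?_)
    · rw [← pow_mul, mul_comm, pow_mul, h5, one_pow]
    · rw [map_pow]
      intro h
      haveI : Fact (Nat.Prime 5) := ⟨by norm_num⟩
      have ho : orderOf (S.proj g) = 5 := orderOf_eq_prime (by rw [← map_pow, h5, map_one]) hg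
      have hd' := orderOf_dvd_of_pow_eq_one h
      rw [ho] at hd'
      obtain ⟨k, hk⟩ := hd'
      omega
    · rw [map_pow]; exact h2
  let f : Fin 5 × Fin 2 → S.Q := fun p => (γ ^ p.1.val) u₀ * S.zQ ^ p.2.val
  have hfsq : ∀ p, f p ∈ {r : S.Q | r ^ 2 = 1} \ {1, S.zQ} := by
    intro p
    have hcp : S.zQ ^ p.2.val ∈ center S.Q := pow_mem S.es.mem_center _
    refine ⟨?_, ?_⟩
    · show ((γ ^ p.1.val) u₀ * S.zQ ^ p.2.val) ^ 2 = 1
      rw [Commute.mul_pow (mem_center_iff.1 hcp _), ← map_pow, hu0, map_one, one_mul,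
        S.es.sq_center hcp]
    · intro h
      have hc : f p ∈ center S.Q := (S.es.center_iff _).2 (by simpa using h)
      have h1 : (γ ^ p.1.val) u₀ ∈ center S.Q := (Subgroup.mul_mem_cancel_right _ hcp).1 hc
      apply hu0c
      have h2 : (γ ^ p.1.val) ((γ ^ p.1.val) u₀) = (γ ^ p.1.val) u₀ := S.es.map_center _ h1
      rw [(γ ^ p.1.val).injective h2] at h1
      exact h1
  have hfinj : Function.Injective f := by
    have key : ∀ p p', p.1.val ≤ p'.1.val → f p = f p' → p = p' := by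
      rintro ⟨⟨i, hi⟩, a⟩ ⟨⟨j, hj⟩, b⟩ hij he
      obtain ⟨d, rfl⟩ := Nat.exists_eq_add_of_le (show i ≤ j from hij)
      have hca : S.zQ ^ a.val ∈ center S.Q := pow_mem S.es.mem_center _
      have hcb : S.zQ ^ b.val ∈ center S.Q := pow_mem S.es.mem_center _
      have he' : (γ ^ i) (u₀ * S.zQ ^ a.val) = (γ ^ i) ((γ ^ d) u₀ * S.zQ ^ b.val) := by
        rw [map_mul, map_mul, S.es.map_center _ hca, S.es.map_center _ hcb, ← MulAut.mul_apply,
          ← pow_add]
        exact he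
      have he2 := (γ ^ i).injective he'
      rcases Nat.eq_zero_or_pos d with hd | hd
      · subst hd
        rw [pow_zero, MulAut.one_apply, mul_right_inj] at he2
        have hab : a = b := by
          fin_cases a <;> fin_cases b
          · rfl
          · simp at he2; exact absurd he2.symm S.es.ne_one
          · simp at he2; exact absurd he2 S.es.ne_one
          · rfl
        subst hab
        rfl
      · exfalso
        exact hmove d hd (by omega) _ (mul_mem hca (inv_mem hcb))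
          (by rw [← mul_assoc, he2, mul_inv_cancel_right])
    intro p p' he
    rcases le_total p.1.val p'.1.val with h | h
    · exact key p p' h he
    · exact (key p' p h he.symm).symm
  have hcard : ({r : S.Q | r ^ 2 = 1} \ {1, S.zQ}).ncard = 10 := by
    rw [Set.ncard_sdiff, ← Nat.card_coe_set_eq, Set.ncard_pair S.es.ne_one.symm]
    · show Nat.card {r : S.Q // r ^ 2 = 1} - 2 = 10
      rw [S.card_sq_one]
    · rintro r (rfl | rfl)
      exacts [one_pow 2, S.es.sq_center S.es.mem_center]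
  have himg : f '' Set.univ = {r : S.Q | r ^ 2 = 1} \ {1, S.zQ} := by
    refine Set.eq_of_subset_of_ncard_le ?_ ?_
    · rintro _ ⟨p, -, rfl⟩
      exact hfsq p
    · rw [hcard, Set.ncard_image_of_injective _ hfinj, Set.ncard_univ, Nat.card_prod, Nat.card_fin,
        Nat.card_fin]
  have hmem : q ∈ f '' Set.univ :=
    himg.symm ▸ ⟨hq, fun h => hqc ((S.es.center_iff q).2 (by simpa using h))⟩
  obtain ⟨⟨i, a⟩, -, rfl⟩ := hmem
  have hg' : S.cn (g ^ i.val) u₀ = (γ ^ i.val) u₀ := by rw [map_pow]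
  fin_cases a
  · exact ⟨g ^ i.val, by simpa [f] using hg'⟩
  · have hc : (γ ^ i.val) u₀ ∉ center S.Q := fun h => hu0c (by
      have h2 := S.es.map_center (γ ^ i.val) h
      rw [(γ ^ i.val).injective h2] at h
      exact h)
    obtain ⟨c, hc'⟩ := hflip _ hc
    refine ⟨c * g ^ i.val, ?_⟩
    rw [map_mul, MulAut.mul_apply, hg', hc']
    simp [f]

end Pre

namespace Setup

variable {G : Type*} [Group G] [Finite G] (S : Setup G)

/-- Every involution of `Q` is conjugate to `z`. -/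
theorem conj_Q (q : S.Q) (hq : q ^ 2 = 1) (hq1 : q ≠ 1) : IsConj S.z ((q : S.C) : G) := by
  obtain ⟨g₀, ⟨hu0C, hu0Q⟩, hne⟩ := S.weak
  let u₀ : S.Q := ⟨⟨g₀ * S.z * g₀⁻¹, hu0C⟩, hu0Q⟩
  have hu0conj : IsConj S.z ((u₀ : S.C) : G) := isConj_iff.2 ⟨g₀, rfl⟩
  have hu0 : u₀ ^ 2 = 1 := Subtype.ext (Subtype.ext (JTwoOrder.sq_of_isConj S.ord hu0conj))
  have hu0c : u₀ ∉ center S.Q := fun h => by
    rcases (S.es.center_iff _).1 h with he | he
    · exact JTwoOrder.not_isConj_one S.ord hu0conj (congrArg (fun y : S.Q => ((y : S.C) : G)) he)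
    · exact hne (congrArg (fun y : S.Q => ((y : S.C) : G)) he)
  by_cases hqc : q ∈ center S.Q
  · rcases (S.es.center_iff q).1 hqc with he | he
    · exact absurd he hq1
    · subst he; exact IsConj.refl _
  · obtain ⟨c, rfl⟩ := S.noncentral_conj u₀ q hu0 hu0c hq hqc
    exact hu0conj.trans (S.conj_cn c u₀)

theorem conj_Q_map (x : G) (hx : x ∈ S.Q.map S.C.subtype) (hx2 : orderOf x = 2) :
    IsConj x S.z := by
  obtain ⟨y, hy, rfl⟩ := hx
  refine (S.conj_Q ⟨y, hy⟩ (Subtype.ext (Subtype.ext ?_)) fun h => ?_).symm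
  · show (y : G) ^ 2 = 1
    have := pow_orderOf_eq_one (y : G)
    rwa [show orderOf (y : G) = 2 from hx2] at this
  · have : (y : G) = 1 := congrArg (fun q : S.Q => ((q : S.C) : G)) h
    rw [show S.C.subtype y = (y : G) from rfl, this] at hx2
    simp at hx2

end Setup

namespace Pre

variable {G : Type*} [Group G] [Finite G] (S : Pre G)

/-- Every involution is conjugate into `C`. -/
theorem invol_into_C (x : G) (hx : orderOf x = 2) :
    ∃ y : S.C, y ^ 2 = 1 ∧ y ≠ 1 ∧ IsConj x (y : G) := by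
  classical
  haveI : Fact (Nat.Prime 2) := ⟨Nat.prime_two⟩
  obtain ⟨P⟩ : Nonempty (Sylow 2 S.C) := inferInstance
  let P' : Subgroup G := (P : Subgroup S.C).map S.C.subtype
  have hP' : IsPGroup 2 P' := P.2.map _
  have hPC : P' ≤ S.C := map_subtype_le _
  obtain ⟨T, hT⟩ := hP'.exists_le_sylow
  have hQP : S.Q ≤ (P : Subgroup S.C) := by
    have hQp : IsPGroup 2 S.Q := S.extra.1.1
    obtain ⟨R, hR⟩ := hQp.exists_le_sylow
    obtain ⟨c, hc⟩ := MulAction.exists_smul_eq S.C R P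
    rw [← hc, Sylow.coe_subgroup_smul, ← Subgroup.Normal.conjAct S.normal (ConjAct.toConjAct c)]
    exact fun r hr => by
      obtain ⟨r', hr', rfl⟩ := hr
      exact ⟨r', hR hr', rfl⟩
  have hcenP : ∀ y ∈ P', (∀ p ∈ P', p * y = y * p) → y ≠ 1 → y = S.z := by
    rintro _ ⟨y, hy, rfl⟩ hcomm hy1
    have hyc : y ∈ centralizer (S.Q : Set S.C) := fun r hr =>
      Subtype.ext (hcomm (r : G) ⟨r, hQP hr, rfl⟩)
    have hyQ := S.cent hyc
    have hyz : (⟨y, hyQ⟩ : S.Q) ∈ center S.Q :=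
      mem_center_iff.2 fun r => Subtype.ext (hyc r r.2)
    rcases (S.es.center_iff _).1 hyz with h | h
    · exact absurd (congrArg (fun q : S.Q => ((q : S.C) : G)) h) hy1
    · exact congrArg (fun q : S.Q => ((q : S.C) : G)) h
  have hzP : S.z ∈ P' := ⟨S.zC, hQP S.zC_mem, rfl⟩
  have hTP : (T : Subgroup G) = P' := by
    refine le_antisymm ?_ hT
    by_contra hnle
    have hlt : P'.subgroupOf (T : Subgroup G) < ⊤ := lt_top_iff_ne_top.2 fun h =>
      hnle (subgroupOf_eq_top.1 h)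
    have : Group.IsNilpotent (T : Subgroup G) := T.2.isNilpotent
    obtain ⟨n, hn, hnP⟩ := SetLike.exists_of_lt (normalizerCondition_of_isNilpotent _ hlt)
    have hn' : ∀ p : G, p ∈ P' ↔ (n : G) * p * (n : G)⁻¹ ∈ P' := by
      intro p
      constructor
      · intro hp
        exact ((mem_normalizer_iff.1 hn) ⟨p, hT hp⟩).1 hp
      · intro hp
        have hpT : p ∈ (T : Subgroup G) := by
          have := mul_mem (mul_mem (inv_mem n.2) (hT hp)) n.2
          simpa [mul_assoc] using this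
        exact ((mem_normalizer_iff.1 hn) ⟨p, hpT⟩).2 hp
    have hnz : (n : G) * S.z * (n : G)⁻¹ = S.z := by
      refine hcenP _ ((hn' _).1 hzP) (fun p hp => ?_) ?_
      · have hp' : (n : G)⁻¹ * p * (n : G) ∈ P' := (hn' _).2 (by simpa [mul_assoc] using hp)
        have := (S.mem_C _).1 (hPC hp')
        calc p * ((n : G) * S.z * (n : G)⁻¹)
            = (n : G) * ((n : G)⁻¹ * p * n * S.z) * (n : G)⁻¹ := by simp [mul_assoc]
          _ = _ := by rw [this]; simp [mul_assoc]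
      · exact fun h => S.z_ne_one (conj_eq_one_iff.1 h)
    have hnC : (n : G) ∈ S.C := (S.mem_C _).2 (mul_inv_eq_iff_eq_mul.1 hnz)
    apply hnP
    show (n : G) ∈ P'
    have hle : (T : Subgroup G).subgroupOf S.C = (P : Subgroup S.C) :=
      P.3 (T.2.comap_of_injective _ S.C.subtype_injective) fun p hp =>
        hT ⟨p, hp, rfl⟩
    exact ⟨⟨n, hnC⟩, hle ▸ (n.2 : _), rfl⟩
  obtain ⟨R, hR⟩ := (IsPGroup.of_card (p := 2) (n := 1)
    (show Nat.card (zpowers x) = 2 ^ 1 by rw [Nat.card_zpowers, hx, pow_one])).exists_le_sylow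
  obtain ⟨c, hc⟩ := MulAction.exists_smul_eq G R T
  have hmem : c * x * c⁻¹ ∈ P' := by
    rw [← hTP, ← hc]
    exact Subgroup.smul_mem_pointwise_smul x (MulAut.conj c) _ (hR (mem_zpowers x))
  have hx2 : x ^ 2 = 1 := by rw [← hx, pow_orderOf_eq_one]
  refine ⟨⟨_, hPC hmem⟩, Subtype.ext ?_, fun h => ?_, isConj_iff.2 ⟨c, rfl⟩⟩
  · show (c * x * c⁻¹) ^ 2 = 1
    rw [conj_pow, hx2, mul_one, mul_inv_cancel]
  · have h' : c * x * c⁻¹ = 1 := congrArg Subtype.val h
    rw [conj_eq_one_iff] at h'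
    rw [h'] at hx
    simp at hx

end Pre

namespace Setup

variable {G : Type*} [Group G] [Finite G] (S : Setup G)

theorem exists_outer : ∃ v : S.C, v ^ 2 = 1 ∧ v ∉ S.Q ∧ ¬ IsConj S.z (v : G) := by
  obtain ⟨x, y, hx, hy, hne⟩ := S.two
  obtain ⟨w, hw, hwz⟩ : ∃ w : G, orderOf w = 2 ∧ ¬ IsConj S.z w := by
    by_cases hzx : IsConj S.z x
    · exact ⟨y, hy, fun h => hne (hzx.symm.trans h)⟩
    · exact ⟨x, hx, hzx⟩
  obtain ⟨v, hv, hv1, hc⟩ := S.invol_into_C w hw
  refine ⟨v, hv, fun hQ => hwz ?_, fun h => hwz (h.trans hc.symm)⟩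
  exact (S.conj_Q ⟨v, hQ⟩ (Subtype.ext hv) fun h => hv1 (congrArg Subtype.val h)).trans hc.symm

end Setup

namespace Pre

variable {G : Type*} [Group G] [Finite G] (S : Pre G)

theorem inverted_of_sq {v : S.C} (hv : v ^ 2 = 1) {r : S.Q} (h : (v * (r : S.C)) ^ 2 = 1) :
    S.cn v r = r⁻¹ := by
  apply Subtype.ext
  rw [S.cn_apply]
  have hv' : v⁻¹ = v := inv_eq_of_mul_eq_one_right ((sq v).symm.trans hv)
  rw [hv']
  exact eq_inv_of_mul_eq_one_left (by rw [mul_assoc, ← sq]; exact h)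

theorem fiber_conj {v v' : S.C} (hv : v ^ 2 = 1) (hvQ : v ∉ S.Q) (hv' : v' ^ 2 = 1)
    (hp : S.proj v = S.proj v') : ∃ q : S.C, q * v * q⁻¹ = v' := by
  classical
  let F : Subgroup S.Q := (S.cn v).toMonoidHom.eqLocus (MonoidHom.id S.Q)
  have hF : Nat.card F = 4 := by
    rw [← (S.outer_counts hv hvQ).2.1]
    exact Nat.card_congr (Equiv.subtypeEquivRight fun q =>
      ⟨fun h => ⟨S.fixed_sq hv hvQ h, h⟩, fun h => h.2⟩)
  have hκκ : ∀ q, S.cn v (S.cn v q) = q := fun q => by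
    rw [← MulAut.mul_apply, ← map_mul, ← sq, hv, map_one, MulAut.one_apply]
  let f : S.Q → {q : S.Q // S.cn v q = q⁻¹} := fun q => ⟨S.cn v q * q⁻¹, by
    rw [map_mul, map_inv, hκκ, mul_inv_rev, inv_inv]⟩
  have hf : ∀ a b : S.Q, QuotientGroup.leftRel F a b ↔ f a = f b := by
    intro a b
    rw [QuotientGroup.leftRel_apply, Subtype.ext_iff]
    show S.cn v (a⁻¹ * b) = a⁻¹ * b ↔ S.cn v a * a⁻¹ = S.cn v b * b⁻¹
    rw [map_mul, map_inv, inv_mul_eq_iff_eq_mul, eq_comm, ← mul_assoc, ← eq_mul_inv_iff_mul_eq]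
  let φ : S.Q ⧸ F → {q : S.Q // S.cn v q = q⁻¹} := Quotient.lift f fun a b h => (hf a b).1 h
  have hφ : Function.Bijective φ := by
    refine (Nat.bijective_iff_injective_and_card φ).2 ⟨?_, ?_⟩
    · rintro ⟨a⟩ ⟨b⟩ h
      exact Quotient.sound ((hf a b).2 h)
    · rw [(S.outer_counts hv hvQ).1]
      have e := Subgroup.index_mul_card F
      rw [hF, S.card] at e
      show F.index = 8
      omega
  have hr : v⁻¹ * v' ∈ S.Q := by rw [← S.proj_eq_one, map_mul, map_inv, hp, inv_mul_cancel]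
  obtain ⟨⟨q⟩, hq⟩ := hφ.2 ⟨⟨v⁻¹ * v', hr⟩, S.inverted_of_sq hv (by simpa using hv')⟩
  have hq' : v * q * v⁻¹ * (q : S.C)⁻¹ = v⁻¹ * v' := by
    have h := congrArg (fun r : {q : S.Q // S.cn v q = q⁻¹} => (r.1 : S.C)) hq
    simpa [φ, f, S.cn_apply] using h
  refine ⟨q, ?_⟩
  have hv'' : v⁻¹ = v := inv_eq_of_mul_eq_one_right ((sq v).symm.trans hv)
  calc (q : S.C) * v * (q : S.C)⁻¹ = v * (v * q * v⁻¹ * (q : S.C)⁻¹) := by
        rw [hv'']
        simp only [← mul_assoc, ← sq, hv, one_mul]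
    _ = v' := by rw [hq', mul_inv_cancel_left]

theorem conj_outer {v v' : S.C} (hv : v ^ 2 = 1) (hvQ : v ∉ S.Q) (hv' : v' ^ 2 = 1)
    (hvQ' : v' ∉ S.Q) : ∃ c : S.C, c * v * c⁻¹ = v' := by
  obtain ⟨x, hx⟩ := a5_conj_invol (S.proj v) (S.proj v') (by rw [← map_pow, hv, map_one])
    (fun h => hvQ ((S.proj_eq_one v).1 h)) (by rw [← map_pow, hv', map_one])
    (fun h => hvQ' ((S.proj_eq_one v').1 h))
  obtain ⟨c, rfl⟩ := S.proj_surj x
  obtain ⟨q, hq⟩ := S.fiber_conj (v := c * v * c⁻¹) (v' := v')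
    (by rw [conj_pow, hv, mul_one, mul_inv_cancel])
    (fun h => hvQ (by simpa [mul_assoc] using S.normal.conj_mem _ h c⁻¹))
    hv' (by rw [map_mul, map_mul, map_inv, hx])
  exact ⟨q * c, by rw [← hq, mul_inv_rev]; simp only [mul_assoc]⟩

theorem conj_outer_G {v v' : S.C} (hv : v ^ 2 = 1) (hvQ : v ∉ S.Q) (hv' : v' ^ 2 = 1)
    (hvQ' : v' ∉ S.Q) : IsConj (v : G) (v' : G) := by
  obtain ⟨c, hc⟩ := S.conj_outer hv hvQ hv' hvQ'
  exact isConj_iff.2 ⟨c, congrArg Subtype.val hc⟩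

end Pre

namespace Setup

variable {G : Type*} [Group G] [Finite G] (S : Setup G)

theorem outer_not_conj {v : S.C} (hv : v ^ 2 = 1) (hvQ : v ∉ S.Q) : ¬ IsConj S.z (v : G) := by
  obtain ⟨v₀, hv₀, hvQ₀, hne⟩ := S.exists_outer
  exact fun h => hne (h.trans (S.conj_outer_G hv hvQ hv₀ hvQ₀))

theorem mem_Q_of_conj {x : S.C} (h : IsConj S.z (x : G)) : x ∈ S.Q := by
  by_contra hx
  exact S.outer_not_conj (Subtype.ext (JTwoOrder.sq_of_isConj S.ord h)) hx h

theorem classes {v : S.C} (hv : v ^ 2 = 1) (hvQ : v ∉ S.Q) (x : G) (hx : orderOf x = 2) :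
    IsConj x S.z ∨ IsConj x (v : G) := by
  obtain ⟨y, hy, hy1, hc⟩ := S.invol_into_C x hx
  by_cases hQ : y ∈ S.Q
  · exact Or.inl (hc.trans
      (S.conj_Q ⟨y, hQ⟩ (Subtype.ext hy) fun h => hy1 (congrArg Subtype.val h)).symm)
  · exact Or.inr (hc.trans (S.conj_outer_G hy hQ hv hvQ))

theorem card_outer : Nat.card {v : S.C // v ^ 2 = 1 ∧ v ∉ S.Q} = 120 := by
  classical
  obtain ⟨v₀, hv₀, hvQ₀, -⟩ := S.exists_outer
  let I := {x : alternatingGroup (Fin 5) // x ^ 2 = 1 ∧ x ≠ 1}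
  have hrep : ∀ x : I, ∃ v : S.C, v ^ 2 = 1 ∧ v ∉ S.Q ∧ S.proj v = x.1 := by
    rintro ⟨x, hx, hx1⟩
    obtain ⟨y, hy⟩ := a5_conj_invol (S.proj v₀) x (by rw [← map_pow, hv₀, map_one])
      (fun h => hvQ₀ ((S.proj_eq_one v₀).1 h)) hx hx1
    obtain ⟨c, rfl⟩ := S.proj_surj y
    refine ⟨c * v₀ * c⁻¹, by rw [conj_pow, hv₀, mul_one, mul_inv_cancel], fun h => hx1 ?_,
      by rw [map_mul, map_mul, map_inv, hy]⟩
    rw [← hy, ← map_inv, ← map_mul, ← map_mul, S.proj_eq_one]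
    exact h
  choose rep hrep using hrep
  have hmem : ∀ p : Σ x : I, {q : S.Q // S.cn (rep x) q = q⁻¹},
      (rep p.1 * (p.2.1 : S.C)) ^ 2 = 1 ∧ rep p.1 * (p.2.1 : S.C) ∉ S.Q := by
    rintro ⟨x, q, hq⟩
    have h1 : rep x * q * (rep x)⁻¹ = (q : S.C)⁻¹ :=
      (S.cn_apply _ q).symm.trans (congrArg Subtype.val hq)
    have hk' : (rep x)⁻¹ = rep x :=
      inv_eq_of_mul_eq_one_right ((sq _).symm.trans (hrep x).1)
    rw [hk'] at h1
    refine ⟨?_, fun h => (hrep x).2.1 (by simpa using mul_mem h (inv_mem q.2))⟩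
    show (rep x * (q : S.C)) ^ 2 = 1
    rw [sq, ← mul_assoc, h1, inv_mul_cancel]
  let f : (Σ x : I, {q : S.Q // S.cn (rep x) q = q⁻¹}) → {v : S.C // v ^ 2 = 1 ∧ v ∉ S.Q} :=
    fun p => ⟨rep p.1 * (p.2.1 : S.C), hmem p⟩
  have hf : Function.Bijective f := by
    constructor
    · rintro ⟨x, q, hq⟩ ⟨x', q', hq'⟩ h
      have h' : rep x * (q : S.C) = rep x' * (q' : S.C) := congrArg Subtype.val h
      have hx : x = x' := Subtype.ext (by
        have e := congrArg S.proj h'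
        rwa [map_mul, map_mul, (S.proj_eq_one _).2 q.2, (S.proj_eq_one _).2 q'.2, mul_one, mul_one,
          (hrep x).2.2, (hrep x').2.2] at e)
      subst hx
      obtain rfl : q = q' := Subtype.ext (mul_left_cancel h')
      rfl
    · rintro ⟨v, hv, hvQ⟩
      let x : I := ⟨S.proj v, by rw [← map_pow, hv, map_one], fun h => hvQ ((S.proj_eq_one v).1 h)⟩
      have hr : (rep x)⁻¹ * v ∈ S.Q := by
        rw [← S.proj_eq_one, map_mul, map_inv, (hrep x).2.2, inv_mul_cancel]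
      exact ⟨⟨x, ⟨_, hr⟩, S.inverted_of_sq (hrep x).1 (by simpa using hv)⟩,
        Subtype.ext (mul_inv_cancel_left _ _)⟩
  have : Fintype I := Fintype.ofFinite _
  rw [← Nat.card_congr (Equiv.ofBijective f hf), Nat.card_sigma,
    Finset.sum_congr rfl fun x _ => (S.outer_counts (hrep x).1 (hrep x).2.1).1,
    Finset.sum_const, Finset.card_univ, ← Nat.card_eq_fintype_card, JTwoOrder.a5_card_invol,
    smul_eq_mul]

theorem card_centralizer_outer {v : S.C} (hv : v ^ 2 = 1) (hvQ : v ∉ S.Q) :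
    Nat.card (centralizer ({v} : Set S.C)) = 16 := by
  have hclass : Nat.card {y : S.C // IsConj v y} = 120 := by
    rw [← S.card_outer]
    refine Nat.card_congr (Equiv.subtypeEquivRight fun y => ⟨fun h => ?_, fun h => ?_⟩)
    · obtain ⟨c, rfl⟩ := isConj_iff.1 h
      exact ⟨by rw [conj_pow, hv, mul_one, mul_inv_cancel],
        fun hy => hvQ (by simpa [mul_assoc] using S.normal.conj_mem _ hy c⁻¹)⟩
    · exact isConj_iff.2 (S.conj_outer hv hvQ h.1 h.2)
  have e := CfsgLib.Involutions.card_conjugates_mul v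
  rw [hclass, S.card_C] at e
  omega

theorem pairs_z {t : G} (ht : orderOf t = 2) (htz : ¬ IsConj S.z t) :
    Nat.card {p : G × G // IsConj S.z p.1 ∧ IsConj t p.2 ∧ S.z ∈ zpowers (p.1 * p.2)} = 960 := by
  obtain ⟨v₀, hv₀, hvQ₀, -⟩ := S.exists_outer
  have htv : IsConj t (v₀ : G) :=
    ((S.classes hv₀ hvQ₀ t ht).resolve_left fun h => htz h.symm)
  refine JTwoOrder.card_pairs S.z t S.ord ht htz S.C S.zC.2 (fun x hx => (S.mem_C x).2 hx) S.Q S.zQ
    S.es rfl S.conj_Q_map (fun x hx hx2 hxQ => ?_) (fun v hv hvQ =>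
      ⟨(S.outer_counts hv hvQ).2.2, fun u hu huc y hy hyu => S.pair hu huc hy hyu⟩) S.card_outer
  have h2 : (⟨x, hx⟩ : S.C) ^ 2 = 1 := Subtype.ext (by
    show x ^ 2 = 1
    rw [← hx2, pow_orderOf_eq_one])
  exact (S.conj_outer_G h2 (fun h => hxQ ⟨⟨x, hx⟩, h, rfl⟩) hv₀ hvQ₀).trans htv.symm

end Setup

end CfsgLib.Small.JTwoType
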