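import Mathlib
import Cfsg.Agent.Lib.Small.JankoTwoLocal

/-!
# Centraliser orders inside `C(z)` for groups of Hall–Janko type
-/

set_option autoImplicit false
set_option linter.unusedSectionVars false

namespace CfsgLib.Small.JTwoType

open Subgroup

/-- The centraliser in `H ⊓ C(x)` as a centraliser inside `H`. -/
theorem card_inf_centralizer {G : Type*} [Group G] {H : Subgroup G} (x : H) :
    Nat.card ↥(H ⊓ centralizer ({(x : G)} : Set G)) = Nat.card (centralizer ({x} : Set H)) :=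
  Nat.card_congr
    { toFun := fun y => ⟨⟨y.1, y.2.1⟩, mem_centralizer_singleton_iff.2 (Subtype.ext
        (mem_centralizer_singleton_iff.1 y.2.2 :))⟩
      invFun := fun y => ⟨y.1.1, y.1.2, mem_centralizer_singleton_iff.2
        (congrArg Subtype.val (mem_centralizer_singleton_iff.1 y.2) :)⟩
      left_inv := fun y => rfl
      right_inv := fun y => rfl }

namespace Setup

variable {G : Type*} [Group G] [Finite G] (S : Setup G)

theorem noncentral_map {u : S.Q} (huc : u ∉ center S.Q) (c : S.C) : S.cn c u ∉ center S.Q := by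
  intro h
  apply huc
  have h2 := S.es.map_center (S.cn c) h
  rw [(S.cn c).injective h2] at h
  exact h

theorem card_fixing {v : S.C} (hv : v ^ 2 = 1) (hvQ : v ∉ S.Q) :
    Nat.card {u : S.Q // (u ^ 2 = 1 ∧ u ∉ center S.Q) ∧ S.cn v u = u} = 2 := by
  classical
  have hsub : ({1, S.zQ} : Set S.Q) ⊆ {u | u ^ 2 = 1 ∧ S.cn v u = u} := by
    rintro x (rfl | rfl)
    · exact ⟨one_pow 2, map_one _⟩
    · exact ⟨S.es.sq_center S.es.mem_center, S.es.map_z _⟩
  have e : Nat.card {u : S.Q // (u ^ 2 = 1 ∧ u ∉ center S.Q) ∧ S.cn v u = u} =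
      ({u : S.Q | u ^ 2 = 1 ∧ S.cn v u = u} \ {1, S.zQ}).ncard := by
    rw [← Nat.card_coe_set_eq]
    refine Nat.card_congr (Equiv.subtypeEquivRight fun u => ?_)
    constructor
    · rintro ⟨⟨h1, h2⟩, h3⟩
      exact ⟨⟨h1, h3⟩, fun h => h2 ((S.es.center_iff u).2 (by simpa using h))⟩
    · rintro ⟨⟨h1, h3⟩, h2⟩
      exact ⟨⟨h1, fun h => h2 (by simpa using (S.es.center_iff u).1 h)⟩, h3⟩
  rw [e, Set.ncard_sdiff hsub, Set.ncard_pair S.es.ne_one.symm]
  show Nat.card {u : S.Q // u ^ 2 = 1 ∧ S.cn v u = u} - 2 = 2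
  rw [(S.outer_counts hv hvQ).2.1]

theorem card_noncentral : Nat.card {u : S.Q // u ^ 2 = 1 ∧ u ∉ center S.Q} = 10 := by
  classical
  have e : Nat.card {u : S.Q // u ^ 2 = 1 ∧ u ∉ center S.Q} =
      ({u : S.Q | u ^ 2 = 1} \ {1, S.zQ}).ncard := by
    rw [← Nat.card_coe_set_eq]
    refine Nat.card_congr (Equiv.subtypeEquivRight fun u => ?_)
    constructor
    · rintro ⟨h1, h2⟩
      exact ⟨h1, fun h => h2 ((S.es.center_iff u).2 (by simpa using h))⟩
    · rintro ⟨h1, h2⟩
      exact ⟨h1, fun h => h2 (by simpa using (S.es.center_iff u).1 h)⟩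
  rw [e, Set.ncard_sdiff, Set.ncard_pair S.es.ne_one.symm, ← Nat.card_coe_set_eq]
  · show Nat.card {r : S.Q // r ^ 2 = 1} - 2 = 10
    rw [S.card_sq_one]
  · rintro r (rfl | rfl)
    exacts [one_pow 2, S.es.sq_center S.es.mem_center]

/-- The number of outer involutions fixing `r` is constant along an orbit. -/
theorem card_outer_fixing_conj (u : S.Q) (c : S.C) :
    Nat.card {v : S.C // (v ^ 2 = 1 ∧ v ∉ S.Q) ∧ S.cn v (S.cn c u) = S.cn c u} =
      Nat.card {v : S.C // (v ^ 2 = 1 ∧ v ∉ S.Q) ∧ S.cn v u = u} := by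
  refine (Nat.card_congr ((MulAut.conj c).toEquiv.subtypeEquiv fun v => ?_)).symm
  show (v ^ 2 = 1 ∧ v ∉ S.Q) ∧ S.cn v u = u ↔
    ((c * v * c⁻¹) ^ 2 = 1 ∧ c * v * c⁻¹ ∉ S.Q) ∧ S.cn (c * v * c⁻¹) (S.cn c u) = S.cn c u
  refine and_congr (and_congr ?_ ⟨fun h hh => h ?_, fun h hh => h (S.normal.conj_mem _ hh c)⟩) ?_
  · rw [conj_pow, conj_eq_one_iff]
  · simpa [mul_assoc] using S.normal.conj_mem _ hh c⁻¹
  · rw [show S.cn (c * v * c⁻¹) (S.cn c u) = S.cn c (S.cn v u) by
      rw [← MulAut.mul_apply, ← map_mul, inv_mul_cancel_right, map_mul, MulAut.mul_apply]]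
    exact (S.cn c).injective.eq_iff.symm

/-- The outer involutions centralising a given noncentral involution of `Q` number 24. -/
theorem card_outer_fixing {u : S.Q} (hu : u ^ 2 = 1) (huc : u ∉ center S.Q) :
    Nat.card {v : S.C // (v ^ 2 = 1 ∧ v ∉ S.Q) ∧ S.cn v u = u} = 24 := by
  classical
  let I := {v : S.C // v ^ 2 = 1 ∧ v ∉ S.Q}
  let U := {r : S.Q // r ^ 2 = 1 ∧ r ∉ center S.Q}
  have hv2 : ∀ v : I, Nat.card {r : U // S.cn v.1 r.1 = r.1} = 2 := fun v =>
    (Nat.card_congr (Equiv.subtypeSubtypeEquivSubtypeInter (fun r : S.Q => r ^ 2 = 1 ∧ r ∉ center S.Q)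
        fun r => S.cn v.1 r = r)).trans (S.card_fixing v.2.1 v.2.2)
  have hu24 : ∀ r : U, Nat.card {v : I // S.cn v.1 r.1 = r.1} =
      Nat.card {v : S.C // (v ^ 2 = 1 ∧ v ∉ S.Q) ∧ S.cn v u = u} := by
    intro r
    obtain ⟨c, hc⟩ := S.noncentral_conj u r.1 hu huc r.2.1 r.2.2
    rw [← S.card_outer_fixing_conj u c, hc]
    exact Nat.card_congr
      (Equiv.subtypeSubtypeEquivSubtypeInter (fun v : S.C => v ^ 2 = 1 ∧ v ∉ S.Q)
        fun v => S.cn v r.1 = r.1)
  have e : Nat.card (Σ v : I, {r : U // S.cn v.1 r.1 = r.1}) =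
      Nat.card (Σ r : U, {v : I // S.cn v.1 r.1 = r.1}) :=
    Nat.card_congr
      { toFun := fun p => ⟨p.2.1, ⟨p.1, p.2.2⟩⟩
        invFun := fun p => ⟨p.2.1, ⟨p.1, p.2.2⟩⟩
        left_inv := fun p => rfl
        right_inv := fun p => rfl }
  have : Fintype I := Fintype.ofFinite _
  have : Fintype U := Fintype.ofFinite _
  rw [Nat.card_sigma, Nat.card_sigma, Finset.sum_congr rfl (fun v _ => hv2 v),
    Finset.sum_congr rfl (fun r _ => hu24 r), Finset.sum_const, Finset.sum_const, Finset.card_univ,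
    Finset.card_univ, ← Nat.card_eq_fintype_card, ← Nat.card_eq_fintype_card, S.card_outer,
    S.card_noncentral, smul_eq_mul, smul_eq_mul] at e
  omega

theorem card_centralizer_noncentral {u : S.Q} (hu : u ^ 2 = 1) (huc : u ∉ center S.Q) :
    Nat.card ↥(S.C ⊓ centralizer ({((u : S.C) : G)} : Set G)) = 192 := by
  have hclass : Nat.card {y : S.C // IsConj (u : S.C) y} = 10 := by
    rw [← S.card_noncentral]
    refine (Nat.card_congr (Equiv.ofBijective (fun r : {u : S.Q // u ^ 2 = 1 ∧ u ∉ center S.Q} =>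
      (⟨(r.1 : S.C), ?_⟩ : {y : S.C // IsConj (u : S.C) y})) ⟨?_, ?_⟩)).symm
    · obtain ⟨c, hc⟩ := S.noncentral_conj u r.1 hu huc r.2.1 r.2.2
      exact isConj_iff.2 ⟨c, (S.cn_apply c u).symm.trans (congrArg Subtype.val hc)⟩
    · intro a b h
      exact Subtype.ext (Subtype.ext (congrArg Subtype.val h :))
    · rintro ⟨y, hy⟩
      obtain ⟨c, rfl⟩ := isConj_iff.1 hy
      exact ⟨⟨S.cn c u, by rw [← map_pow, hu, map_one], S.noncentral_map huc c⟩,
        Subtype.ext (S.cn_apply c u)⟩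
  have e := CfsgLib.Involutions.card_conjugates_mul (u : S.C)
  rw [hclass, S.card_C] at e
  exact (card_inf_centralizer (u : S.C)).trans (by omega)

/-- Half of `Q` centralises a noncentral involution. -/
theorem card_Q_centralizer {u : S.Q} (huc : u ∉ center S.Q) :
    Nat.card (centralizer ({u} : Set S.Q)) = 16 := by
  haveI : Fact (Nat.Prime 2) := ⟨Nat.prime_two⟩
  have hidx : (centralizer ({u} : Set S.Q)).index ≤ 2 :=
    (CfsgLib.PGroups.index_centralizer_singleton_le (le_refl (center S.Q))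
      fun g => CfsgLib.PGroups.Extraspecial.commutator_mem_center S.extra g u).trans S.extra.2.le
  have e := Subgroup.index_mul_card (centralizer ({u} : Set S.Q))
  rw [S.card] at e
  have hne : (centralizer ({u} : Set S.Q)).index ≠ 1 := fun he => huc (mem_center_iff.2 fun g =>
    mem_centralizer_singleton_iff.1 (Subgroup.index_eq_one.1 he ▸ mem_top g))
  have hpos : 0 < (centralizer ({u} : Set S.Q)).index :=
    Nat.pos_of_ne_zero Subgroup.FiniteIndex.index_ne_zero
  have hh : (centralizer ({u} : Set S.Q)).index = 2 := by omega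
  rw [hh] at e
  omega

theorem card_centralizer_outer_G {v : S.C} (hv : v ^ 2 = 1) (hvQ : v ∉ S.Q) :
    Nat.card ↥(S.C ⊓ centralizer ({(v : G)} : Set G)) = 16 := by
  rw [card_inf_centralizer, S.card_centralizer_outer hv hvQ]

end Setup

end CfsgLib.Small.JTwoType
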