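import Mathlib
import Cfsg.Agent.Lib.Small.JankoTwoCount

/-!
# The four group `E = ⟨z, u⟩` and its normaliser

`u` a conjugate of `z` in `Q` other than `z`: the normaliser of `E` contains an abelian subgroup of
order nine, one element of which permutes `z, u, uz` cyclically and centralises an involution
outside `Q`.
-/

set_option autoImplicit false
set_option linter.unusedSectionVars false

namespace CfsgLib.Small.JTwoType

open Subgroup

set_option maxRecDepth 100000 in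
theorem a5_invol_centralizer : ∀ v : alternatingGroup (Fin 5), v ^ 2 = 1 → v ≠ 1 →
    ∀ x : alternatingGroup (Fin 5), x * v = v * x → x ^ 2 = 1 := by
  decide +kernel

/-- The four group spanned by two commuting involutions, as a subgroup. -/
def fourSubgroup {G : Type*} [Group G] (a b : G) (ha : a * a = 1) (hb : b * b = 1)
    (hab : a * b = b * a) : Subgroup G where
  carrier := {g | g = 1 ∨ g = a ∨ g = b ∨ g = b * a}
  one_mem' := Or.inl rfl
  mul_mem' := by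
    have e1 : a * (b * a) = b := by rw [← mul_assoc, hab, mul_assoc, ha, mul_one]
    have e2 : b * (b * a) = a := by rw [← mul_assoc, hb, one_mul]
    have e3 : b * a * a = b := by rw [mul_assoc, ha, mul_one]
    have e4 : b * a * b = a := by rw [← hab, mul_assoc, hb, mul_one]
    have e5 : b * a * (b * a) = 1 := by rw [← mul_assoc, e4, ha]
    rintro g g' (rfl | rfl | rfl | rfl) (rfl | rfl | rfl | rfl) <;>
      simp only [Set.mem_ofPred_eq, one_mul, mul_one, ha, hb, e1, e2, e3, e4, e5, hab, true_or,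
        or_true]
  inv_mem' := by
    rintro g (rfl | rfl | rfl | rfl)
    · exact Or.inl inv_one
    · exact Or.inr (Or.inl (inv_eq_of_mul_eq_one_right ha))
    · exact Or.inr (Or.inr (Or.inl (inv_eq_of_mul_eq_one_right hb)))
    · refine Or.inr (Or.inr (Or.inr ?_))
      rw [mul_inv_rev, inv_eq_of_mul_eq_one_right ha, inv_eq_of_mul_eq_one_right hb, hab]

/-- A conjugate of `z` in `Q` other than `z`. -/
structure Four {G : Type*} [Group G] (S : Setup G) where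
  /-- the conjugating element -/
  g : G
  mem_C : g * S.z * g⁻¹ ∈ centralizer ({S.z} : Set G)
  mem_Q : (⟨g * S.z * g⁻¹, mem_C⟩ : centralizer ({S.z} : Set G)) ∈ S.Q
  ne : g * S.z * g⁻¹ ≠ S.z

namespace Four

variable {G : Type*} [Group G] [Finite G] {S : Setup G} (F : Four S)

/-- `u`, in `Q`. -/
def uQ : S.Q := ⟨⟨F.g * S.z * F.g⁻¹, F.mem_C⟩, F.mem_Q⟩

/-- `u`, in `G`. -/
abbrev u : G := F.g * S.z * F.g⁻¹

theorem u_conj : IsConj S.z F.u := isConj_iff.2 ⟨F.g, rfl⟩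

theorem u_sq : F.u * F.u = 1 := (sq _).symm.trans (JTwoOrder.sq_of_isConj S.ord F.u_conj)

theorem u_ne_one : F.u ≠ 1 := JTwoOrder.not_isConj_one S.ord F.u_conj

theorem uQ_sq : F.uQ ^ 2 = 1 :=
  Subtype.ext (Subtype.ext (JTwoOrder.sq_of_isConj S.ord F.u_conj))

theorem uQ_nc : F.uQ ∉ center S.Q := fun h => by
  rcases (S.es.center_iff _).1 h with he | he
  · exact F.u_ne_one (congrArg (fun y : S.Q => ((y : S.C) : G)) he)
  · exact F.ne (congrArg (fun y : S.Q => ((y : S.C) : G)) he)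

theorem z_mul_z : S.z * S.z = 1 := (sq _).symm.trans S.z_sq

theorem z_comm : S.z * F.u = F.u * S.z := ((S.mem_C F.u).1 F.mem_C).symm

/-- The four group. -/
def E : Subgroup G := fourSubgroup S.z F.u (z_mul_z (S := S)) F.u_sq F.z_comm

theorem mem_E {x : G} : x ∈ F.E ↔ x = 1 ∨ x = S.z ∨ x = F.u ∨ x = F.u * S.z := Iff.rfl

theorem z_mem_E : S.z ∈ F.E := Or.inr (Or.inl rfl)

theorem u_mem_E : F.u ∈ F.E := Or.inr (Or.inr (Or.inl rfl))

/-- The centraliser of `E`. -/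
abbrev M : Subgroup G := S.C ⊓ centralizer ({F.u} : Set G)

theorem mem_M (x : G) : x ∈ F.M ↔ x * S.z = S.z * x ∧ x * F.u = F.u * x :=
  ⟨fun h => ⟨(S.mem_C x).1 h.1, mem_centralizer_singleton_iff.1 h.2⟩,
    fun h => ⟨(S.mem_C x).2 h.1, mem_centralizer_singleton_iff.2 h.2⟩⟩

theorem uQ_val : ((F.uQ : S.C) : G) = F.u := rfl

theorem card_M : Nat.card F.M = 192 := by
  have h := S.card_centralizer_noncentral (u := F.uQ) F.uQ_sq F.uQ_nc
  rw [F.uQ_val] at h
  exact h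

theorem E_le_M : F.E ≤ F.M := by
  rintro x (rfl | rfl | rfl | rfl)
  · exact one_mem _
  · exact (F.mem_M _).2 ⟨rfl, F.z_comm⟩
  · exact (F.mem_M _).2 ⟨F.z_comm.symm, rfl⟩
  · exact mul_mem ((F.mem_M _).2 ⟨F.z_comm.symm, rfl⟩) ((F.mem_M _).2 ⟨rfl, F.z_comm⟩)

theorem comm_E {x : G} (hx : x ∈ F.M) {e : G} (he : e ∈ F.E) : x * e = e * x := by
  obtain ⟨h1, h2⟩ := (F.mem_M x).1 hx
  rcases he with rfl | rfl | rfl | rfl
  · simp
  · exact h1
  · exact h2
  · rw [← mul_assoc, h2, mul_assoc, h1, ← mul_assoc]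

theorem uz_ne : F.u * S.z ≠ 1 ∧ F.u * S.z ≠ S.z ∧ F.u * S.z ≠ F.u ∧ S.z ≠ F.u := by
  refine ⟨fun h => F.ne ?_, fun h => F.u_ne_one (mul_eq_right.1 h),
    fun h => S.z_ne_one (mul_eq_left.1 h), fun h => F.ne h.symm⟩
  exact (eq_inv_of_mul_eq_one_left h).trans (inv_eq_of_mul_eq_one_right (z_mul_z (S := S)))

theorem conj_mul' (g x y : G) : g * (x * y) * g⁻¹ = g * x * g⁻¹ * (g * y * g⁻¹) := by
  simp [mul_assoc]

theorem mem_normalizer (x : G) (h1 : x * S.z * x⁻¹ ∈ F.E) (h2 : x * F.u * x⁻¹ ∈ F.E) :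
    x ∈ normalizer (F.E : Set G) := by
  have hle : F.E.map (MulAut.conj x).toMonoidHom ≤ F.E := by
    rintro _ ⟨e, he, rfl⟩
    show x * e * x⁻¹ ∈ F.E
    rcases he with rfl | rfl | rfl | rfl
    · simp
    · exact h1
    · exact h2
    · rw [conj_mul']; exact mul_mem h2 h1
  have heq : F.E.map (MulAut.conj x).toMonoidHom = F.E :=
    Subgroup.eq_of_le_of_card_ge hle (Subgroup.card_map_of_injective (MulAut.conj x).injective).ge
  rw [mem_normalizer_iff]
  intro e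
  refine ⟨fun he => hle ⟨e, he, rfl⟩, fun he => ?_⟩
  rw [← heq] at he
  obtain ⟨e', he', he2⟩ := he
  have : e' = e := (MulAut.conj x).injective he2
  exact this ▸ he'

theorem M_le_normalizer : F.M ≤ normalizer (F.E : Set G) := fun x hx => F.mem_normalizer x
  (by rw [mul_inv_eq_iff_eq_mul.2 ((F.mem_M x).1 hx).1]; exact F.z_mem_E)
  (by rw [mul_inv_eq_iff_eq_mul.2 ((F.mem_M x).1 hx).2]; exact F.u_mem_E)

theorem conj_mem_E {x : G} (hx : x ∈ normalizer (F.E : Set G)) {e : G} (he : e ∈ F.E) :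
    x * e * x⁻¹ ∈ F.E :=
  (mem_normalizer_iff.1 hx e).1 he

theorem conj_mem_M {x : G} (hx : x ∈ normalizer (F.E : Set G)) {y : G} (hy : y ∈ F.M) :
    x * y * x⁻¹ ∈ F.M := by
  have hc : ∀ e ∈ F.E, x * y * x⁻¹ * e = e * (x * y * x⁻¹) := by
    intro e he
    have he' : x⁻¹ * e * x ∈ F.E := by simpa using F.conj_mem_E (inv_mem hx) he
    have := F.comm_E hy he'
    calc x * y * x⁻¹ * e = x * (y * (x⁻¹ * e * x)) * x⁻¹ := by simp [mul_assoc]
      _ = x * (x⁻¹ * e * x * y) * x⁻¹ := by rw [this]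
      _ = e * (x * y * x⁻¹) := by simp [mul_assoc]
  exact (F.mem_M _).2 ⟨hc _ F.z_mem_E, hc _ F.u_mem_E⟩

theorem exists_flip (r : S.Q) (hr : r ∉ center S.Q) : ∃ q : S.Q,
    ((q : S.C) : G) * ((r : S.C) : G) * ((q : S.C) : G)⁻¹ = ((r : S.C) : G) * S.z := by
  obtain ⟨p, hp⟩ : ∃ p : S.Q, p * r ≠ r * p := by
    by_contra hall
    push Not at hall
    exact hr (mem_center_iff.2 hall)
  have he : p * r = r * p * S.zQ := (S.es.comm_eq p r).resolve_left hp
  refine ⟨p, mul_inv_eq_iff_eq_mul.2 ?_⟩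
  have he' : p * r = r * S.zQ * p := by
    rw [he, mul_assoc r, S.es.mul_comm_z p, ← mul_assoc]
  exact congrArg (fun y : S.Q => ((y : S.C) : G)) he'

theorem z'_mem : F.g⁻¹ * S.z * F.g ∈ S.C := (S.mem_C _).2 (by
  have h : S.z * (F.g * S.z * F.g⁻¹) = (F.g * S.z * F.g⁻¹) * S.z := F.z_comm
  calc F.g⁻¹ * S.z * F.g * S.z = F.g⁻¹ * (S.z * (F.g * S.z * F.g⁻¹)) * F.g := by simp [mul_assoc]
    _ = F.g⁻¹ * ((F.g * S.z * F.g⁻¹) * S.z) * F.g := by rw [h]
    _ = S.z * (F.g⁻¹ * S.z * F.g) := by simp [mul_assoc])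

theorem z'_conj : IsConj S.z (F.g⁻¹ * S.z * F.g) := isConj_iff.2 ⟨F.g⁻¹, by rw [inv_inv]⟩

/-- The conjugate of `z` by the inverse element, in `Q`. -/
def zQ' : S.Q := ⟨⟨_, F.z'_mem⟩, S.mem_Q_of_conj (x := ⟨_, F.z'_mem⟩) F.z'_conj⟩

theorem zQ'_sq : F.zQ' ^ 2 = 1 :=
  Subtype.ext (Subtype.ext (JTwoOrder.sq_of_isConj S.ord F.z'_conj))

theorem zQ'_nc : F.zQ' ∉ center S.Q := fun h => by
  rcases (S.es.center_iff _).1 h with he | he
  · exact JTwoOrder.not_isConj_one S.ord F.z'_conj (congrArg (fun y : S.Q => ((y : S.C) : G)) he)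
  · have he' : F.g⁻¹ * S.z * F.g = S.z := congrArg (fun y : S.Q => ((y : S.C) : G)) he
    apply F.ne
    calc F.g * S.z * F.g⁻¹ = F.g * (F.g⁻¹ * S.z * F.g) * F.g⁻¹ := by rw [he']
      _ = S.z := by simp [mul_assoc]

/-- An element of the normaliser of `E` inducing a 3-cycle. -/
theorem exists_cycle : ∃ n : G, n * S.z * n⁻¹ = F.u * S.z ∧ n * F.u * n⁻¹ = S.z := by
  obtain ⟨a, ha⟩ := exists_flip F.uQ F.uQ_nc
  obtain ⟨q, hq⟩ := exists_flip F.zQ' F.zQ'_nc
  have hqz : ((q : S.C) : G) * S.z * ((q : S.C) : G)⁻¹ = S.z :=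
    mul_inv_eq_iff_eq_mul.2 ((S.mem_C _).1 (q : S.C).2)
  have haz : ((a : S.C) : G) * S.z * ((a : S.C) : G)⁻¹ = S.z :=
    mul_inv_eq_iff_eq_mul.2 ((S.mem_C _).1 (a : S.C).2)
  let b : G := F.g * ((q : S.C) : G) * F.g⁻¹
  have hbu : b * F.u * b⁻¹ = F.u := by
    calc b * F.u * b⁻¹ = F.g * (((q : S.C) : G) * S.z * ((q : S.C) : G)⁻¹) * F.g⁻¹ := by
          simp [b, mul_assoc]
      _ = F.u := by rw [hqz]
  have hbz : b * S.z * b⁻¹ = S.z * F.u := by
    calc b * S.z * b⁻¹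
        = F.g * (((q : S.C) : G) * (F.g⁻¹ * S.z * F.g) * ((q : S.C) : G)⁻¹) * F.g⁻¹ := by
          simp [b, mul_assoc]
      _ = F.g * (F.g⁻¹ * S.z * F.g * S.z) * F.g⁻¹ := by
          rw [show ((q : S.C) : G) * (F.g⁻¹ * S.z * F.g) * ((q : S.C) : G)⁻¹ =
            F.g⁻¹ * S.z * F.g * S.z from hq]
      _ = S.z * F.u := by simp [mul_assoc]
  refine ⟨b * ((a : S.C) : G), ?_, ?_⟩
  · calc _ = b * (((a : S.C) : G) * S.z * ((a : S.C) : G)⁻¹) * b⁻¹ := by simp [mul_assoc]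
      _ = F.u * S.z := by rw [haz, hbz, F.z_comm]
  · calc _ = b * (((a : S.C) : G) * F.u * ((a : S.C) : G)⁻¹) * b⁻¹ := by simp [mul_assoc]
      _ = S.z := by
        rw [show ((a : S.C) : G) * F.u * ((a : S.C) : G)⁻¹ = F.u * S.z from ha, conj_mul', hbu, hbz,
          F.z_comm, ← mul_assoc, F.u_sq, one_mul]

/-- A subgroup of order nine in the normaliser of `E`. -/
theorem exists_nine : ∃ P : Subgroup G, Nat.card P = 9 ∧ P ≤ normalizer (F.E : Set G) := by
  haveI : Fact (Nat.Prime 3) := ⟨Nat.prime_three⟩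
  obtain ⟨n, hnz, hnu⟩ := F.exists_cycle
  let N : Subgroup G := normalizer (F.E : Set G)
  have hnN : n ∈ N := F.mem_normalizer n (hnz ▸ mul_mem F.u_mem_E F.z_mem_E) (hnu ▸ F.z_mem_E)
  have hnM : n ∉ F.M := fun h => by
    have := hnu ▸ mul_inv_eq_iff_eq_mul.2 ((F.mem_M n).1 h).2
    exact F.uz_ne.2.2.2 this
  let M' := F.M.subgroupOf N
  have : M'.Normal := ⟨fun y hy x => F.conj_mem_M x.2 hy⟩
  have hM' : Nat.card M' = 192 :=
    (Nat.card_congr (subgroupOfEquivOfLe F.M_le_normalizer).toEquiv).trans F.card_M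
  have hn3 : (QuotientGroup.mk' M' ⟨n, hnN⟩) ^ 3 = 1 := by
    rw [← map_pow]
    refine (QuotientGroup.eq_one_iff _).2 ((F.mem_M _).2 ?_)
    have hnzu : n * (F.u * S.z) * n⁻¹ = F.u := by
      rw [conj_mul', hnz, hnu, ← mul_assoc, F.z_comm, mul_assoc, z_mul_z (S := S), mul_one]
    have h3 : ∀ x : G, n ^ 3 * x * (n ^ 3)⁻¹ = n * (n * (n * x * n⁻¹) * n⁻¹) * n⁻¹ := fun x => by
      simp [pow_succ, mul_assoc]
    exact ⟨mul_inv_eq_iff_eq_mul.1 ((h3 _).trans (by rw [hnz, hnzu, hnu])),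
      mul_inv_eq_iff_eq_mul.1 ((h3 _).trans (by rw [hnu, hnz, hnzu]))⟩
  have hn1 : QuotientGroup.mk' M' ⟨n, hnN⟩ ≠ 1 := fun h =>
    hnM ((QuotientGroup.eq_one_iff (N := M') _).1 h)
  have h3 : 3 ∣ M'.index := orderOf_eq_prime hn3 hn1 ▸ orderOf_dvd_natCard _
  obtain ⟨k, hk⟩ := h3
  have h9 : 3 ^ 2 ∣ Nat.card N := by
    rw [← Subgroup.card_mul_index M', hM', hk]
    exact ⟨64 * k, by ring⟩
  obtain ⟨P', hP'⟩ := Sylow.exists_subgroup_card_pow_prime (G := N) 3 (n := 2) h9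
  exact ⟨P'.map N.subtype, (Subgroup.card_map_of_injective N.subtype_injective).trans hP',
    map_subtype_le _⟩

theorem conj_E_cases {x : G} (hx : x ∈ normalizer (F.E : Set G)) {e : G} (he : e ∈ F.E)
    (he1 : e ≠ 1) : x * e * x⁻¹ = S.z ∨ x * e * x⁻¹ = F.u ∨ x * e * x⁻¹ = F.u * S.z :=
  (F.conj_mem_E hx he).resolve_left fun h => he1 (conj_eq_one_iff.1 h)

/-- An element of 3-power order fixing `z` and normalising `E` centralises `E`. -/
theorem mem_M_of_fix {x : G} (hx : x ∈ normalizer (F.E : Set G)) (h9 : x ^ 9 = 1)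
    (hxz : x * S.z * x⁻¹ = S.z) : x ∈ F.M := by
  rcases F.conj_E_cases hx F.u_mem_E F.u_ne_one with h | h | h
  · exact absurd (mul_left_cancel (mul_right_cancel (h.trans hxz.symm))).symm F.uz_ne.2.2.2
  · exact (F.mem_M x).2 ⟨mul_inv_eq_iff_eq_mul.1 hxz, mul_inv_eq_iff_eq_mul.1 h⟩
  · exfalso
    have h2 : x ^ 2 * F.u * (x ^ 2)⁻¹ = F.u := by
      calc x ^ 2 * F.u * (x ^ 2)⁻¹ = x * (x * F.u * x⁻¹) * x⁻¹ := by simp [sq, mul_assoc]
        _ = x * F.u * x⁻¹ * (x * S.z * x⁻¹) := by rw [h, conj_mul', h]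
        _ = F.u := by rw [h, hxz, mul_assoc, z_mul_z (S := S), mul_one]
    have hcomm : Commute (x ^ 2) F.u := mul_inv_eq_iff_eq_mul.1 h2
    have hx' : x = (x ^ 2) ^ 5 := by
      rw [← pow_mul, show 2 * 5 = 9 + 1 from rfl, pow_succ, h9, one_mul]
    have hxu' : Commute x F.u := hx' ▸ hcomm.pow_left 5
    rw [mul_inv_eq_iff_eq_mul.2 hxu'.eq] at h
    exact S.z_ne_one (mul_eq_left.1 h.symm)

/-- An element of 3-power order moving `z` permutes `z, u, uz` cyclically. -/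
theorem cycle_of_move {x : G} (hx : x ∈ normalizer (F.E : Set G)) (h9 : x ^ 9 = 1)
    (hxz : x * S.z * x⁻¹ ≠ S.z) :
    (x * S.z * x⁻¹ = F.u ∧ x * F.u * x⁻¹ = F.u * S.z) ∨
      (x * S.z * x⁻¹ = F.u * S.z ∧ x * F.u * x⁻¹ = S.z) := by
  have key : ∀ y : G, y ∈ F.E → y ≠ 1 → x * (x * y * x⁻¹) * x⁻¹ = y → x * y * x⁻¹ = y := by
    intro y _ _ h
    have h2 : Commute (x ^ 2) y := mul_inv_eq_iff_eq_mul.1 (by
      rw [sq]; simpa [mul_assoc] using h)
    have hx' : x = (x ^ 2) ^ 5 := by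
      rw [← pow_mul, show 2 * 5 = 9 + 1 from rfl, pow_succ, h9, one_mul]
    exact mul_inv_eq_iff_eq_mul.2 (hx' ▸ h2.pow_left 5 : Commute x y).eq
  have hinj : ∀ a b : G, x * a * x⁻¹ = x * b * x⁻¹ → a = b := fun a b h =>
    mul_left_cancel (mul_right_cancel h)
  have hzu := F.uz_ne
  rcases F.conj_E_cases hx F.z_mem_E S.z_ne_one with h | h | h
  · exact absurd h hxz
  · rcases F.conj_E_cases hx F.u_mem_E F.u_ne_one with h' | h' | h'
    · exact absurd (key S.z F.z_mem_E S.z_ne_one (by rw [h, h'])) hxz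
    · exact absurd (hinj _ _ (h.trans h'.symm)) hzu.2.2.2
    · exact Or.inl ⟨h, h'⟩
  · rcases F.conj_E_cases hx F.u_mem_E F.u_ne_one with h' | h' | h'
    · exact Or.inr ⟨h, h'⟩
    · exfalso
      exact hxz (key S.z F.z_mem_E S.z_ne_one (by
        rw [h, conj_mul', h', h, ← mul_assoc, F.u_sq, one_mul]))
    · exact absurd (hinj _ _ (h.trans h'.symm)) hzu.2.2.2

/-- The abelian 3-group gives `c` centralising `E`, and an element fixing an outer involution of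
`M`. -/
theorem exists_pair (P : Subgroup G) (hP : Nat.card P = 9)
    (hPN : P ≤ normalizer (F.E : Set G)) :
    (∃ c ∈ P, c ∈ F.M ∧ c ≠ 1) ∧ ∃ (t : S.C) (x : G), t ^ 2 = 1 ∧ t ∉ S.Q ∧
      (t : G) * F.u = F.u * (t : G) ∧ x ∈ P ∧ x ≠ 1 ∧ x * (t : G) = (t : G) * x := by
  classical
  have hP9 : ∀ x ∈ P, x ^ 9 = 1 := fun x hx =>
    congrArg Subtype.val (show (⟨x, hx⟩ : P) ^ 9 = 1 by rw [← hP]; exact pow_card_eq_one')
  refine ⟨?_, ?_⟩
  · by_contra hall
    push Not at hall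
    let f : P → ({S.z, F.u, F.u * S.z} : Set G) := fun x => ⟨x.1 * S.z * x.1⁻¹, by
      rcases F.conj_E_cases (hPN x.2) F.z_mem_E S.z_ne_one with h | h | h <;> simp [h]⟩
    have hf : Function.Injective f := by
      intro x y h
      have h' : x.1 * S.z * x.1⁻¹ = y.1 * S.z * y.1⁻¹ := congrArg Subtype.val h
      have hm : y.1⁻¹ * x.1 ∈ P := mul_mem (inv_mem y.2) x.2
      refine Subtype.ext (inv_mul_eq_one.1 ?_).symm
      refine hall _ hm (F.mem_M_of_fix (hPN hm) (hP9 _ hm) ?_)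
      calc y.1⁻¹ * x.1 * S.z * (y.1⁻¹ * x.1)⁻¹ = y.1⁻¹ * (x.1 * S.z * x.1⁻¹) * y.1 := by
            simp [mul_assoc]
        _ = S.z := by rw [h']; simp [mul_assoc]
    have hle := Nat.card_le_card_of_injective f hf
    rw [hP, Nat.card_coe_set_eq] at hle
    have h3 : ({S.z, F.u, F.u * S.z} : Set G).ncard ≤ 3 := by
      refine (Set.ncard_insert_le _ _).trans ?_
      have := Set.ncard_insert_le F.u ({F.u * S.z} : Set G)
      rw [Set.ncard_singleton] at this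
      omega
    omega
  · let X := {v : S.C // (v ^ 2 = 1 ∧ v ∉ S.Q) ∧ S.cn v F.uQ = F.uQ}
    have hXM : ∀ v : X, (v.1 : G) ∈ F.M := by
      rintro ⟨v, ⟨hv, hvQ⟩, hfixd⟩
      have h1 : v * (F.uQ : S.C) * v⁻¹ = (F.uQ : S.C) :=
        (S.cn_apply v F.uQ).symm.trans (congrArg Subtype.val hfixd)
      exact (F.mem_M _).2
        ⟨(S.mem_C _).1 v.2, congrArg Subtype.val (mul_inv_eq_iff_eq_mul.1 h1)⟩
    have hXconj : ∀ x ∈ P, ∀ v : X, ∃ y : X, (y.1 : G) = x * (v.1 : G) * x⁻¹ := by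
      intro x hx v
      obtain ⟨v, ⟨hv, hvQ⟩, hfixd⟩ := v
      have hm := F.conj_mem_M (hPN hx) (hXM ⟨v, ⟨hv, hvQ⟩, hfixd⟩)
      have hv2 : (x * (v : G) * x⁻¹) ^ 2 = 1 := by
        rw [conj_pow, show (v : G) ^ 2 = 1 from congrArg Subtype.val hv, mul_one, mul_inv_cancel]
      refine ⟨⟨⟨_, hm.1⟩, ⟨Subtype.ext hv2, fun hQ' => ?_⟩, Subtype.ext ?_⟩, rfl⟩
      · have hne1 : (⟨⟨_, hm.1⟩, hQ'⟩ : S.Q) ≠ 1 := fun h => by
          have h' : x * (v : G) * x⁻¹ = 1 := congrArg (fun y : S.Q => ((y : S.C) : G)) h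
          exact hvQ (by rw [show v = 1 from Subtype.ext (conj_eq_one_iff.1 h')]; exact one_mem _)
        exact S.outer_not_conj hv hvQ
          ((S.conj_Q _ (Subtype.ext (Subtype.ext hv2)) hne1).trans (isConj_iff.2 ⟨x, rfl⟩).symm)
      · rw [S.cn_apply]
        exact Subtype.ext (mul_inv_eq_iff_eq_mul.2 ((F.mem_M _).1 hm).2)
    by_contra hall
    push Not at hall
    choose act hact using hXconj
    let _i : MulAction P X :=
      { smul := fun x v => act x.1 x.2 v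
        one_smul := fun v => Subtype.ext (Subtype.ext (by
          show ((act _ _ v).1 : G) = (v.1 : G)
          rw [hact]; simp))
        mul_smul := fun x y v => Subtype.ext (Subtype.ext (by
          show ((act _ _ v).1 : G) = ((act _ _ (act _ _ v)).1 : G)
          rw [hact, hact, hact]; simp [mul_assoc])) }
    have hfree : ∀ v : X, MulAction.stabilizer P v = ⊥ := by
      intro v
      rw [eq_bot_iff]
      intro x hx
      have h1 : x.1 * (v.1 : G) * x.1⁻¹ = (v.1 : G) :=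
        (hact x.1 x.2 v).symm.trans (congrArg (fun y : X => ((y.1 : S.C) : G)) hx)
      refine mem_bot.2 (Subtype.ext ?_)
      by_contra hx1
      exact hall v.1 x.1 v.2.1.1 v.2.1.2 ((F.mem_M _).1 (hXM v)).2 x.2 hx1
        (mul_inv_eq_iff_eq_mul.1 h1)
    have e := Nat.card_congr (MulAction.selfEquivSigmaOrbitsQuotientStabilizer P X)
    have : Fintype (MulAction.orbitRel.Quotient P X) := Fintype.ofFinite _
    rw [Nat.card_sigma, Finset.sum_congr rfl fun ω _ => (show Nat.card (P ⧸ MulAction.stabilizer P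
      ω.out) = 9 by rw [hfree]; exact (Subgroup.index_bot (G := P)).trans hP), Finset.sum_const,
      Finset.card_univ, smul_eq_mul] at e
    have h24 : Nat.card X = 24 := S.card_outer_fixing F.uQ_sq F.uQ_nc
    omega

end Four

end CfsgLib.Small.JTwoType
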