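import Mathlib
import Cfsg.Agent.Lib.Small.JankoTwoFour
import Cfsg.Agent.Lib.Base.Transport

/-!
# The frame `(u, t, w, c)` of a group of Hall–Janko type

`D = C(z) ∩ C(t)` centralises `u`, is abelian modulo `E`, and is normalised by the commuting
elements `w` (three-cycle on `E`, centralising `t`) and `c` (centralising `E`).
-/

set_option autoImplicit false
set_option linter.unusedSectionVars false

namespace CfsgLib.Small.JTwoType

open Subgroup
open scoped commutatorElement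

namespace Four

variable {G : Type*} [Group G] [Finite G] {S : Setup G} (F : Four S)

/-- `Q` as a subgroup of `G`. -/
def QG (S : Setup G) : Subgroup G := S.Q.map S.C.subtype

/-- `C_Q(u)`, in `M`. -/
def A : Subgroup F.M := (QG S).comap F.M.subtype

/-- `C_{Q^g}(z)`, in `M`. -/
def A' : Subgroup F.M := (QG S).comap ((MulAut.conj F.g⁻¹).toMonoidHom.comp F.M.subtype)

/-- `E`, in `M`. -/
def EM : Subgroup F.M := F.E.comap F.M.subtype

theorem mem_QG {x : G} : x ∈ QG S ↔ ∃ h : x ∈ S.C, (⟨x, h⟩ : S.C) ∈ S.Q :=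
  ⟨fun ⟨y, hy, he⟩ => he ▸ ⟨y.2, hy⟩, fun ⟨h, hQ⟩ => ⟨⟨x, h⟩, hQ, rfl⟩⟩

theorem QG_sq {x : G} (hx : x ∈ QG S) : x * x = 1 ∨ x * x = S.z := by
  obtain ⟨h, hQ⟩ := mem_QG.1 hx
  rcases S.es.sq_eq ⟨⟨x, h⟩, hQ⟩ with he | he
  · left; rw [← sq]; exact congrArg (fun y : S.Q => ((y : S.C) : G)) he
  · right; rw [← sq]; exact congrArg (fun y : S.Q => ((y : S.C) : G)) he

theorem QG_comm {x y : G} (hx : x ∈ QG S) (hy : y ∈ QG S) : ⁅x, y⁆ = 1 ∨ ⁅x, y⁆ = S.z := by
  obtain ⟨h, hQ⟩ := mem_QG.1 hx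
  obtain ⟨h', hQ'⟩ := mem_QG.1 hy
  have := S.es.comm_eq ⟨⟨x, h⟩, hQ⟩ ⟨⟨y, h'⟩, hQ'⟩
  rcases this with he | he
  · left
    rw [commutatorElement_eq_one_iff_mul_comm]
    exact congrArg (fun y : S.Q => ((y : S.C) : G)) he
  · right
    have he' : x * y = y * x * S.z := congrArg (fun y : S.Q => ((y : S.C) : G)) he
    rw [commutatorElement_def, he', (show y * x * S.z = S.z * (y * x) from
      (S.mem_C (y * x)).1 (mul_mem h' h))]
    simp [mul_assoc]

theorem QG_conj {x c : G} (hx : x ∈ QG S) (hc : c ∈ S.C) : c * x * c⁻¹ ∈ QG S := by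
  obtain ⟨h, hQ⟩ := mem_QG.1 hx
  exact ⟨_, S.normal.conj_mem _ hQ ⟨c, hc⟩, rfl⟩

theorem E_le_QG : F.E ≤ QG S := by
  have hz : S.z ∈ QG S := ⟨S.zC, S.zC_mem, rfl⟩
  have hu : F.u ∈ QG S := mem_QG.2 ⟨F.mem_C, F.mem_Q⟩
  rintro x (rfl | rfl | rfl | rfl)
  exacts [one_mem _, hz, hu, mul_mem hu hz]

theorem mem_A' (x : F.M) : x ∈ F.A' ↔ F.g⁻¹ * (x : G) * F.g ∈ QG S := by
  show F.g⁻¹ * (x : G) * F.g⁻¹⁻¹ ∈ QG S ↔ _
  rw [inv_inv]

theorem mem_E_of_QG {x : G} (hx : x ∈ QG S) (hxM : x ∈ F.M) (h2 : x * x = 1) : x ∈ F.E := by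
  obtain ⟨h, hQ⟩ := mem_QG.1 hx
  have := S.pair F.uQ_sq F.uQ_nc (x := ⟨⟨x, h⟩, hQ⟩) (Subtype.ext (Subtype.ext ((sq x).trans h2)))
    (Subtype.ext (Subtype.ext ((F.mem_M x).1 hxM).2))
  rcases this with he | he | he | he <;>
    have he' := congrArg (fun y : S.Q => ((y : S.C) : G)) he
  · exact Or.inl he'
  · exact Or.inr (Or.inl he')
  · exact Or.inr (Or.inr (Or.inl he'))
  · exact Or.inr (Or.inr (Or.inr he'))

theorem EM_le : F.EM ≤ F.A ⊓ F.A' := by
  intro x hx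
  refine ⟨F.E_le_QG hx, (F.mem_A' x).2 ?_⟩
  have hz : F.g⁻¹ * S.z * F.g ∈ QG S := mem_QG.2 ⟨F.z'_mem, F.zQ'.2⟩
  have hu : F.g⁻¹ * F.u * F.g ∈ QG S := by
    rw [show F.g⁻¹ * F.u * F.g = S.z by simp [mul_assoc]]
    exact ⟨S.zC, S.zC_mem, rfl⟩
  rcases F.mem_E.1 hx with he | he | he | he <;> rw [show (x : G) = _ from he]
  · simp
  · exact hz
  · exact hu
  · rw [show F.g⁻¹ * (F.u * S.z) * F.g = F.g⁻¹ * F.u * F.g * (F.g⁻¹ * S.z * F.g) by simp [mul_assoc]]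
    exact mul_mem hu hz

theorem inf_le_EM : F.A ⊓ F.A' ≤ F.EM := by
  rintro x ⟨hx, hx'⟩
  refine F.mem_E_of_QG hx x.2 ?_
  rcases QG_sq hx with h | h
  · exact h
  · exfalso
    have h2 := QG_sq ((F.mem_A' x).1 hx')
    have e : F.g⁻¹ * (x : G) * F.g * (F.g⁻¹ * (x : G) * F.g) = F.g⁻¹ * S.z * F.g := by
      rw [← h]; simp [mul_assoc]
    rw [e] at h2
    rcases h2 with h2 | h2
    · exact JTwoOrder.not_isConj_one S.ord F.z'_conj h2
    · apply F.ne
      calc F.g * S.z * F.g⁻¹ = F.g * (F.g⁻¹ * S.z * F.g) * F.g⁻¹ := by rw [h2]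
        _ = S.z := by simp [mul_assoc]

theorem card_EM : Nat.card F.EM = 4 := by
  have h : Nat.card F.EM = (F.E : Set G).ncard := by
    rw [← Nat.card_coe_set_eq]
    exact Nat.card_congr (subgroupOfEquivOfLe F.E_le_M).toEquiv
  have hset : (F.E : Set G) = {1, S.z, F.u, F.u * S.z} := by
    ext x
    show x = 1 ∨ x = S.z ∨ x = F.u ∨ x = F.u * S.z ↔ _
    simp
  obtain ⟨h1, h2, h3, h4⟩ := F.uz_ne
  rw [h, hset, Set.ncard_insert_of_notMem (by simp [S.z_ne_one.symm, F.u_ne_one.symm, h1.symm]),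
    Set.ncard_insert_of_notMem (by simp [h4, h2.symm]), Set.ncard_pair h3.symm]

theorem card_A : Nat.card F.A = 16 := by
  rw [← S.card_Q_centralizer F.uQ_nc]
  exact (Nat.card_congr (Equiv.ofBijective (fun q : centralizer ({F.uQ} : Set S.Q) =>
    (⟨⟨((q.1 : S.C) : G), (F.mem_M _).2 ⟨(S.mem_C _).1 (q.1 : S.C).2,
      congrArg (fun y : S.Q => ((y : S.C) : G)) (mem_centralizer_singleton_iff.1 q.2)⟩⟩,
      ⟨(q.1 : S.C), q.1.2, rfl⟩⟩ : F.A))
    ⟨fun a b h => Subtype.ext (Subtype.ext (Subtype.ext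
      (congrArg (fun y : F.A => ((y : F.M) : G)) h :))),
    fun ⟨⟨x, hxM⟩, hxQ⟩ => by
      obtain ⟨h, hQ⟩ := mem_QG.1 hxQ
      exact ⟨⟨⟨⟨x, h⟩, hQ⟩, mem_centralizer_singleton_iff.2
        (Subtype.ext (Subtype.ext ((F.mem_M x).1 hxM).2))⟩, rfl⟩⟩)).symm

theorem card_A' : Nat.card F.A' = 16 := by
  rw [← S.card_Q_centralizer F.zQ'_nc]
  have hmem : ∀ q : centralizer ({F.zQ'} : Set S.Q), F.g * ((q.1 : S.C) : G) * F.g⁻¹ ∈ F.M := by
    intro q
    have h1 : ((q.1 : S.C) : G) * S.z = S.z * ((q.1 : S.C) : G) := (S.mem_C _).1 (q.1 : S.C).2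
    have h2 : ((q.1 : S.C) : G) * (F.g⁻¹ * S.z * F.g) = F.g⁻¹ * S.z * F.g * ((q.1 : S.C) : G) :=
      congrArg (fun y : S.Q => ((y : S.C) : G)) (mem_centralizer_singleton_iff.1 q.2)
    refine (F.mem_M _).2 ⟨?_, ?_⟩
    · calc F.g * ((q.1 : S.C) : G) * F.g⁻¹ * S.z
          = F.g * (((q.1 : S.C) : G) * (F.g⁻¹ * S.z * F.g)) * F.g⁻¹ := by simp [mul_assoc]
        _ = _ := by rw [h2]; simp [mul_assoc]
    · calc F.g * ((q.1 : S.C) : G) * F.g⁻¹ * F.u
          = F.g * (((q.1 : S.C) : G) * S.z) * F.g⁻¹ := by simp [mul_assoc]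
        _ = _ := by rw [h1]; simp [mul_assoc]
  exact (Nat.card_congr (Equiv.ofBijective (fun q : centralizer ({F.zQ'} : Set S.Q) =>
    (⟨⟨_, hmem q⟩, (F.mem_A' _).2 (by
      rw [show F.g⁻¹ * (F.g * ((q.1 : S.C) : G) * F.g⁻¹) * F.g = ((q.1 : S.C) : G) by
        simp [mul_assoc]]
      exact ⟨(q.1 : S.C), q.1.2, rfl⟩)⟩ : F.A'))
    ⟨fun a b h => Subtype.ext (Subtype.ext (Subtype.ext (mul_left_cancel (mul_right_cancel
      (congrArg (fun y : F.A' => ((y : F.M) : G)) h :))))),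
    fun ⟨⟨x, hxM⟩, hxQ⟩ => by
      obtain ⟨h, hQ⟩ := mem_QG.1 ((F.mem_A' _).1 hxQ)
      refine ⟨⟨⟨⟨_, h⟩, hQ⟩, mem_centralizer_singleton_iff.2 (Subtype.ext (Subtype.ext ?_))⟩,
        Subtype.ext (Subtype.ext ?_)⟩
      · show F.g⁻¹ * x * F.g * (F.g⁻¹ * S.z * F.g) = F.g⁻¹ * S.z * F.g * (F.g⁻¹ * x * F.g)
        calc F.g⁻¹ * x * F.g * (F.g⁻¹ * S.z * F.g) = F.g⁻¹ * (x * S.z) * F.g := by simp [mul_assoc]
          _ = _ := by rw [((F.mem_M x).1 hxM).1]; simp [mul_assoc]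
      · show F.g * (F.g⁻¹ * x * F.g) * F.g⁻¹ = x
        simp [mul_assoc]⟩)).symm

instance A_normal : F.A.Normal :=
  ⟨fun a ha m => QG_conj ha m.2.1⟩

instance A'_normal : F.A'.Normal := by
  refine ⟨fun a ha m => (F.mem_A' _).2 ?_⟩
  have hm : F.g⁻¹ * (m : G) * F.g ∈ S.C := (S.mem_C _).2 (by
    calc F.g⁻¹ * (m : G) * F.g * S.z = F.g⁻¹ * ((m : G) * F.u) * F.g := by simp [mul_assoc]
      _ = _ := by rw [((F.mem_M _).1 m.2).2]; simp [mul_assoc])
  have := QG_conj ((F.mem_A' a).1 ha) hm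
  show F.g⁻¹ * ((m : G) * (a : G) * (m : G)⁻¹) * F.g ∈ QG S
  convert this using 1
  simp [mul_assoc]

instance EM_normal : F.EM.Normal := ⟨fun e he m => by
  show (m : G) * (e : G) * (m : G)⁻¹ ∈ F.E
  rw [F.comm_E (e := (e : G)) m.2 he, mul_inv_cancel_right]
  exact he⟩

/-- The normal 2-subgroup of order 64 of `M`. -/
abbrev P2 : Subgroup F.M := F.A ⊔ F.A'

theorem card_P2 : Nat.card F.P2 = 64 := by
  have h := CfsgLib.Base.card_sup_mul_card_inf F.A F.A'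
  rw [le_antisymm F.inf_le_EM F.EM_le, F.card_EM, F.card_A, F.card_A'] at h
  show Nat.card ↥(F.A ⊔ F.A') = 64
  omega

theorem comm_mem_EM {x y : F.M} (hx : x ∈ F.P2) (hy : y ∈ F.P2) : ⁅x, y⁆ ∈ F.EM := by
  let π := QuotientGroup.mk' F.EM
  have hAA : ∀ a ∈ F.A, ∀ b ∈ F.A, π a * π b = π b * π a := by
    intro a ha b hb
    rw [← commutatorElement_eq_one_iff_mul_comm, ← map_commutatorElement]
    refine (QuotientGroup.eq_one_iff _).2 ?_
    show ⁅(a : G), (b : G)⁆ ∈ F.E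
    rcases QG_comm (x := (a : G)) (y := (b : G)) ha hb with h | h <;> rw [h]
    exacts [one_mem _, F.z_mem_E]
  have hBB : ∀ a ∈ F.A', ∀ b ∈ F.A', π a * π b = π b * π a := by
    intro a ha b hb
    rw [← commutatorElement_eq_one_iff_mul_comm, ← map_commutatorElement]
    refine (QuotientGroup.eq_one_iff _).2 ?_
    show ⁅(a : G), (b : G)⁆ ∈ F.E
    have h := QG_comm ((F.mem_A' a).1 ha) ((F.mem_A' b).1 hb)
    rw [show ⁅F.g⁻¹ * (a : G) * F.g, F.g⁻¹ * (b : G) * F.g⁆ = F.g⁻¹ * ⁅(a : G), (b : G)⁆ * F.g by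
      simp [commutatorElement_def, mul_assoc]] at h
    rcases h with h | h
    · rw [show ⁅(a : G), (b : G)⁆ = F.g * (F.g⁻¹ * ⁅(a : G), (b : G)⁆ * F.g) * F.g⁻¹ by
        simp [mul_assoc], h]
      simp
    · rw [show ⁅(a : G), (b : G)⁆ = F.g * (F.g⁻¹ * ⁅(a : G), (b : G)⁆ * F.g) * F.g⁻¹ by
        simp [mul_assoc], h]
      exact F.u_mem_E
  have hAB : ∀ a ∈ F.A, ∀ b ∈ F.A', π a * π b = π b * π a := by
    intro a ha b hb
    rw [← commutatorElement_eq_one_iff_mul_comm, ← map_commutatorElement]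
    refine (QuotientGroup.eq_one_iff _).2 (F.inf_le_EM (Subgroup.mem_inf.2 ⟨?_, ?_⟩))
    · rw [commutatorElement_def, mul_assoc, mul_assoc]
      exact mul_mem ha (by rw [← mul_assoc]; exact F.A_normal.conj_mem _ (inv_mem ha) b)
    · rw [commutatorElement_def]
      exact mul_mem (F.A'_normal.conj_mem _ hb a) (inv_mem hb)
  have hK : F.P2.map π ≤ centralizer (F.P2.map π : Set (F.M ⧸ F.EM)) := by
    rw [Subgroup.map_sup]
    refine sup_le ?_ ?_ <;>
      · rw [le_centralizer_iff]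
        refine sup_le ?_ ?_ <;>
          · rintro _ ⟨a, ha, rfl⟩ _ ⟨b, hb, rfl⟩
            first
              | exact hAA b hb a ha
              | exact hBB b hb a ha
              | exact hAB b hb a ha
              | exact (hAB a ha b hb).symm
  have h := hK (mem_map_of_mem π hy) (π x) (mem_map_of_mem π hx)
  rw [← commutatorElement_eq_one_iff_mul_comm, ← map_commutatorElement] at h
  exact (QuotientGroup.eq_one_iff _).1 h

theorem invol_mem_P2 {v : F.M} (hv : v * v = 1) : v ∈ F.P2 := by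
  by_contra hnot
  have : F.P2.Normal := Subgroup.sup_normal _ _
  have hinf : zpowers v ⊓ F.P2 = ⊥ := by
    rw [eq_bot_iff]
    rintro x ⟨hx, hxP⟩
    obtain ⟨k, rfl⟩ := hx
    rcases Int.even_or_odd k with ⟨m, rfl⟩ | ⟨m, rfl⟩
    · refine mem_bot.2 ?_
      show v ^ (m + m) = 1
      rw [← two_mul, zpow_mul, show v ^ (2 : ℤ) = 1 from (zpow_natCast v 2).trans ((sq v).trans hv),
        one_zpow]
    · exfalso
      apply hnot
      have e : v ^ (2 * m + 1) = v := by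
        rw [zpow_add, zpow_mul, show v ^ (2 : ℤ) = 1 from (zpow_natCast v 2).trans ((sq v).trans hv),
          one_zpow, one_mul, zpow_one]
      have hxP' : v ^ (2 * m + 1) ∈ F.P2 := hxP
      rwa [e] at hxP'
  have h := CfsgLib.Base.card_sup_of_disjoint _ F.P2 hinf
  have hv1 : v ≠ 1 := fun he => hnot (he ▸ one_mem _)
  rw [Nat.card_zpowers, orderOf_eq_prime ((sq v).trans hv) hv1, F.card_P2] at h
  have hd := Subgroup.card_subgroup_dvd_card (zpowers v ⊔ F.P2)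
  rw [h, F.card_M] at hd
  norm_num at hd

theorem centralizer_le_P2 {t : S.C} (ht : t ^ 2 = 1) (htQ : t ∉ S.Q) (htM : (t : G) ∈ F.M) :
    ∀ x ∈ S.C ⊓ centralizer ({(t : G)} : Set G), ∃ h : x ∈ F.M, (⟨x, h⟩ : F.M) ∈ F.P2 := by
  classical
  let tM : F.M := ⟨t, htM⟩
  have htP : tM ∈ F.P2 :=
    F.invol_mem_P2 (Subtype.ext ((sq _).symm.trans (congrArg Subtype.val ht)))
  let R : Subgroup F.P2 := centralizer ({⟨tM, htP⟩} : Set F.P2)
  let f : F.P2 ⧸ R → F.EM := Quotient.lift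
    (fun p : F.P2 => ⟨⁅(p : F.M), tM⁆, F.comm_mem_EM p.2 htP⟩) fun a b h => by
      have h' : a⁻¹ * b * ⟨tM, htP⟩ = ⟨tM, htP⟩ * (a⁻¹ * b) :=
        mem_centralizer_singleton_iff.1 (QuotientGroup.leftRel_apply.1 h)
      have h'' : (a : F.M)⁻¹ * b * tM = tM * ((a : F.M)⁻¹ * b) := congrArg Subtype.val h'
      refine Subtype.ext ?_
      show (a : F.M) * tM * (a : F.M)⁻¹ * tM⁻¹ = (b : F.M) * tM * (b : F.M)⁻¹ * tM⁻¹
      congr 1
      calc (a : F.M) * tM * (a : F.M)⁻¹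
          = (a : F.M) * (tM * ((a : F.M)⁻¹ * b)) * (b : F.M)⁻¹ := by simp [mul_assoc]
        _ = _ := by rw [← h'']; simp [mul_assoc]
  have hf : Function.Injective f := by
    rintro ⟨a⟩ ⟨b⟩ h
    have h' : (a : F.M) * tM * (a : F.M)⁻¹ = (b : F.M) * tM * (b : F.M)⁻¹ :=
      mul_right_cancel (congrArg Subtype.val h : (a : F.M) * tM * (a : F.M)⁻¹ * tM⁻¹ = _)
    refine Quotient.sound (QuotientGroup.leftRel_apply.2 (mem_centralizer_singleton_iff.2
      (Subtype.ext ?_)))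
    show (a : F.M)⁻¹ * b * tM = tM * ((a : F.M)⁻¹ * b)
    calc (a : F.M)⁻¹ * b * tM = (a : F.M)⁻¹ * ((b : F.M) * tM * (b : F.M)⁻¹) * b := by
          simp [mul_assoc]
      _ = _ := by rw [← h']; simp [mul_assoc]
  have hidx : R.index ≤ 4 := F.card_EM ▸ Nat.card_le_card_of_injective f hf
  have hR : 16 ≤ Nat.card R := by
    have e := Subgroup.index_mul_card R
    rw [F.card_P2] at e
    by_contra hlt
    have := Nat.mul_le_mul hidx (show Nat.card R ≤ 15 by omega)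
    omega
  let j : R → ↥(S.C ⊓ centralizer ({(t : G)} : Set G)) := fun r =>
    ⟨((r.1 : F.M) : G), (r.1 : F.M).2.1, mem_centralizer_singleton_iff.2
      (congrArg (fun y : F.P2 => ((y : F.M) : G)) (mem_centralizer_singleton_iff.1 r.2))⟩
  have hj : Function.Injective j := fun a b h =>
    Subtype.ext (Subtype.ext (Subtype.ext (congrArg Subtype.val h :)))
  have hC16 := S.card_centralizer_outer_G ht htQ
  have hjb : Function.Bijective j := (Nat.bijective_iff_injective_and_card j).2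
    ⟨hj, le_antisymm (Nat.card_le_card_of_injective j hj) (by rw [hC16]; exact hR)⟩
  intro x hx
  obtain ⟨r, hr⟩ := hjb.2 ⟨x, hx⟩
  have hrx : ((r.1 : F.M) : G) = x := congrArg Subtype.val hr
  subst hrx
  exact ⟨(r.1 : F.M).2, r.1.2⟩

theorem D_inf_QG {t : S.C} (ht : t ^ 2 = 1) (htQ : t ∉ S.Q) (htM : (t : G) ∈ F.M) {x : G}
    (hx : x ∈ S.C ⊓ centralizer ({(t : G)} : Set G)) (hQ : x ∈ QG S) : x ∈ F.E := by
  obtain ⟨h, hQ'⟩ := mem_QG.1 hQ
  have hfixed : S.cn t ⟨⟨x, h⟩, hQ'⟩ = ⟨⟨x, h⟩, hQ'⟩ := Subtype.ext (by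
    rw [S.cn_apply]
    exact Subtype.ext (mul_inv_eq_iff_eq_mul.2
      (mem_centralizer_singleton_iff.1 hx.2).symm))
  have h2 := S.fixed_sq ht htQ hfixed
  exact F.mem_E_of_QG hQ (F.centralizer_le_P2 ht htQ htM x hx).1
    ((sq x).symm.trans (congrArg (fun y : S.Q => ((y : S.C) : G)) h2))

end Four

/-- The configuration around `⟨z, u⟩`. -/
structure Frame {G : Type*} [Group G] [Finite G] (S : Setup G) where
  /-- the four group -/
  four : Four S
  /-- an involution outside `Q` -/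
  t : centralizer ({S.z} : Set G)
  t_sq : t ^ 2 = 1
  t_not : t ∉ S.Q
  t_u : (t : G) * (four.g * S.z * four.g⁻¹) = four.g * S.z * four.g⁻¹ * (t : G)
  /-- permutes `z, u, uz` -/
  w : G
  w_cube : w ^ 3 = 1
  w_z : w * S.z * w⁻¹ = four.g * S.z * four.g⁻¹
  w_u : w * (four.g * S.z * four.g⁻¹) * w⁻¹ = four.g * S.z * four.g⁻¹ * S.z
  w_uz : w * (four.g * S.z * four.g⁻¹ * S.z) * w⁻¹ = S.z
  w_t : w * (t : G) = (t : G) * w
  w_D : ∀ x ∈ centralizer ({S.z} : Set G) ⊓ centralizer ({(t : G)} : Set G), ⁅w, x⁆ ∈ four.E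
  /-- centralises `z, u` -/
  c : G
  c_cube : c ^ 3 = 1
  c_ne : c ≠ 1
  c_z : c * S.z = S.z * c
  c_u : c * (four.g * S.z * four.g⁻¹) = four.g * S.z * four.g⁻¹ * c
  c_w : c * w = w * c
  c_D : ∀ x ∈ centralizer ({S.z} : Set G) ⊓ centralizer ({(t : G)} : Set G),
    c * x * c⁻¹ ∈ centralizer ({S.z} : Set G) ⊓ centralizer ({(t : G)} : Set G)

theorem Setup.exists_frame {G : Type*} [Group G] [Finite G] (S : Setup G) :
    Nonempty (Frame S) := by
  classical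
  obtain ⟨g₀, ⟨hC, hQ⟩, hne⟩ := S.weak
  let F : Four S := ⟨g₀, hC, hQ, hne⟩
  obtain ⟨P, hP, hPN⟩ := F.exists_nine
  obtain ⟨⟨c, hcP, hcM, hc1⟩, t, x, ht, htQ, htu, hxP, hx1, hxt⟩ := F.exists_pair P hP hPN
  haveI : Fact (Nat.Prime 3) := ⟨Nat.prime_three⟩
  have htM : (t : G) ∈ F.M := (F.mem_M _).2 ⟨(S.mem_C _).1 t.2, htu⟩
  have hP9 : ∀ y ∈ P, y ^ 9 = 1 := fun y hy =>
    congrArg Subtype.val (show (⟨y, hy⟩ : P) ^ 9 = 1 by rw [← hP]; exact pow_card_eq_one')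
  have hPcomm : ∀ a ∈ P, ∀ b ∈ P, a * b = b * a := fun a ha b hb => congrArg Subtype.val
    (IsPGroup.commutative_of_card_eq_prime_sq (p := 3) hP ⟨a, ha⟩ ⟨b, hb⟩)
  have hD16 := S.card_centralizer_outer_G ht htQ
  have hDtriv : ∀ y ∈ P, y ∈ S.C → y * (t : G) = (t : G) * y → y = 1 := by
    intro y hy hyC hyt
    have hyD : y ∈ S.C ⊓ centralizer ({(t : G)} : Set G) :=
      ⟨hyC, mem_centralizer_singleton_iff.2 hyt⟩
    have h1 : orderOf y ∣ 16 := hD16 ▸ Subgroup.orderOf_dvd_natCard _ hyD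
    have h2 : orderOf y ∣ 9 := orderOf_dvd_of_pow_eq_one (hP9 y hy)
    exact orderOf_eq_one_iff.1 (Nat.dvd_one.1 (Nat.dvd_gcd h1 h2))
  have hmove : x * S.z * x⁻¹ ≠ S.z := fun h =>
    hx1 (hDtriv x hxP ((S.mem_C x).2 (mul_inv_eq_iff_eq_mul.1 h)) hxt)
  have hzz : S.z * S.z = 1 := Four.z_mul_z
  -- choose the orientation
  obtain ⟨w, hwP, hwz, hwu, hwuz, hwt⟩ : ∃ w ∈ P, w * S.z * w⁻¹ = F.u ∧
      w * F.u * w⁻¹ = F.u * S.z ∧ w * (F.u * S.z) * w⁻¹ = S.z ∧ w * (t : G) = (t : G) * w := by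
    rcases F.cycle_of_move (hPN hxP) (hP9 x hxP) hmove with ⟨h1, h2⟩ | ⟨h1, h2⟩
    · refine ⟨x, hxP, h1, h2, ?_, hxt⟩
      rw [Four.conj_mul', h2, h1, mul_assoc, F.z_comm, ← mul_assoc, F.u_sq, one_mul]
    · have h3 : x * (F.u * S.z) * x⁻¹ = F.u := by
        rw [Four.conj_mul', h2, h1, ← mul_assoc, F.z_comm, mul_assoc, hzz, mul_one]
      refine ⟨x⁻¹, inv_mem hxP, ?_, ?_, ?_, ?_⟩
      · conv_lhs => rw [← h2]
        simp [mul_assoc]
      · conv_lhs => rw [← h3]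
        simp [mul_assoc]
      · conv_lhs => rw [← h1]
        simp [mul_assoc]
      · exact ((show Commute x (t : G) from hxt).inv_left).eq
  have hw3 : w ^ 3 = 1 := by
    refine hDtriv _ (pow_mem hwP 3) ((S.mem_C _).2 ?_)
      ((show Commute w (t : G) from hwt).pow_left 3).eq
    refine mul_inv_eq_iff_eq_mul.1 ?_
    calc w ^ 3 * S.z * (w ^ 3)⁻¹ = w * (w * (w * S.z * w⁻¹) * w⁻¹) * w⁻¹ := by
          simp [pow_succ, mul_assoc]
      _ = S.z := by rw [hwz, hwu, hwuz]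
  have hc3 : c ^ 3 = 1 := by
    have h1 : orderOf c ∣ 9 := orderOf_dvd_of_pow_eq_one (hP9 c hcP)
    have h2 : orderOf c ∣ 192 := F.card_M ▸ Subgroup.orderOf_dvd_natCard F.M hcM
    exact orderOf_dvd_iff_pow_eq_one.1 (Nat.dvd_gcd h1 h2)
  have hcw := hPcomm c hcP w hwP
  obtain ⟨hcz, hcu⟩ := (F.mem_M c).1 hcM
  -- `w` is trivial on `D / E`
  let D : Subgroup G := S.C ⊓ centralizer ({(t : G)} : Set G)
  have hDM : ∀ y ∈ D, y ∈ F.M := fun y hy => (F.centralizer_le_P2 ht htQ htM y hy).1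
  have hwN : w ∈ normalizer (F.E : Set G) := hPN hwP
  have hwD : ∀ y ∈ D, w * y * w⁻¹ ∈ D := fun y hy =>
    ⟨(F.conj_mem_M hwN (hDM y hy)).1, mem_centralizer_singleton_iff.2 (by
      have h1 : y * (t : G) = (t : G) * y := mem_centralizer_singleton_iff.1 hy.2
      have h2 : w * y * w⁻¹ * (w * (t : G) * w⁻¹) = w * (t : G) * w⁻¹ * (w * y * w⁻¹) := by
        rw [← Four.conj_mul', ← Four.conj_mul', h1]
      rwa [mul_inv_eq_iff_eq_mul.2 hwt] at h2)⟩
  have hE : ∀ y ∈ D, ⁅w, y⁆ ∈ F.E := by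
    have hEt : (t : G) ∈ D := ⟨t.2, mem_centralizer_singleton_iff.2 rfl⟩
    have hED : F.E ≤ D := fun e he =>
      ⟨(F.E_le_M he).1, mem_centralizer_singleton_iff.2 (F.comm_E htM he).symm⟩
    have htE : (t : G) ∉ F.E := fun h => by
      obtain ⟨h', hQ'⟩ := Four.mem_QG.1 (F.E_le_QG h)
      exact htQ hQ'
    -- the subgroup `K = E⟨t⟩`
    let K : Subgroup D := F.E.subgroupOf D ⊔ zpowers (⟨t, hEt⟩ : D)
    have hnE : (F.E.subgroupOf D).Normal := ⟨fun e he d => by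
      show (d : G) * (e : G) * (d : G)⁻¹ ∈ F.E
      rw [F.comm_E (e := (e : G)) (hDM d d.2) he, mul_inv_cancel_right]
      exact he⟩
    have ht1 : (t : G) ≠ 1 := fun h => htQ (by
      rw [show t = 1 from Subtype.ext h]; exact one_mem _)
    have hto : orderOf (⟨t, hEt⟩ : D) = 2 := by
      haveI : Fact (Nat.Prime 2) := ⟨Nat.prime_two⟩
      refine orderOf_eq_prime (Subtype.ext ?_) fun h => ht1 (congrArg Subtype.val h)
      show (t : G) ^ 2 = 1
      exact congrArg Subtype.val ht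
    have hK : Nat.card K = 8 := by
      show Nat.card ↥(F.E.subgroupOf D ⊔ zpowers (⟨t, hEt⟩ : D)) = 8
      rw [sup_comm, CfsgLib.Base.card_sup_of_disjoint _ _ ?_,
        Nat.card_congr (subgroupOfEquivOfLe hED).toEquiv, Nat.card_zpowers, hto,
        ← Nat.card_congr (subgroupOfEquivOfLe F.E_le_M).toEquiv]
      · rw [show Nat.card ↥(F.E.subgroupOf F.M) = 4 from F.card_EM]
      rw [eq_bot_iff]
      rintro y ⟨hy, hyE⟩
      obtain ⟨k, rfl⟩ := hy
      rcases Int.even_or_odd k with ⟨m, rfl⟩ | ⟨m, rfl⟩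
      · refine mem_bot.2 ?_
        show (⟨t, hEt⟩ : D) ^ (m + m) = 1
        rw [← two_mul, zpow_mul, show (⟨t, hEt⟩ : D) ^ (2 : ℤ) = 1 from
          (zpow_natCast _ 2).trans (by rw [← hto]; exact pow_orderOf_eq_one _), one_zpow]
      · exfalso
        apply htE
        have e : (⟨t, hEt⟩ : D) ^ (2 * m + 1) = ⟨t, hEt⟩ := by
          rw [zpow_add, zpow_mul, show (⟨t, hEt⟩ : D) ^ (2 : ℤ) = 1 from
            (zpow_natCast _ 2).trans (by rw [← hto]; exact pow_orderOf_eq_one _), one_zpow,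
            one_mul, zpow_one]
        have hyE' : (⟨t, hEt⟩ : D) ∈ F.E.subgroupOf D := e ▸ hyE
        exact hyE'
    have hidx : K.index = 2 := by
      have e := Subgroup.index_mul_card K
      rw [hK, show Nat.card D = 16 from hD16] at e
      omega
    have hKcases : ∀ y ∈ K, (y : G) ∈ F.E ∨ (t : G)⁻¹ * (y : G) ∈ F.E := by
      intro y hy
      have hy' : y ∈ ((zpowers (⟨t, hEt⟩ : D) ⊔ F.E.subgroupOf D : Subgroup D) : Set D) := by
        rw [sup_comm]; exact hy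
      rw [mul_normal] at hy'
      obtain ⟨_, ⟨k, rfl⟩, e, he, rfl⟩ := Set.mem_mul.1 hy'
      have h2 : (⟨t, hEt⟩ : D) ^ (2 : ℤ) = 1 :=
        (zpow_natCast _ 2).trans (by rw [← hto]; exact pow_orderOf_eq_one _)
      rcases Int.even_or_odd k with ⟨m, rfl⟩ | ⟨m, rfl⟩
      · left
        show (((⟨t, hEt⟩ : D) ^ (m + m) * e : D) : G) ∈ F.E
        rw [← two_mul, zpow_mul, h2, one_zpow, one_mul]
        exact he
      · right
        show (t : G)⁻¹ * (((⟨t, hEt⟩ : D) ^ (2 * m + 1) * e : D) : G) ∈ F.E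
        rw [zpow_add, zpow_mul, h2, one_zpow, one_mul, zpow_one]
        show (t : G)⁻¹ * ((t : G) * (e : G)) ∈ F.E
        rwa [inv_mul_cancel_left]
    have hconjt : ∀ v ∈ normalizer (F.E : Set G), v * (t : G) = (t : G) * v → ∀ y : G,
        (t : G)⁻¹ * y ∈ F.E → (t : G)⁻¹ * (v * y * v⁻¹) ∈ F.E := by
      intro v hv hvt y hy
      have h := F.conj_mem_E hv hy
      have hvt' : v * (t : G)⁻¹ = (t : G)⁻¹ * v := ((show Commute v (t : G) from hvt).inv_right).eq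
      rwa [← mul_assoc v, hvt', mul_assoc (t : G)⁻¹, mul_assoc (t : G)⁻¹] at h
    intro y hy
    let y' : D := ⟨y, hy⟩
    let wy : D := ⟨w * y * w⁻¹, hwD y hy⟩
    by_cases hyK : y' ∈ K
    · rcases hKcases y' hyK with h | h
      · rw [commutatorElement_def]
        exact mul_mem (F.conj_mem_E hwN h) (inv_mem h)
      · have h2 := hconjt w hwN hwt y h
        rw [commutatorElement_def,
          show w * y * w⁻¹ * y⁻¹ = (t : G) * ((t : G)⁻¹ * (w * y * w⁻¹) * ((t : G)⁻¹ * y)⁻¹) * (t : G)⁻¹ by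
            simp [mul_assoc]]
        have hm := mul_mem h2 (inv_mem h)
        rw [F.comm_E htM hm, mul_inv_cancel_right]
        exact hm
    · have hwyK : wy ∉ K := by
        intro h
        apply hyK
        have hback : y' ∈ K ↔ (y ∈ F.E ∨ (t : G)⁻¹ * y ∈ F.E) := by
          refine ⟨hKcases y', ?_⟩
          rintro (h' | h')
          · exact le_sup_left (α := Subgroup D) (show y' ∈ F.E.subgroupOf D from h')
          · have : y' = (⟨t, hEt⟩ : D) * ((⟨t, hEt⟩ : D)⁻¹ * y') := by rw [mul_inv_cancel_left]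
            rw [this]
            exact mul_mem (le_sup_right (α := Subgroup D) (mem_zpowers _))
              (le_sup_left (α := Subgroup D) (show (⟨t, hEt⟩ : D)⁻¹ * y' ∈ F.E.subgroupOf D from h'))
        rw [hback]
        rcases hKcases wy h with h' | h'
        · left
          simpa [wy, mul_assoc] using F.conj_mem_E (inv_mem hwN) h'
        · right
          simpa [wy, mul_assoc] using hconjt w⁻¹ (inv_mem hwN)
            ((show Commute w (t : G) from hwt).inv_left).eq _ h'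
      have hmemK : y'⁻¹ * wy ∈ K := by
        rw [Subgroup.mul_mem_iff_of_index_two hidx, inv_mem_iff]
        exact ⟨fun h => absurd h hyK, fun h => absurd h hwyK⟩
      rcases hKcases _ hmemK with h | h
      · rw [commutatorElement_def]
        have h' : y⁻¹ * (w * y * w⁻¹) ∈ F.E := h
        rw [show w * y * w⁻¹ * y⁻¹ = y * (y⁻¹ * (w * y * w⁻¹)) * y⁻¹ by simp [mul_assoc],
          F.comm_E (hDM y hy) h', mul_inv_cancel_right]
        exact h'
      · exfalso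
        -- then `w` moves the coset `yE` to `ytE`, and `w³ = 1` gives `t ∈ E`
        let δ : G → G := fun v => y⁻¹ * (v * y * v⁻¹)
        have hδ : (t : G)⁻¹ * δ w ∈ F.E := h
        have hδ2 : δ (w * w) ∈ F.E := by
          have h1 : δ (w * w) = δ w * (w * δ w * w⁻¹) := by simp [δ, mul_assoc]
          have h2 := hconjt w hwN hwt _ hδ
          have htt : (t : G) * (t : G) = 1 := (sq _).symm.trans (congrArg Subtype.val ht)
          rw [h1, show δ w * (w * δ w * w⁻¹) = ((t : G) * ((t : G)⁻¹ * δ w) * (t : G)⁻¹) *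
            ((t : G) * (t : G)) * ((t : G)⁻¹ * (w * δ w * w⁻¹)) by simp [mul_assoc],
            F.comm_E htM hδ, mul_inv_cancel_right, htt, mul_one]
          exact mul_mem hδ h2
        have h3 : δ (w * w * w) = δ (w * w) * (w * w * δ w * (w * w)⁻¹) := by simp [δ, mul_assoc]
        have hw' : w * w * w = 1 := by rw [← hw3]; simp [pow_succ]
        have h4 : (t : G)⁻¹ * δ (w * w * w) ∈ F.E := by
          have h5 := hconjt (w * w) (mul_mem hwN hwN)
            ((show Commute w (t : G) from hwt).mul_left hwt).eq _ hδ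
          rw [h3, show (t : G)⁻¹ * (δ (w * w) * (w * w * δ w * (w * w)⁻¹)) =
            ((t : G)⁻¹ * δ (w * w) * (t : G)⁻¹⁻¹) * ((t : G)⁻¹ * (w * w * δ w * (w * w)⁻¹)) by
              simp [mul_assoc],
            F.comm_E (inv_mem htM) hδ2, mul_inv_cancel_right]
          exact mul_mem hδ2 h5
        rw [hw'] at h4
        have h6 : (t : G)⁻¹ ∈ F.E := by simpa [δ] using h4
        exact htE (inv_mem_iff.1 h6)
  -- `c` normalises `D`
  let D' : Subgroup F.M := D.comap F.M.subtype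
  let φ : F.M → G := fun m => ⁅w, (m : G)⁆
  have hφmul : ∀ m m' : F.M, φ m ∈ F.E → φ m' ∈ F.E → φ (m * m') = φ m * φ m' := by
    intro m m' h h'
    show ⁅w, (m : G) * (m' : G)⁆ = _
    rw [show ⁅w, (m : G) * (m' : G)⁆ = ⁅w, (m : G)⁆ * ((m : G) * ⁅w, (m' : G)⁆ * (m : G)⁻¹) by
      simp [commutatorElement_def, mul_assoc]]
    show φ m * ((m : G) * φ m' * (m : G)⁻¹) = _
    rw [F.comm_E m.2 h', mul_inv_cancel_right]
  let W : Subgroup F.M :=
    { carrier := {m | m ∈ F.P2 ∧ φ m ∈ F.E}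
      one_mem' := ⟨one_mem _, by simp [φ, commutatorElement_def]⟩
      mul_mem' := fun {a b} ha hb => ⟨mul_mem ha.1 hb.1, by
        rw [hφmul a b ha.2 hb.2]; exact mul_mem ha.2 hb.2⟩
      inv_mem' := fun {a} ha => ⟨inv_mem ha.1, by
        have hcomm : (a : G) * (φ a)⁻¹ = (φ a)⁻¹ * (a : G) := F.comm_E a.2 (inv_mem ha.2)
        have e : φ a⁻¹ = (a : G)⁻¹ * (φ a)⁻¹ * (a : G) := by
          show ⁅w, (a : G)⁻¹⁆ = _
          simp [φ, commutatorElement_def, mul_assoc]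
        rw [e, mul_assoc, ← hcomm, inv_mul_cancel_left]
        exact inv_mem ha.2⟩ }
  have hD'W : D' ≤ W := fun m hm => by
    obtain ⟨h, h'⟩ := F.centralizer_le_P2 ht htQ htM (m : G) hm
    exact ⟨h', hE _ hm⟩
  have hinf : W ⊓ F.A ≤ F.EM := by
    rintro m ⟨⟨-, hm⟩, hmA⟩
    refine F.mem_E_of_QG hmA m.2 ?_
    rcases Four.QG_sq (x := (m : G)) hmA with h | h
    · exact h
    · exfalso
      have hm' : w * (m : G) * w⁻¹ ∈ Four.QG S := by
        rw [show w * (m : G) * w⁻¹ = φ m * (m : G) by simp [φ, commutatorElement_def, mul_assoc]]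
        exact mul_mem (F.E_le_QG hm) hmA
      have h2 := Four.QG_sq hm'
      rw [show w * (m : G) * w⁻¹ * (w * (m : G) * w⁻¹) = F.u by rw [← Four.conj_mul', h, hwz]] at h2
      rcases h2 with h2 | h2
      exacts [F.u_ne_one h2, F.ne h2]
  haveI := F.A_normal
  have hWle : Nat.card W ≤ 16 := by
    have h := CfsgLib.Base.card_sup_mul_card_inf W F.A
    have h1 : Nat.card ↥(W ⊔ F.A) ≤ 64 :=
      F.card_P2 ▸ Subgroup.card_le_of_le (sup_le (fun m hm => hm.1) le_sup_left)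
    have h2 : Nat.card ↥(W ⊓ F.A) ≤ 4 := F.card_EM ▸ Subgroup.card_le_of_le hinf
    rw [F.card_A] at h
    have := Nat.mul_le_mul h1 h2
    omega
  have hD' : Nat.card D' = 16 :=
    (Nat.card_congr (subgroupOfEquivOfLe (H := D) (K := F.M) hDM).toEquiv).trans hD16
  have hWeq : D' = W := Subgroup.eq_of_le_of_card_ge hD'W (by rw [hD']; exact hWle)
  haveI := F.A'_normal
  have hP2n : F.P2.Normal := Subgroup.sup_normal _ _
  refine ⟨⟨F, t, ht, htQ, htu, w, hw3, hwz, hwu, hwuz, hwt, hE, c, hc3, hc1, hcz, hcu, hcw, ?_⟩⟩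
  intro y hy
  have hm : (⟨y, hDM y hy⟩ : F.M) ∈ W := hD'W hy
  have hm2 : (⟨c, hcM⟩ : F.M) * ⟨y, hDM y hy⟩ * (⟨c, hcM⟩ : F.M)⁻¹ ∈ W := by
    refine ⟨hP2n.conj_mem _ hm.1 _, ?_⟩
    show ⁅w, c * y * c⁻¹⁆ ∈ F.E
    have hcw' : c * w * c⁻¹ = w := mul_inv_eq_iff_eq_mul.2 hcw
    rw [show ⁅w, c * y * c⁻¹⁆ = c * ⁅w, y⁆ * c⁻¹ by
      conv_lhs => rw [← hcw']
      simp [commutatorElement_def, mul_assoc]]
    rw [F.comm_E hcM (hE y hy), mul_inv_cancel_right]
    exact hE y hy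
  rw [← hWeq] at hm2
  exact hm2

end CfsgLib.Small.JTwoType
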