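import Mathlib
import Cfsg.Agent.Lib.Small.JankoTwoFrame
import Cfsg.Agent.Lib.Base.Transport

/-!
# The centraliser `H` of an outer involution `t`: a Sylow 2-subgroup and the fusion in it

`D = C(z) ∩ C(t) = R × E` is elementary abelian of order 16, `R = C_D(w)`, and is a Sylow
2-subgroup of `H = C(t)` whose normaliser in `H` is `D⟨w⟩`.
-/

set_option autoImplicit false
set_option linter.unusedSectionVars false

namespace CfsgLib.Small.JTwoType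

open Subgroup
open scoped commutatorElement

namespace Frame

variable {G : Type*} [Group G] [Finite G] {S : Setup G} (Fr : Frame S)

/-- `C(t)`. -/
abbrev H : Subgroup G := centralizer ({(Fr.t : G)} : Set G)

/-- `C(z) ∩ C(t)`. -/
abbrev D : Subgroup G := S.C ⊓ Fr.H

/-- `C_D(w)`. -/
def R : Subgroup G := Fr.D ⊓ centralizer ({Fr.w} : Set G)

theorem t_mem_M : (Fr.t : G) ∈ Fr.four.M := (Fr.four.mem_M _).2 ⟨(S.mem_C _).1 Fr.t.2, Fr.t_u⟩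

theorem D_le_M {x : G} (hx : x ∈ Fr.D) : x ∈ Fr.four.M :=
  (Fr.four.centralizer_le_P2 Fr.t_sq Fr.t_not Fr.t_mem_M x hx).1

theorem E_le_D : Fr.four.E ≤ Fr.D := fun e he =>
  ⟨(Fr.four.E_le_M he).1,
    mem_centralizer_singleton_iff.2 (Fr.four.comm_E Fr.t_mem_M he).symm⟩

theorem t_mem_D : (Fr.t : G) ∈ Fr.D := ⟨Fr.t.2, mem_centralizer_singleton_iff.2 rfl⟩

theorem card_D : Nat.card Fr.D = 16 := S.card_centralizer_outer_G Fr.t_sq Fr.t_not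

theorem t_sq' : (Fr.t : G) ^ 2 = 1 := congrArg Subtype.val Fr.t_sq

theorem t_ne_one : (Fr.t : G) ≠ 1 := fun h =>
  Fr.t_not (by rw [show Fr.t = 1 from Subtype.ext h]; exact one_mem _)

theorem t_not_E : (Fr.t : G) ∉ Fr.four.E := fun h => by
  obtain ⟨h', hQ'⟩ := Four.mem_QG.1 (Fr.four.E_le_QG h)
  exact Fr.t_not hQ'

theorem t_not_conj : ¬ IsConj S.z (Fr.t : G) := S.outer_not_conj Fr.t_sq Fr.t_not

/-- The elements of `D` conjugate to `z` lie in `E`. -/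
theorem mem_E_of_conj {x : G} (hx : x ∈ Fr.D) (hc : IsConj S.z x) : x ∈ Fr.four.E :=
  Fr.four.D_inf_QG Fr.t_sq Fr.t_not Fr.t_mem_M hx
    ⟨⟨x, hx.1⟩, S.mem_Q_of_conj (x := ⟨x, hx.1⟩) hc, rfl⟩

theorem conj_z_of_E {x : G} (hx : x ∈ Fr.four.E) (hx1 : x ≠ 1) : IsConj S.z x := by
  have hu : IsConj S.z Fr.four.u := Fr.four.u_conj
  have huz : IsConj S.z (Fr.four.u * S.z) := hu.trans (isConj_iff.2 ⟨Fr.w, Fr.w_u⟩)
  rcases hx with rfl | rfl | rfl | rfl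
  exacts [absurd rfl hx1, IsConj.refl _, hu, huz]

theorem w_normalizer : Fr.w ∈ normalizer (Fr.four.E : Set G) :=
  Fr.four.mem_normalizer Fr.w (Fr.w_z.symm ▸ Fr.four.u_mem_E)
    (Fr.w_u.symm ▸ mul_mem Fr.four.u_mem_E Fr.four.z_mem_E)

theorem conj_w_E {e : G} (he : e ∈ Fr.four.E) : Fr.w * e * Fr.w⁻¹ ∈ Fr.four.E :=
  Fr.four.conj_mem_E Fr.w_normalizer he

theorem w_fixes_E {e : G} (he : e ∈ Fr.four.E) (h : Fr.w * e = e * Fr.w) : e = 1 := by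
  obtain ⟨h1, h2, h3, h4⟩ := Fr.four.uz_ne
  have h' : Fr.w * e * Fr.w⁻¹ = e := mul_inv_eq_iff_eq_mul.2 h
  rcases he with rfl | rfl | rfl | rfl
  · rfl
  · exact absurd (Fr.w_z.symm.trans h') h4.symm
  · exact absurd (Fr.w_u.symm.trans h') h3
  · exact absurd (Fr.w_uz.symm.trans h') h2.symm

theorem conj_w_D {x : G} (hx : x ∈ Fr.D) : Fr.w * x * Fr.w⁻¹ ∈ Fr.D := by
  have h := mul_mem (Fr.E_le_D (Fr.w_D x hx)) hx
  rwa [commutatorElement_def, inv_mul_cancel_right] at h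

theorem w_mem_H : Fr.w ∈ Fr.H := mem_centralizer_singleton_iff.2 Fr.w_t

/-- Every coset of `E` in `D` meets `R`. -/
theorem exists_R {y : G} (hy : y ∈ Fr.D) : ∃ r ∈ Fr.R, r * y⁻¹ ∈ Fr.four.E := by
  classical
  haveI : Fact (Nat.Prime 3) := ⟨Nat.prime_three⟩
  let Y := {g : G // g * y⁻¹ ∈ Fr.four.E}
  have hY : Nat.card Y = 4 := by
    rw [← Fr.four.card_EM]
    exact Nat.card_congr
      { toFun := fun g => ⟨⟨g.1 * y⁻¹, Fr.four.E_le_M g.2⟩, g.2⟩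
        invFun := fun e => ⟨(e : Fr.four.M) * y, by rw [mul_inv_cancel_right]; exact e.2⟩
        left_inv := fun g => Subtype.ext (inv_mul_cancel_right _ _)
        right_inv := fun e => Subtype.ext (Subtype.ext (mul_inv_cancel_right _ _)) }
  have hYD : ∀ g : Y, g.1 ∈ Fr.D := fun g => by
    have h := mul_mem (Fr.E_le_D g.2) hy
    rwa [inv_mul_cancel_right] at h
  have hmaps : ∀ g : Y, Fr.w * g.1 * Fr.w⁻¹ * y⁻¹ ∈ Fr.four.E := fun g => by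
    have h := mul_mem (Fr.w_D g.1 (hYD g)) g.2
    rwa [commutatorElement_def, show Fr.w * g.1 * Fr.w⁻¹ * g.1⁻¹ * (g.1 * y⁻¹) =
      Fr.w * g.1 * Fr.w⁻¹ * y⁻¹ by simp [mul_assoc]] at h
  let f : Y → Y := fun g => ⟨Fr.w * g.1 * Fr.w⁻¹, hmaps g⟩
  have hf : ∀ g, f (f (f g)) = g := fun g => Subtype.ext (by
    show Fr.w * (Fr.w * (Fr.w * g.1 * Fr.w⁻¹) * Fr.w⁻¹) * Fr.w⁻¹ = g.1
    calc _ = Fr.w ^ 3 * g.1 * (Fr.w ^ 3)⁻¹ := by simp [pow_succ, mul_assoc]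
      _ = g.1 := by simp [Fr.w_cube])
  let σ : Equiv.Perm Y := ⟨f, fun g => f (f g), fun g => hf g, fun g => hf g⟩
  have hm := card_fixed_modEq (p := 3) (σ := σ) (Equiv.ext fun g => by
    show σ (σ (σ g)) = g
    exact hf g)
  rw [hY] at hm
  have hne : Nat.card {g // σ g = g} ≠ 0 := fun h => by rw [h] at hm; exact absurd hm (by decide)
  obtain ⟨⟨g, hg⟩⟩ := (Nat.card_ne_zero.1 hne).1
  refine ⟨g.1, ⟨hYD g, mem_centralizer_singleton_iff.2 ?_⟩, g.2⟩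
  have h' : Fr.w * g.1 * Fr.w⁻¹ = g.1 := congrArg Subtype.val hg
  exact (mul_inv_eq_iff_eq_mul.1 h').symm

theorem R_le_D : Fr.R ≤ Fr.D := inf_le_left

theorem R_w {r : G} (hr : r ∈ Fr.R) : r * Fr.w = Fr.w * r :=
  mem_centralizer_singleton_iff.1 hr.2

theorem R_inf_E {x : G} (hr : x ∈ Fr.R) (he : x ∈ Fr.four.E) : x = 1 :=
  Fr.w_fixes_E he (Fr.R_w hr).symm

theorem t_mem_R : (Fr.t : G) ∈ Fr.R :=
  ⟨Fr.t_mem_D, mem_centralizer_singleton_iff.2 Fr.w_t.symm⟩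

theorem R_sq {r : G} (hr : r ∈ Fr.R) : r ^ 2 = 1 := by
  refine Fr.R_inf_E (pow_mem hr 2) ?_
  refine Fr.four.D_inf_QG Fr.t_sq Fr.t_not Fr.t_mem_M (pow_mem (Fr.R_le_D hr) 2) ?_
  have hrC : r ∈ S.C := (Fr.R_le_D hr).1
  refine ⟨⟨r, hrC⟩ ^ 2, ?_, rfl⟩
  show (⟨r, hrC⟩ : S.C) ^ 2 ∈ S.Q
  rw [← S.proj_eq_one, map_pow]
  refine a5_invol_centralizer (S.proj Fr.t) (by rw [← map_pow, Fr.t_sq, map_one])
    (fun h => Fr.t_not ((S.proj_eq_one _).1 h)) _ ?_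
  rw [← map_mul, ← map_mul]
  exact congrArg S.proj (Subtype.ext (mem_centralizer_singleton_iff.1 (Fr.R_le_D hr).2 :))

theorem R_comm {a b : G} (ha : a ∈ Fr.R) (hb : b ∈ Fr.R) : a * b = b * a := by
  have h1 : a⁻¹ = a := inv_eq_of_mul_eq_one_right ((sq a).symm.trans (Fr.R_sq ha))
  have h2 : b⁻¹ = b := inv_eq_of_mul_eq_one_right ((sq b).symm.trans (Fr.R_sq hb))
  have h3 : (a * b)⁻¹ = a * b :=
    inv_eq_of_mul_eq_one_right ((sq (a * b)).symm.trans (Fr.R_sq (mul_mem ha hb)))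
  rw [mul_inv_rev, h1, h2] at h3
  exact h3.symm

theorem exists_decomp {y : G} (hy : y ∈ Fr.D) : ∃ e ∈ Fr.four.E, ∃ r ∈ Fr.R, e * r = y := by
  obtain ⟨r, hr, he⟩ := Fr.exists_R hy
  exact ⟨(r * y⁻¹)⁻¹, inv_mem he, r, hr, by simp⟩

theorem R_comm_E {r e : G} (hr : r ∈ Fr.R) (he : e ∈ Fr.four.E) : r * e = e * r :=
  Fr.four.comm_E (Fr.D_le_M (Fr.R_le_D hr)) he

theorem D_comm {x y : G} (hx : x ∈ Fr.D) (hy : y ∈ Fr.D) : x * y = y * x := by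
  obtain ⟨e, he, r, hr, rfl⟩ := Fr.exists_decomp hx
  obtain ⟨e', he', r', hr', rfl⟩ := Fr.exists_decomp hy
  have hee : e * e' = e' * e := Fr.four.comm_E (Fr.four.E_le_M he) he'
  calc e * r * (e' * r') = e * (r * e') * r' := by simp only [mul_assoc]
    _ = (e * e') * (r * r') := by rw [Fr.R_comm_E hr he']; simp only [mul_assoc]
    _ = (e' * e) * (r' * r) := by rw [hee, Fr.R_comm hr hr']
    _ = e' * (e * r') * r := by simp only [mul_assoc]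
    _ = _ := by rw [← Fr.R_comm_E hr' he]; simp only [mul_assoc]

theorem card_R : Nat.card Fr.R = 4 := by
  have hb : Function.Bijective (fun p : Fr.four.EM × Fr.R =>
      (⟨((p.1 : Fr.four.M) : G) * p.2.1, mul_mem (Fr.E_le_D p.1.2) (Fr.R_le_D p.2.2)⟩ : Fr.D)) := by
    constructor
    · intro p q h
      have h' : ((p.1 : Fr.four.M) : G) * p.2.1 = ((q.1 : Fr.four.M) : G) * q.2.1 :=
        congrArg Subtype.val h
      have h2 : p.2.1 * q.2.1⁻¹ = ((p.1 : Fr.four.M) : G)⁻¹ * ((q.1 : Fr.four.M) : G) := by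
        rw [eq_inv_mul_iff_mul_eq, ← mul_assoc, h', mul_inv_cancel_right]
      have h3 := Fr.R_inf_E (mul_mem p.2.2 (inv_mem q.2.2))
        (h2 ▸ mul_mem (inv_mem p.1.2) q.1.2)
      refine Prod.ext (Subtype.ext (Subtype.ext ?_)) (Subtype.ext (mul_inv_eq_one.1 h3))
      rw [mul_inv_eq_one.1 h3] at h'
      exact mul_right_cancel h'
    · rintro ⟨y, hy⟩
      obtain ⟨e, he, r, hr, rfl⟩ := Fr.exists_decomp hy
      exact ⟨(⟨⟨e, Fr.four.E_le_M he⟩, he⟩, ⟨r, hr⟩), rfl⟩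
  have e := Nat.card_congr (Equiv.ofBijective _ hb)
  rw [Nat.card_prod, Fr.four.card_EM, Fr.card_D] at e
  omega

/-- A Sylow 2-subgroup of `H`. -/
theorem exists_sylow : ∃ P : Sylow 2 Fr.H, (P : Subgroup Fr.H) = Fr.D.subgroupOf Fr.H := by
  classical
  haveI : Fact (Nat.Prime 2) := ⟨Nat.prime_two⟩
  have hDp : IsPGroup 2 (Fr.D.subgroupOf Fr.H) :=
    IsPGroup.of_card (n := 4)
      ((Nat.card_congr (subgroupOfEquivOfLe (inf_le_right : Fr.D ≤ Fr.H)).toEquiv).trans Fr.card_D)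
  obtain ⟨T, hT⟩ := hDp.exists_le_sylow
  refine ⟨T, le_antisymm ?_ hT⟩
  by_contra hnle
  have hlt : (Fr.D.subgroupOf Fr.H).subgroupOf (T : Subgroup Fr.H) < ⊤ :=
    lt_top_iff_ne_top.2 fun h => hnle (subgroupOf_eq_top.1 h)
  have : Group.IsNilpotent (T : Subgroup Fr.H) := T.2.isNilpotent
  obtain ⟨n, hn, hnD⟩ := SetLike.exists_of_lt (normalizerCondition_of_isNilpotent _ hlt)
  let m : G := ((n : Fr.H) : G)
  have hnD' : m ∉ Fr.D := hnD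
  have hmH : m ∈ Fr.H := (n : Fr.H).2
  have hconj : ∀ d ∈ Fr.D, m * d * m⁻¹ ∈ Fr.D := fun d hd =>
    ((mem_normalizer_iff.1 hn) ⟨⟨d, hd.2⟩, hT hd⟩).1 hd
  -- `m` permutes `E#`
  let X := {e : G // e ∈ Fr.four.E ∧ e ≠ 1}
  have hX : Nat.card X = 3 := by
    have h := Fr.four.uz_ne
    have e : Nat.card X = ({S.z, Fr.four.u, Fr.four.u * S.z} : Set G).ncard := by
      rw [← Nat.card_coe_set_eq]
      refine Nat.card_congr (Equiv.subtypeEquivRight fun x => ?_)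
      simp only [Set.mem_insert_iff, Set.mem_singleton_iff, Fr.four.mem_E]
      constructor
      · rintro ⟨rfl | h' | h' | h', hne⟩
        · exact absurd rfl hne
        all_goals tauto
      · rintro (rfl | rfl | rfl)
        exacts [⟨Or.inr (Or.inl rfl), S.z_ne_one⟩, ⟨Or.inr (Or.inr (Or.inl rfl)), Fr.four.u_ne_one⟩,
          ⟨Or.inr (Or.inr (Or.inr rfl)), h.1⟩]
    rw [e, Set.ncard_insert_of_notMem (by simp [h.2.2.2, h.2.1.symm]), Set.ncard_pair h.2.2.1.symm]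
  let f : X → X := fun e => ⟨m * e.1 * m⁻¹,
    Fr.mem_E_of_conj (hconj _ (Fr.E_le_D e.2.1))
      ((Fr.conj_z_of_E e.2.1 e.2.2).trans (isConj_iff.2 ⟨m, rfl⟩)),
    fun h => e.2.2 (conj_eq_one_iff.1 h)⟩
  have hfi : Function.Injective f := fun a b h =>
    Subtype.ext (mul_left_cancel (mul_right_cancel (congrArg Subtype.val h :)))
  let σ : Equiv.Perm X := Equiv.ofBijective f (Finite.injective_iff_bijective.1 hfi)
  have hσ : ∀ (k : ℕ) (e : X), ((σ ^ k) e).1 = m ^ k * e.1 * (m ^ k)⁻¹ := by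
    intro k
    induction k with
    | zero => intro e; simp
    | succ k ih =>
      intro e
      rw [pow_succ', Equiv.Perm.mul_apply]
      show m * ((σ ^ k) e).1 * m⁻¹ = _
      rw [ih, pow_succ']
      simp [mul_assoc]
  obtain ⟨k, hk⟩ := T.2 n
  have hk' : m ^ 2 ^ k = 1 := congrArg (fun y : (T : Subgroup Fr.H) => ((y : Fr.H) : G)) hk
  have : Fintype X := Fintype.ofFinite _
  obtain ⟨e, he⟩ := Equiv.Perm.exists_fixed_point_of_prime (p := 2) (n := k)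
    (α := X) (hp := ⟨Nat.prime_two⟩) (σ := σ) (hα := by
      rw [← Nat.card_eq_fintype_card, hX]; decide) (Equiv.ext fun e => Subtype.ext (by
      rw [hσ, hk']; simp))
  have he' : m * e.1 * m⁻¹ = e.1 := congrArg Subtype.val he
  have hme : Commute m e.1 := mul_inv_eq_iff_eq_mul.1 he'
  have hwc : ∀ x : G, x ∈ Fr.D → Fr.w * x * Fr.w⁻¹ ∈ Fr.D := fun x => Fr.conj_w_D
  have hwmem : ∀ v : G, v ∈ Fr.H → ∀ x : G, x ∈ Fr.H → v * x * v⁻¹ ∈ Fr.H :=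
    fun v hv x hx => mul_mem (mul_mem hv hx) (inv_mem hv)
  have hcomm : ∀ v x y : G, Commute x y → Commute (v * x * v⁻¹) (v * y * v⁻¹) := fun v x y h => by
    show v * x * v⁻¹ * (v * y * v⁻¹) = v * y * v⁻¹ * (v * x * v⁻¹)
    rw [← Four.conj_mul', ← Four.conj_mul', h.eq]
  obtain ⟨h1, h2, h3, h4⟩ := Fr.four.uz_ne
  rcases e.2.1 with he1 | he1 | he1 | he1
  · exact e.2.2 he1
  · exact hnD' ⟨(S.mem_C m).2 (he1 ▸ hme.eq), hmH⟩
  · -- `w²` carries `u` to `z`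
    have hm2 : Fr.w * (Fr.w * m * Fr.w⁻¹) * Fr.w⁻¹ ∈ Fr.D := by
      refine ⟨(S.mem_C _).2 ?_, hwmem _ Fr.w_mem_H _ (hwmem _ Fr.w_mem_H _ hmH)⟩
      have h := hcomm Fr.w _ _ (hcomm Fr.w m e.1 hme)
      rw [he1, Fr.w_u, Fr.w_uz] at h
      exact h.eq
    apply hnD'
    have h := hwc _ hm2
    rwa [show Fr.w * (Fr.w * (Fr.w * m * Fr.w⁻¹) * Fr.w⁻¹) * Fr.w⁻¹ = Fr.w ^ 3 * m * (Fr.w ^ 3)⁻¹ by
      simp [pow_succ, mul_assoc], Fr.w_cube, one_mul, inv_one, mul_one] at h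
  · have hm1 : Fr.w * m * Fr.w⁻¹ ∈ Fr.D := by
      refine ⟨(S.mem_C _).2 ?_, hwmem _ Fr.w_mem_H _ hmH⟩
      have h := hcomm Fr.w m e.1 hme
      rw [he1, Fr.w_uz] at h
      exact h.eq
    apply hnD'
    have h := hwc _ (hwc _ hm1)
    rwa [show Fr.w * (Fr.w * (Fr.w * m * Fr.w⁻¹) * Fr.w⁻¹) * Fr.w⁻¹ = Fr.w ^ 3 * m * (Fr.w ^ 3)⁻¹ by
      simp [pow_succ, mul_assoc], Fr.w_cube, one_mul, inv_one, mul_one] at h

/-- The normaliser of `D` in `H` centralises `R`. -/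
theorem normalizer_R {x : G} (hx : x ∈ Fr.H) (hxD : ∀ d ∈ Fr.D, x * d * x⁻¹ ∈ Fr.D) {r : G}
    (hr : r ∈ Fr.R) : x * r = r * x := by
  have hz : x * S.z * x⁻¹ ∈ Fr.four.E := Fr.mem_E_of_conj
    (hxD _ (Fr.E_le_D Fr.four.z_mem_E)) (isConj_iff.2 ⟨x, rfl⟩)
  have hcD : ∀ d ∈ Fr.D, d * r = r * d := fun d hd => Fr.D_comm hd (Fr.R_le_D hr)
  have hrw : Commute Fr.w r := (Fr.R_w hr).symm
  rcases hz with h | h | h | h
  · exact absurd (conj_eq_one_iff.1 h) S.z_ne_one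
  · exact hcD x ⟨(S.mem_C x).2 (mul_inv_eq_iff_eq_mul.1 h), hx⟩
  · have hm : Fr.w⁻¹ * x ∈ Fr.D := by
      refine ⟨(S.mem_C _).2 (mul_inv_eq_iff_eq_mul.1 ?_), Fr.H.mul_mem (Fr.H.inv_mem Fr.w_mem_H) hx⟩
      calc Fr.w⁻¹ * x * S.z * (Fr.w⁻¹ * x)⁻¹ = Fr.w⁻¹ * (x * S.z * x⁻¹) * Fr.w := by simp [mul_assoc]
        _ = Fr.w⁻¹ * (Fr.w * S.z * Fr.w⁻¹) * Fr.w := by rw [h, Fr.w_z]
        _ = S.z := by simp [mul_assoc]
    have := hrw.mul_left (show Commute (Fr.w⁻¹ * x) r from hcD _ hm)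
    rw [mul_inv_cancel_left] at this
    exact this.eq
  · have hm : Fr.w * x ∈ Fr.D := by
      refine ⟨(S.mem_C _).2 (mul_inv_eq_iff_eq_mul.1 ?_), mul_mem Fr.w_mem_H hx⟩
      calc Fr.w * x * S.z * (Fr.w * x)⁻¹ = Fr.w * (x * S.z * x⁻¹) * Fr.w⁻¹ := by simp [mul_assoc]
        _ = S.z := by rw [h, Fr.w_uz]
    have := hrw.inv_left.mul_left (show Commute (Fr.w * x) r from hcD _ hm)
    rw [inv_mul_cancel_left] at this
    exact this.eq

end Frame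

end CfsgLib.Small.JTwoType
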