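import Mathlib
import Cfsg.Prelude.Def_TwoFusion
import Cfsg.Agent.Lib.Small.JankoTwoSylow
import Cfsg.Agent.Lib.Small.KleinCentralizer
import Cfsg.Agent.Lib.Perm.Zass.Complement
import Cfsg.Agent.Lib.Transfer.NormalPComplement

/-!
# `C(t) = R × K` with `R` a four group and `K` of order 12 or isomorphic to `A₅`
-/

set_option autoImplicit false
set_option linter.unusedSectionVars false

namespace CfsgLib.Small.JTwoType

open Subgroup
open scoped commutatorElement

set_option maxRecDepth 100000 in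
theorem perm5_centralizer_four : ∀ a b : Equiv.Perm (Fin 5), a ^ 2 = 1 → a ≠ 1 → b ^ 3 = 1 →
    b ≠ 1 → (a * b) ^ 3 = 1 → ∀ σ : Equiv.Perm (Fin 5), σ * a = a * σ → σ * b = b * σ → σ = 1 := by
  decide +kernel

/-- An automorphism of `A₅` fixing generators of an `A₄` is trivial. -/
theorem aut_eq_one {K : Type*} [Group K] (e : K ≃* alternatingGroup (Fin 5)) (θ : MulAut K) {a b : K}
    (ha : a ^ 2 = 1) (ha1 : a ≠ 1) (hb : b ^ 3 = 1) (hb1 : b ≠ 1) (hab : (a * b) ^ 3 = 1)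
    (hθa : θ a = a) (hθb : θ b = b) : θ = 1 := by
  obtain ⟨σ, hσ⟩ := CfsgLib.Perm.Zass.conjNormal_bijective.2 ((e.symm.trans θ).trans e)
  have hfix : ∀ x : K, θ x = x → σ * (e x : Equiv.Perm (Fin 5)) = (e x : Equiv.Perm (Fin 5)) * σ := by
    intro x hx
    have h := congrArg (fun y : alternatingGroup (Fin 5) => (y : Equiv.Perm (Fin 5)))
      (DFunLike.congr_fun hσ (e x))
    simp only [MulAut.conjNormal_apply, MulEquiv.trans_apply, MulEquiv.symm_apply_apply, hx] at h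
    exact mul_inv_eq_iff_eq_mul.1 h
  have hval : ∀ {x : K} {n : ℕ}, x ^ n = 1 → (e x : Equiv.Perm (Fin 5)) ^ n = 1 := fun {x n} h => by
    rw [← SubgroupClass.coe_pow, ← map_pow, h, map_one]; rfl
  have hne : ∀ {x : K}, x ≠ 1 → (e x : Equiv.Perm (Fin 5)) ≠ 1 := fun {x} h he =>
    h ((map_eq_one_iff e e.injective).1 (Subtype.ext he))
  have hs : σ = 1 := perm5_centralizer_four (e a) (e b) (hval ha) (hne ha1) (hval hb) (hne hb1)
    (by rw [← Subgroup.coe_mul, ← map_mul]; exact hval hab) σ (hfix a hθa) (hfix b hθb)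
  rw [hs, map_one] at hσ
  refine MulEquiv.ext fun x => e.injective ?_
  have h := DFunLike.congr_fun hσ (e x)
  simp only [MulAut.one_apply, MulEquiv.trans_apply, MulEquiv.symm_apply_apply] at h
  exact h.symm

/-- Transfer to an abelian Sylow subgroup `P = E R`, `R` centralised by the normaliser of `P`. -/
theorem exists_transfer_kernel {H : Type*} [Group H] [Finite H] (P : Sylow 2 H) (E R : Subgroup H)
    (hab : ∀ a ∈ (P : Subgroup H), ∀ b ∈ (P : Subgroup H), a * b = b * a)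
    (hE : E ≤ P) (hR : R ≤ P)
    (hdec : ∀ x ∈ (P : Subgroup H), ∃ e ∈ E, ∃ r ∈ R, e * r = x)
    (hE2 : ∀ e ∈ E, e ^ 2 = 1) (hR2 : ∀ r ∈ R, r ^ 2 = 1)
    (hN : ∀ n : H, (∀ d ∈ (P : Subgroup H), n * d * n⁻¹ ∈ (P : Subgroup H)) →
      ∀ r ∈ R, n * r = r * n)
    (hRE : ∀ r ∈ R, r ∈ E → r = 1) :
    ∃ K : Subgroup H, K.Normal ∧ (∀ a b : H, ⁅a, b⁆ ∈ K) ∧ (∀ x : H, x ^ 3 = 1 → x ∈ K) ∧
      (∀ r ∈ R, r ∈ K → r = 1) ∧ ∀ x : H, ∃ r ∈ R, r⁻¹ * x ∈ K := by
  classical
  have hPab : ∀ a b : (P : Subgroup H), a * b = b * a := fun a b =>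
    Subtype.ext (hab _ a.2 _ b.2)
  have hPcomm : IsMulCommutative (P : Subgroup H) := ⟨⟨hPab⟩⟩
  let E' : Subgroup (P : Subgroup H) := E.subgroupOf P
  have hE'n : E'.Normal := ⟨fun a ha b => by rw [hPab b a, mul_inv_cancel_right]; exact ha⟩
  letI : CommGroup ((P : Subgroup H) ⧸ E') :=
    { (inferInstance : Group ((P : Subgroup H) ⧸ E')) with
      mul_comm := fun x y => QuotientGroup.induction_on x fun a => QuotientGroup.induction_on y
        fun b => by rw [← QuotientGroup.mk_mul, ← QuotientGroup.mk_mul, hPab a b] }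
  let φ : (P : Subgroup H) →* (P : Subgroup H) ⧸ E' := QuotientGroup.mk' E'
  let f : H →* (P : Subgroup H) ⧸ E' := MonoidHom.transfer φ
  have hA2 : ∀ x : (P : Subgroup H) ⧸ E', x ^ 2 = 1 := by
    intro x
    induction x using QuotientGroup.induction_on with
    | H a =>
      rw [← QuotientGroup.mk_pow]
      refine (QuotientGroup.eq_one_iff _).2 ?_
      obtain ⟨e, he, r, hr, hy⟩ := hdec a a.2
      show ((a : H)) ^ 2 ∈ E
      rw [← hy, Commute.mul_pow (show Commute e r from hab _ (hE he) _ (hR hr)), hR2 r hr,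
        mul_one]
      exact pow_mem he 2
  have hodd : Odd (P : Subgroup H).index := by
    rw [← Nat.not_even_iff_odd, even_iff_two_dvd]
    exact P.not_dvd_index
  have hfR : ∀ (r : H) (hr : r ∈ R), f r = φ ⟨r, hR hr⟩ := by
    intro r hr
    have key : ∀ (k : ℕ) (g₀ : H), g₀⁻¹ * r ^ k * g₀ ∈ (P : Subgroup H) →
        g₀⁻¹ * r ^ k * g₀ = r ^ k := by
      intro k g₀ hg
      obtain ⟨n, hn, h⟩ := P.conj_eq_normalizer_conj_of_mem (r ^ k) g₀ (pow_mem (hR hr) k) hg
      rw [h]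
      have hc : n * r ^ k = r ^ k * n :=
        ((show Commute n r from hN n (fun d hd => (mem_normalizer_iff.1 hn d).1 hd) r hr).pow_right
          k).eq
      rw [mul_assoc, ← hc, inv_mul_cancel_left]
    show MonoidHom.transfer φ r = _
    rw [MonoidHom.transfer_eq_pow φ r key]
    obtain ⟨m, hm⟩ := hodd
    congr 1
    apply Subtype.ext
    show r ^ (P : Subgroup H).index = r
    rw [hm, pow_succ, pow_mul, hR2 r hr, one_pow, one_mul]
  refine ⟨f.ker, inferInstance, fun a b => ?_, fun x hx => ?_, fun r hr hrk => ?_, fun x => ?_⟩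
  · show f ⁅a, b⁆ = 1
    rw [map_commutatorElement, commutatorElement_eq_one_iff_mul_comm]
    exact mul_comm _ _
  · show f x = 1
    have h3 : f x ^ 3 = 1 := by rw [← map_pow, hx, map_one]
    rw [pow_succ, hA2 (f x), one_mul] at h3
    exact h3
  · have h1 : f r = 1 := hrk
    rw [hfR r hr] at h1
    exact hRE r hr ((QuotientGroup.eq_one_iff (N := E') _).1 h1)
  · obtain ⟨a, ha⟩ := QuotientGroup.mk'_surjective E' (f x)
    obtain ⟨e, he, r, hr, hy⟩ := hdec a a.2
    refine ⟨r, hr, ?_⟩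
    show f _ = 1
    rw [map_mul, map_inv, hfR r hr, inv_mul_eq_one, ← ha]
    refine QuotientGroup.eq.2 ?_
    show r⁻¹ * (a : H) ∈ E
    rw [← hy, hab _ (hE he) _ (hR hr), inv_mul_cancel_left]
    exact he

namespace Frame

variable {G : Type*} [Group G] [Finite G] {S : Setup G} (Fr : Frame S)

/-- The transfer kernel. -/
theorem exists_kernel : ∃ K : Subgroup G, K ≤ Fr.H ∧ (∀ h ∈ Fr.H, ∀ k ∈ K, h * k * h⁻¹ ∈ K) ∧
    Fr.four.E ≤ K ∧ Fr.w ∈ K ∧ (∀ r ∈ Fr.R, r ∈ K → r = 1) ∧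
    ∀ x ∈ Fr.H, ∃ r ∈ Fr.R, ∃ k ∈ K, r * k = x := by
  obtain ⟨P, hP⟩ := Fr.exists_sylow
  have hmemP : ∀ x : Fr.H, x ∈ (P : Subgroup Fr.H) ↔ (x : G) ∈ Fr.D := fun x => by
    rw [hP]; exact Iff.rfl
  obtain ⟨K, hKn, hcomm, h3, hRK, hdec⟩ := exists_transfer_kernel P
    (Fr.four.E.subgroupOf Fr.H) (Fr.R.subgroupOf Fr.H)
    (fun a ha b hb => Subtype.ext (Fr.D_comm ((hmemP _).1 ha) ((hmemP _).1 hb)))
    (fun x hx => (hmemP x).2 (Fr.E_le_D hx)) (fun x hx => (hmemP x).2 (Fr.R_le_D hx))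
    (fun x hx => by
      obtain ⟨e, he, r, hr, hy⟩ := Fr.exists_decomp ((hmemP x).1 hx)
      exact ⟨⟨e, (Fr.E_le_D he).2⟩, he, ⟨r, (Fr.R_le_D hr).2⟩, hr, Subtype.ext hy⟩)
    (fun e he => Subtype.ext (by
      obtain ⟨e, he'⟩ := e
      rcases Fr.four.mem_E.1 he with h | h | h | h <;> (change e = _ at h; subst h)
      · exact one_pow 2
      · exact S.z_sq
      · exact (sq _).trans Fr.four.u_sq
      · show (Fr.four.u * S.z) ^ 2 = 1
        rw [Commute.mul_pow Fr.four.z_comm.symm, (sq Fr.four.u).trans Fr.four.u_sq, S.z_sq,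
          one_mul]))
    (fun r hr => Subtype.ext (Fr.R_sq hr))
    (fun n hn r hr => Subtype.ext (Fr.normalizer_R n.2
      (fun d hd => (hmemP _).1 (hn ⟨d, hd.2⟩ ((hmemP _).2 hd))) hr))
    (fun r hr he => Subtype.ext (Fr.R_inf_E hr he))
  have hzH : S.z ∈ Fr.H := (Fr.E_le_D Fr.four.z_mem_E).2
  have huH : Fr.four.u ∈ Fr.H := (Fr.E_le_D Fr.four.u_mem_E).2
  have hzker : (⟨S.z, hzH⟩ : Fr.H) ∈ K := by
    convert hcomm ⟨Fr.w, Fr.w_mem_H⟩ ⟨Fr.four.u, huH⟩ using 1
    apply Subtype.ext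
    show S.z = ⁅Fr.w, Fr.four.u⁆
    rw [commutatorElement_def, Fr.w_u, ← Fr.four.z_comm, mul_inv_cancel_right]
  have huker : (⟨Fr.four.u, huH⟩ : Fr.H) ∈ K := by
    convert hcomm ⟨Fr.w, Fr.w_mem_H⟩ ⟨Fr.four.u * S.z, mul_mem huH hzH⟩ using 1
    apply Subtype.ext
    show Fr.four.u = ⁅Fr.w, Fr.four.u * S.z⁆
    rw [commutatorElement_def, Fr.w_uz, mul_inv_rev, mul_inv_cancel_left,
      inv_eq_of_mul_eq_one_right Fr.four.u_sq]
  refine ⟨K.map Fr.H.subtype, map_subtype_le _, ?_, ?_,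
    ⟨⟨Fr.w, Fr.w_mem_H⟩, h3 _ (Subtype.ext Fr.w_cube), rfl⟩, ?_, ?_⟩
  · rintro h hh _ ⟨k, hk, rfl⟩
    exact ⟨⟨h, hh⟩ * k * ⟨h, hh⟩⁻¹, hKn.conj_mem k hk _, rfl⟩
  · intro e he
    rcases Fr.four.mem_E.1 he with h | h | h | h <;> rw [h]
    · exact one_mem _
    · exact ⟨⟨S.z, hzH⟩, hzker, rfl⟩
    · exact ⟨⟨Fr.four.u, huH⟩, huker, rfl⟩
    · exact ⟨⟨Fr.four.u, huH⟩ * ⟨S.z, hzH⟩, mul_mem huker hzker, rfl⟩
  · rintro r hr ⟨k, hk, rfl⟩
    exact congrArg Subtype.val (hRK k hr hk)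
  · intro x hx
    obtain ⟨r, hr, hk⟩ := hdec ⟨x, hx⟩
    exact ⟨r, hr, _, ⟨_, hk, rfl⟩, mul_inv_cancel_left _ _⟩

/-- The structure of `H = C(t)`. -/
structure Central where
  /-- the direct complement of `R` -/
  K : Subgroup G
  K_le : K ≤ Fr.H
  K_norm : ∀ h ∈ Fr.H, ∀ k ∈ K, h * k * h⁻¹ ∈ K
  E_le : Fr.four.E ≤ K
  w_mem : Fr.w ∈ K
  inf_R : ∀ r ∈ Fr.R, r ∈ K → r = 1
  decomp : ∀ x ∈ Fr.H, ∃ r ∈ Fr.R, ∃ k ∈ K, r * k = x
  R_comm : ∀ r ∈ Fr.R, ∀ k ∈ K, r * k = k * r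
  invol : ∀ k ∈ K, k ^ 2 = 1 → ∃ v ∈ K, v * k * v⁻¹ ∈ Fr.four.E
  pow15 : ∀ k ∈ K, k ^ 2 = 1 ∨ k ^ 15 = 1
  cases : (Nat.card K = 12 ∧ ∀ k ∈ K, k ^ 2 = 1 → k ∈ Fr.four.E) ∨
    Nonempty (K ≃* alternatingGroup (Fin 5))

theorem exists_central : Nonempty Fr.Central := by
  classical
  haveI : Fact (Nat.Prime 2) := ⟨Nat.prime_two⟩
  obtain ⟨K, hKH, hKn, hEK, hwK, hRK, hdec⟩ := Fr.exists_kernel
  have hzK : S.z ∈ K := hEK Fr.four.z_mem_E
  have huK : Fr.four.u ∈ K := hEK Fr.four.u_mem_E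
  let zK : K := ⟨S.z, hzK⟩
  let wK : K := ⟨Fr.w, hwK⟩
  have hzK2 : orderOf zK = 2 := by
    rw [← Subgroup.orderOf_coe]
    exact S.ord
  -- the centraliser of `z` in `K`
  have hCK : ∀ x : G, x ∈ K → x * S.z = S.z * x → x ∈ Fr.four.E := by
    intro x hx hxz
    obtain ⟨e, he, r, hr, hy⟩ := Fr.exists_decomp (y := x) ⟨(S.mem_C x).2 hxz, hKH hx⟩
    have hrK : r ∈ K := by
      have h := mul_mem (inv_mem (hEK he)) hx
      rwa [← hy, inv_mul_cancel_left] at h
    rw [hRK r hr hrK, mul_one] at hy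
    exact hy ▸ he
  have hCmem : ∀ x : K, x ∈ centralizer ({zK} : Set K) ↔ (x : G) ∈ Fr.four.E := fun x =>
    ⟨fun h => hCK x x.2 (congrArg Subtype.val (mem_centralizer_singleton_iff.1 h) :),
      fun h => mem_centralizer_singleton_iff.2 (Subtype.ext
        (Fr.four.comm_E (Fr.four.E_le_M Fr.four.z_mem_E) h).symm)⟩
  have hC4 : Nat.card (centralizer ({zK} : Set K)) = 4 := by
    rw [← Fr.four.card_EM]
    exact Nat.card_congr
      { toFun := fun x => ⟨⟨(x : K), Fr.four.E_le_M ((hCmem _).1 x.2)⟩, (hCmem _).1 x.2⟩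
        invFun := fun e => ⟨⟨(e : Fr.four.M), hEK e.2⟩, (hCmem _).2 e.2⟩
        left_inv := fun x => rfl
        right_inv := fun x => rfl }
  have hE2 : ∀ e ∈ Fr.four.E, e ^ 2 = 1 := by
    intro e he
    rcases he with rfl | rfl | rfl | rfl
    exacts [one_pow 2, S.z_sq, (sq _).trans Fr.four.u_sq, by
      rw [Commute.mul_pow Fr.four.z_comm.symm, (sq Fr.four.u).trans Fr.four.u_sq, S.z_sq, one_mul]]
  have hCe : ∀ x ∈ centralizer ({zK} : Set K), x ^ 2 = 1 := fun x hx =>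
    Subtype.ext (hE2 _ ((hCmem x).1 hx))
  have hnc : ¬ Cfsg.HasNormalPComplement 2 K := by
    intro h
    obtain ⟨N, hN, hodd, k, hk⟩ := CfsgLib.Transfer.hasNormalPComplement_iff_exists.1 h
    have hwN : wK ∈ N := by
      rw [← QuotientGroup.eq_one_iff]
      have h3 : ((wK : K ⧸ N)) ^ 3 = 1 := by
        rw [← QuotientGroup.mk_pow, show wK ^ 3 = 1 from Subtype.ext Fr.w_cube, QuotientGroup.mk_one]
      have h1 : orderOf (wK : K ⧸ N) ∣ 3 := orderOf_dvd_of_pow_eq_one h3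
      have h2 : orderOf (wK : K ⧸ N) ∣ 2 ^ k := hk ▸ orderOf_dvd_natCard _
      exact orderOf_eq_one_iff.1 (Nat.eq_one_of_dvd_one (by
        have := Nat.dvd_gcd h1 h2
        rwa [Nat.Coprime.gcd_eq_one (Nat.Coprime.pow_right k (by norm_num))] at this))
    have hm : wK * zK * wK⁻¹ * zK⁻¹ ∈ N := by
      rw [mul_assoc, mul_assoc]
      exact mul_mem hwN (by rw [← mul_assoc]; exact hN.conj_mem _ (inv_mem hwN) zK)
    have ho : orderOf (⟨_, hm⟩ : N) = 2 := by
      rw [← Subgroup.orderOf_coe, ← Subgroup.orderOf_coe]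
      show orderOf (Fr.w * S.z * Fr.w⁻¹ * S.z⁻¹) = 2
      rw [Fr.w_z, inv_eq_of_mul_eq_one_right (Four.z_mul_z (S := S))]
      exact orderOf_eq_prime (hE2 _ (mul_mem Fr.four.u_mem_E Fr.four.z_mem_E)) Fr.four.uz_ne.1
    exact hodd (ho ▸ orderOf_dvd_natCard _)
  have hzw3 : (S.z * Fr.w) ^ 3 = 1 := by
    calc (S.z * Fr.w) ^ 3
        = S.z * (Fr.w * S.z * Fr.w⁻¹) * (Fr.w * (Fr.w * S.z * Fr.w⁻¹) * Fr.w⁻¹) * Fr.w ^ 3 := by
          simp [pow_succ, mul_assoc]
      _ = 1 := by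
        rw [Fr.w_z, Fr.w_u, Fr.w_cube, mul_one, mul_assoc, ← mul_assoc Fr.four.u, Fr.four.u_sq,
          one_mul, Four.z_mul_z (S := S)]
  have hw1 : Fr.w ≠ 1 := fun h => Fr.four.uz_ne.2.2.2 (by
    have := Fr.w_z
    rwa [h, one_mul, inv_one, mul_one] at this)
  have hconjE : ∀ v ∈ Fr.H, ∀ e ∈ Fr.four.E, ∀ k : G, v * k * v⁻¹ = e → k ^ 2 = 1 := by
    intro v _ e he k hk
    have h := congrArg (fun y => y ^ 2) hk
    simp only [conj_pow, hE2 e he, conj_eq_one_iff] at h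
    exact h
  rcases klein_centralizer_cases zK hzK2 hC4 hCe hnc with ⟨N, hN, hNel, hNcard⟩ | hA5
  · -- `E` is normal in `K`
    have hNE : ∀ x : K, x ∈ N ↔ (x : G) ∈ Fr.four.E := by
      -- an element of `N` fixed by `z`
      obtain ⟨a, haN, ha1, haz⟩ : ∃ a ∈ N, a ≠ 1 ∧ zK * a = a * zK := by
        haveI : Nontrivial N := Finite.one_lt_card_iff_nontrivial.1 (by rcases hNcard with h | h <;>
          omega)
        obtain ⟨⟨a, ha⟩, hne⟩ := exists_ne (1 : N)
        by_cases hfix : zK * a * zK⁻¹ = a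
        · exact ⟨a, ha, fun h => hne (Subtype.ext h), mul_inv_eq_iff_eq_mul.1 hfix⟩
        · have hb : zK * a * zK⁻¹ ∈ N := hN.conj_mem a ha zK
          refine ⟨zK * a * zK⁻¹ * a, mul_mem hb ha, fun h => hfix ?_, ?_⟩
          · rw [mul_eq_one_iff_eq_inv.1 h]
            exact inv_eq_of_mul_eq_one_right ((sq a).symm.trans (hNel.2 a ha))
          · have hcomm : zK * a * zK⁻¹ * a = a * (zK * a * zK⁻¹) :=
              congrArg Subtype.val (hNel.1.is_comm.comm ⟨_, hb⟩ ⟨a, ha⟩)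
            have hzz' : zK⁻¹ = zK :=
              inv_eq_of_mul_eq_one_right (Subtype.ext (Four.z_mul_z (S := S)))
            have hz1 : zK * zK = 1 := Subtype.ext (Four.z_mul_z (S := S))
            rw [hzz'] at hcomm ⊢
            calc zK * (zK * a * zK * a) = zK * (a * (zK * a * zK)) := by rw [hcomm]
              _ = zK * a * zK * a * zK := by simp only [mul_assoc]
      have haE : (a : G) ∈ Fr.four.E := hCK a a.2 (congrArg Subtype.val haz.symm :)
      have hw : ∀ e : G, e ∈ Fr.four.E → ∀ he : e ∈ K, (⟨e, he⟩ : K) ∈ N →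
          (⟨Fr.w * e * Fr.w⁻¹, mul_mem (mul_mem hwK he) (inv_mem hwK)⟩ : K) ∈ N :=
        fun e _ he h => hN.conj_mem _ h wK
      have hgen : zK ∈ N ∧ (⟨Fr.four.u, huK⟩ : K) ∈ N := by
        rcases Fr.four.mem_E.1 haE with h | h | h | h
        · exact absurd (Subtype.ext h) ha1
        · have hz : zK ∈ N := by rwa [show zK = a from Subtype.ext h.symm]
          refine ⟨hz, ?_⟩
          convert hw _ Fr.four.z_mem_E hzK hz using 1
          exact Subtype.ext Fr.w_z.symm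
        · have hu : (⟨Fr.four.u, huK⟩ : K) ∈ N := by
            rwa [show (⟨Fr.four.u, huK⟩ : K) = a from Subtype.ext h.symm]
          refine ⟨?_, hu⟩
          convert mul_mem hu (hw _ Fr.four.u_mem_E huK hu) using 1
          apply Subtype.ext
          show S.z = Fr.four.u * (Fr.w * Fr.four.u * Fr.w⁻¹)
          rw [show Fr.w * Fr.four.u * Fr.w⁻¹ = Fr.four.u * S.z from Fr.w_u, ← mul_assoc,
            Fr.four.u_sq, one_mul]
        · have hmem : Fr.four.u * S.z ∈ K := mul_mem huK hzK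
          have huz : (⟨_, hmem⟩ : K) ∈ N := by
            rwa [show (⟨_, hmem⟩ : K) = a from Subtype.ext h.symm]
          have hz : zK ∈ N := by
            convert hw _ (mul_mem Fr.four.u_mem_E Fr.four.z_mem_E) hmem huz using 1
            exact Subtype.ext Fr.w_uz.symm
          refine ⟨hz, ?_⟩
          convert mul_mem huz hz using 1
          apply Subtype.ext
          show Fr.four.u = Fr.four.u * S.z * S.z
          rw [mul_assoc, Four.z_mul_z (S := S), mul_one]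
      have hle : centralizer ({zK} : Set K) ≤ N := by
        intro x hx
        rcases Fr.four.mem_E.1 ((hCmem x).1 hx) with h | h | h | h
        · rw [show x = 1 from Subtype.ext h]; exact one_mem _
        · rw [show x = zK from Subtype.ext h]; exact hgen.1
        · rw [show x = ⟨Fr.four.u, huK⟩ from Subtype.ext h]; exact hgen.2
        · rw [show x = ⟨Fr.four.u, huK⟩ * zK from Subtype.ext h]; exact mul_mem hgen.2 hgen.1
      intro x
      rw [← hCmem, Subgroup.eq_of_le_of_card_ge hle (by rcases hNcard with h | h <;> omega)]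
    have hKN : ∀ x : G, x ∈ K → ∀ e ∈ Fr.four.E, x * e * x⁻¹ ∈ Fr.four.E := fun x hx e he =>
      (hNE _).1 (hN.conj_mem ⟨e, hEK he⟩ ((hNE _).2 he) ⟨x, hx⟩)
    have hform : ∀ x : G, x ∈ K → ∃ i : Fin 3, ∃ e ∈ Fr.four.E, Fr.w ^ i.val * e = x := by
      intro x hx
      have hgo : ∀ i : ℕ, (Fr.w ^ i)⁻¹ * x * S.z * ((Fr.w ^ i)⁻¹ * x)⁻¹ = S.z →
          ∃ e ∈ Fr.four.E, Fr.w ^ i * e = x := fun i h =>
        ⟨_, hCK _ (mul_mem (inv_mem (pow_mem hwK i)) hx) (mul_inv_eq_iff_eq_mul.1 h),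
          mul_inv_cancel_left _ _⟩
      have hrew : ∀ i : ℕ, (Fr.w ^ i)⁻¹ * x * S.z * ((Fr.w ^ i)⁻¹ * x)⁻¹ =
          (Fr.w ^ i)⁻¹ * (x * S.z * x⁻¹) * Fr.w ^ i := fun i => by simp [mul_assoc]
      rcases hKN x hx _ Fr.four.z_mem_E with h | h | h | h
      · exact absurd (conj_eq_one_iff.1 h) S.z_ne_one
      · exact ⟨0, hgo 0 (by rw [hrew]; simp [h])⟩
      · refine ⟨1, hgo 1 ?_⟩
        rw [hrew, h, show Fr.four.u = Fr.w * S.z * Fr.w⁻¹ from Fr.w_z.symm]
        simp [mul_assoc]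
      · refine ⟨2, hgo 2 ?_⟩
        rw [hrew, h,
          show Fr.four.u * S.z = Fr.w * Fr.four.u * Fr.w⁻¹ from Fr.w_u.symm,
          show Fr.four.u = Fr.w * S.z * Fr.w⁻¹ from Fr.w_z.symm]
        simp [sq, mul_assoc]
    have hcube : ∀ (i : Fin 3), ∀ e ∈ Fr.four.E, i.val ≠ 0 → (Fr.w ^ i.val * e) ^ 3 = 1 := by
      intro i e he hi
      have hwi : Fr.w ^ i.val ∈ normalizer (Fr.four.E : Set G) := pow_mem Fr.w_normalizer _
      have h3 : (Fr.w ^ i.val) ^ 3 = 1 := by rw [← pow_mul, mul_comm, pow_mul, Fr.w_cube, one_pow]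
      generalize hv : Fr.w ^ i.val = v at hwi h3 ⊢
      have hin : (v * e) ^ 3 ∈ Fr.four.E := by
        have e1 : (v * e) ^ 3 = v * e * v⁻¹ * (v * (v * e * v⁻¹) * v⁻¹) *
            (v ^ 3 * e) := by simp [pow_succ, mul_assoc]
        rw [e1, h3, one_mul]
        exact mul_mem (mul_mem (Fr.four.conj_mem_E hwi he)
          (Fr.four.conj_mem_E hwi (Fr.four.conj_mem_E hwi he))) he
      -- it commutes with `v e`, hence with `v` and with `w`
      have hc : Commute (v * e) ((v * e) ^ 3) := (Commute.refl _).pow_right 3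
      have hec : Commute e ((v * e) ^ 3) := Fr.four.comm_E (Fr.four.E_le_M he) hin
      have hvc : Commute v ((v * e) ^ 3) := by
        have h' := hc.mul_left hec.inv_left
        rwa [mul_inv_cancel_right] at h'
      refine Fr.w_fixes_E hin ?_
      have hw : Fr.w = v ^ (if i.val = 1 then 1 else 2) := by
        rw [← hv, ← pow_mul]
        have := i.isLt
        split_ifs with h1
        · rw [h1, pow_one]
        · rw [show i.val * 2 = 3 * 1 + 1 by omega, pow_succ, pow_mul, Fr.w_cube, one_pow, one_mul]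
      rw [hw]
      exact (hvc.pow_left _).eq
    have hinvol : ∀ k ∈ K, k ^ 2 = 1 → k ∈ Fr.four.E := by
      intro k hk hk2
      obtain ⟨i, e, he, rfl⟩ := hform k hk
      by_cases hi : i.val = 0
      · rw [hi, pow_zero, one_mul]; exact he
      · have h3 := hcube i e he hi
        rw [pow_succ, hk2, one_mul] at h3
        rw [h3]
        exact one_mem _
    have hK12 : Nat.card K = 12 := by
      have hb : Function.Bijective (fun p : Fin 3 × Fr.four.EM =>
          (⟨Fr.w ^ p.1.val * ((p.2 : Fr.four.M) : G),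
            mul_mem (pow_mem hwK _) (hEK p.2.2)⟩ : K)) := by
        constructor
        · rintro ⟨i, e⟩ ⟨j, e'⟩ h
          have h' : Fr.w ^ i.val * ((e : Fr.four.M) : G) = Fr.w ^ j.val * ((e' : Fr.four.M) : G) :=
            congrArg Subtype.val h
          have hij : i = j := by
            by_contra hne
            have hm : (Fr.w ^ j.val)⁻¹ * Fr.w ^ i.val ∈ Fr.four.E := by
              have e1 : (Fr.w ^ j.val)⁻¹ * Fr.w ^ i.val =
                  ((e' : Fr.four.M) : G) * ((e : Fr.four.M) : G)⁻¹ := by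
                rw [inv_mul_eq_iff_eq_mul, ← mul_assoc, eq_mul_inv_iff_mul_eq]; exact h'
              rw [e1]
              exact mul_mem e'.2 (inv_mem e.2)
            have h1 := Fr.w_fixes_E hm (((Commute.refl Fr.w).pow_right j.val).inv_right.mul_right
              ((Commute.refl Fr.w).pow_right i.val)).eq
            rw [inv_mul_eq_one] at h1
            have ho : orderOf Fr.w = 3 := by
              haveI : Fact (Nat.Prime 3) := ⟨Nat.prime_three⟩
              exact orderOf_eq_prime Fr.w_cube hw1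
            exact hne (Fin.ext (pow_injOn_Iio_orderOf (by rw [ho]; exact i.isLt)
              (by rw [ho]; exact j.isLt) h1.symm))
          subst hij
          exact Prod.ext rfl (Subtype.ext (Subtype.ext (mul_left_cancel h')))
        · rintro ⟨x, hx⟩
          obtain ⟨i, e, he, hie⟩ := hform x hx
          exact ⟨(i, ⟨⟨e, Fr.four.E_le_M he⟩, he⟩), Subtype.ext hie⟩
      rw [← Nat.card_congr (Equiv.ofBijective _ hb), Nat.card_prod, Nat.card_fin, Fr.four.card_EM]
    refine ⟨⟨K, hKH, hKn, hEK, hwK, hRK, hdec, fun r hr k hk => ?_,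
      fun k hk hk2 => ⟨1, one_mem _, by simpa using hinvol k hk hk2⟩, fun k hk => ?_,
      Or.inl ⟨hK12, hinvol⟩⟩⟩
    · obtain ⟨i, e, he, rfl⟩ := hform k hk
      exact (((show Commute r Fr.w from Fr.R_w hr).pow_right _).mul_right (Fr.R_comm_E hr he)).eq
    · obtain ⟨i, e, he, rfl⟩ := hform k hk
      by_cases hi : i.val = 0
      · left; rw [hi, pow_zero, one_mul]; exact hE2 e he
      · right; rw [show 15 = 3 * 5 from rfl, pow_mul, hcube i e he hi, one_pow]
  · obtain ⟨e⟩ := hA5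
    refine ⟨⟨K, hKH, hKn, hEK, hwK, hRK, hdec, fun r hr k hk => ?_, fun k hk hk2 => ?_,
      fun k hk => ?_, Or.inr ⟨e⟩⟩⟩
    · let θ : MulAut K :=
        { toFun := fun x => ⟨r * x * r⁻¹, hKn r (Fr.R_le_D hr).2 x x.2⟩
          invFun := fun x => ⟨r⁻¹ * x * r, by
            have := hKn r⁻¹ (inv_mem (Fr.R_le_D hr).2) x x.2
            rwa [inv_inv] at this⟩
          left_inv := fun x => Subtype.ext (by simp [mul_assoc])
          right_inv := fun x => Subtype.ext (by simp [mul_assoc])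
          map_mul' := fun x y => Subtype.ext (by simp [mul_assoc]) }
      have hθ : θ = 1 := aut_eq_one e θ (a := zK) (b := wK) (Subtype.ext S.z_sq)
        (fun h => S.z_ne_one (congrArg Subtype.val h)) (Subtype.ext Fr.w_cube)
        (fun h => hw1 (congrArg Subtype.val h)) (Subtype.ext hzw3)
        (Subtype.ext (mul_inv_eq_iff_eq_mul.2 (Fr.R_comm_E hr Fr.four.z_mem_E)))
        (Subtype.ext (mul_inv_eq_iff_eq_mul.2 (Fr.R_w hr)))
      have h : r * k * r⁻¹ = k :=
        congrArg Subtype.val (DFunLike.congr_fun hθ (⟨k, hk⟩ : K))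
      exact mul_inv_eq_iff_eq_mul.1 h
    · by_cases hk1 : k = 1
      · exact ⟨1, one_mem _, by simp [hk1]⟩
      · obtain ⟨c, hc⟩ := a5_conj_invol (e ⟨k, hk⟩) (e zK)
          (by rw [← map_pow, map_eq_one_iff e e.injective]; exact Subtype.ext hk2)
          (fun h => hk1 (congrArg Subtype.val ((map_eq_one_iff e e.injective).1 h)))
          (by rw [← map_pow, map_eq_one_iff e e.injective]; exact Subtype.ext S.z_sq)
          (fun h => S.z_ne_one (congrArg Subtype.val ((map_eq_one_iff e e.injective).1 h)))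
        obtain ⟨v, rfl⟩ := e.surjective c
        rw [← map_inv, ← map_mul, ← map_mul] at hc
        refine ⟨v, v.2, ?_⟩
        rw [show (v : G) * k * (v : G)⁻¹ = S.z from congrArg Subtype.val (e.injective hc)]
        exact Fr.four.z_mem_E
    · rcases JTwoOrder.a5_odd_pow (e ⟨k, hk⟩) with h | h <;>
        rw [← map_pow, map_eq_one_iff e e.injective] at h
      · exact Or.inl (congrArg Subtype.val h)
      · exact Or.inr (congrArg Subtype.val h)

end Frame

end CfsgLib.Small.JTwoType
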