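import Mathlib
import Cfsg.Agent.Lib.Small.JankoTwoCentral
import Cfsg.Agent.S0213

/-!
# Hall–Janko type: `C(t) ≅ 2² × A₅` and the order 604800
-/

set_option autoImplicit false
set_option linter.unusedSectionVars false

namespace CfsgLib.Small.JTwoType

open Subgroup

namespace Setup

variable {G : Type*} [Group G] [Finite G] (S : Setup G)

theorem card_conj_inside : Nat.card {y : G // IsConj S.z y ∧ y ∈ S.C} = 11 := by
  classical
  have e1 : Nat.card {y : G // IsConj S.z y ∧ y ∈ S.C} = Nat.card {q : S.Q // q ^ 2 = 1 ∧ q ≠ 1} := by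
    refine Nat.card_congr
      { toFun := fun y => ⟨⟨⟨y.1, y.2.2⟩, S.mem_Q_of_conj (x := ⟨y.1, y.2.2⟩) y.2.1⟩,
          Subtype.ext (Subtype.ext (JTwoOrder.sq_of_isConj S.ord y.2.1)),
          fun h => JTwoOrder.not_isConj_one S.ord y.2.1
            (congrArg (fun q : S.Q => ((q : S.C) : G)) h)⟩
        invFun := fun q => ⟨((q.1 : S.C) : G), S.conj_Q q.1 q.2.1 q.2.2, (q.1 : S.C).2⟩
        left_inv := fun y => rfl
        right_inv := fun q => rfl }
  have e2 := Nat.card_congr (Equiv.sumCompl fun q : {q : S.Q // q ^ 2 = 1} => q.1 ≠ 1)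
  rw [Nat.card_sum, S.card_sq_one,
    Nat.card_congr (Equiv.subtypeSubtypeEquivSubtypeInter (fun q : S.Q => q ^ 2 = 1) fun q => q ≠ 1),
    Nat.card_congr (Equiv.subtypeSubtypeEquivSubtypeInter (fun q : S.Q => q ^ 2 = 1)
      fun q => ¬ q ≠ 1)] at e2
  have e3 : Nat.card {q : S.Q // q ^ 2 = 1 ∧ ¬ q ≠ 1} = 1 := by
    rw [Nat.card_eq_one_iff_unique]
    exact ⟨⟨fun a b => Subtype.ext ((not_not.1 a.2.2).trans (not_not.1 b.2.2).symm)⟩,
      ⟨⟨1, one_pow 2, not_not.2 rfl⟩⟩⟩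
  omega

include S in
/-- A group of order 51840 is not of Hall–Janko type. -/
theorem card_ne : Nat.card G ≠ 51840 := by
  classical
  intro hG
  have h27 : Nat.card {y : G // IsConj S.z y} = 27 := by
    have e : Nat.card {y : G // IsConj S.z y} * Nat.card S.C = Nat.card G :=
      CfsgLib.Involutions.card_conjugates_mul S.z
    rw [S.card_C, hG] at e
    omega
  have h16 : Nat.card {y : G // IsConj S.z y ∧ y ∉ S.C} = 16 := by
    have e := Nat.card_congr (Equiv.sumCompl fun y : {y : G // IsConj S.z y} => y.1 ∈ S.C)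
    rw [Nat.card_sum, h27,
      Nat.card_congr (Equiv.subtypeSubtypeEquivSubtypeInter (fun y : G => IsConj S.z y)
        fun y => y ∈ S.C),
      Nat.card_congr (Equiv.subtypeSubtypeEquivSubtypeInter (fun y : G => IsConj S.z y)
        fun y => y ∉ S.C), S.card_conj_inside] at e
    omega
  obtain ⟨⟨y, hy, hyC⟩⟩ : Nonempty {y : G // IsConj S.z y ∧ y ∉ S.C} :=
    (Nat.card_pos_iff.1 (by omega)).1
  let T : Subgroup S.C := (centralizer ({y} : Set G)).comap S.C.subtype
  have hmemT : ∀ c : S.C, c ∈ T ↔ (c : G) * y = y * (c : G) := fun c =>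
    mem_centralizer_singleton_iff
  -- the stabiliser is large
  have hindex : T.index ≤ 16 := by
    rw [← h16, Subgroup.index_eq_card]
    let f : S.C ⧸ T → {y : G // IsConj S.z y ∧ y ∉ S.C} := fun q =>
      ⟨(q.out : G) * y * (q.out : G)⁻¹, hy.trans (isConj_iff.2 ⟨_, rfl⟩), fun h => hyC (by
        have h2 := mul_mem (mul_mem (inv_mem q.out.2) h) q.out.2
        simpa [mul_assoc] using h2)⟩
    refine Nat.card_le_card_of_injective f fun a b h => ?_
    have h' : (a.out : G) * y * (a.out : G)⁻¹ = (b.out : G) * y * (b.out : G)⁻¹ :=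
      congrArg Subtype.val h
    rw [← QuotientGroup.out_eq' a, ← QuotientGroup.out_eq' b, QuotientGroup.eq, hmemT]
    show (a.out : G)⁻¹ * (b.out : G) * y = y * ((a.out : G)⁻¹ * (b.out : G))
    calc (a.out : G)⁻¹ * (b.out : G) * y
        = (a.out : G)⁻¹ * ((b.out : G) * y * (b.out : G)⁻¹) * (b.out : G) := by simp [mul_assoc]
      _ = _ := by rw [← h']; simp [mul_assoc]
  have hT : 120 ≤ Nat.card T := by
    have e := Subgroup.card_mul_index T
    rw [S.card_C] at e
    nlinarith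
  -- the kernel of `T → A₅`
  let f : T →* alternatingGroup (Fin 5) := S.proj.comp T.subtype
  have hkQ : ∀ k : f.ker, ((k : T) : S.C) ∈ S.Q := fun k => (S.proj_eq_one _).1 k.2
  have hz : S.zC ∉ T := fun h => hyC ((S.mem_C y).2 ((hmemT _).1 h).symm)
  have hker2 : ∀ k : f.ker, ((k : T) : S.C) ^ 2 = 1 := by
    intro k
    rcases S.es.sq_eq ⟨_, hkQ k⟩ with h | h
    · exact congrArg (fun q : S.Q => (q : S.C)) h
    · exfalso
      apply hz
      have h' : ((k : T) : S.C) ^ 2 = S.zC := congrArg (fun q : S.Q => (q : S.C)) h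
      rw [← h']
      exact pow_mem (k : T).2 2
  have hnc : ∀ k : f.ker, k ≠ 1 → (⟨_, hkQ k⟩ : S.Q) ∉ center S.Q := by
    intro k hk h
    rcases (S.es.center_iff _).1 h with h | h
    · exact hk (Subtype.ext (Subtype.ext (congrArg (fun q : S.Q => (q : S.C)) h :)))
    · apply hz
      have h' : ((k : T) : S.C) = S.zC := congrArg (fun q : S.Q => (q : S.C)) h
      rw [← h']
      exact (k : T).2
  have huniq : ∀ a b : f.ker, a ≠ 1 → b ≠ 1 → a = b := by
    intro a b ha hb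
    have hab : (⟨_, hkQ b⟩ : S.Q) * ⟨_, hkQ a⟩ = ⟨_, hkQ a⟩ * ⟨_, hkQ b⟩ := by
      apply Subtype.ext
      show ((b : T) : S.C) * ((a : T) : S.C) = ((a : T) : S.C) * ((b : T) : S.C)
      have h1 : ((a : T) : S.C)⁻¹ = (a : T) :=
        inv_eq_of_mul_eq_one_right ((sq _).symm.trans (hker2 a))
      have h2 : ((b : T) : S.C)⁻¹ = (b : T) :=
        inv_eq_of_mul_eq_one_right ((sq _).symm.trans (hker2 b))
      have h3 : (((a : T) : S.C) * ((b : T) : S.C))⁻¹ = ((a : T) : S.C) * ((b : T) : S.C) :=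
        inv_eq_of_mul_eq_one_right ((sq _).symm.trans (hker2 (a * b)))
      rwa [mul_inv_rev, h1, h2] at h3
    rcases S.pair (u := ⟨_, hkQ a⟩) (Subtype.ext (hker2 a)) (hnc a ha) (x := ⟨_, hkQ b⟩)
      (Subtype.ext (hker2 b)) hab with h | h | h | h
    · exact absurd (Subtype.ext (Subtype.ext (congrArg (fun q : S.Q => (q : S.C)) h :))) hb
    · exfalso
      apply hz
      have h' : ((b : T) : S.C) = S.zC := congrArg (fun q : S.Q => (q : S.C)) h
      rw [← h']
      exact (b : T).2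
    · exact (Subtype.ext (Subtype.ext (congrArg (fun q : S.Q => (q : S.C)) h :))).symm
    · exfalso
      apply hz
      have h' : ((b : T) : S.C) = ((a : T) : S.C) * S.zC :=
        congrArg (fun q : S.Q => (q : S.C)) h
      rw [show S.zC = ((a : T) : S.C)⁻¹ * ((b : T) : S.C) from by rw [h', inv_mul_cancel_left]]
      exact mul_mem (inv_mem (a : T).2) (b : T).2
  have hker : Nat.card f.ker ≤ 2 := by
    refine (Nat.card_le_card_of_injective (fun k : f.ker => decide (k = 1)) fun a b h => ?_).trans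
      (by simp)
    by_cases ha : a = 1
    · simp only [ha, decide_true] at h
      exact ha.trans (of_decide_eq_true h.symm).symm
    · simp only [ha, decide_false] at h
      exact huniq a b ha (of_decide_eq_false h.symm)
  have e : Nat.card f.ker * Nat.card f.range = Nat.card T := by
    rw [← Subgroup.index_ker, Subgroup.card_mul_index]
  have h60 : Nat.card (alternatingGroup (Fin 5)) = 60 := by
    rw [nat_card_alternatingGroup, Nat.card_fin]; rfl
  have hr : Nat.card f.range ≤ 60 := by rw [← h60]; exact Subgroup.card_le_card_group _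
  have hk2 : Nat.card f.ker = 2 := by nlinarith
  have hr60 : f.range = ⊤ := Subgroup.eq_top_of_card_eq _ (by rw [h60]; nlinarith)
  obtain ⟨k, hk1, -⟩ := (Nat.card_eq_two_iff' (1 : f.ker)).1 hk2
  obtain ⟨x, hx, hx1⟩ := a5_exists_five
  obtain ⟨s, hs⟩ : ∃ s : T, f s = x := by
    have h : x ∈ f.range := hr60 ▸ mem_top x
    exact h
  have h10 : s ^ 10 = 1 := by
    have h5 : s ^ 5 ∈ f.ker := by rw [MonoidHom.mem_ker, map_pow, hs, hx]
    have h := hker2 ⟨_, h5⟩
    rw [show 10 = 5 * 2 from rfl, pow_mul]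
    exact Subtype.ext h
  have hg : ((s ^ 6 : T) : S.C) ^ 5 = 1 := by
    rw [← SubgroupClass.coe_pow, ← pow_mul, show 6 * 5 = 10 * 3 from rfl, pow_mul, h10, one_pow]
    rfl
  have hgx : S.proj ((s ^ 6 : T) : S.C) ≠ 1 := by
    show f (s ^ 6) ≠ 1
    rw [map_pow, hs, show 6 = 5 + 1 from rfl, pow_add, hx, one_mul, pow_one]
    exact hx1
  refine hnc k hk1 (S.fix_five hg hgx _ (Subtype.ext ?_))
  rw [S.cn_apply]
  show ((s ^ 6 : T) : S.C) * ((k : T) : S.C) * ((s ^ 6 : T) : S.C)⁻¹ = ((k : T) : S.C)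
  have hconj : (⟨s ^ 6 * (k : T) * (s ^ 6)⁻¹, (inferInstance : f.ker.Normal).conj_mem _ k.2 _⟩ :
      f.ker) = k := huniq _ _ (fun h => hk1 (Subtype.ext (conj_eq_one_iff.1
        (congrArg Subtype.val h)))) hk1
  exact congrArg (fun q : f.ker => ((q : T) : S.C)) hconj

end Setup

namespace Frame

variable {G : Type*} [Group G] [Finite G] {S : Setup G} {Fr : Frame S} (X : Fr.Central)

theorem Central.idp : Cfsg.IsInternalDirectProduct Fr.R X.K Fr.H := by
  refine ⟨fun r hr => (Fr.R_le_D hr).2, X.K_le, X.R_comm, ?_, ?_⟩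
  · rw [eq_bot_iff]
    exact fun r hr => mem_bot.2 (X.inf_R r hr.1 hr.2)
  · refine le_antisymm (sup_le (fun r hr => (Fr.R_le_D hr).2) X.K_le) fun x hx => ?_
    obtain ⟨r, hr, k, hk, rfl⟩ := X.decomp x hx
    exact mul_mem (mem_sup_left hr) (mem_sup_right hk)

theorem Central.conj_z {k : G} (hk : k ∈ X.K) (h2 : orderOf k = 2) : IsConj k S.z := by
  obtain ⟨v, -, hv⟩ := X.invol k hk (by rw [← h2, pow_orderOf_eq_one])
  have hne : v * k * v⁻¹ ≠ 1 := fun h => by
    rw [conj_eq_one_iff] at h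
    rw [h] at h2
    simp at h2
  exact (isConj_iff.2 ⟨v, rfl⟩).trans (Fr.conj_z_of_E hv hne).symm

theorem Central.conj_t {x : G} (hx : x ∈ Fr.H) (h2 : orderOf x = 2) (hxK : x ∉ X.K) :
    IsConj x (Fr.t : G) := by
  refine (S.classes Fr.t_sq Fr.t_not x h2).resolve_left fun hz => hxK ?_
  obtain ⟨r, hr, k, hk, rfl⟩ := X.decomp x hx
  have hrk : Commute r k := X.R_comm r hr k hk
  have hk2 : k ^ 2 = 1 := by
    have h : (r * k) ^ 2 = 1 := by rw [← h2, pow_orderOf_eq_one]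
    rwa [hrk.mul_pow, Fr.R_sq hr, one_mul] at h
  obtain ⟨v, hv, he⟩ := X.invol k hk hk2
  have hrv : Commute r v := X.R_comm r hr v hv
  have hval : v * (r * k) * v⁻¹ = r * (v * k * v⁻¹) := by
    rw [← mul_assoc v, ← hrv.eq]
    simp only [mul_assoc]
  have hD : r * (v * k * v⁻¹) ∈ Fr.D := mul_mem (Fr.R_le_D hr) (Fr.E_le_D he)
  have hE := Fr.mem_E_of_conj hD (hval ▸ hz.symm.trans (isConj_iff.2 ⟨v, rfl⟩))
  have hrE := mul_mem hE (inv_mem he)
  rw [mul_inv_cancel_right] at hrE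
  have hr1 : r = 1 := Fr.R_inf_E hr hrE
  rw [hr1, one_mul]
  exact hk

theorem Central.order :
    Nat.card Fr.H = 4 * Nat.card X.K ∧ Nat.card G = Nat.card Fr.H * 960 + 1920 *
      Nat.card {p : X.K × X.K // p.1 ^ 2 = 1 ∧ p.1 ≠ 1 ∧ p.2 ^ 2 = 1 ∧ (p.1 * p.2) ^ 15 = 1} := by
  have ht : orderOf (Fr.t : G) = 2 := JTwoOrder.orderOf_two Fr.t_sq' Fr.t_ne_one
  obtain ⟨h1, h2⟩ := JTwoOrder.card_t_gen S.z (Fr.t : G) S.ord ht Fr.t_not_conj Fr.R X.K X.idp
    Fr.card_R (fun v hv => Fr.R_sq hv) Fr.t_mem_R X.pow15 (fun x hx => X.conj_z hx)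
    (fun x hx => X.conj_t hx)
  refine ⟨h1, ?_⟩
  rw [Cfsg.Agent.S0213.result S.z (Fr.t : G) S.ord ht Fr.t_not_conj
    fun x hx => (S.classes Fr.t_sq Fr.t_not x hx).imp IsConj.symm IsConj.symm,
    S.pairs_z ht Fr.t_not_conj, h2, show Nat.card (centralizer ({S.z} : Set G)) = 1920 from S.card_C]

include X in
theorem Central.iso : Nonempty (X.K ≃* alternatingGroup (Fin 5)) := by
  classical
  refine X.cases.resolve_left ?_
  rintro ⟨h12, hE⟩
  have hp : Nat.card {p : X.K × X.K // p.1 ^ 2 = 1 ∧ p.1 ≠ 1 ∧ p.2 ^ 2 = 1 ∧ (p.1 * p.2) ^ 15 = 1}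
      = 3 := by
    have hb : ∀ p : {p : X.K × X.K //
        p.1 ^ 2 = 1 ∧ p.1 ≠ 1 ∧ p.2 ^ 2 = 1 ∧ (p.1 * p.2) ^ 15 = 1}, p.1.2 = p.1.1 := by
      rintro ⟨⟨u, b⟩, hu, -, hb, hub⟩
      simp only at hu hb hub ⊢
      have hcom : Commute (u : G) (b : G) :=
        Fr.four.comm_E (Fr.four.E_le_M (hE u u.2 (congrArg Subtype.val hu)))
          (hE b b.2 (congrArg Subtype.val hb))
      have h2 : (u * b) ^ 2 = 1 := by
        rw [Commute.mul_pow (Subtype.ext hcom.eq : Commute u b), hu, hb, one_mul]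
      rw [show 15 = 2 * 7 + 1 from rfl, pow_succ, pow_mul, h2, one_pow, one_mul] at hub
      rw [eq_inv_of_mul_eq_one_right hub]
      exact inv_eq_of_mul_eq_one_right ((sq u).symm.trans hu)
    have e : Nat.card {p : X.K × X.K //
        p.1 ^ 2 = 1 ∧ p.1 ≠ 1 ∧ p.2 ^ 2 = 1 ∧ (p.1 * p.2) ^ 15 = 1} =
        Nat.card {e : Fr.four.EM // e ≠ 1} := by
      refine Nat.card_congr
        { toFun := fun p => ⟨⟨⟨(p.1.1 : G),
            Fr.four.E_le_M (hE _ p.1.1.2 (congrArg Subtype.val p.2.1))⟩,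
            hE _ p.1.1.2 (congrArg Subtype.val p.2.1)⟩, fun h => p.2.2.1
              (Subtype.ext (congrArg (fun y : Fr.four.EM => ((y : Fr.four.M) : G)) h :))⟩
          invFun := fun e => ⟨(⟨_, X.E_le e.1.2⟩, ⟨_, X.E_le e.1.2⟩), ?_⟩
          left_inv := fun p => Subtype.ext (Prod.ext rfl ?_)
          right_inv := fun e => rfl }
      · have hsq : ((e.1 : Fr.four.M) : G) * ((e.1 : Fr.four.M) : G) = 1 := by
          rcases Fr.four.mem_E.1 e.1.2 with h | h | h | h <;> rw [show ((e.1 : Fr.four.M) : G) = _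
            from h]
          · exact one_mul 1
          · exact Four.z_mul_z
          · exact Fr.four.u_sq
          · exact (sq _).symm.trans (by rw [Commute.mul_pow Fr.four.z_comm.symm,
              (sq Fr.four.u).trans Fr.four.u_sq, S.z_sq, one_mul])
        refine ⟨Subtype.ext ((sq _).trans hsq), fun h => e.2 (Subtype.ext (Subtype.ext
          (congrArg Subtype.val h :))), Subtype.ext ((sq _).trans hsq), ?_⟩
        rw [Subtype.ext_iff, SubgroupClass.coe_pow]
        show (((e.1 : Fr.four.M) : G) * ((e.1 : Fr.four.M) : G)) ^ 15 = 1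
        rw [hsq, one_pow]
      · exact (hb p).symm
    rw [e]
    have e2 := Nat.card_congr (Equiv.sumCompl fun y : Fr.four.EM => y ≠ 1)
    rw [Nat.card_sum, Fr.four.card_EM,
      show Nat.card {y : Fr.four.EM // ¬ y ≠ 1} = 1 from Nat.card_eq_one_iff_unique.2
        ⟨⟨fun a b => Subtype.ext ((not_not.1 a.2).trans (not_not.1 b.2).symm)⟩,
          ⟨⟨1, not_not.2 rfl⟩⟩⟩] at e2
    omega
  obtain ⟨h1, h2⟩ := X.order
  exact S.card_ne (by rw [h2, h1, h12, hp])

theorem Central.card_K : Nat.card X.K = 60 := by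
  obtain ⟨e⟩ := X.iso
  rw [Nat.card_congr e.toEquiv, nat_card_alternatingGroup, Nat.card_fin]
  rfl

include X in
theorem Central.card_G : Nat.card G = 604800 := by
  obtain ⟨e⟩ := X.iso
  obtain ⟨h1, h2⟩ := X.order
  have hp : Nat.card {p : X.K × X.K //
      p.1 ^ 2 = 1 ∧ p.1 ≠ 1 ∧ p.2 ^ 2 = 1 ∧ (p.1 * p.2) ^ 15 = 1} = 195 := by
    rw [← JTwoOrder.a5_pairs]
    refine Nat.card_congr ((e.toEquiv.prodCongr e.toEquiv).subtypeEquiv fun p => ?_)
    show _ ↔ (e p.1) ^ 2 = 1 ∧ e p.1 ≠ 1 ∧ (e p.2) ^ 2 = 1 ∧ (e p.1 * e p.2) ^ 15 = 1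
    simp only [← map_pow, ← map_mul, map_eq_one_iff e e.injective, ne_eq]
  rw [h2, h1, X.card_K, hp]

end Frame

theorem Setup.card_group {G : Type*} [Group G] [Finite G] (S : Setup G) :
    Nat.card G = 604800 := by
  obtain ⟨Fr⟩ := S.exists_frame
  obtain ⟨X⟩ := Fr.exists_central
  exact X.card_G

end CfsgLib.Small.JTwoType
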