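import Cfsg.Agent.Lib.Small.JankoTwoCoord
import Cfsg.Agent.Lib.Small.JankoTwoFinal
import Cfsg.Agent.Lib.Small.JankoTwoCertCheck

/-!
# A group of Hall–Janko type is determined: eight elements satisfy the twenty relations of the
certificate, they generate, and the action on the 315 cosets of `C(z)` is the model one
-/

set_option autoImplicit false
set_option linter.unusedSectionVars false
set_option maxRecDepth 100000

namespace CfsgLib.Small.JTwoType

open Subgroup
open JTwoTable (Letter evL ev ev_cons ev_append)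
open JTwoModel (QW qmul qone qz qgen qact Mdl mmul mprod mR mA mC mU mZ mH mX mTriple mLetter
  kLetter r0 a0 c0 z0 u0 n0 f0 g0)

theorem n0_facts : n0 * z0 * n0⁻¹ = u0 ∧ n0 * u0 * n0⁻¹ = u0 * z0 ∧
    n0 = u0 * f0 * f0 * f0 * u0 * f0 ∧ r0.1 0 = 0 ∧ a0.1 0 = 0 := by
  decide +kernel

theorem a5_spanned : ∀ π : alternatingGroup (Fin 5),
    (∃ x ∈ JTwoModel.spans z0 u0 f0 3, ∃ y ∈ JTwoModel.spans z0 u0 f0 3, x * y = π) ∧
      (∃ x ∈ JTwoModel.spans r0 a0 c0 3, ∃ y ∈ JTwoModel.spans r0 a0 c0 3, x * y = π) := by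
  decide +kernel

theorem spans_mem {H : Subgroup (alternatingGroup (Fin 5))} {p q s : alternatingGroup (Fin 5)}
    (hp : p ∈ H) (hq : q ∈ H) (hs : s ∈ H) :
    ∀ n, ∀ x ∈ JTwoModel.spans p q s n, x ∈ H := by
  intro n
  induction n with
  | zero => intro x hx; rw [JTwoModel.spans, List.mem_singleton] at hx; exact hx ▸ one_mem _
  | succ n ih =>
    intro x hx
    obtain ⟨w, hw, hx⟩ := List.mem_flatMap.1 hx
    simp only [List.mem_cons, List.not_mem_nil, or_false] at hx
    rcases hx with rfl | rfl | rfl | rfl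
    · exact ih _ hw
    · exact mul_mem (ih _ hw) hp
    · exact mul_mem (ih _ hw) hq
    · exact mul_mem (ih _ hw) hs

theorem rel_nine : JTwoCert.rels.getD 9 [] = [((5 : ℕ), true)] ++
      [(2, true), (3, true), (2, true), (0, true), (3, true), (2, true), (3, true)] ++
      [((5 : ℕ), false)] ++ [(0, false), (2, false), (3, false), (2, false), (3, false), (2, false),
        (1, false), (2, false), (0, false)] ∧
    mprod ([(2, true), (3, true), (2, true), (0, true), (3, true), (2, true), (3, true)].map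
      mLetter) = mprod [mU, mH, mA] ∧
    mprod ([mU, mZ, mX, mA] ++ [(0, false), (2, false), (3, false), (2, false), (3, false),
      (2, false), (1, false), (2, false), (0, false)].map mLetter) = (qone, 1) := by
  decide +kernel

theorem rel_ten : JTwoCert.rels.getD 10 [] = [((5 : ℕ), true)] ++
      [(0, true), (1, true), (0, true), (2, true), (0, true), (3, true), (2, true), (3, true),
        (2, true)] ++
      [((5 : ℕ), false)] ++ [(2, false), (3, false), (2, false), (2, false), (3, false), (2, false),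
        (2, false)] ∧
    mprod ([(0, true), (1, true), (0, true), (2, true), (0, true), (3, true), (2, true), (3, true),
      (2, true)].map mLetter) = mprod [mZ, mH, mA, mR, mA, mA] ∧
    mprod ([mU, mX, mA, mR, mA, mA] ++ [(2, false), (3, false), (2, false), (2, false), (3, false),
      (2, false), (2, false)].map mLetter) = (qone, 1) := by
  decide +kernel

theorem rel_short : JTwoCert.rels.getD 2 [] = [(6, true), (2, true), (6, false), (2, false)] ∧
    JTwoCert.rels.getD 7 [] = [(5, true), (1, true), (5, false), (1, false)] ∧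
    JTwoCert.rels.getD 8 [] = [(5, true), (0, true), (5, false), (0, false)] ∧
    JTwoCert.rels.length = 20 := by
  decide +kernel

namespace Coord

variable {G : Type*} [Group G] [Finite G] {S : Setup G} (K : Coord S)

/-- an element of the icosahedral subgroup from its coordinates -/
def ic : alternatingGroup (Fin 5) →* G := K.X.K.subtype.comp K.e.symm.toMonoidHom

theorem ic_z : K.ic z0 = S.z := by
  show ((K.e.symm z0 : K.X.K) : G) = S.z
  rw [← K.e_z, MulEquiv.symm_apply_apply]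

theorem ic_u : K.ic u0 = K.u := by
  show ((K.e.symm u0 : K.X.K) : G) = K.u
  rw [← K.e_u, MulEquiv.symm_apply_apply]

/-- the element cycling `z, u, uz` -/
def nn : G := K.ic n0

/-- the eight elements -/
def pts : ℕ → G
  | 0 => K.D.κ r0
  | 1 => K.D.κ a0
  | 2 => K.D.κ c0
  | 3 => K.u
  | 4 => S.z
  | 5 => K.nn
  | 6 => K.ic f0
  | 7 => K.ic g0
  | _ => 1

theorem Φ_u : K.Φ mU = K.u := (K.Φ_gen 0).trans K.D.uu_zero

theorem Φ_inv {m m' : Mdl} (h : mmul m' m = (qone, 1)) : K.Φ m' = (K.Φ m)⁻¹ :=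
  eq_inv_of_mul_eq_one_left (by rw [← K.Φ_mul, h, K.Φ_one])

theorem evL_C (l : Letter) (hl : l.1 < 5) : K.Φ (mLetter l) = evL K.pts l := by
  obtain ⟨hr, ha, hc, hu, hz⟩ := JTwoModel.letters_ok
  obtain ⟨g, b⟩ := l
  have h0 : K.Φ mR = K.D.κ r0 := K.Φ_κ r0
  have h1 : K.Φ mA = K.D.κ a0 := K.Φ_κ a0
  have h2 : K.Φ mC = K.D.κ c0 := K.Φ_κ c0
  have h3 : K.Φ mZ = S.z := K.Φ_z
  simp only at hl
  interval_cases g <;> cases b <;> simp only [evL, Bool.false_eq_true, if_false, if_true, pts, mLetter]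
  · rw [K.Φ_inv hr, h0]
  · exact h0
  · rw [K.Φ_inv ha, h1]
  · exact h1
  · rw [K.Φ_inv hc, h2]
  · exact h2
  · rw [K.Φ_inv hu, K.Φ_u]
  · exact K.Φ_u
  · rw [K.Φ_inv hz, h3]
  · exact h3

theorem ev_C (w : List Letter) (hw : ∀ l ∈ w, l.1 < 5) :
    ev K.pts w = K.Φ (mprod (w.map mLetter)) := by
  rw [K.Φ_prod, ev, List.map_map]
  exact congrArg List.prod (List.map_congr_left fun l hl => (K.evL_C l (hw l hl)).symm)

theorem evL_K (l : Letter) (hl : 3 ≤ l.1 ∧ l.1 < 8) : K.ic (kLetter l) = evL K.pts l := by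
  obtain ⟨g, b⟩ := l
  obtain ⟨h1, h2⟩ := hl
  simp only at h1 h2
  interval_cases g <;> cases b <;>
    simp [evL, kLetter, pts, nn, K.ic_z, K.ic_u]

theorem n_z : MulAut.conj K.nn S.z = K.u := by
  rw [MulAut.conj_apply, nn, ← K.ic_z, ← map_inv, ← map_mul, ← map_mul, n0_facts.1, K.ic_u]

theorem n_u : MulAut.conj K.nn K.u = K.u * S.z := by
  rw [MulAut.conj_apply, nn, ← K.ic_u, ← map_inv, ← map_mul, ← map_mul, n0_facts.2.1, map_mul,
    K.ic_z, K.ic_u]

/-- `κ` of a permutation fixing `0` centralises the icosahedral subgroup. -/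
theorem κ_comm_n {π : alternatingGroup (Fin 5)} (hπ : π.1 0 = 0) :
    Commute K.nn (K.D.κ π) := by
  have hu : Commute (K.D.κ π) K.u := by
    have h := K.D.uu_conj π 0
    rw [hπ, K.D.uu_zero] at h
    exact mul_inv_eq_iff_eq_mul.1 h
  have hu' : Commute (K.D.κ π) (K.ic u0) := K.ic_u.symm ▸ hu
  have hf : Commute (K.D.κ π) (K.ic f0) := K.D.κ_f π
  have h : Commute (K.D.κ π) (K.ic (u0 * f0 * f0 * f0 * u0 * f0)) := by
    simp only [map_mul]
    exact ((((hu'.mul_right hf).mul_right hf).mul_right hf).mul_right hu').mul_right hf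
  rw [← n0_facts.2.2.1] at h
  exact h.symm

theorem n_r : MulAut.conj K.nn (K.Φ mR) = K.Φ mR := by
  rw [show K.Φ mR = K.D.κ r0 from K.Φ_κ r0, MulAut.conj_apply,
    (K.κ_comm_n n0_facts.2.2.2.1).eq, mul_inv_cancel_right]

theorem n_a : MulAut.conj K.nn (K.Φ mA) = K.Φ mA := by
  rw [show K.Φ mA = K.D.κ a0 from K.Φ_κ a0, MulAut.conj_apply,
    (K.κ_comm_n n0_facts.2.2.2.2).eq, mul_inv_cancel_right]

/-- The image of `u₁u₂` is pinned down by what it satisfies. -/
theorem n_h : MulAut.conj K.nn (K.Φ mH) = K.Φ mX := by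
  obtain ⟨hrh, hhh, ht, hhu, hhz⟩ := JTwoModel.mH_facts
  set x := MulAut.conj K.nn (K.Φ mH) with hx
  have key : ∀ {a b : Mdl}, a = b → MulAut.conj K.nn (K.Φ a) = MulAut.conj K.nn (K.Φ b) :=
    fun h => by rw [h]
  have e1 := key hrh
  have e2 := key hhh
  have e3 := key ht
  have e4 := key hhu
  have e5 := key hhz
  simp only [mTriple, K.Φ_mul, K.Φ_prod, List.map_cons, List.map_nil, List.prod_cons,
    List.prod_nil, map_mul, map_one, mul_one, K.n_r, K.n_a, K.n_u, ← hx, K.Φ_u,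
    show K.Φ mZ = S.z from K.Φ_z, K.n_z] at e1 e2 e3 e4 e5
  have hzz : S.z * S.z = 1 := (sq _).symm.trans S.z_sq
  have huu : K.u * K.u = 1 := (sq _).symm.trans (JTwoOrder.sq_of_isConj S.ord K.huz)
  have huzu : K.u * S.z * K.u = S.z := by
    rw [K.huC, mul_assoc, huu, mul_one]
  rw [huzu] at e1 e3
  have hxz : Commute x S.z := by
    have h1 : Commute x K.u := e5
    have h2 : Commute x (K.u * S.z) := e4
    have h3 := h1.mul_right h2
    rwa [← mul_assoc, huu, one_mul] at h3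
  obtain ⟨m, hm⟩ := K.Φ_surj ((S.mem_C x).2 hxz.eq)
  rw [← hm]
  refine congrArg K.Φ (JTwoModel.pin m (K.Φ_injective ?_) (K.Φ_injective ?_) (K.Φ_injective ?_)
    (K.Φ_injective ?_)) <;>
    simp only [mTriple, K.Φ_mul, K.Φ_prod, List.map_cons, List.map_nil, List.prod_cons,
      List.prod_nil, mul_one, hm, K.Φ_u, show K.Φ mZ = S.z from K.Φ_z]
  · exact e5
  · exact e2
  · exact e1
  · exact e3

theorem ev_conj (w₁ w₂ : List Letter) (h₁ : ∀ l ∈ w₁, l.1 < 5) (h₂ : ∀ l ∈ w₂, l.1 < 5) :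
    ev K.pts ([((5 : ℕ), true)] ++ w₁ ++ [((5 : ℕ), false)] ++ w₂) =
      MulAut.conj K.nn (K.Φ (mprod (w₁.map mLetter))) * K.Φ (mprod (w₂.map mLetter)) := by
  rw [ev_append, ev_append, ev_append, K.ev_C w₁ h₁, K.ev_C w₂ h₂, MulAut.conj_apply]
  simp [ev, evL, pts]

theorem relations : ∀ r ∈ JTwoCert.rels, ev K.pts r = 1 := by
  intro r hr
  obtain ⟨i, hi, rfl⟩ := List.getElem_of_mem hr
  rw [← List.getD_eq_getElem _ [] hi]
  rw [rel_short.2.2.2] at hi
  have hC : ∀ i ∈ JTwoModel.cRels, ev K.pts (JTwoCert.rels.getD i []) = 1 := fun i hi => by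
    rw [K.ev_C _ (JTwoModel.cRels_ok i hi).1, (JTwoModel.cRels_ok i hi).2, K.Φ_one]
  have hK : ∀ i ∈ JTwoModel.kRels, ev K.pts (JTwoCert.rels.getD i []) = 1 := fun i hi => by
    have h := congrArg K.ic (JTwoModel.kRels_ok i hi).2
    rw [map_list_prod, map_one, List.map_map] at h
    rw [← h, ev]
    exact congrArg List.prod (List.map_congr_left fun l hl =>
      (K.evL_K l ((JTwoModel.kRels_ok i hi).1 l hl)).symm)
  interval_cases i
  · exact hC 0 (by decide)
  · exact hC 1 (by decide)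
  · rw [rel_short.1]
    have h : Commute (K.ic f0) (K.D.κ c0) := (K.D.κ_f c0).symm
    simp [ev, evL, pts, ← mul_assoc, h.eq]
  · exact hC 3 (by decide)
  · exact hC 4 (by decide)
  · exact hC 5 (by decide)
  · exact hC 6 (by decide)
  · rw [rel_short.2.1]
    simp [ev, evL, pts, ← mul_assoc, (K.κ_comm_n n0_facts.2.2.2.2).eq]
  · rw [rel_short.2.2.1]
    simp [ev, evL, pts, ← mul_assoc, (K.κ_comm_n n0_facts.2.2.2.1).eq]
  · obtain ⟨h1, h2, h3⟩ := rel_nine
    rw [h1, K.ev_conj _ _ (by decide) (by decide), h2, ← K.Φ_one, ← h3]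
    simp only [List.cons_append, List.nil_append, K.Φ_prod, List.map_cons, List.map_nil,
      List.prod_cons, List.prod_nil, map_mul, map_one, mul_one, K.Φ_u, K.n_u, K.n_h, K.n_a,
      show K.Φ mZ = S.z from K.Φ_z, mul_assoc]
  · obtain ⟨h1, h2, h3⟩ := rel_ten
    rw [h1, K.ev_conj _ _ (by decide) (by decide), h2, ← K.Φ_one, ← h3]
    simp only [List.cons_append, List.nil_append, K.Φ_prod, List.map_cons, List.map_nil,
      List.prod_cons, List.prod_nil, map_mul, map_one, mul_one, K.Φ_u, K.n_z, K.n_h, K.n_a, K.n_r,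
      show K.Φ mZ = S.z from K.Φ_z, mul_assoc]
  · exact hK 11 (by decide)
  · exact hC 12 (by decide)
  · exact hC 13 (by decide)
  · exact hK 14 (by decide)
  · exact hK 15 (by decide)
  · exact hK 16 (by decide)
  · exact hK 17 (by decide)
  · exact hK 18 (by decide)
  · exact hK 19 (by decide)

/-- the subgroup generated by the eight elements -/
def gens : Subgroup G := closure (Set.range fun g : Fin 8 => K.pts g)

theorem pts_mem {g : ℕ} (hg : g < 8) : K.pts g ∈ K.gens := subset_closure ⟨⟨g, hg⟩, rfl⟩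

theorem K_le : K.X.K ≤ K.gens := by
  intro k hk
  let H := K.gens.comap K.ic
  have hz : z0 ∈ H := by show K.ic z0 ∈ K.gens; rw [K.ic_z]; exact K.pts_mem (g := 4) (by norm_num)
  have hu : u0 ∈ H := by show K.ic u0 ∈ K.gens; rw [K.ic_u]; exact K.pts_mem (g := 3) (by norm_num)
  have hf : f0 ∈ H := K.pts_mem (g := 6) (by norm_num)
  obtain ⟨x, hx, y, hy, he⟩ := (a5_spanned (K.e ⟨k, hk⟩)).1
  have h : K.e ⟨k, hk⟩ ∈ H := he ▸ mul_mem (spans_mem hz hu hf _ x hx) (spans_mem hz hu hf _ y hy)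
  have h' : ((K.e.symm (K.e ⟨k, hk⟩) : K.X.K) : G) ∈ K.gens := h
  rwa [MulEquiv.symm_apply_apply] at h'

theorem C_le : S.C ≤ K.gens := by
  intro c hc
  obtain ⟨⟨q, π⟩, rfl⟩ := K.Φ_surj hc
  have hκ : ∀ π, K.D.κ π ∈ K.gens := fun π => by
    obtain ⟨x, hx, y, hy, he⟩ := (a5_spanned π).2
    have h : π ∈ K.gens.comap K.D.κ := he ▸ mul_mem
      (spans_mem (K.pts_mem (g := 0) (by norm_num)) (K.pts_mem (g := 1) (by norm_num))
        (K.pts_mem (g := 2) (by norm_num)) _ x hx)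
      (spans_mem (K.pts_mem (g := 0) (by norm_num)) (K.pts_mem (g := 1) (by norm_num))
        (K.pts_mem (g := 2) (by norm_num)) _ y hy)
    exact h
  have huu : ∀ i, K.D.uu i ∈ K.gens := fun i => by
    obtain ⟨π, hπ⟩ := fin_five_transitive i
    rw [← hπ, ← K.D.uu_conj π 0, K.D.uu_zero]
    exact mul_mem (mul_mem (hκ π) (K.pts_mem (g := 3) (by norm_num))) (inv_mem (hκ π))
  have hb : ∀ (b : Bool) {x : G}, x ∈ K.gens → bpow b x ∈ K.gens := fun b x hx => by
    cases b
    · exact one_mem _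
    · exact hx
  obtain ⟨a0, a1, a2, a3, az⟩ := q
  exact mul_mem (mul_mem (mul_mem (mul_mem (mul_mem (hb _ (huu _)) (hb _ (huu _))) (hb _ (huu _)))
    (hb _ (huu _))) (hb _ (K.pts_mem (g := 4) (by norm_num)))) (hκ π)

theorem n_mem : K.nn ∈ K.gens := K.pts_mem (g := 5) (by norm_num)

theorem H_le : centralizer ({(K.Fr.t : G)} : Set G) ≤ K.gens := fun x hx => by
  obtain ⟨r, hr, k, hk, rfl⟩ := K.X.decomp x hx
  exact mul_mem (K.C_le (K.Fr.R_le_D hr).1) (K.K_le hk)

theorem fusion {x : G} (hx : x ∈ K.gens) (h2 : orderOf x = 2) :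
    ∃ l ∈ K.gens, l * x * l⁻¹ = S.z ∨ l * x * l⁻¹ = (K.Fr.t : G) := by
  classical
  haveI : Fact (Nat.Prime 2) := ⟨Nat.prime_two⟩
  have hx2 : x ^ 2 = 1 := by rw [← h2, pow_orderOf_eq_one]
  let L := K.gens
  let T : Subgroup L := S.C.subgroupOf L
  let xL : L := ⟨x, hx⟩
  have hP : IsPGroup 2 (zpowers xL) := IsPGroup.of_card (n := 1) (by
    rw [Nat.card_zpowers, pow_one, ← h2, ← Subgroup.orderOf_coe])
  have hodd : ¬ 2 ∣ Nat.card (L ⧸ T) := by
    rintro ⟨k, hk⟩
    have e1 : Nat.card (L ⧸ T) * Nat.card T = Nat.card L :=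
      (card_eq_card_quotient_mul_card_subgroup T).symm
    rw [Nat.card_congr (subgroupOfEquivOfLe K.C_le).toEquiv, S.card_C, hk] at e1
    have e2 := card_subgroup_dvd_card L
    rw [S.card_group, ← e1] at e2
    have h : 3840 ∣ 604800 := (Dvd.intro k (by ring)).trans e2
    norm_num at h
  obtain ⟨q, hq⟩ : (MulAction.fixedPoints (zpowers xL) (L ⧸ T)).Nonempty := by
    have := hP.nonempty_fixed_point_of_prime_not_dvd_card (α := L ⧸ T) hodd
    exact this
  obtain ⟨l, rfl⟩ := QuotientGroup.mk_surjective q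
  have h : l⁻¹ * xL * l ∈ T := by
    have h' : xL • ((l : L) : L ⧸ T) = (l : L ⧸ T) := hq ⟨xL, mem_zpowers xL⟩
    have h'' := (QuotientGroup.eq (s := T)).1 (h'.symm)
    simpa [mul_assoc] using h''
  let y : S.C := ⟨(l : G)⁻¹ * x * (l : G), h⟩
  have hy2 : y ^ 2 = 1 := Subtype.ext (by
    show ((l : G)⁻¹ * x * (l : G)) ^ 2 = 1
    calc ((l : G)⁻¹ * x * (l : G)) ^ 2 = (l : G)⁻¹ * x ^ 2 * (l : G) := by
          rw [sq, sq]; simp [mul_assoc]
      _ = 1 := by rw [hx2, mul_one, inv_mul_cancel])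
  by_cases hQ : y ∈ S.Q
  · by_cases hc : (⟨y, hQ⟩ : S.Q) ∈ center S.Q
    · rcases (S.es.center_iff _).1 hc with he | he
      · exfalso
        have h' : (l : G)⁻¹ * x * (l : G) = 1 := congrArg (fun q : S.Q => ((q : S.C) : G)) he
        have hx1 : x = 1 := by
          calc x = (l : G) * ((l : G)⁻¹ * x * (l : G)) * (l : G)⁻¹ := by group
            _ = 1 := by rw [h', mul_one, mul_inv_cancel]
        rw [hx1, orderOf_one] at h2
        omega
      · exact ⟨(l : G)⁻¹, inv_mem l.2, Or.inl (by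
          rw [inv_inv]; exact congrArg (fun q : S.Q => ((q : S.C) : G)) he)⟩
    · -- conjugate to `u`, which `n` carries to `uz`, and that to `z`
      obtain ⟨qu, hqu, hqu2, hquc⟩ := K.D.mem_Q K.huz K.huC K.hune 0
      obtain ⟨c, hcy⟩ := S.noncentral_conj ⟨y, hQ⟩ qu (Subtype.ext hy2) hc hqu2 hquc
      have hcy' : (c : G) * ((l : G)⁻¹ * x * (l : G)) * (c : G)⁻¹ = K.u := by
        have h' := congrArg (fun q : S.Q => ((q : S.C) : G)) hcy
        simp only [S.cn_apply, hqu, K.D.uu_zero] at h'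
        exact h'
      refine ⟨K.nn⁻¹ * c * (l : G)⁻¹,
        mul_mem (mul_mem (inv_mem K.n_mem) (K.C_le c.2)) (inv_mem l.2), Or.inl ?_⟩
      have hn := K.n_z
      rw [MulAut.conj_apply] at hn
      calc _ = K.nn⁻¹ * ((c : G) * ((l : G)⁻¹ * x * (l : G)) * (c : G)⁻¹) * K.nn := by group
        _ = S.z := by rw [hcy', ← hn]; group
  · obtain ⟨c, hcy⟩ := S.conj_outer hy2 hQ K.Fr.t_sq K.Fr.t_not
    refine ⟨(c : G) * (l : G)⁻¹, mul_mem (K.C_le c.2) (inv_mem l.2), Or.inr ?_⟩
    have h' : (c : G) * ((l : G)⁻¹ * x * (l : G)) * (c : G)⁻¹ = (K.Fr.t : G) :=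
      congrArg Subtype.val hcy
    rw [← h']
    group

theorem comm_mem {x w : G} (hx : x ∈ K.gens) (h2 : orderOf x = 2) (hw : Commute w x) :
    w ∈ K.gens := by
  obtain ⟨l, hl, h⟩ := K.fusion hx h2
  have hc : Commute (l * w * l⁻¹) (l * x * l⁻¹) := hw.map (MulAut.conj l).toMonoidHom
  have hmem : l * w * l⁻¹ ∈ K.gens := by
    rcases h with h | h <;> rw [h] at hc
    · exact K.C_le ((S.mem_C _).2 hc.eq)
    · exact K.H_le (mem_centralizer_singleton_iff.2 hc.eq)
  have := mul_mem (mul_mem (inv_mem hl) hmem) hl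
  simpa [mul_assoc] using this

theorem gens_eq_top : K.gens = ⊤ := by
  rw [eq_top_iff]
  intro g _
  set s := g * (K.Fr.t : G) * g⁻¹ with hs
  have hzz : S.z * S.z = 1 := (sq _).symm.trans S.z_sq
  have hss : s * s = 1 := by
    rw [← sq, hs, conj_pow, K.Fr.t_sq', mul_one, mul_inv_cancel]
  have hts : ¬ IsConj S.z s := fun h => K.Fr.t_not_conj (h.trans (isConj_iff.2 ⟨g, rfl⟩).symm)
  obtain ⟨j, hj2, hjz, hjs⟩ : ∃ j, orderOf j = 2 ∧ Commute j S.z ∧ Commute j s := by
    set d := S.z * s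
    have hzi : S.z⁻¹ = S.z := inv_eq_of_mul_eq_one_right hzz
    have hsi : s⁻¹ = s := inv_eq_of_mul_eq_one_right hss
    have hd : S.z * d * S.z⁻¹ = d⁻¹ := by
      rw [mul_inv_rev, hzi, hsi, ← mul_assoc, hzz, one_mul]
    rcases Nat.even_or_odd (orderOf d) with ⟨m, hm⟩ | ho
    · have hpos := orderOf_pos d
      have hj : (d ^ m) ^ 2 = 1 := by rw [← pow_mul, mul_comm, two_mul, ← hm, pow_orderOf_eq_one]
      have hj1 : d ^ m ≠ 1 := pow_ne_one_of_lt_orderOf (by omega) (by omega)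
      have hz' : Commute (d ^ m) S.z := by
        have h : S.z * d ^ m * S.z⁻¹ = d ^ m := by
          rw [← conj_pow, hd, inv_pow]
          exact inv_eq_of_mul_eq_one_right ((sq _).symm.trans hj)
        exact (mul_inv_eq_iff_eq_mul.1 h).symm
      refine ⟨d ^ m, orderOf_eq_prime hj hj1, hz', ?_⟩
      have hsd : s = S.z * d := by rw [← mul_assoc, hzz, one_mul]
      rw [hsd]
      exact hz'.mul_right ((Commute.refl d).pow_left m)
    · exfalso
      obtain ⟨k, hk⟩ := CfsgLib.Involutions.exists_zpow_sq_eq ho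
      refine hts (isConj_iff.2 ⟨(d ^ k)⁻¹, ?_⟩)
      have h : S.z * d ^ k * S.z⁻¹ = (d ^ k)⁻¹ := by rw [← conj_zpow, hd, inv_zpow]
      rw [inv_inv]
      calc (d ^ k)⁻¹ * S.z * d ^ k = (S.z * d ^ k * S.z⁻¹) * S.z * d ^ k := by rw [h]
        _ = S.z * (d ^ k) ^ 2 := by rw [inv_mul_cancel_right, sq, mul_assoc]
        _ = s := by rw [hk, ← mul_assoc, hzz, one_mul]
  have hjL : j ∈ K.gens := K.C_le ((S.mem_C _).2 hjz.eq)
  have hsL : s ∈ K.gens := K.comm_mem hjL hj2 hjs.symm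
  have hso : orderOf s = 2 := orderOf_eq_prime ((sq s).trans hss) fun h => by
    rw [hs, conj_eq_one_iff] at h
    exact K.Fr.t_ne_one h
  obtain ⟨l, hl, h | h⟩ := K.fusion hsL hso
  · exact absurd (isConj_iff.2 ⟨l, h⟩).symm hts
  · have hlg : l * g ∈ K.gens := by
      refine K.H_le (mem_centralizer_singleton_iff.2 (mul_inv_eq_iff_eq_mul.1 ?_))
      calc l * g * (K.Fr.t : G) * (l * g)⁻¹ = l * s * l⁻¹ := by rw [hs]; group
        _ = _ := h
    simpa using mul_mem (inv_mem hl) hlg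

theorem qev_surj {q : S.C} (hq : q ∈ S.Q) : ∃ a, qev K.D.uu S.z a = (q : G) := by
  obtain ⟨⟨a, π⟩, h⟩ := K.Φ_surj q.2
  have h1 : K.D.κ π = (qev K.D.uu S.z a)⁻¹ * (q : G) := by
    rw [← h]
    simp [Φ]
  have hπ : π = 1 := K.κ_inter (h1 ▸ mul_mem (inv_mem (K.qev_mem _)) (mem_map_of_mem _ hq))
  subst hπ
  exact ⟨a, (K.Φ_q a).symm.trans h⟩

include K in
theorem isoJ2 : Cfsg.Spor.IsoJ2 G := by
  classical
  obtain ⟨tab, htab, hrep⟩ := JTwoCert.replay_spec
  have hbase : ∀ g ∈ [0, 1, 2, 3, 4], K.pts g • (((1 : G) : G ⧸ S.C)) = ((1 : G) : G ⧸ S.C) ∧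
      CfsgLib.J2.getP (JTwoCert.img.getD g 0) 33 = 33 := by
    intro g hg
    refine ⟨?_, Nat.eq_of_beq_eq_true (List.all_eq_true.1 JTwoCert.base_ok g hg)⟩
    have hC : K.pts g ∈ S.C := by
      simp only [List.mem_cons, List.not_mem_nil, or_false] at hg
      rcases hg with rfl | rfl | rfl | rfl | rfl
      · exact K.D.κ_C _
      · exact K.D.κ_C _
      · exact K.D.κ_C _
      · exact (S.mem_C _).2 K.huC
      · exact S.zC.2
    show (((K.pts g * 1 : G)) : G ⧸ S.C) = _
    rw [mul_one, QuotientGroup.eq, mul_one]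
    exact inv_mem hC
  obtain ⟨P, hPo, hP⟩ := JTwoTable.table K.pts _ _ _ _ _ _ _ 33 (by norm_num) hbase K.relations 8
    tab htab hrep
  let Q : Fin 315 → G ⧸ S.C := fun p => P p
  choose σ hσm hσr using fun g : Fin 8 => JTwoCert.imgGen_mem g g.2
  have hQ : ∀ (g : Fin 8) (p : Fin 315), K.pts g • Q p = Q (σ g p) := fun g p => by
    show _ = P ((σ g p : Fin 315) : ℕ)
    rw [← hσr g p]
    exact hP g g.2 p p.2
  have hall : ∀ x : G, ∃ τ ∈ CfsgLib.J2.imgGen, ∀ p, x • Q p = Q (τ p) := by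
    intro x
    have hx : x ∈ K.gens := K.gens_eq_top ▸ mem_top x
    refine Subgroup.closure_induction (p := fun x _ => ∃ τ ∈ CfsgLib.J2.imgGen, ∀ p, x • Q p = Q (τ p))
      ?_ ⟨1, one_mem _, fun p => one_smul G _⟩ ?_ ?_ hx
    · rintro _ ⟨g, rfl⟩
      exact ⟨σ g, hσm g, hQ g⟩
    · rintro a b _ _ ⟨α, hα, ha⟩ ⟨β, hβ, hb⟩
      exact ⟨α * β, mul_mem hα hβ, fun p => by rw [mul_smul, hb, ha, Equiv.Perm.mul_apply]⟩
    · rintro a _ ⟨α, hα, ha⟩
      refine ⟨α⁻¹, inv_mem hα, fun p => inv_smul_eq_iff.2 ?_⟩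
      rw [ha]
      simp
  have hsurj : Function.Surjective Q := by
    intro q
    obtain ⟨x, rfl⟩ := QuotientGroup.mk_surjective q
    obtain ⟨τ, -, hτ⟩ := hall x
    refine ⟨τ 33, ?_⟩
    rw [← hτ]
    show x • P 33 = _
    rw [hPo]
    show ((x * 1 : G) : G ⧸ S.C) = _
    rw [mul_one]
  have hQb : Function.Bijective Q := by
    refine (Nat.bijective_iff_surjective_and_card Q).2 ⟨hsurj, ?_⟩
    have e := card_eq_card_quotient_mul_card_subgroup S.C
    rw [S.card_group, S.card_C] at e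
    rw [Nat.card_fin]
    omega
  let E := Equiv.ofBijective Q hQb
  let φ : G →* Equiv.Perm (Fin 315) :=
    E.symm.permCongrHom.toMonoidHom.comp (MulAction.toPermHom G (G ⧸ S.C))
  have hφm : ∀ x, φ x ∈ CfsgLib.J2.imgGen := by
    intro x
    obtain ⟨τ, hτ, h⟩ := hall x
    convert hτ using 1
    refine Equiv.ext fun p => E.injective ?_
    show E (E.symm (x • Q p)) = Q (τ p)
    rw [Equiv.apply_symm_apply, h]
  have hcomm : ∀ x, φ x = 1 → ∀ g : G, Commute x (g * S.z * g⁻¹) := by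
    intro x hx g
    have h1 : MulAction.toPermHom G (G ⧸ S.C) x = 1 :=
      E.symm.permCongrHom.injective (hx.trans (map_one _).symm)
    have h2 : x • ((g : G) : G ⧸ S.C) = (g : G ⧸ S.C) :=
      congrArg (fun σ : Equiv.Perm (G ⧸ S.C) => σ (g : G ⧸ S.C)) h1
    have h3 := (QuotientGroup.eq (s := S.C)).1 h2.symm
    have h4 : Commute (g * (g⁻¹ * (x * g)) * g⁻¹) (g * S.z * g⁻¹) :=
      (show Commute _ S.z from (S.mem_C _).1 h3).map (MulAut.conj g).toMonoidHom
    simpa [mul_assoc] using h4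
  have hker : ∀ x, φ x = 1 → x = 1 := by
    intro x hx
    have hcore := hcomm x hx
    have hxz : Commute x S.z := by simpa using hcore 1
    let xC : S.C := ⟨x, (S.mem_C x).2 hxz.eq⟩
    have hxu : ∀ i, Commute x (K.D.uu i) := fun i => by
      obtain ⟨c, hc⟩ := K.D.conj_u K.huz K.huC K.hune i
      obtain ⟨w, hw⟩ := isConj_iff.1 K.huz
      rw [← hc, ← hw]
      have h := hcore ((c : G) * w)
      simpa [mul_assoc] using h
    obtain ⟨m, hm⟩ := K.Φ_surj xC.2
    -- commutes with all of `Q`, so it is central there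
    have hQ' : xC ∈ centralizer (S.Q : Set S.C) := by
      intro q hq
      apply Subtype.ext
      show (q : G) * x = x * (q : G)
      obtain ⟨a, ha⟩ := K.qev_surj hq
      rw [← ha]
      obtain ⟨a0, a1, a2, a3, az⟩ := a
      have hb : ∀ (b : Bool) {y : G}, Commute x y → Commute x (bpow b y) := fun b y hy => by
        cases b
        · exact Commute.one_right x
        · exact hy
      exact ((((( hb a0 (hxu 0)).mul_right (hb a1 (hxu 1))).mul_right (hb a2 (hxu 2))).mul_right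
        (hb a3 (hxu 3))).mul_right (hb az hxz)).eq.symm
    have hxQ : xC ∈ S.Q := S.cent hQ'
    have hcen : (⟨xC, hxQ⟩ : S.Q) ∈ center S.Q := mem_center_iff.2 fun q =>
      Subtype.ext (hQ' (q : S.C) q.2)
    rcases (S.es.center_iff _).1 hcen with he | he
    · exact congrArg (fun q : S.Q => ((q : S.C) : G)) he
    · exfalso
      have hxz' : x = S.z := congrArg (fun q : S.Q => ((q : S.C) : G)) he
      -- then `u₀` is in the kernel as well and commutes with its conjugate `u₁`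
      have hu_ker : φ (K.D.uu 0) = 1 := by
        obtain ⟨w, hw⟩ := isConj_iff.1 K.huz
        rw [K.D.uu_zero, ← hw, map_mul, map_mul, ← hxz', hx, mul_one, ← map_mul, mul_inv_cancel,
          map_one]
      obtain ⟨q, hq, -, -⟩ := K.D.mem_Q K.huz K.huC K.hune 1
      obtain ⟨c, hc⟩ := K.D.conj_u K.huz K.huC K.hune 1
      obtain ⟨w, hw⟩ := isConj_iff.1 K.huz
      have h01 : Commute (K.D.uu 0) (K.D.uu 1) := by
        have h := hcomm _ hu_ker ((c : G) * w)
        rwa [show (c : G) * w * S.z * ((c : G) * w)⁻¹ = (c : G) * (w * S.z * w⁻¹) * (c : G)⁻¹ by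
          group, hw, hc] at h
      have h := K.fiveRel.anti 0 1 (by decide)
      simp only [show (0 : Fin 4).castSucc = (0 : Fin 5) from rfl,
        show (1 : Fin 4).castSucc = (1 : Fin 5) from rfl, h01.eq] at h
      exact absurd (left_eq_mul.1 (mul_left_cancel h)) S.z_ne_one
  let ψ : G →* CfsgLib.J2.imgGen := φ.codRestrict _ hφm
  have hinj : Function.Injective ψ := by
    rw [injective_iff_map_eq_one]
    exact fun x hx => hker x (congrArg Subtype.val hx)
  have hcard : Nat.card G = Nat.card CfsgLib.J2.imgGen := by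
    rw [S.card_group, ← Nat.card_congr CfsgLib.J2.j2Equiv.toEquiv, CfsgLib.J2.card_J2]
  have hb : Function.Bijective ψ := (Nat.bijective_iff_injective_and_card ψ).2 ⟨hinj, hcard⟩
  exact ⟨(MulEquiv.ofBijective ψ hb).trans CfsgLib.J2.j2Equiv.symm⟩

end Coord

end CfsgLib.Small.JTwoType
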