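import Cfsg.Agent.Lib.Small.KleinCentralizer
import Cfsg.Agent.Lib.Small.Order360
import Cfsg.Agent.Lib.Small.PSLPrimes
import Cfsg.Agent.Lib.CharsMore.DihedralEight
import Cfsg.Agent.S0255

/-!
# An involution whose centraliser is dihedral of order eight
-/

set_option autoImplicit false

open Subgroup
open scoped commutatorElement

namespace CfsgLib.Small

variable {G : Type*} [Group G] [Finite G]

theorem exists_index_two_of_two_dvd_commutator_index (h : 2 ∣ (commutator G).index) :
    ∃ H : Subgroup G, H.index = 2 := by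
  haveI := Fact.mk Nat.prime_two
  rw [index_eq_card] at h
  let A := Abelianization G
  obtain ⟨a, ha⟩ := exists_prime_orderOf_dvd_card' (G := A) 2 h
  let f : A →* A := powMonoidHom 2
  set R := A ⧸ f.range
  have hR : ∀ q : R, q ^ 2 = 1 := fun q => by
    obtain ⟨b, rfl⟩ := QuotientGroup.mk'_surjective f.range q
    rw [← map_pow, QuotientGroup.mk'_apply, QuotientGroup.eq_one_iff]
    exact ⟨b, rfl⟩
  have hp : IsPGroup 2 R := fun q => ⟨1, by rw [pow_one]; exact hR q⟩
  obtain ⟨k, hk⟩ := hp.exists_card_eq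
  have hk0 : k ≠ 0 := by
    rintro rfl
    rw [pow_zero, ← index_eq_card, index_eq_one] at hk
    have hinj : Function.Injective f := Finite.injective_iff_surjective.2
      (MonoidHom.range_eq_top.1 hk)
    have : a = 1 := hinj (show f a = f 1 by
      rw [map_one]; exact orderOf_dvd_iff_pow_eq_one.1 ha.dvd)
    rw [this, orderOf_one] at ha
    omega
  obtain ⟨H, hH⟩ := Sylow.exists_subgroup_card_pow_prime 2 (n := k - 1)
    (hk ▸ pow_dvd_pow 2 (by omega) : 2 ^ (k - 1) ∣ Nat.card R)
  refine ⟨(H.comap (QuotientGroup.mk' f.range)).comap Abelianization.of, ?_⟩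
  refine (index_comap_of_surjective _ (fun b => QuotientGroup.mk_surjective b)).trans
    ((index_comap_of_surjective _ (QuotientGroup.mk'_surjective f.range)).trans ?_)
  have := H.card_mul_index
  rw [hH, hk, show 2 ^ k = 2 ^ (k - 1) * 2 by rw [← pow_succ]; congr 1; omega] at this
  exact Nat.eq_of_mul_eq_mul_left (by positivity) this

/-- A four group of the dihedral group of order eight. -/
def kleinInD4 : Subgroup (DihedralGroup 4) where
  carrier := {g | g = 1 ∨ g = .r 2 ∨ g = .sr 0 ∨ g = .sr 2}
  one_mem' := Or.inl rfl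
  mul_mem' := by
    rintro g g' (rfl | rfl | rfl | rfl) (rfl | rfl | rfl | rfl) <;>
      simp only [Set.mem_ofPred_eq] <;> decide
  inv_mem' := by
    rintro g (rfl | rfl | rfl | rfl) <;> simp only [Set.mem_ofPred_eq] <;> decide

theorem card_kleinInD4 : Nat.card kleinInD4 = 4 := by
  have : (kleinInD4 : Set (DihedralGroup 4)) =
      ↑({1, .r 2, .sr 0, .sr 2} : Finset (DihedralGroup 4)) := by ext g; simp [kleinInD4]
  rw [← SetLike.coe_sort_coe, this]
  simp only [Finset.coe_sort_coe, Nat.card_eq_fintype_card, Fintype.card_coe]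
  decide

theorem sq_kleinInD4 (d : DihedralGroup 4) (hd : d ∈ kleinInD4) : d ^ 2 = 1 := by
  rcases hd with rfl | rfl | rfl | rfl <;> decide

theorem equiv_perm_four (h24 : Nat.card G = 24) (Q : Subgroup G) [Q.Normal] (hQ4 : Nat.card Q = 4)
    (hfix : ∀ w ∈ Q, ∀ g : G, orderOf g = 3 → g * w = w * g → w = 1)
    (hCQ : centralizer (Q : Set G) ≤ Q) : Nonempty (G ≃* Equiv.Perm (Fin 4)) := by
  classical
  haveI := Fact.mk Nat.prime_three
  obtain ⟨R⟩ := (inferInstance : Nonempty (Sylow 3 G))
  have hR : Nat.card (R : Subgroup G) = 3 := by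
    simpa using card_sylow_eq (p := 3) 1 8 (by rw [h24]; rfl) (by norm_num) R
  have hmeet : Q ⊓ normalizer ((R : Subgroup G) : Set G) = ⊥ := by
    rw [eq_bot_iff]
    rintro w ⟨hwQ, hwN⟩
    obtain ⟨r, hr⟩ := exists_prime_orderOf_dvd_card' (G := (R : Subgroup G)) 3 (by rw [hR])
    have h1 : (r : G) * w * (r : G)⁻¹ * w⁻¹ ∈ Q ⊓ (R : Subgroup G) := by
      refine ⟨Q.mul_mem ((inferInstance : Q.Normal).conj_mem w hwQ r) (Q.inv_mem hwQ), ?_⟩
      rw [show (r : G) * w * (r : G)⁻¹ * w⁻¹ = r * (w * (r : G)⁻¹ * w⁻¹) by group]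
      exact mul_mem r.2 ((mem_normalizer_iff.1 hwN _).1 (inv_mem r.2))
    rw [disjoint_iff.1 (disjoint_of_coprime_natCard (H := Q) (K := (R : Subgroup G))
      (by rw [hQ4, hR]; norm_num)), Subgroup.mem_bot, mul_inv_eq_one, mul_inv_eq_iff_eq_mul] at h1
    exact Subgroup.mem_bot.2 (hfix w hwQ r (by rw [Subgroup.orderOf_coe, hr]) h1)
  have hn : Nat.card (Sylow 3 G) = 4 := by
    have hd := card_sylow_dvd (p := 3) (G := G) 1 8 (by rw [h24]; rfl) (by norm_num)
    have hm : Nat.card (Sylow 3 G) % 3 = 1 := card_sylow_modEq_one 3 G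
    have hle := Nat.le_of_dvd (by norm_num) hd
    have hN := card_normalizer_mul R
    rw [h24] at hN
    have hne : Nat.card (Sylow 3 G) ≠ 1 := fun h1 => by
      rw [h1, mul_one] at hN
      rw [eq_top_of_card_eq _ (hN.trans h24.symm), inf_top_eq] at hmeet
      rw [hmeet, card_bot] at hQ4
      omega
    obtain ⟨u, hu⟩ := hd
    interval_cases hs : Nat.card (Sylow 3 G) <;> omega
  set φ := MulAction.toPermHom G (Sylow 3 G) with hφ
  have hK : φ.ker ⊓ Q = ⊥ := by
    rw [eq_bot_iff, ← hmeet]
    rintro w ⟨hw, hwQ⟩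
    exact ⟨hwQ, Sylow.smul_eq_iff_mem_normalizer.1 (Equiv.Perm.congr_fun (MonoidHom.mem_ker.1 hw) R)⟩
  have hinj : Function.Injective φ := by
    rw [← MonoidHom.ker_eq_bot_iff, eq_bot_iff, ← hK]
    refine fun k hk => ⟨hk, hCQ (mem_centralizer_iff.2 fun w hw => ?_)⟩
    have h1 : k * w * k⁻¹ * w⁻¹ ∈ φ.ker ⊓ Q := by
      refine ⟨?_, Q.mul_mem ((inferInstance : Q.Normal).conj_mem w hw k) (Q.inv_mem hw)⟩
      rw [show k * w * k⁻¹ * w⁻¹ = k * (w * k⁻¹ * w⁻¹) by group]
      exact mul_mem hk ((inferInstance : φ.ker.Normal).conj_mem _ (inv_mem hk) w)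
    rw [hK, Subgroup.mem_bot, mul_inv_eq_one, mul_inv_eq_iff_eq_mul] at h1
    exact h1.symm
  let e' := (Finite.equivFinOfCardEq hn).permCongrHom
  exact ⟨MulEquiv.ofBijective (e'.toMonoidHom.comp φ)
    (Function.Injective.bijective_of_nat_card_le (e'.injective.comp hinj)
      (by rw [Nat.card_perm, Nat.card_fin, h24]; rfl))⟩

theorem equiv_perm_five (M : Subgroup G) (hM : M.index = 2) [M.Normal] (T : Sylow 2 M)
    (htr : ¬ normalizer ((T : Subgroup M) : Set M) ≤ centralizer ((T : Subgroup M) : Set M))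
    (f : M ≃* alternatingGroup (Fin 5)) (hcent : centralizer (M : Set G) ≤ M) :
    Nonempty (G ≃* Equiv.Perm (Fin 5)) := by
  classical
  haveI := Fact.mk Nat.prime_two
  have h60 : Nat.card M = 60 := by
    rw [Nat.card_congr f.toEquiv, nat_card_alternatingGroup, Nat.card_fin]; rfl
  haveI : IsSimpleGroup (alternatingGroup (Fin 5)) := alternatingGroup.isSimpleGroup_five
  haveI : IsSimpleGroup M := f.isSimpleGroup
  have hnab : ¬ IsMulCommutative M := not_isMulCommutative_of_card (by rw [h60]; norm_num)
  have h2 : 2 ∣ Nat.card M := by rw [h60]; norm_num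
  have hT4 : Nat.card (T : Subgroup M) = 4 := by
    simpa using card_sylow_eq (p := 2) 2 15 (by rw [h60]; rfl) (by norm_num) T
  set NT := normalizer ((T : Subgroup M) : Set M) with hNT
  have h5 : NT.index = 5 := by
    have hd : NT.index ∣ 15 := by
      rw [← card_sylow_eq_index T]
      exact card_sylow_dvd (p := 2) 2 15 (by rw [h60]; rfl) (by norm_num)
    have h5' := five_le_index hnab (sylow_normalizer_ne_top hnab h2 T)
    have hne : NT.index ≠ 15 := fun h15 => by
      have h1 := NT.card_mul_index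
      rw [h15, h60] at h1
      have h2' : (T : Subgroup M) = NT := eq_of_le_of_card_ge le_normalizer (by rw [hT4]; omega)
      refine htr fun g hg => mem_centralizer_iff.2 fun y hy => ?_
      exact congrArg Subtype.val (IsPGroup.commutative_of_card_eq_prime_sq (p := 2)
        (hT4.trans (by norm_num)) (⟨y, hy⟩ : (T : Subgroup M)) ⟨g, h2' ▸ hg⟩)
    obtain ⟨u, hu⟩ := hd
    have := Nat.le_of_dvd (by norm_num : 0 < 15) ⟨u, hu⟩
    interval_cases hs : NT.index <;> omega
  set H := normalizer (((T : Subgroup M).map M.subtype : Subgroup G) : Set G) with hH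
  have hHM : NT.map M.subtype = H ⊓ M := by
    ext g
    constructor
    · rintro ⟨m, hm, rfl⟩
      refine ⟨mem_normalizer_iff.2 fun y => ⟨?_, ?_⟩, m.2⟩
      · rintro ⟨w, hw, rfl⟩
        exact ⟨m * w * m⁻¹, (mem_normalizer_iff.1 hm w).1 hw, rfl⟩
      · rintro ⟨w, hw, hwy⟩
        refine ⟨m⁻¹ * w * m, ?_, ?_⟩
        · refine (mem_normalizer_iff.1 hm _).2 ?_
          rw [show m * (m⁻¹ * w * m) * m⁻¹ = w by group]
          exact hw
        · show (m : G)⁻¹ * (w : G) * m = y
          rw [show (w : G) = (m : G) * y * (m : G)⁻¹ from hwy]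
          group
    · rintro ⟨hgH, hgM⟩
      refine ⟨⟨g, hgM⟩, mem_normalizer_iff.2 fun w => ⟨fun hw => ?_, fun hw => ?_⟩, rfl⟩
      · obtain ⟨w', hw', e⟩ := (mem_normalizer_iff.1 hgH (w : G)).1 ⟨w, hw, rfl⟩
        rwa [show (⟨g, hgM⟩ : M) * w * ⟨g, hgM⟩⁻¹ = w' from Subtype.ext e.symm]
      · obtain ⟨w', hw', e⟩ := (mem_normalizer_iff.1 hgH (w : G)).2 ⟨_, hw, rfl⟩
        rwa [show w = w' from Subtype.ext e.symm]
  have htop : H ⊔ M = ⊤ := Sylow.normalizer_sup_eq_top T
  have hidx : H.index = 5 := by
    have h1 : M.relIndex H = 2 := by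
      rw [← Subgroup.relIndex_sup_right (H := H) (K := M), htop, relIndex_top_right, hM]
    have h3 := (M.subgroupOf H).card_mul_index
    rw [← relIndex, h1, ← inf_subgroupOf_left, Nat.card_congr (subgroupOfEquivOfLe inf_le_left).toEquiv,
      ← hHM, card_map_of_injective M.subtype_injective] at h3
    have h4 := H.card_mul_index
    have h5' := M.card_mul_index
    have h6 := NT.card_mul_index
    rw [hM, h60] at h5'
    rw [h5, h60] at h6
    rw [← h3, ← h5'] at h4
    have h7 : 0 < Nat.card NT := Nat.card_pos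
    nlinarith
  have hne : ¬ M ≤ H := fun hle => by
    have h1 : NT.map M.subtype = M := by rw [hHM, inf_eq_right.2 hle]
    have h2' : Nat.card (NT.map M.subtype) = Nat.card NT := card_map_of_injective M.subtype_injective
    rw [h1, h60] at h2'
    have h6 := NT.card_mul_index
    rw [h5, ← h2', h60] at h6
    omega
  set φ := MulAction.toPermHom G (G ⧸ H) with hφ
  have hK : φ.ker ≤ H := by rw [hφ, ← normalCore_eq_ker]; exact normalCore_le H
  have hKM : φ.ker ⊓ M = ⊥ := by
    rcases (inferInstance : (φ.ker.subgroupOf M).Normal).eq_bot_or_eq_top with h | h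
    · rw [subgroupOf_eq_bot] at h
      exact disjoint_iff.1 h
    · rw [subgroupOf_eq_top] at h
      exact absurd (h.trans hK) hne
  have hinj : Function.Injective φ := by
    rw [← MonoidHom.ker_eq_bot_iff, eq_bot_iff, ← hKM]
    refine fun k hk => ⟨hk, hcent (mem_centralizer_iff.2 fun m hm => ?_)⟩
    have h1 : k * m * k⁻¹ * m⁻¹ ∈ φ.ker ⊓ M := by
      refine ⟨?_, mul_mem ((inferInstance : M.Normal).conj_mem m hm k) (M.inv_mem hm)⟩
      rw [show k * m * k⁻¹ * m⁻¹ = k * (m * k⁻¹ * m⁻¹) by group]
      exact mul_mem hk ((inferInstance : φ.ker.Normal).conj_mem _ (φ.ker.inv_mem hk) m)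
    rw [hKM, Subgroup.mem_bot, mul_inv_eq_one, mul_inv_eq_iff_eq_mul] at h1
    exact h1.symm
  let e' := (Finite.equivFinOfCardEq (show Nat.card (G ⧸ H) = 5 from hidx)).permCongrHom
  refine ⟨MulEquiv.ofBijective (e'.toMonoidHom.comp φ)
    (Function.Injective.bijective_of_nat_card_le (e'.injective.comp hinj) ?_)⟩
  rw [Nat.card_perm, Nat.card_fin, ← M.card_mul_index, hM, h60]
  rfl

section D8

variable (t : G) (ht : orderOf t = 2)
  (e : centralizer ({t} : Set G) ≃* DihedralGroup 4)

include ht e

theorem apply_eq_r_two (h : t ∈ centralizer ({t} : Set G)) : e ⟨t, h⟩ = .r 2 := by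
  have hc : ∀ d : DihedralGroup 4, e ⟨t, h⟩ * d = d * e ⟨t, h⟩ := fun d => by
    obtain ⟨g, rfl⟩ := e.surjective d
    rw [← map_mul, ← map_mul]
    exact congrArg e (Subtype.ext (mem_centralizer_singleton_iff.1 g.2).symm)
  have h1 : e ⟨t, h⟩ ≠ 1 := fun h1 => by
    have : (⟨t, h⟩ : centralizer ({t} : Set G)) = 1 := e.injective (h1.trans (map_one e).symm)
    rw [show t = 1 from congrArg Subtype.val this, orderOf_one] at ht
    omega
  revert hc h1
  generalize e ⟨t, h⟩ = d
  revert d
  decide

theorem central_eq {z : G} (hz : z ∈ centralizer ({t} : Set G))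
    (hzc : ∀ g ∈ centralizer ({t} : Set G), g * z = z * g) (hz1 : z ≠ 1) : z = t := by
  have htC : t ∈ centralizer ({t} : Set G) := mem_centralizer_singleton_iff.2 rfl
  have hc : ∀ d : DihedralGroup 4, e ⟨z, hz⟩ * d = d * e ⟨z, hz⟩ := fun d => by
    obtain ⟨g, rfl⟩ := e.surjective d
    rw [← map_mul, ← map_mul]
    exact congrArg e (Subtype.ext (hzc g g.2).symm)
  have h1 : e ⟨z, hz⟩ ≠ 1 := fun h1 => hz1
    (congrArg Subtype.val (e.injective (h1.trans (map_one e).symm) :
      (⟨z, hz⟩ : centralizer ({t} : Set G)) = 1))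
  have key : ∀ d : DihedralGroup 4, (∀ d', d * d' = d' * d) → d ≠ 1 → d = .r 2 := by decide
  exact congrArg Subtype.val
    (e.injective ((key _ hc h1).trans (apply_eq_r_two t ht e htC).symm))

theorem card_centralizer_eq_eight : Nat.card (centralizer ({t} : Set G)) = 8 := by
  rw [Nat.card_congr e.toEquiv, DihedralGroup.nat_card]

theorem exists_sylow_eq_centralizer :
    ∃ S : Sylow 2 G, (S : Subgroup G) = centralizer ({t} : Set G) := by
  haveI := Fact.mk Nat.prime_two
  obtain ⟨S, hS⟩ := (IsPGroup.of_card (p := 2) (n := 3)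
    (by rw [card_centralizer_eq_eight t ht e]; norm_num) :
    IsPGroup 2 (centralizer ({t} : Set G))).exists_le_sylow
  refine ⟨S, le_antisymm (fun s hs => ?_) hS⟩
  have htC : t ∈ centralizer ({t} : Set G) := mem_centralizer_singleton_iff.2 rfl
  haveI : Nontrivial (S : Subgroup G) := ⟨⟨⟨t, hS htC⟩, 1, fun h => by
    rw [show t = 1 from congrArg Subtype.val h, orderOf_one] at ht; omega⟩⟩
  haveI := S.2.center_nontrivial
  obtain ⟨z, hz⟩ := exists_ne (1 : center (S : Subgroup G))
  have hzc : ∀ g ∈ (S : Subgroup G), g * ((z : (S : Subgroup G)) : G) = (z : (S : Subgroup G)) * g :=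
    fun g hg => congrArg Subtype.val (mem_center_iff.1 z.2 ⟨g, hg⟩)
  have hzt := central_eq t ht e (z := ((z : (S : Subgroup G)) : G))
    (mem_centralizer_singleton_iff.2 (hzc t (hS htC)).symm) (fun g hg => hzc g (hS hg))
    (fun h => hz (Subtype.ext (Subtype.ext h)))
  have := hzc s hs
  rw [hzt] at this
  exact mem_centralizer_singleton_iff.2 this

theorem normalizer_le_centralizer_singleton {S : Sylow 2 G}
    (hS : (S : Subgroup G) = centralizer ({t} : Set G)) :
    normalizer ((S : Subgroup G) : Set G) ≤ centralizer ({t} : Set G) := by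
  intro g hg
  rw [mem_normalizer_iff] at hg
  have htC : t ∈ centralizer ({t} : Set G) := mem_centralizer_singleton_iff.2 rfl
  have hmem : g * t * g⁻¹ ∈ centralizer ({t} : Set G) := hS ▸ (hg t).1 (hS ▸ htC)
  have := central_eq t ht e hmem (fun c hc => by
    have h1 : g⁻¹ * c * g ∈ centralizer ({t} : Set G) := by
      rw [← hS]
      refine (hg _).2 ?_
      rw [show g * (g⁻¹ * c * g) * g⁻¹ = c by group, hS]
      exact hc
    have h2 := mem_centralizer_singleton_iff.1 h1
    calc c * (g * t * g⁻¹) = g * (g⁻¹ * c * g * t) * g⁻¹ := by group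
      _ = g * t * g⁻¹ * c := by rw [h2]; group) (fun h => by
    rw [conj_eq_one_iff] at h
    rw [h, orderOf_one] at ht
    omega)
  exact mem_centralizer_singleton_iff.2 (mul_inv_eq_iff_eq_mul.1 this)

theorem perfect_of_no_index_two (hno : ∀ H : Subgroup G, H.index ≠ 2) : commutator G = ⊤ := by
  haveI := Fact.mk Nat.prime_two
  obtain ⟨S, hS⟩ := exists_sylow_eq_centralizer t ht e
  have hodd : ¬ 2 ∣ (commutator G).index := fun h => by
    obtain ⟨H, hH⟩ := exists_index_two_of_two_dvd_commutator_index h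
    exact hno H hH
  have hle : (S : Subgroup G) ≤ commutator G := by
    intro s hs
    rw [← QuotientGroup.eq_one_iff]
    obtain ⟨k, hk⟩ := IsPGroup.iff_orderOf.1 S.2 ⟨s, hs⟩
    rw [Subgroup.orderOf_mk] at hk
    refine orderOf_eq_one_iff.1 (Nat.dvd_one.1 ?_)
    have hco : Nat.gcd (2 ^ k) (commutator G).index = 1 :=
      Nat.Coprime.pow_left k (Nat.prime_two.coprime_iff_not_dvd.2 hodd)
    rw [← hco]
    exact Nat.dvd_gcd (hk ▸ orderOf_map_dvd (QuotientGroup.mk' (commutator G)) s)
      (index_eq_card (commutator G) ▸ orderOf_dvd_natCard _)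
  have htop := Sylow.normalizer_sup_eq_top' S hle
  rw [eq_top_iff, ← htop]
  exact sup_le ((normalizer_le_centralizer_singleton t ht e hS).trans (hS ▸ hle)) le_rfl

/-- Without a subgroup of index two the group is one of the two simple groups. -/
theorem simple_of_no_index_two (hno : ∀ H : Subgroup G, H.index ≠ 2) :
    (Nat.card G = 168 ∨ Nat.card G = 360) ∧ IsSimpleGroup G := by
  letI := Fintype.ofFinite G
  haveI := Fact.mk Nat.prime_two
  have hperf := perfect_of_no_index_two t ht e hno
  have hcard := CfsgLib.CharsMore.perfect_dihedral_eight_order hperf t ht e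
  refine ⟨hcard, ?_⟩
  have ht1 : t ≠ 1 := fun h => by rw [h, orderOf_one] at ht; omega
  haveI : Nontrivial G := ⟨⟨t, 1, ht1⟩⟩
  obtain ⟨S, hS⟩ := exists_sylow_eq_centralizer t ht e
  have htC : t ∈ centralizer ({t} : Set G) := mem_centralizer_singleton_iff.2 rfl
  -- all involutions are conjugate
  have hconj : ∀ u : G, orderOf u = 2 → IsConj t u := by
    intro u hu
    obtain ⟨R, hR⟩ := (IsPGroup.of_card (p := 2) (n := 1)
      (show Nat.card (zpowers u) = 2 ^ 1 by rw [Nat.card_zpowers, hu, pow_one])).exists_le_sylow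
    obtain ⟨c, hc⟩ := MulAction.exists_smul_eq G R S
    have hcu : c * u * c⁻¹ ∈ centralizer ({t} : Set G) := by
      rw [← hS, ← hc]
      exact Subgroup.smul_mem_pointwise_smul u (MulAut.conj c) _ (hR (mem_zpowers u))
    have huo : orderOf (c * u * c⁻¹) = 2 := by rw [← MulAut.conj_apply, MulEquiv.orderOf_eq, hu]
    refine IsConj.trans ?_ (isConj_iff.2 ⟨c, rfl⟩ : IsConj u (c * u * c⁻¹)).symm
    by_cases hut : c * u * c⁻¹ = t
    · rw [hut]
    by_contra hno'
    set Q : Subgroup G :=
      (zpowers ((e.symm (.r 1) : centralizer ({t} : Set G)) : G)) with hQ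
    have hQS : Q ≤ (S : Subgroup G) := zpowers_le.2 (hS.ge (e.symm (.r 1)).2)
    obtain ⟨M, -, hMi, -⟩ := Transfer.exists_index_two_of_not_conj_mem S hQS (by
      have h1 := (Q.subgroupOf (S : Subgroup G)).card_mul_index
      rw [Nat.card_congr (subgroupOfEquivOfLe hQS).toEquiv, hS, card_centralizer_eq_eight t ht e,
        hQ, Nat.card_zpowers, Subgroup.orderOf_coe, MulEquiv.orderOf_eq,
        DihedralGroup.orderOf_r_one] at h1
      rw [← hQ] at h1
      rw [relIndex, hS]
      omega) huo (fun g hg => hno' (by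
        obtain ⟨i, hi⟩ := mem_zpowers_iff.1 hg
        have hgu : g * (c * u * c⁻¹) * g⁻¹ = ((e.symm (.r 1) ^ i : centralizer ({t} : Set G)) : G) := by
          rw [Subgroup.coe_zpow]; exact hi.symm
        have h2 : orderOf (e.symm (.r 1) ^ i) = 2 := by
          rw [← Subgroup.orderOf_coe, ← hgu, ← MulAut.conj_apply, MulEquiv.orderOf_eq, huo]
        have key : ∀ d : DihedralGroup 4, (∃ j : ZMod 4, d = .r j) → d ≠ 1 → d * d = 1 →
            d = .r 2 := by decide
        have h3 : e (e.symm (.r 1) ^ i) = .r 2 := by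
          refine key _ ⟨(i : ZMod 4), by rw [map_zpow, MulEquiv.apply_symm_apply,
            DihedralGroup.r_one_zpow]⟩ (fun h => ?_) ?_
          · rw [← map_one e] at h
            rw [e.injective h, orderOf_one] at h2
            omega
          · rw [← map_mul, ← pow_two, ← h2, pow_orderOf_eq_one, map_one]
        have h4 : e.symm (.r 1) ^ i = ⟨t, htC⟩ :=
          e.injective (h3.trans (apply_eq_r_two t ht e htC).symm)
        rw [h4] at hgu
        exact (isConj_iff.2 ⟨g, hgu⟩ : IsConj (c * u * c⁻¹) t).symm))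
    exact hno M hMi
  refine ⟨fun N hN => ?_⟩
  haveI := hN
  by_cases hodd : Odd (Nat.card N)
  · left
    -- a fours group acts without fixed points
    let a := ((e.symm (.sr 0) : centralizer ({t} : Set G)) : G)
    let V : Subgroup G := (Subgroup.map (centralizer ({t} : Set G)).subtype
      (Subgroup.map e.symm.toMonoidHom kleinInD4))
    have hV : IsKleinFour V := by
      refine isKleinFour_of_card_four_sq ?_ fun v => Subtype.ext ?_
      · rw [card_map_of_injective (subtype_injective _), card_map_of_injective e.symm.injective,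
          card_kleinInD4]
      · obtain ⟨_, ⟨d, hd, rfl⟩, hv⟩ := v.2
        rw [Subgroup.coe_pow, ← hv, ← map_pow, ← map_pow, sq_kleinInD4 d hd, map_one, map_one]
        rfl
    refine Techniques.eq_bot_of_klein_inverting hV fun v hv hv1 => ?_
    refine Techniques.inf_centralizer_eq_bot_of_isConj (z := t) (hconj v ?_) ?_
    · refine orderOf_eq_prime ?_ hv1
      have := congrArg Subtype.val (hV.mul_self (⟨v, hv⟩ : V))
      rw [pow_two]
      exact this
    · refine disjoint_iff.1 (disjoint_of_coprime_natCard ?_)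
      rw [card_centralizer_eq_eight t ht e]
      exact (Nat.coprime_two_right.2 hodd).pow_right 3
  · right
    obtain ⟨⟨s, hsN⟩, hs⟩ := exists_prime_orderOf_dvd_card' (G := N) 2
      (even_iff_two_dvd.1 (Nat.not_odd_iff_even.1 hodd))
    rw [Subgroup.orderOf_mk] at hs
    have hall : ∀ y : G, orderOf y = 2 → y ∈ N := fun y hy => by
      obtain ⟨c, hc⟩ := isConj_iff.1 ((hconj s hs).symm.trans (hconj y hy))
      exact hc ▸ hN.conj_mem s hsN c
    have hCN : centralizer ({t} : Set G) ≤ N := by
      intro g hg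
      have key : ∀ d : DihedralGroup 4, ∃ a b : DihedralGroup 4,
          a * a = 1 ∧ b * b = 1 ∧ d = a * b := by decide
      obtain ⟨a, b, ha, hb, hd⟩ := key (e ⟨g, hg⟩)
      have hin : ∀ d : DihedralGroup 4, d * d = 1 →
          ((e.symm d : centralizer ({t} : Set G)) : G) ∈ N := by
        intro d hd2
        by_cases h1 : ((e.symm d : centralizer ({t} : Set G)) : G) = 1
        · rw [h1]; exact N.one_mem
        · refine hall _ (orderOf_eq_prime ?_ h1)
          rw [pow_two, ← Subgroup.coe_mul, ← map_mul, hd2, map_one, Subgroup.coe_one]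
      have : g = ((e.symm a : centralizer ({t} : Set G)) : G) * (e.symm b : centralizer ({t} : Set G)) := by
        rw [← Subgroup.coe_mul, ← map_mul, ← hd, MulEquiv.symm_apply_apply]
      rw [this]
      exact N.mul_mem (hin a ha) (hin b hb)
    have htop := Sylow.normalizer_sup_eq_top' S (hS ▸ hCN)
    rw [eq_top_iff, ← htop]
    exact sup_le ((normalizer_le_centralizer_singleton t ht e hS).trans hCN) le_rfl

theorem recognition_of_no_index_two (hno : ∀ H : Subgroup G, H.index ≠ 2) :
    Nonempty (G ≃* alternatingGroup (Fin 6)) ∨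
      Nonempty (G ≃* Matrix.ProjectiveSpecialLinearGroup (Fin 2) (ZMod 7)) := by
  obtain ⟨h | h, hs⟩ := simple_of_no_index_two t ht e hno
  · haveI := hs
    haveI := fact_prime_7
    exact Or.inr (equiv_PSL_two_7 (by rw [h]; norm_num) (ZMod.card 7))
  · haveI := hs
    exact Or.inl (equiv_alternating_six h)

/-- With a subgroup of index two the group is `S₄`, `S₅`, or has a normal 2-complement. -/
theorem recognition_of_index_two {M : Subgroup G} (hM : M.index = 2) :
    centralizer ({t} : Set G) ⊔ Cfsg.oddCore G = ⊤ ∨ Nonempty (G ≃* Equiv.Perm (Fin 4)) ∨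
      Nonempty (G ≃* Equiv.Perm (Fin 5)) := by
  classical
  haveI := Fact.mk Nat.prime_two
  haveI := normal_of_index_eq_two hM
  obtain ⟨S, hS⟩ := exists_sylow_eq_centralizer t ht e
  set C := centralizer ({t} : Set G) with hCdef
  have hC8 : Nat.card C = 8 := card_centralizer_eq_eight t ht e
  have htC : t ∈ C := mem_centralizer_singleton_iff.2 rfl
  -- the intersection of `M` with the centraliser
  set Q := C ⊓ M with hQdef
  have hQC : Q ≤ C := inf_le_left
  have hCM : ¬ C ≤ M := fun h => by
    have h1 := card_dvd_of_le h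
    have h2 := M.card_mul_index
    have h3 := (S : Subgroup G).card_mul_index
    rw [hM] at h2
    rw [hS, hC8] at h3
    rw [hC8] at h1
    obtain ⟨j, hj⟩ := h1
    refine S.not_dvd_index ⟨j, ?_⟩
    rw [hS]
    omega
  have hQ4 : Nat.card Q = 4 := by
    have h1 : M.relIndex C = 2 := by
      have h2 := relIndex_dvd_index_of_normal M C
      rw [hM] at h2
      rcases (Nat.dvd_prime Nat.prime_two).1 h2 with h | h
      · exact absurd (relIndex_eq_one.1 h) hCM
      · exact h
    have h3 := (M.subgroupOf C).card_mul_index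
    rw [← relIndex, h1, hC8] at h3
    have h4 : Nat.card (M.subgroupOf C) = Nat.card Q := by
      rw [← inf_subgroupOf_right M C, Nat.card_congr (subgroupOfEquivOfLe inf_le_right).toEquiv,
        hQdef, inf_comm]
    omega
  have hQp : IsPGroup 2 Q := IsPGroup.of_card (n := 2) (by rw [hQ4]; norm_num)
  -- it is a Sylow subgroup of `M`
  set Q' := Q.subgroupOf M with hQ'def
  have hQ'card : Nat.card Q' = 4 := by
    rw [Nat.card_congr (subgroupOfEquivOfLe inf_le_right).toEquiv, hQ4]
  let T : Sylow 2 M := Sylow.ofCard Q' (by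
    rw [hQ'card]
    have h2 := M.card_mul_index
    have h3 := S.card_eq_multiplicity
    rw [hS, hC8] at h3
    rw [hM] at h2
    rw [← h2, Nat.factorization_mul Nat.card_pos.ne' two_ne_zero, Finsupp.add_apply,
      Nat.prime_two.factorization_self] at h3
    have h4 : (Nat.card M).factorization 2 + 1 = 3 := Nat.pow_right_injective (le_refl 2) h3.symm
    rw [show (Nat.card M).factorization 2 = 2 by omega]
    norm_num)
  have hT : (T : Subgroup M) = Q' := rfl
  have hleft : ∀ {K : Subgroup G}, K.Normal → Odd (Nat.card K) → K ⊔ C = ⊤ →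
      C ⊔ Cfsg.oddCore G = ⊤ := fun {K} hK hodd htop => by
    haveI := hK
    rw [eq_top_iff, ← htop]
    exact sup_le ((CfsgLib.Base.le_oddCore hodd).trans le_sup_right) le_sup_left
  by_cases htr : normalizer ((T : Subgroup M) : Set M) ≤ centralizer ((T : Subgroup M) : Set M)
  · left
    have hc := MonoidHom.ker_transferSylow_isComplement' T htr
    set K := (MonoidHom.transferSylow T htr).ker with hK
    have hKodd : Odd (Nat.card K) := by
      refine Nat.not_even_iff_odd.1 fun he => T.not_dvd_index ?_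
      rw [hc.index_eq_card]
      exact even_iff_two_dvd.1 he
    have hKO : K ≤ Cfsg.oddCore M := CfsgLib.Base.le_oddCore hKodd
    have hOnorm : ((Cfsg.oddCore M).map M.subtype).Normal := inferInstance
    refine hleft hOnorm ?_ ?_
    · rw [card_map_of_injective M.subtype_injective]
      exact CfsgLib.Base.odd_card_oddCore M
    · have hMle : M ≤ (Cfsg.oddCore M).map M.subtype ⊔ C := by
        intro m hm
        have hm' : (⟨m, hm⟩ : M) ∈ K ⊔ (T : Subgroup M) := hc.sup_eq_top ▸ mem_top _
        have hle : K ⊔ (T : Subgroup M) ≤ ((Cfsg.oddCore M).map M.subtype ⊔ C).comap M.subtype := by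
          refine sup_le (fun k hk => mem_sup_left ⟨k, hKO hk, rfl⟩) ?_
          rw [hT]
          intro k hk
          exact mem_sup_right (show (k : G) ∈ C from hk.1)
        exact hle hm'
      obtain ⟨c, hc', hcM⟩ := SetLike.not_le_iff_exists.1 hCM
      refine eq_top_iff.2 fun g _ => ?_
      by_cases hg : g ∈ M
      · exact hMle hg
      · have : g * c ∈ M := (mul_mem_iff_of_index_two hM).2 (iff_of_false hg hcM)
        have h1 := mul_mem (hMle this) (mem_sup_right (inv_mem hc') :
          c⁻¹ ∈ (Cfsg.oddCore M).map M.subtype ⊔ C)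
        rwa [mul_inv_cancel_right] at h1
  right
  -- the intersection is a four group containing `t`
  have hQnc : ¬ IsCyclic Q := fun hcyc => htr (by
    haveI : IsCyclic (T : Subgroup M) := by
      rw [hT]
      exact isCyclic_of_surjective (subgroupOfEquivOfLe inf_le_right).symm.toMonoidHom
        (subgroupOfEquivOfLe (inf_le_right (a := C) (b := M))).symm.surjective
    refine (inferInstance : IsCyclic (T : Subgroup M)).normalizer_le_centralizer (P := T) ?_
    refine (Nat.minFac_eq_two_iff _).2 ?_
    have := card_subgroup_dvd_card (T : Subgroup M)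
    rw [hT, hQ'card] at this
    exact (dvd_trans (by norm_num) this))
  have hQsq : ∀ q ∈ Q, q ^ 2 = 1 := by
    intro q hq
    by_contra h
    apply hQnc
    refine isCyclic_of_orderOf_eq_card (⟨q, hq⟩ : Q) ?_
    have hd : orderOf (⟨q, hq⟩ : Q) ∣ 2 ^ 2 := by
      rw [show (2 : ℕ) ^ 2 = 4 by norm_num, ← hQ4]; exact _root_.orderOf_dvd_natCard _
    obtain ⟨i, hi, hio⟩ := (Nat.dvd_prime_pow Nat.prime_two).1 hd
    rw [hQ4, hio]
    interval_cases i
    · exfalso; apply h
      rw [pow_zero, orderOf_eq_one_iff] at hio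
      rw [show q = 1 from congrArg Subtype.val hio, one_pow]
    · exfalso; apply h
      rw [pow_one, Subgroup.orderOf_mk] at hio
      rw [← hio]
      exact pow_orderOf_eq_one q
    · norm_num
  have hQn : ∀ c ∈ C, ∀ q ∈ Q, c * q * c⁻¹ ∈ Q := fun c hc q hq =>
    ⟨C.mul_mem (C.mul_mem hc hq.1) (C.inv_mem hc), (inferInstance : M.Normal).conj_mem q hq.2 c⟩
  have htQ : t ∈ Q := by
    haveI : Nontrivial Q := Finite.one_lt_card_iff_nontrivial.1 (by rw [hQ4]; norm_num)
    -- the centre of the centraliser meets the normal subgroup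
    have hconj : IsPGroup 2 C := IsPGroup.of_card (n := 3) (by rw [hC8]; norm_num)
    haveI : (Q.subgroupOf C).Normal := ⟨fun q hq c => hQn c c.2 q hq⟩
    haveI : Nontrivial (Q.subgroupOf C) := (subgroupOfEquivOfLe hQC).toEquiv.nontrivial
    obtain ⟨q, hq, hq1⟩ : ∃ q ∈ Q.subgroupOf C ⊓ center C, q ≠ 1 := by
      have := CfsgLib.PGroups.inf_center_ne_bot hconj (N := Q.subgroupOf C) (by
        exact (Subgroup.nontrivial_iff_ne_bot _).1 inferInstance)
      exact (Subgroup.bot_or_exists_ne_one _).resolve_left this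
    have := central_eq t ht e q.2 (fun g hg => congrArg Subtype.val (mem_center_iff.1 hq.2 ⟨g, hg⟩))
      (fun h => hq1 (Subtype.ext h))
    have hq' : (q : G) ∈ Q := hq.1
    rwa [this] at hq'
  have htM : t ∈ M := htQ.2
  have hkleinQ : IsKleinFour Q := isKleinFour_of_card_four_sq hQ4 fun g => Subtype.ext (hQsq g g.2)
  have hQab : ∀ a ∈ Q, ∀ b ∈ Q, a * b = b * a := fun a ha b hb =>
    congrArg Subtype.val (IsPGroup.commutative_of_card_eq_prime_sq (p := 2) (hQ4.trans (by norm_num))
      (⟨a, ha⟩ : Q) ⟨b, hb⟩)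
  have hCQ : centralizer (Q : Set G) = Q := by
    refine le_antisymm (fun g hg => ?_) (fun g hg => mem_centralizer_iff.2 fun w hw => hQab w hw g hg)
    have hgC : g ∈ C := mem_centralizer_singleton_iff.2 (mem_centralizer_iff.1 hg t htQ).symm
    -- a four group of the dihedral group is self-centralising
    have key : ∀ a b c : DihedralGroup 4, a * a = 1 → b * b = 1 → a ≠ 1 → b ≠ 1 → a ≠ b →
        a * b = b * a → c * a = a * c → c * b = b * c → c = 1 ∨ c = a ∨ c = b ∨ c = a * b := by
      decide
    haveI : Nontrivial Q := Finite.one_lt_card_iff_nontrivial.1 (by rw [hQ4]; norm_num)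
    obtain ⟨⟨a, ha⟩, ha1⟩ := exists_ne (1 : Q)
    obtain ⟨⟨b, hb⟩, hb1, hba⟩ : ∃ b : Q, b ≠ 1 ∧ b ≠ ⟨a, ha⟩ := by
      haveI := Fintype.ofFinite Q
      by_contra hc
      push Not at hc
      have hsub : (Finset.univ : Finset Q) ⊆ {1, ⟨a, ha⟩} := fun x _ => by
        simp only [Finset.mem_insert, Finset.mem_singleton]
        tauto
      have := (Finset.card_le_card hsub).trans Finset.card_le_two
      rw [Finset.card_univ, ← Nat.card_eq_fintype_card, hQ4] at this
      omega
    have hne : ∀ (u : G) (hu : u ∈ C), u ≠ 1 → e ⟨u, hu⟩ ≠ 1 := fun u hu h1 h => h1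
      (congrArg Subtype.val (e.injective (h.trans (map_one e).symm) : (⟨u, hu⟩ : C) = 1))
    have hmap : ∀ (u v : G) (hu : u ∈ C) (hv : v ∈ C), u * v = v * u →
        e ⟨u, hu⟩ * e ⟨v, hv⟩ = e ⟨v, hv⟩ * e ⟨u, hu⟩ := fun u v hu hv h => by
      rw [← map_mul, ← map_mul]; exact congrArg e (Subtype.ext h)
    have hsq' : ∀ (u : G) (hu : u ∈ C), u ∈ Q → e ⟨u, hu⟩ * e ⟨u, hu⟩ = 1 := fun u hu h => by
      rw [← map_mul, ← map_one e]
      refine congrArg e (Subtype.ext ?_)
      show u * u = 1
      rw [← pow_two]; exact hQsq u h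
    rcases key (e ⟨a, ha.1⟩) (e ⟨b, hb.1⟩) (e ⟨g, hgC⟩) (hsq' a ha.1 ha) (hsq' b hb.1 hb)
      (hne a ha.1 fun h => ha1 (Subtype.ext h)) (hne b hb.1 fun h => hb1 (Subtype.ext h))
      (fun h => hba (Subtype.ext (congrArg Subtype.val (e.injective h)).symm))
      (hmap a b ha.1 hb.1 (hQab a ha b hb))
      (hmap g a hgC ha.1 (mem_centralizer_iff.1 hg a ha).symm)
      (hmap g b hgC hb.1 (mem_centralizer_iff.1 hg b hb).symm) with h | h | h | h
    · rw [← map_one e] at h
      rw [show g = 1 from congrArg Subtype.val (e.injective h)]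
      exact Q.one_mem
    · rw [show g = a from congrArg Subtype.val (e.injective h)]; exact ha
    · rw [show g = b from congrArg Subtype.val (e.injective h)]; exact hb
    · rw [← map_mul] at h
      rw [show g = a * b from congrArg Subtype.val (e.injective h)]
      exact Q.mul_mem ha hb
  -- apply the four-group theorem in `M`
  have hCt : (centralizer ({(⟨t, htM⟩ : M)} : Set M)).map M.subtype = Q := by
    ext g
    constructor
    · rintro ⟨m, hm, rfl⟩
      exact ⟨mem_centralizer_singleton_iff.2 (congrArg Subtype.val (mem_centralizer_singleton_iff.1 hm)),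
        m.2⟩
    · rintro ⟨hgC, hgM⟩
      exact ⟨⟨g, hgM⟩, mem_centralizer_singleton_iff.2
        (Subtype.ext (mem_centralizer_singleton_iff.1 hgC)), rfl⟩
  have hMC4 : Nat.card (centralizer ({(⟨t, htM⟩ : M)} : Set M)) = 4 := by
    rw [← card_map_of_injective M.subtype_injective, hCt, hQ4]
  have hMCe : ∀ c ∈ centralizer ({(⟨t, htM⟩ : M)} : Set M), c ^ 2 = 1 := fun c hc =>
    Subtype.ext (hQsq _ (hCt ▸ mem_map_of_mem M.subtype hc))
  have hnc : ¬ Cfsg.HasNormalPComplement 2 M := by
    rintro ⟨R, N, hN, hcompl⟩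
    apply htr
    haveI := hN
    -- a normal complement gives control
    intro g hg
    rw [mem_centralizer_iff]
    intro y hy
    have hcompl' : N.IsComplement' (T : Subgroup M) := by
      refine isComplement'_of_coprime ?_ ?_
      · rw [← hcompl.card_mul]
        congr 1
        rw [R.card_eq_multiplicity, T.card_eq_multiplicity]
      · rw [T.card_eq_multiplicity]
        refine Nat.Coprime.pow_right _ (Nat.coprime_two_right.2 (Nat.not_even_iff_odd.1 fun he => ?_))
        exact R.not_dvd_index (by rw [hcompl.index_eq_card]; exact even_iff_two_dvd.1 he)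
    -- conjugation fixes `y` modulo `N`, and `T` is abelian
    have hy' : g * y * g⁻¹ ∈ (T : Subgroup M) := (mem_normalizer_iff.1 hg y).1 hy
    have hcomm : ∀ a b : (T : Subgroup M), a * b = b * a := fun a b =>
      IsPGroup.commutative_of_card_eq_prime_sq (p := 2) (by rw [hT, hQ'card]; norm_num) a b
    have hin : y⁻¹ * (g * y * g⁻¹) ∈ N := by
      obtain ⟨⟨n, q⟩, hnq⟩ := hcompl'.2 g
      change (n : M) * q = g at hnq
      rw [← QuotientGroup.eq_one_iff]
      have hq : (q : M) * y = y * q :=
        congrArg Subtype.val (hcomm q ⟨y, hy⟩)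
      have hn1 : ((n : M) : M ⧸ N) = 1 := (QuotientGroup.eq_one_iff _).2 n.2
      rw [← hnq]
      simp only [QuotientGroup.mk_mul, QuotientGroup.mk_inv, hn1, one_mul]
      rw [← QuotientGroup.mk_mul N (q : M) y, hq, QuotientGroup.mk_mul]
      group
    have h1 : y⁻¹ * (g * y * g⁻¹) = 1 := by
      have := hcompl'.disjoint.le_bot (x := y⁻¹ * (g * y * g⁻¹))
        ⟨hin, (T : Subgroup M).mul_mem ((T : Subgroup M).inv_mem hy) hy'⟩
      exact Subgroup.mem_bot.1 this
    rw [inv_mul_eq_one, eq_mul_inv_iff_mul_eq] at h1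
    exact h1
  have hMmap : ∀ E : Subgroup M, E.Characteristic → (E.map M.subtype).Normal := fun E hE => by
    haveI := hE; infer_instance
  rcases klein_centralizer_cases (⟨t, htM⟩ : M) (by rw [Subgroup.orderOf_mk, ht]) hMC4 hMCe hnc with
    ⟨E, hEn, hEe, hE2 | hE4⟩ | ⟨f⟩
  · exfalso
    -- a central involution of `M` commutes with `t` and has no room
    haveI := hEn
    have hEc : E ≤ center M := by
      intro w hw
      rw [mem_center_iff]
      intro m
      by_cases hw1 : w = 1
      · rw [hw1, mul_one, one_mul]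
      have h1 := hEn.conj_mem w hw m
      have h2 : m * w * m⁻¹ = w := by
        by_contra hne
        haveI := Fintype.ofFinite E
        have hcard : ({1, ⟨w, hw⟩, ⟨_, h1⟩} : Finset E).card ≤ Nat.card E := by
          rw [Nat.card_eq_fintype_card]; exact Finset.card_le_univ _
        rw [Finset.card_insert_of_notMem (by
          simp only [Finset.mem_insert, Finset.mem_singleton, not_or]
          exact ⟨fun h => hw1 (congrArg Subtype.val h).symm, fun h => hw1 (by
            have h' : m * w * m⁻¹ = 1 := (congrArg Subtype.val h).symm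
            exact conj_eq_one_iff.1 h')⟩),
          Finset.card_pair (fun h => hne (congrArg Subtype.val h).symm), hE2] at hcard
        omega
      exact mul_inv_eq_iff_eq_mul.1 h2
    haveI : Nontrivial E := Finite.one_lt_card_iff_nontrivial.1 (by rw [hE2]; norm_num)
    obtain ⟨⟨w, hw⟩, hw1⟩ := exists_ne (1 : E)
    have hwQ : (w : G) ∈ Q := hCt ▸ mem_map_of_mem M.subtype
      (mem_centralizer_singleton_iff.2 (mem_center_iff.1 (hEc hw) _).symm)
    -- `Q` is Sylow in `M`, and its normaliser fixes this central element, hence centralises it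
    refine htr fun g hg => ?_
    rw [mem_centralizer_iff]
    intro y hy
    have hTK : CfsgLib.CharApps.KleinSetup T := by
      refine ⟨by rw [hT, hQ'card], fun N hN hidx => hnc ⟨T, N, hN, isComplement'_of_coprime ?_ ?_⟩⟩
      · rw [show Nat.card (T : Subgroup M) = 4 by rw [hT, hQ'card], ← N.card_mul_index, hidx]
      · rw [show Nat.card (T : Subgroup M) = 2 ^ 2 by rw [hT, hQ'card]; norm_num]
        refine Nat.Coprime.pow_right _ (Nat.coprime_two_right.2 (Nat.not_even_iff_odd.1 fun he => ?_))
        refine T.not_dvd_index ?_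
        have h1 := N.card_mul_index
        have h2 := (T : Subgroup M).card_mul_index
        rw [hidx] at h1
        rw [hT, hQ'card] at h2
        rw [hT, show Q'.index = Nat.card N by omega]
        exact even_iff_two_dvd.1 he
    have hw' : (⟨w, show w ∈ (T : Subgroup M) from hwQ⟩ : (T : Subgroup M)) ≠ 1 := fun h =>
      hw1 (Subtype.ext (congrArg (fun z : (T : Subgroup M) => (z : M)) h))
    haveI := Fintype.ofFinite M
    exact mem_centralizer_iff.1 (hTK.mem_centralizer_of_fix hg hw'
      (mul_inv_eq_iff_eq_mul.2 (mem_center_iff.1 (hEc hw) g))) y hy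
  · -- `M` is the alternating group on four letters
    left
    haveI := hEn
    have hE2' : IsPGroup 2 E := IsPGroup.of_card (n := 2) (by rw [hE4]; norm_num)
    obtain ⟨U, hU⟩ := hE2'.exists_le_sylow
    have hUE : (U : Subgroup M) = E := (eq_of_le_of_card_ge hU (by
      rw [U.card_eq_multiplicity, ← T.card_eq_multiplicity, hT, hQ'card, hE4])).symm
    obtain ⟨g, hg⟩ := MulAction.exists_smul_eq M U T
    have hTE : (T : Subgroup M) = E := by
      rw [← hg, Sylow.coe_subgroup_smul, hUE]
      exact hEn.conjAct (ConjAct.toConjAct g)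
    haveI : (T : Subgroup M).Characteristic := T.characteristic_of_normal (hTE ▸ hEn)
    have hQnorm : Q.Normal := by
      have := hMmap (T : Subgroup M) inferInstance
      rwa [hT, subgroupOf_map_subtype, inf_of_le_left (inf_le_right (a := C) (b := M))] at this
    haveI := hQnorm
    haveI : Fintype {y : Q // y ≠ 1} := Fintype.ofFinite _
    haveI : Fintype Q := Fintype.ofFinite _
    let ψ : G →* Equiv.Perm {y : Q // y ≠ 1} :=
      { toFun := fun g =>
          { toFun := fun y => ⟨⟨g * y.1 * g⁻¹, hQnorm.conj_mem _ y.1.2 g⟩,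
              fun e => y.2 (Subtype.ext (conj_eq_one_iff.1 (congrArg Subtype.val e)))⟩
            invFun := fun y => ⟨⟨g⁻¹ * y.1 * g, by
              have := hQnorm.conj_mem _ y.1.2 g⁻¹
              rwa [inv_inv] at this⟩,
              fun e => y.2 (Subtype.ext (by
                have h1 : g⁻¹ * y.1 * g = 1 := congrArg Subtype.val e
                calc (y.1 : G) = g * (g⁻¹ * y.1 * g) * g⁻¹ := by group
                  _ = 1 := by rw [h1]; group))⟩
            left_inv := fun y => Subtype.ext (Subtype.ext (by simp [mul_assoc]))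
            right_inv := fun y => Subtype.ext (Subtype.ext (by simp [mul_assoc])) }
        map_one' := Equiv.ext fun y => Subtype.ext (Subtype.ext (by simp))
        map_mul' := fun a b => Equiv.ext fun y => Subtype.ext (Subtype.ext (by simp [mul_assoc])) }
    have hker : ψ.ker = Q := by
      ext g
      rw [MonoidHom.mem_ker]
      constructor
      · intro hg
        rw [← hCQ, mem_centralizer_iff]
        intro w hw
        by_cases hw1 : w = 1
        · rw [hw1, one_mul, mul_one]
        · exact (mul_inv_eq_iff_eq_mul.1 (congrArg Subtype.val (congrArg Subtype.val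
            (Equiv.Perm.congr_fun hg ⟨⟨w, hw⟩, fun e => hw1 (congrArg Subtype.val e)⟩)))).symm
      · intro hg
        refine Equiv.ext fun y => Subtype.ext (Subtype.ext ?_)
        show g * y.1 * g⁻¹ = y.1
        rw [hQab g hg _ y.1.2, mul_inv_cancel_right]
    have h3 : Fintype.card {y : Q // y ≠ 1} = 3 := by
      rw [Fintype.card_subtype_compl, Fintype.card_subtype_eq, ← Nat.card_eq_fintype_card, hQ4]
    have h24 : Nat.card G = 24 := by
      have h1 : Nat.card ψ.range ∣ 6 := by
        refine (card_subgroup_dvd_card _).trans ?_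
        rw [Nat.card_perm, Nat.card_eq_fintype_card, h3]
        rfl
      have h2 := ψ.ker.card_mul_index
      rw [index_ker, hker, hQ4] at h2
      have h8 : 8 ∣ Nat.card G := hC8 ▸ card_subgroup_dvd_card C
      obtain ⟨u, hu⟩ := h1
      obtain ⟨w, hw⟩ := h8
      have := Nat.le_of_dvd (by norm_num : 0 < 6) ⟨u, hu⟩
      by_contra hne
      -- the order would be eight, and the four group abelian
      refine htr fun g hg => ?_
      have hG8 : Nat.card G = 8 := by
        interval_cases hr : Nat.card ψ.range <;> omega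
      have hM4 := M.card_mul_index
      rw [hM, hG8] at hM4
      have hTtop : (T : Subgroup M) = ⊤ := eq_top_of_card_eq _ (by rw [hT, hQ'card]; omega)
      exact mem_centralizer_iff.2 fun y hy => congrArg Subtype.val
        (IsPGroup.commutative_of_card_eq_prime_sq (p := 2) (by rw [hT, hQ'card]; norm_num)
          (⟨y, hy⟩ : (T : Subgroup M)) ⟨g, hTtop ▸ mem_top g⟩)
    refine equiv_perm_four h24 Q hQ4 (fun w hw g hg3 hgw => ?_) hCQ.le
    by_contra hw1
    have ho : orderOf (ψ g) = 3 := by
      rcases (Nat.dvd_prime Nat.prime_three).1 (hg3 ▸ orderOf_map_dvd ψ g) with h | h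
      · exfalso
        rw [orderOf_eq_one_iff, ← MonoidHom.mem_ker, hker] at h
        have := _root_.orderOf_dvd_natCard (⟨g, h⟩ : Q)
        rw [Subgroup.orderOf_mk, hg3, hQ4] at this
        omega
      · exact h
    obtain ⟨k, hk⟩ := Equiv.Perm.cycleType_prime_order (σ := ψ g) (by rw [ho]; exact Nat.prime_three)
    rw [ho] at hk
    have hsum := Equiv.Perm.sum_cycleType (ψ g)
    rw [hk, Multiset.sum_replicate, smul_eq_mul] at hsum
    have hnot : (⟨⟨w, hw⟩, fun e => hw1 (congrArg Subtype.val e)⟩ : {y : Q // y ≠ 1}) ∉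
        (ψ g).support := by
      rw [Equiv.Perm.mem_support, not_not]
      refine Subtype.ext (Subtype.ext ?_)
      show g * w * g⁻¹ = w
      rw [hgw, mul_inv_cancel_right]
    have hlt := Finset.card_lt_univ_of_notMem hnot
    omega
  · -- `M` is the alternating group on five letters
    right
    obtain ⟨f⟩ := f
    exact equiv_perm_five M hM T htr f (fun g hg => by
      have hgC : g ∈ C := mem_centralizer_singleton_iff.2 (hg t htM).symm
      have : g ∈ Q := by
        rw [← hCQ]
        exact mem_centralizer_iff.2 fun w hw => hg w hw.2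
      exact this.2)

end D8

end CfsgLib.Small
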