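import Mathlib

/-!
# Centralisers of involutions of `A₆` and the centre of `SL₃(2)`
-/

set_option autoImplicit false

open Equiv Subgroup

namespace CfsgLib.Small

/-- The product of two disjoint transpositions. -/
def a6Invol : Perm (Fin 6) := swap 0 1 * swap 2 3

/-- An element of order four squaring to `a6Invol`. -/
def a6Four : Perm (Fin 6) := swap 0 2 * swap 2 1 * swap 1 3 * swap 4 5

/-- An involution inverting `a6Four`. -/
def a6Refl : Perm (Fin 6) := swap 0 1 * swap 4 5

theorem a6Four_pow : a6Four ^ 4 = 1 ∧ a6Refl * a6Refl = 1 ∧ a6Refl * a6Four * a6Refl = a6Four⁻¹ := by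
  decide

/-- The images of the dihedral group. -/
def a6Map : DihedralGroup 4 → Perm (Fin 6)
  | .r i => a6Four ^ i.val
  | .sr i => a6Refl * a6Four ^ i.val

theorem a6Map_mul : ∀ a b : DihedralGroup 4, a6Map (a * b) = a6Map a * a6Map b := by decide +kernel

theorem a6Map_inj : ∀ a b : DihedralGroup 4, a6Map a = a6Map b → a = b := by decide +kernel

theorem a6Map_mem : ∀ a : DihedralGroup 4,
    Equiv.Perm.sign (a6Map a) = 1 ∧ a6Map a * a6Invol = a6Invol * a6Map a := by decide +kernel

set_option maxHeartbeats 1000000 in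
theorem a6Map_surj : ∀ σ : Perm (Fin 6), Equiv.Perm.sign σ = 1 → σ * a6Invol = a6Invol * σ →
    ∃ a : DihedralGroup 4, a6Map a = σ := by decide +kernel

theorem a6_centralizer_equiv (αt : alternatingGroup (Fin 6)) (h : orderOf αt = 2)
    (hs : (αt : Perm (Fin 6)).support.card = 4) :
    Nonempty (DihedralGroup 4 ≃* centralizer ({αt} : Set (alternatingGroup (Fin 6)))) := by
  have ho : orderOf (αt : Perm (Fin 6)) = 2 := by rw [Subgroup.orderOf_coe, h]
  obtain ⟨n, hn⟩ := Equiv.Perm.cycleType_prime_order (σ := (αt : Perm (Fin 6)))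
    (by rw [ho]; exact Nat.prime_two)
  rw [ho] at hn
  have hsum := Equiv.Perm.sum_cycleType (αt : Perm (Fin 6))
  rw [hn, Multiset.sum_replicate, smul_eq_mul, hs] at hsum
  have hc : a6Invol.cycleType = Multiset.replicate (n + 1) 2 := by
    obtain rfl : n = 1 := by omega
    obtain ⟨m, hm⟩ := Equiv.Perm.cycleType_prime_order (σ := a6Invol)
      (by rw [orderOf_eq_prime (p := 2) (by decide) (by decide)]; exact Nat.prime_two)
    rw [orderOf_eq_prime (p := 2) (x := a6Invol) (by decide) (by decide)] at hm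
    have hsum' := Equiv.Perm.sum_cycleType a6Invol
    rw [hm, Multiset.sum_replicate, smul_eq_mul, show a6Invol.support.card = 4 from by decide] at hsum'
    rw [hm, show m = 1 by omega]
  obtain ⟨g, hg⟩ := isConj_iff.1 (Equiv.Perm.isConj_iff_cycleType_eq.2 (hc.trans hn.symm))
  let f : DihedralGroup 4 → centralizer ({αt} : Set (alternatingGroup (Fin 6))) := fun a =>
    ⟨⟨g * a6Map a * g⁻¹, Equiv.Perm.mem_alternatingGroup.2 (by
        rw [map_mul, map_mul, (a6Map_mem a).1, mul_one, map_inv, mul_inv_cancel])⟩,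
      mem_centralizer_singleton_iff.2 (Subtype.ext (by
        show g * a6Map a * g⁻¹ * (αt : Perm (Fin 6)) = αt * (g * a6Map a * g⁻¹)
        rw [← hg]
        calc g * a6Map a * g⁻¹ * (g * a6Invol * g⁻¹) = g * (a6Map a * a6Invol) * g⁻¹ := by group
          _ = g * a6Invol * g⁻¹ * (g * a6Map a * g⁻¹) := by rw [(a6Map_mem a).2]; group))⟩
  refine ⟨MulEquiv.ofBijective (MonoidHom.mk' f fun a b => ?_) ⟨fun a b e => a6Map_inj a b ?_, ?_⟩⟩
  · refine Subtype.ext (Subtype.ext ?_)
    show g * a6Map (a * b) * g⁻¹ = g * a6Map a * g⁻¹ * (g * a6Map b * g⁻¹)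
    rw [a6Map_mul]
    group
  · have : g * a6Map a * g⁻¹ = g * a6Map b * g⁻¹ :=
      congrArg (fun x : centralizer ({αt} : Set (alternatingGroup (Fin 6))) => (x.1 : Perm (Fin 6))) e
    exact mul_left_cancel (mul_right_cancel this)
  · rintro ⟨σ, hσ⟩
    have hσ' : (σ : Perm (Fin 6)) * αt = αt * σ :=
      congrArg Subtype.val (mem_centralizer_singleton_iff.1 hσ)
    obtain ⟨a, ha⟩ := a6Map_surj (g⁻¹ * σ * g) (by
      rw [map_mul, map_mul, Equiv.Perm.mem_alternatingGroup.1 σ.2, mul_one, map_inv, inv_mul_cancel])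
      (by
        rw [← hg] at hσ'
        calc g⁻¹ * σ * g * a6Invol = g⁻¹ * (σ * (g * a6Invol * g⁻¹)) * g := by group
          _ = a6Invol * (g⁻¹ * σ * g) := by rw [hσ']; group)
    refine ⟨a, Subtype.ext (Subtype.ext ?_)⟩
    show g * a6Map a * g⁻¹ = σ
    rw [ha]
    group

theorem center_SL_three_two : center (Matrix.SpecialLinearGroup (Fin 3) (ZMod 2)) = ⊥ := by
  rw [eq_bot_iff]
  intro A hA
  obtain ⟨r, hr, hA'⟩ := Matrix.SpecialLinearGroup.mem_center_iff.1 hA
  have key : ∀ r : ZMod 2, r ^ (Fintype.card (Fin 3)) = 1 → r = 1 := by decide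
  rw [key r hr, map_one] at hA'
  exact Subgroup.mem_bot.2 (Subtype.ext hA'.symm)

end CfsgLib.Small
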