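import Cfsg.Agent.Lib.Small.JankoTwoLabels

/-!
# The normal form in `2^{1+4}.A₅`
-/

set_option autoImplicit false
set_option linter.unusedSectionVars false
set_option maxRecDepth 100000

namespace CfsgLib.Small.JTwoType

open Subgroup
open JTwoModel (QW qmul qone qz qgen qpow qact Mdl mmul)

theorem fin_five_move : ∀ j : Fin 5, j ≠ 0 → ∃ π : alternatingGroup (Fin 5), π.1 0 = 0 ∧ π.1 j ≠ j := by
  decide +kernel

theorem qinv_ok : ∀ b : QW, qmul b (qmul b (qmul b b)) = qone ∧
    ∀ a : QW, qmul (qmul a (qmul b (qmul b b))) b = a := by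
  decide +kernel

set_option synthInstance.maxSize 100000 in
theorem fifth_cases : ∀ c : QW,
    (∀ i : Fin 4, qmul c (qgen i.castSucc) = qmul (qgen i.castSucc) (qmul c qz)) →
      c = qgen 4 ∨ c = qmul (qgen 4) qz := by
  decide +kernel

/-- The five involutions satisfy the defining relations. -/
structure FiveRel {G : Type*} [Group G] (uu : Fin 5 → G) (z : G) : Prop where
  zz : z * z = 1
  sq : ∀ i : Fin 4, uu i.castSucc * uu i.castSucc = 1
  zc : ∀ i : Fin 4, z * uu i.castSucc = uu i.castSucc * z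
  anti : ∀ i j : Fin 4, i ≠ j →
    uu i.castSucc * uu j.castSucc = uu j.castSucc * (uu i.castSucc * z)
  four : uu 4 = uu 0 * uu 1 * uu 2 * uu 3

variable {G : Type*} [Group G]

/-- a power with a Boolean exponent -/
def bpow (b : Bool) (x : G) : G := if b then x else 1

/-- the value of a normal form -/
def qev (uu : Fin 5 → G) (z : G) : QW → G
  | (a0, a1, a2, a3, az) =>
    bpow a0 (uu 0) * bpow a1 (uu 1) * bpow a2 (uu 2) * bpow a3 (uu 3) * bpow az z

section

variable {uu : Fin 5 → G} {z : G} (F : FiveRel uu z)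
include F

theorem qev_mul_z (a : QW) : qev uu z (qmul a qz) = qev uu z a * z := by
  obtain ⟨a0, a1, a2, a3, az⟩ := a
  cases az <;> simp [qev, qmul, qz, bpow, mul_assoc, F.zz]

theorem qev_mul_gen (a : QW) (k : Fin 4) :
    qev uu z (qmul a (qgen k.castSucc)) = qev uu z a * uu k.castSucc := by
  obtain ⟨a0, a1, a2, a3, az⟩ := a
  have z0 : z * uu 0 = uu 0 * z := F.zc 0
  have z1 : z * uu 1 = uu 1 * z := F.zc 1
  have z2 : z * uu 2 = uu 2 * z := F.zc 2
  have z3 : z * uu 3 = uu 3 * z := F.zc 3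
  have h10 : uu 1 * uu 0 = uu 0 * (uu 1 * z) := F.anti 1 0 (by decide)
  have h20 : uu 2 * uu 0 = uu 0 * (uu 2 * z) := F.anti 2 0 (by decide)
  have h30 : uu 3 * uu 0 = uu 0 * (uu 3 * z) := F.anti 3 0 (by decide)
  have h21 : uu 2 * uu 1 = uu 1 * (uu 2 * z) := F.anti 2 1 (by decide)
  have h31 : uu 3 * uu 1 = uu 1 * (uu 3 * z) := F.anti 3 1 (by decide)
  have h32 : uu 3 * uu 2 = uu 2 * (uu 3 * z) := F.anti 3 2 (by decide)
  have s0 : uu 0 * uu 0 = 1 := F.sq 0
  have s1 : uu 1 * uu 1 = 1 := F.sq 1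
  have s2 : uu 2 * uu 2 = 1 := F.sq 2
  have s3 : uu 3 * uu 3 = 1 := F.sq 3
  have e0 : ∀ x, z * (uu 0 * x) = uu 0 * (z * x) := fun x => by rw [← mul_assoc, z0, mul_assoc]
  have e1 : ∀ x, z * (uu 1 * x) = uu 1 * (z * x) := fun x => by rw [← mul_assoc, z1, mul_assoc]
  have e2 : ∀ x, z * (uu 2 * x) = uu 2 * (z * x) := fun x => by rw [← mul_assoc, z2, mul_assoc]
  have e3 : ∀ x, z * (uu 3 * x) = uu 3 * (z * x) := fun x => by rw [← mul_assoc, z3, mul_assoc]
  have f10 : ∀ x, uu 1 * (uu 0 * x) = uu 0 * (uu 1 * (z * x)) := fun x => by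
    rw [← mul_assoc, h10]; simp only [mul_assoc]
  have f20 : ∀ x, uu 2 * (uu 0 * x) = uu 0 * (uu 2 * (z * x)) := fun x => by
    rw [← mul_assoc, h20]; simp only [mul_assoc]
  have f30 : ∀ x, uu 3 * (uu 0 * x) = uu 0 * (uu 3 * (z * x)) := fun x => by
    rw [← mul_assoc, h30]; simp only [mul_assoc]
  have f21 : ∀ x, uu 2 * (uu 1 * x) = uu 1 * (uu 2 * (z * x)) := fun x => by
    rw [← mul_assoc, h21]; simp only [mul_assoc]
  have f31 : ∀ x, uu 3 * (uu 1 * x) = uu 1 * (uu 3 * (z * x)) := fun x => by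
    rw [← mul_assoc, h31]; simp only [mul_assoc]
  have f32 : ∀ x, uu 3 * (uu 2 * x) = uu 2 * (uu 3 * (z * x)) := fun x => by
    rw [← mul_assoc, h32]; simp only [mul_assoc]
  have d0 : ∀ x, uu 0 * (uu 0 * x) = x := fun x => by rw [← mul_assoc, s0, one_mul]
  have d1 : ∀ x, uu 1 * (uu 1 * x) = x := fun x => by rw [← mul_assoc, s1, one_mul]
  have d2 : ∀ x, uu 2 * (uu 2 * x) = x := fun x => by rw [← mul_assoc, s2, one_mul]
  have d3 : ∀ x, uu 3 * (uu 3 * x) = x := fun x => by rw [← mul_assoc, s3, one_mul]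
  have dz : ∀ x, z * (z * x) = x := fun x => by rw [← mul_assoc, F.zz, one_mul]
  fin_cases k <;> cases a0 <;> cases a1 <;> cases a2 <;> cases a3 <;> cases az <;>
    simp [qev, qmul, qgen, bpow, mul_assoc, F.zz, z0, z1, z2, z3, h10, h20, h30, h21, h31, h32,
      s0, s1, s2, s3, e0, e1, e2, e3, f10, f20, f30, f21, f31, f32, d0, d1, d2, d3, dz]

theorem qev_qgen (i : Fin 5) : qev uu z (qgen i) = uu i := by
  fin_cases i <;> simp [qev, qgen, bpow, F.four]

theorem qev_qone : qev uu z qone = 1 := by simp [qev, qone, bpow]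

theorem qev_mul_pow (a : QW) (b : Bool) (k : Fin 4) :
    qev uu z (qmul a (qpow b (qgen k.castSucc))) = qev uu z a * bpow b (uu k.castSucc) := by
  cases b
  · simp [qpow, bpow, (JTwoModel.qone_mul a).2]
  · simpa [qpow, bpow] using qev_mul_gen F a k

theorem qev_mul (a b : QW) : qev uu z (qmul a b) = qev uu z a * qev uu z b := by
  rw [JTwoModel.qmul_decomp a b]
  have hz : ∀ c : QW, qev uu z (qmul c (qpow b.2.2.2.2 qz)) = qev uu z c * bpow b.2.2.2.2 z := by
    intro c
    cases b.2.2.2.2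
    · simp [qpow, bpow, (JTwoModel.qone_mul c).2]
    · simpa [qpow, bpow] using qev_mul_z F c
  have h0 : ∀ c b, qev uu z (qmul c (qpow b (qgen 0))) = qev uu z c * bpow b (uu 0) :=
    fun c b => qev_mul_pow F c b 0
  have h1 : ∀ c b, qev uu z (qmul c (qpow b (qgen 1))) = qev uu z c * bpow b (uu 1) :=
    fun c b => qev_mul_pow F c b 1
  have h2 : ∀ c b, qev uu z (qmul c (qpow b (qgen 2))) = qev uu z c * bpow b (uu 2) :=
    fun c b => qev_mul_pow F c b 2
  have h3 : ∀ c b, qev uu z (qmul c (qpow b (qgen 3))) = qev uu z c * bpow b (uu 3) :=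
    fun c b => qev_mul_pow F c b 3
  rw [hz, h3, h2, h1, h0]
  obtain ⟨b0, b1, b2, b3, bz⟩ := b
  simp [qev, mul_assoc]

theorem qev_qpow (b : Bool) (x : QW) : qev uu z (qpow b x) = bpow b (qev uu z x) := by
  cases b
  · simp [qpow, bpow, qev_qone F]
  · simp [qpow, bpow]

theorem qev_act {k : G} {π : Equiv.Perm (Fin 5)} (hk : ∀ i, k * uu i * k⁻¹ = uu (π i))
    (hz : k * z * k⁻¹ = z) (a : QW) : qev uu z (qact π a) = k * qev uu z a * k⁻¹ := by
  obtain ⟨a0, a1, a2, a3, az⟩ := a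
  have hp : ∀ (b : Bool) (x : G), k * bpow b x * k⁻¹ = bpow b (k * x * k⁻¹) := fun b x => by
    cases b <;> simp [bpow]
  have hzz : qev uu z qz = z := by simp [qev, qz, bpow]
  simp only [qact, qev_mul F, qev_qpow F, qev_qgen F, hzz, ← hk, ← hp]
  have hbz : k * bpow az z * k⁻¹ = bpow az z := by rw [hp, hz]
  conv_lhs => rw [← hbz]
  simp [qev, mul_assoc]

theorem qev_injective (h1 : z ≠ 1) : Function.Injective (qev uu z) := by
  intro a b h
  have hb := (qinv_ok b).1
  set b' := qmul b (qmul b b)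
  have hc : qev uu z (qmul a b') = 1 := by
    rw [qev_mul F, h, ← qev_mul F, hb, qev_qone F]
  have hab : qmul (qmul a b') b = a := (qinv_ok b).2 a
  generalize qmul a b' = c at hc hab
  rcases JTwoModel.noncentral c with h' | h' | ⟨k, h'⟩
  · rw [← hab, h', (JTwoModel.qone_mul b).1]
  · rw [h'] at hc
    exact absurd (by simpa [qev, qz, bpow] using hc) h1
  · have h2 := congrArg (qev uu z) h'
    rw [qev_mul F, qev_mul F, qev_mul F, hc, one_mul, mul_one,
      show qev uu z qz = z by simp [qev, qz, bpow]] at h2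
    exact absurd (left_eq_mul.1 h2) h1

end

namespace Labels

variable {G : Type*} [Group G] [Finite G] {S : Setup G} {f u : G} (D : Labels S f u)

/-- The labels after replacing `u` by `uz` and `f` by a generator of the same subgroup. -/
def flip {f' : G} (hf : ∀ x : G, x * f = f * x → x * f' = f' * x) : Labels S f' (u * S.z) where
  κ := D.κ
  κ_inj := D.κ_inj
  κ_C := D.κ_C
  κ_f := fun π => hf _ (D.κ_f π)
  uu := fun i => D.uu i * S.z
  uu_zero := by rw [D.uu_zero]
  uu_conj := fun π i => by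
    rw [← D.uu_conj π i]
    have h : D.κ π * S.z = S.z * D.κ π := (S.mem_C _).1 (D.κ_C π)
    calc D.κ π * (D.uu i * S.z) * (D.κ π)⁻¹
        = D.κ π * D.uu i * (S.z * (D.κ π)⁻¹) := by simp [mul_assoc]
      _ = D.κ π * D.uu i * ((D.κ π)⁻¹ * S.z) := by
        congr 1
        exact ((show Commute (D.κ π) S.z from h).inv_left).eq.symm
      _ = _ := by simp [mul_assoc]
  uu_inj := fun i j h => D.uu_inj (mul_right_cancel h)

variable (huz : IsConj S.z u) (huC : u * S.z = S.z * u) (hune : u ≠ S.z)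
include huz huC hune

theorem conj_u (i : Fin 5) : ∃ c : S.C, (c : G) * u * (c : G)⁻¹ = D.uu i := by
  obtain ⟨π, hπ⟩ := fin_five_transitive i
  refine ⟨⟨_, D.κ_C π⟩, ?_⟩
  have h := D.uu_conj π 0
  rw [hπ] at h
  simpa [D.uu_zero] using h

theorem mem_C (i : Fin 5) : D.uu i * S.z = S.z * D.uu i := by
  obtain ⟨c, hc⟩ := D.conj_u huz huC hune i
  have h : Commute (c : G) S.z := (S.mem_C _).1 c.2
  rw [← hc]
  exact ((h.mul_left huC).mul_left h.inv_left).eq

theorem mem_Q (i : Fin 5) : ∃ q : S.Q, ((q : S.C) : G) = D.uu i ∧ q ^ 2 = 1 ∧ q ∉ center S.Q := by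
  obtain ⟨c, hc⟩ := D.conj_u huz huC hune i
  have hconj : IsConj S.z (D.uu i) := huz.trans (isConj_iff.2 ⟨c, hc⟩)
  refine ⟨⟨⟨D.uu i, (S.mem_C _).2 (D.mem_C huz huC hune i)⟩, S.mem_Q_of_conj hconj⟩, rfl,
    Subtype.ext (Subtype.ext (JTwoOrder.sq_of_isConj S.ord hconj)), fun h => ?_⟩
  rcases (S.es.center_iff _).1 h with he | he
  · exact JTwoOrder.not_isConj_one S.ord hconj (congrArg (fun q : S.Q => ((q : S.C) : G)) he)
  · have h' : D.uu i = S.z := congrArg (fun q : S.Q => ((q : S.C) : G)) he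
    have hcz : (c : G) * S.z * (c : G)⁻¹ = S.z := mul_inv_eq_iff_eq_mul.2 ((S.mem_C _).1 c.2)
    exact hune ((MulAut.conj (c : G)).injective (by
      rw [MulAut.conj_apply, MulAut.conj_apply, hc, h', hcz]))

theorem uu_ne_mul_z (i j : Fin 5) : D.uu i ≠ D.uu j * S.z := by
  intro h
  have hcen : ∀ (p : alternatingGroup (Fin 5)) (x : G),
      D.κ p * (x * S.z) * (D.κ p)⁻¹ = D.κ p * x * (D.κ p)⁻¹ * S.z := fun p x => by
    have hz : D.κ p * S.z * (D.κ p)⁻¹ = S.z :=
      mul_inv_eq_iff_eq_mul.2 ((S.mem_C _).1 (D.κ_C p))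
    conv_rhs => rw [← hz]
    simp [mul_assoc]
  obtain ⟨π, hπ⟩ := fin_five_transitive j
  have h0 : D.uu ((π⁻¹).1 i) = D.uu 0 * S.z := by
    rw [← D.uu_conj, h, hcen, D.uu_conj]
    congr 2
    rw [← hπ]
    simp
  set k := (π⁻¹).1 i
  have hk : k ≠ 0 := by
    intro hk
    rw [hk, left_eq_mul] at h0
    exact S.z_ne_one h0
  obtain ⟨ρ, hρ0, hρk⟩ := fin_five_move k hk
  refine hρk (D.uu_inj ?_)
  rw [← D.uu_conj, h0, hcen, D.uu_conj, hρ0]

theorem comm_z (i j : Fin 5) (hij : i ≠ j) : D.uu i * D.uu j = D.uu j * (D.uu i * S.z) := by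
  obtain ⟨a, ha, ha2, hac⟩ := D.mem_Q huz huC hune i
  obtain ⟨b, hb, hb2, hbc⟩ := D.mem_Q huz huC hune j
  rcases S.es.comm_eq a b with he | he
  · exfalso
    rcases S.pair hb2 hbc ha2 he with h | h | h | h
    · exact hac (h.symm ▸ one_mem _)
    · exact hac (h.symm ▸ S.es.mem_center)
    · exact hij (D.uu_inj (by rw [← ha, ← hb, h]))
    · refine D.uu_ne_mul_z huz huC hune i j ?_
      rw [← ha, ← hb, h]
      rfl
  · have := congrArg (fun q : S.Q => ((q : S.C) : G)) he
    rw [← ha, ← hb, ← mul_assoc]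
    exact this

/-- The fifth involution is the product of the other four or that times `z`. -/
theorem four_cases :
    D.uu 4 = D.uu 0 * D.uu 1 * D.uu 2 * D.uu 3 ∨
      D.uu 4 = D.uu 0 * D.uu 1 * D.uu 2 * D.uu 3 * S.z := by
  classical
  let v : Fin 5 → G := Function.update D.uu 4 (D.uu 0 * D.uu 1 * D.uu 2 * D.uu 3)
  have hv : ∀ i : Fin 4, v i.castSucc = D.uu i.castSucc := fun i => Function.update_of_ne
    (fun h => by have := congrArg Fin.val h; simp at this; omega) _ _
  have F : FiveRel v S.z :=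
    { zz := (sq _).symm.trans S.z_sq
      sq := fun i => by
        obtain ⟨q, hq, hq2, -⟩ := D.mem_Q huz huC hune i.castSucc
        rw [hv, ← hq]
        exact (sq _).symm.trans (congrArg (fun x : S.Q => ((x : S.C) : G)) hq2)
      zc := fun i => by rw [hv]; exact (D.mem_C huz huC hune _).symm
      anti := fun i j hij => by
        rw [hv, hv]
        exact D.comm_z huz huC hune _ _ fun h => hij (Fin.castSucc_injective _ h)
      four := by
        have e := fun i => hv i
        rw [show v 4 = D.uu 0 * D.uu 1 * D.uu 2 * D.uu 3 from Function.update_self _ _ _,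
          show v 0 = D.uu 0 from hv 0, show v 1 = D.uu 1 from hv 1,
          show v 2 = D.uu 2 from hv 2, show v 3 = D.uu 3 from hv 3] }
  have huQ : ∀ i, D.uu i ∈ Four.QG S := fun i => by
    obtain ⟨q, hq, -⟩ := D.mem_Q huz huC hune i
    exact hq ▸ mem_map_of_mem _ q.2
  have hmem : ∀ a, qev v S.z a ∈ Four.QG S := by
    rintro ⟨a0, a1, a2, a3, az⟩
    have hb : ∀ (b : Bool) (x : G), x ∈ Four.QG S → bpow b x ∈ Four.QG S := fun b x hx => by
      cases b
      · exact one_mem _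
      · exact hx
    exact mul_mem (mul_mem (mul_mem (mul_mem (hb _ _ (hv 0 ▸ huQ _)) (hb _ _ (hv 1 ▸ huQ _)))
      (hb _ _ (hv 2 ▸ huQ _))) (hb _ _ (hv 3 ▸ huQ _))) (hb _ _ (mem_map_of_mem _ S.zC_mem))
  let ι : QW → Four.QG S := fun a => ⟨_, hmem a⟩
  have hι : Function.Bijective ι := by
    refine (Nat.bijective_iff_injective_and_card ι).2 ⟨fun a b h => qev_injective F S.z_ne_one
      (congrArg Subtype.val h :), ?_⟩
    rw [Four.QG, Nat.card_congr (S.Q.equivMapOfInjective _ S.C.subtype_injective).toEquiv.symm,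
      S.card]
    simp [Nat.card_eq_fintype_card]
  obtain ⟨c, hc⟩ := hι.2 ⟨_, huQ 4⟩
  have hc' : qev v S.z c = D.uu 4 := congrArg Subtype.val hc
  have hz : qev v S.z qz = S.z := by simp [qev, qz, bpow]
  rcases fifth_cases c fun i => qev_injective F S.z_ne_one (by
      rw [qev_mul F, qev_mul F, qev_mul F, hc', qev_qgen F, hz, hv]
      exact D.comm_z huz huC hune 4 _ fun h => by
        have := congrArg Fin.val h; simp at this; omega) with h | h
  · left
    rw [← hc', h, qev_qgen F]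
    exact Function.update_self _ _ _
  · right
    rw [← hc', h, qev_mul F, qev_qgen F, hz]
    exact congrArg (· * S.z) (Function.update_self _ _ _)

end Labels

end CfsgLib.Small.JTwoType
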