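import Mathlib
import Cfsg.Agent.Lib.Small.KleinCentralizer
import Cfsg.Agent.Lib.Transfer.NormalPComplement

/-!
# The centraliser of an element of odd prime order commuting with a four group cycled by an element
of order three: either it is `⟨c⟩ R ⟨x⟩` or its quotient by `⟨x⟩` is `A₅`
-/

set_option autoImplicit false
set_option linter.unusedSectionVars false

namespace CfsgLib.Small.JTwoType

open Subgroup
open scoped commutatorElement

variable {G : Type*} [Group G] [Finite G]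

theorem four_cases {R : Subgroup G} (hR : Nat.card R = 4) {a b : G} (ha : a ∈ R) (hb : b ∈ R)
    (ha1 : a ≠ 1) (hb1 : b ≠ 1) (hab : a ≠ b) (hR2 : ∀ r ∈ R, r ^ 2 = 1) :
    ∀ r ∈ R, r = 1 ∨ r = a ∨ r = b ∨ r = a * b := by
  classical
  intro r hr
  by_contra h
  push Not at h
  have hab1 : a * b ≠ 1 := fun he => hab (by
    rw [eq_inv_of_mul_eq_one_left he]
    exact inv_eq_of_mul_eq_one_right ((sq b).symm.trans (hR2 b hb)))
  have h5 : ({1, a, b, a * b, r} : Finset G).card = 5 := by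
    rw [Finset.card_insert_of_notMem, Finset.card_insert_of_notMem, Finset.card_insert_of_notMem,
      Finset.card_pair]
    · exact fun he => h.2.2.2 he.symm
    · simp only [Finset.mem_insert, Finset.mem_singleton, not_or]
      exact ⟨fun he => ha1 (mul_eq_right.1 he.symm), fun he => h.2.2.1 he.symm⟩
    · simp only [Finset.mem_insert, Finset.mem_singleton, not_or]
      exact ⟨hab, fun he => hb1 (left_eq_mul.1 he), fun he => h.2.1 he.symm⟩
    · simp only [Finset.mem_insert, Finset.mem_singleton, not_or]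
      exact ⟨ha1.symm, hb1.symm, hab1.symm, fun he => h.1 he.symm⟩
  have hle : ({1, a, b, a * b, r} : Finset G).card ≤ 4 := by
    rw [← hR, ← Nat.card_eq_finsetCard]
    exact Nat.card_le_card_of_injective (fun y => (⟨y.1, by
      have := y.2
      simp only [Finset.mem_insert, Finset.mem_singleton] at this
      rcases this with e | e | e | e | e <;> rw [e]
      exacts [one_mem _, ha, hb, mul_mem ha hb, hr]⟩ : R))
      fun u v e => Subtype.ext (congrArg Subtype.val e :)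
  omega

theorem three_cycle {R : Subgroup G} {t c : G} (hR : Nat.card R = 4) (hR2 : ∀ r ∈ R, r ^ 2 = 1)
    (htR : t ∈ R) (ht1 : t ≠ 1) (c3 : c ^ 3 = 1) (hcR : ∀ r ∈ R, c * r * c⁻¹ ∈ R)
    (hct : c * t * c⁻¹ ≠ t) :
    (∀ r ∈ R, r ≠ 1 → ∃ i : Fin 3, c ^ i.val * t * (c ^ i.val)⁻¹ = r) ∧
      ∀ r ∈ R, c * r * c⁻¹ = r → r = 1 := by
  set s := c * t * c⁻¹ with hs
  have hsR : s ∈ R := hcR t htR
  have hs1 : s ≠ 1 := fun h => ht1 (conj_eq_one_iff.1 h)
  have hback : ∀ y : G, c * (c * (c * y * c⁻¹) * c⁻¹) * c⁻¹ = y := fun y => by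
    calc _ = c ^ 3 * y * (c ^ 3)⁻¹ := by simp [pow_succ, mul_assoc]
      _ = y := by rw [c3, one_mul, inv_one, mul_one]
  have hu : c * s * c⁻¹ = t * s := by
    rcases four_cases hR htR hsR ht1 hs1 (Ne.symm hct) hR2 _ (hcR s hsR) with h | h | h | h
    · exact absurd (conj_eq_one_iff.1 h) hs1
    · exfalso
      have := hback t
      rw [← hs, h] at this
      exact hct this
    · exfalso
      exact hct ((MulAut.conj c).injective (show c * s * c⁻¹ = c * t * c⁻¹ from h.trans hs))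
    · exact h
  have h2 : c ^ 2 * t * (c ^ 2)⁻¹ = t * s := by rw [← hu, hs]; simp [sq, mul_assoc]
  refine ⟨fun r hr hr1 => ?_, fun r hr hfix => ?_⟩
  · rcases four_cases hR htR hsR ht1 hs1 (Ne.symm hct) hR2 r hr with h | h | h | h
    · exact absurd h hr1
    · exact ⟨0, by simp [h]⟩
    · exact ⟨1, by simp [h, hs]⟩
    · exact ⟨2, h2.trans h.symm⟩
  · rcases four_cases hR htR hsR ht1 hs1 (Ne.symm hct) hR2 r hr with h | h | h | h
    · exact h
    · rw [h] at hfix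
      exact absurd hfix hct
    · rw [h, hu] at hfix
      exact absurd (mul_eq_right.1 hfix) ht1
    · rw [h] at hfix
      have he : c * (t * s) * c⁻¹ = s * (t * s) := by
        conv_lhs => rw [show c * (t * s) * c⁻¹ = c * t * c⁻¹ * (c * s * c⁻¹) by simp [mul_assoc]]
        rw [← hs, hu]
      rw [he] at hfix
      exact absurd (mul_eq_right.1 hfix) hs1

/-- Either `C(x) = ⟨c⟩ R ⟨x⟩` or `C(x)/⟨x⟩ ≅ A₅`. -/
theorem quot_cases {p : ℕ} (hp : p.Prime) (hp2 : p ≠ 2) {x t c : G} (R : Subgroup G)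
    (hx : orderOf x = p) (htR : t ∈ R) (ht1 : t ≠ 1) (hR : Nat.card R = 4)
    (hR2 : ∀ r ∈ R, r ^ 2 = 1) (hRx : ∀ r ∈ R, r * x = x * r) (c3 : c ^ 3 = 1)
    (hcx : c * x = x * c) (hcR : ∀ r ∈ R, c * r * c⁻¹ ∈ R) (hct : c * t * c⁻¹ ≠ t)
    (hH : ∀ y : G, y * x = x * y → y * t = t * y → ∃ r ∈ R, ∃ i : ℕ, r * x ^ i = y) :
    (∀ y : G, y * x = x * y → ∃ i : Fin 3, ∃ r ∈ R, ∃ j : Fin p, y = c ^ i.val * r * x ^ j.val) ∨
      ∃ π : ↥(centralizer ({x} : Set G)) →* alternatingGroup (Fin 5), Function.Surjective π ∧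
        ∀ y, π y = 1 ↔ (y : G) ∈ zpowers x := by
  classical
  haveI : Fact (Nat.Prime 2) := ⟨Nat.prime_two⟩
  obtain ⟨hcyc, hfix⟩ := three_cycle hR hR2 htR ht1 c3 hcR hct
  set M := centralizer ({x} : Set G) with hM
  let xM : M := ⟨x, mem_centralizer_singleton_iff.2 rfl⟩
  let tM : M := ⟨t, mem_centralizer_singleton_iff.2 (hRx t htR)⟩
  let cM : M := ⟨c, mem_centralizer_singleton_iff.2 hcx⟩
  let P : Subgroup M := zpowers xM
  have hPmem : ∀ y : M, y ∈ P ↔ (y : G) ∈ zpowers x := by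
    intro y
    constructor
    · rintro ⟨n, rfl⟩; exact ⟨n, rfl⟩
    · rintro ⟨n, hn⟩; exact ⟨n, Subtype.ext hn⟩
  haveI hPn : P.Normal := by
    refine ⟨fun a ha b => ?_⟩
    obtain ⟨n, rfl⟩ := mem_zpowers_iff.1 ha
    have hb : Commute b xM := Subtype.ext (mem_centralizer_singleton_iff.1 b.2)
    rw [(hb.zpow_right n).eq, mul_inv_cancel_right]
    exact ha
  let π : M →* M ⧸ P := QuotientGroup.mk' P
  have hxp : x ^ p = 1 := by rw [← hx, pow_orderOf_eq_one]
  have hodd : ∀ y ∈ zpowers x, y ^ 2 = 1 → y = 1 := by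
    intro y hy h2
    obtain ⟨n, rfl⟩ := mem_zpowers_iff.1 hy
    have h3 : (x ^ n) ^ p = 1 := by
      rw [← zpow_natCast, ← zpow_mul, mul_comm, zpow_mul, zpow_natCast, hxp, one_zpow]
    exact orderOf_eq_one_iff.1 (Nat.eq_one_of_dvd_one (by
      have := Nat.dvd_gcd (orderOf_dvd_of_pow_eq_one h2) (orderOf_dvd_of_pow_eq_one h3)
      rwa [Nat.Coprime.gcd_eq_one ((Nat.coprime_primes Nat.prime_two hp).2 (Ne.symm hp2))] at this))
  have hRM : ∀ r ∈ R, r ∈ M := fun r hr => mem_centralizer_singleton_iff.2 (hRx r hr)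
  have hπR : ∀ (r : G) (hr : r ∈ R), π ⟨r, hRM r hr⟩ = 1 → r = 1 := fun r hr h =>
    hodd r ((hPmem _).1 ((QuotientGroup.eq_one_iff _).1 h)) (hR2 r hr)
  have ht2 : orderOf (π tM) = 2 := by
    refine orderOf_eq_prime ?_ fun h => ht1 (hπR t htR h)
    rw [← map_pow, show tM ^ 2 = 1 from Subtype.ext (hR2 t htR), map_one]
  -- centraliser of the image of `t`
  have hcent : ∀ y : M, π y * π tM = π tM * π y → ∃ r, ∃ hr : r ∈ R, π y = π ⟨r, hRM r hr⟩ := by
    intro y hy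
    have h1 : (y * tM * y⁻¹ * tM⁻¹) ∈ P := by
      refine (QuotientGroup.eq_one_iff _).1 ?_
      show π _ = 1
      rw [map_mul, map_mul, map_mul, hy, map_inv, map_inv, mul_inv_cancel_right, mul_inv_cancel]
    have hq : (y : G) * t * (y : G)⁻¹ * t⁻¹ ∈ zpowers x := (hPmem _).1 h1
    set q := (y : G) * t * (y : G)⁻¹ * t⁻¹ with hqdef
    have hqt : Commute q t := by
      obtain ⟨n, hn⟩ := mem_zpowers_iff.1 hq
      rw [← hn]
      exact ((show Commute x t from (hRx t htR).symm).zpow_left n)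
    have h2 : (q * t) ^ 2 = 1 := by
      rw [hqdef, inv_mul_cancel_right, conj_pow, hR2 t htR, mul_one, mul_inv_cancel]
    rw [hqt.mul_pow, hR2 t htR, mul_one] at h2
    have hq1 := hodd q hq h2
    rw [hqdef, mul_inv_eq_one, mul_inv_eq_iff_eq_mul] at hq1
    obtain ⟨r, hr, i, hi⟩ := hH y (mem_centralizer_singleton_iff.1 y.2) hq1
    refine ⟨r, hr, ?_⟩
    rw [show y = ⟨r, hRM r hr⟩ * xM ^ i from Subtype.ext hi.symm, map_mul, map_pow,
      show π xM = 1 from (QuotientGroup.eq_one_iff _).2 (mem_zpowers _), one_pow, mul_one]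
  have hmemC : ∀ (r : G) (hr : r ∈ R), π ⟨r, hRM r hr⟩ ∈ centralizer ({π tM} : Set (M ⧸ P)) := by
    intro r hr
    refine mem_centralizer_singleton_iff.2 ?_
    rw [← map_mul, ← map_mul]
    congr 1
    refine Subtype.ext ?_
    show r * t = t * r
    have h1 : r⁻¹ = r := inv_eq_of_mul_eq_one_right ((sq r).symm.trans (hR2 r hr))
    have h2 : t⁻¹ = t := inv_eq_of_mul_eq_one_right ((sq t).symm.trans (hR2 t htR))
    have h3 : (r * t)⁻¹ = r * t :=
      inv_eq_of_mul_eq_one_right ((sq (r * t)).symm.trans (hR2 _ (mul_mem hr htR)))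
    rw [mul_inv_rev, h1, h2] at h3
    exact h3.symm
  have hC4 : Nat.card (centralizer ({π tM} : Set (M ⧸ P))) = 4 := by
    rw [← hR]
    refine (Nat.card_congr (Equiv.ofBijective
      (fun r : R => (⟨π ⟨r, hRM r r.2⟩, hmemC r r.2⟩ : centralizer ({π tM} : Set (M ⧸ P))))
      ⟨fun a b h => ?_, fun u => ?_⟩)).symm
    · have h' : π ⟨a, hRM a a.2⟩ = π ⟨b, hRM b b.2⟩ := congrArg Subtype.val h
      have h'' : π ⟨(a : G)⁻¹ * b, hRM _ (mul_mem (inv_mem a.2) b.2)⟩ = 1 := by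
        rw [show (⟨(a : G)⁻¹ * b, hRM _ (mul_mem (inv_mem a.2) b.2)⟩ : M) =
          ⟨a, hRM a a.2⟩⁻¹ * ⟨b, hRM b b.2⟩ from rfl, map_mul, map_inv, h', inv_mul_cancel]
      exact Subtype.ext (inv_mul_eq_one.1 (hπR _ (mul_mem (inv_mem a.2) b.2) h''))
    · obtain ⟨u, hu⟩ := u
      obtain ⟨y, rfl⟩ := QuotientGroup.mk'_surjective P u
      obtain ⟨r, hr, h⟩ := hcent y (mem_centralizer_singleton_iff.1 hu)
      exact ⟨⟨r, hr⟩, Subtype.ext h.symm⟩
  have hCe : ∀ u ∈ centralizer ({π tM} : Set (M ⧸ P)), u ^ 2 = 1 := by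
    intro u hu
    obtain ⟨y, rfl⟩ := QuotientGroup.mk'_surjective P u
    obtain ⟨r, hr, h⟩ := hcent y (mem_centralizer_singleton_iff.1 hu)
    show (π y) ^ 2 = 1
    rw [h, ← map_pow, show (⟨r, hRM r hr⟩ : M) ^ 2 = 1 from Subtype.ext (hR2 r hr), map_one]
  have hstR : c * t * c⁻¹ * t⁻¹ ∈ R := mul_mem (hcR t htR) (inv_mem htR)
  have hst1 : c * t * c⁻¹ * t⁻¹ ≠ 1 := fun h => hct (mul_inv_eq_one.1 h)
  have hnc : ¬ Cfsg.HasNormalPComplement 2 (M ⧸ P) := by
    intro h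
    obtain ⟨N, hN, hNodd, k, hk⟩ := CfsgLib.Transfer.hasNormalPComplement_iff_exists.1 h
    have hcN : π cM ∈ N := by
      rw [← QuotientGroup.eq_one_iff]
      have h3 : ((π cM : (M ⧸ P) ⧸ N)) ^ 3 = 1 := by
        rw [← QuotientGroup.mk_pow, ← map_pow, show cM ^ 3 = 1 from Subtype.ext c3, map_one,
          QuotientGroup.mk_one]
      have h1 := orderOf_dvd_of_pow_eq_one h3
      have h2 : orderOf (π cM : (M ⧸ P) ⧸ N) ∣ 2 ^ k := hk ▸ orderOf_dvd_natCard _
      exact orderOf_eq_one_iff.1 (Nat.eq_one_of_dvd_one (by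
        have := Nat.dvd_gcd h1 h2
        rwa [Nat.Coprime.gcd_eq_one (Nat.Coprime.pow_right k (by norm_num))] at this))
    have hm : π cM * π tM * (π cM)⁻¹ * (π tM)⁻¹ ∈ N := by
      rw [mul_assoc, mul_assoc]
      exact mul_mem hcN (by rw [← mul_assoc]; exact hN.conj_mem _ (inv_mem hcN) (π tM))
    have ho : orderOf (⟨_, hm⟩ : N) = 2 := by
      rw [← Subgroup.orderOf_coe]
      show orderOf (π cM * π tM * (π cM)⁻¹ * (π tM)⁻¹) = 2
      rw [← map_inv, ← map_inv, ← map_mul, ← map_mul, ← map_mul,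
        show cM * tM * cM⁻¹ * tM⁻¹ = ⟨_, hRM _ hstR⟩ from rfl]
      refine orderOf_eq_prime ?_ fun h => hst1 (hπR _ hstR h)
      rw [← map_pow, show (⟨_, hRM _ hstR⟩ : M) ^ 2 = 1 from Subtype.ext (hR2 _ hstR), map_one]
    exact hNodd (ho ▸ orderOf_dvd_natCard _)
  rcases klein_centralizer_cases (π tM) ht2 hC4 hCe hnc with ⟨N, hN, hNel, hNcard⟩ | ⟨⟨e⟩⟩
  · left
    -- `N` is the image of `R`
    obtain ⟨r₀, hr₀, hr₀N, hr₀1⟩ : ∃ r₀, ∃ h : r₀ ∈ R, π ⟨r₀, hRM r₀ h⟩ ∈ N ∧ r₀ ≠ 1 := by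
      haveI : Nontrivial N := Finite.one_lt_card_iff_nontrivial.1 (by rcases hNcard with h | h <;>
        omega)
      obtain ⟨⟨a, ha⟩, hne⟩ := exists_ne (1 : N)
      obtain ⟨b, hbN, hb1, hbt⟩ : ∃ b ∈ N, b ≠ 1 ∧ π tM * b = b * π tM := by
        by_cases hfx : π tM * a * (π tM)⁻¹ = a
        · exact ⟨a, ha, fun h => hne (Subtype.ext h), mul_inv_eq_iff_eq_mul.1 hfx⟩
        · have hb : π tM * a * (π tM)⁻¹ ∈ N := hN.conj_mem a ha _
          refine ⟨π tM * a * (π tM)⁻¹ * a, mul_mem hb ha, fun h => hfx ?_, ?_⟩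
          · rw [mul_eq_one_iff_eq_inv.1 h]
            exact inv_eq_of_mul_eq_one_right ((sq a).symm.trans (hNel.2 a ha))
          · have hcomm : π tM * a * (π tM)⁻¹ * a = a * (π tM * a * (π tM)⁻¹) :=
              congrArg Subtype.val (hNel.1.is_comm.comm ⟨_, hb⟩ ⟨a, ha⟩)
            have hz2 : π tM * π tM = 1 := by
              rw [← map_mul, show tM * tM = 1 from Subtype.ext ((sq t).symm.trans (hR2 t htR)),
                map_one]
            rw [inv_eq_of_mul_eq_one_right hz2] at hcomm ⊢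
            calc π tM * (π tM * a * π tM * a) = π tM * (a * (π tM * a * π tM)) := by rw [hcomm]
              _ = π tM * a * π tM * a * π tM := by simp only [mul_assoc]
      obtain ⟨y, rfl⟩ := QuotientGroup.mk'_surjective P b
      obtain ⟨r, hr, h⟩ := hcent y hbt.symm
      exact ⟨r, hr, h ▸ hbN, fun h1 => hb1 (h.trans (by
        subst h1; exact map_one π))⟩
    have hr₁ : c * r₀ * c⁻¹ ∈ R := hcR r₀ hr₀
    have hr₁N : π ⟨c * r₀ * c⁻¹, hRM _ hr₁⟩ ∈ N := by
      rw [show (⟨c * r₀ * c⁻¹, hRM _ hr₁⟩ : M) = cM * ⟨r₀, hRM _ hr₀⟩ * cM⁻¹ from rfl, map_mul,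
        map_mul, map_inv]
      exact hN.conj_mem _ hr₀N _
    have hRN : ∀ (r : G) (hr : r ∈ R), π ⟨r, hRM r hr⟩ ∈ N := by
      intro r hr
      rcases four_cases hR hr₀ hr₁ hr₀1 (fun h => hr₀1 (conj_eq_one_iff.1 h))
        (fun h => hr₀1 (hfix r₀ hr₀ h.symm)) hR2 r hr with h | h | h | h <;> subst h
      · exact (show (⟨1, hRM 1 hr⟩ : M) = 1 from rfl) ▸ (map_one π).symm ▸ one_mem N
      · exact hr₀N
      · exact hr₁N
      · rw [show (⟨r₀ * (c * r₀ * c⁻¹), hRM _ hr⟩ : M) =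
          ⟨r₀, hRM _ hr₀⟩ * ⟨c * r₀ * c⁻¹, hRM _ hr₁⟩ from rfl, map_mul]
        exact mul_mem hr₀N hr₁N
    have hNeq : N = centralizer ({π tM} : Set (M ⧸ P)) := by
      refine (Subgroup.eq_of_le_of_card_ge (fun u hu => ?_)
        (by rcases hNcard with h | h <;> omega)).symm
      obtain ⟨y, rfl⟩ := QuotientGroup.mk'_surjective P u
      obtain ⟨r, hr, h⟩ := hcent y (mem_centralizer_singleton_iff.1 hu)
      rw [h]
      exact hRN r hr
    intro y hy
    let yM : M := ⟨y, mem_centralizer_singleton_iff.2 hy⟩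
    have h1 : π yM * π tM * (π yM)⁻¹ ∈ N := hN.conj_mem _ (hRN t htR) _
    have h1' : π (yM * tM * yM⁻¹) ∈ centralizer ({π tM} : Set (M ⧸ P)) := by
      rw [map_mul, map_mul, map_inv, ← hNeq]; exact h1
    obtain ⟨r, hr, hyr⟩ := hcent _ (mem_centralizer_singleton_iff.1 h1')
    have hq : r⁻¹ * (y * t * y⁻¹) ∈ zpowers x := by
      have h3 := (hPmem _).1 (QuotientGroup.eq.1 hyr.symm)
      exact h3
    have hyt : y * t * y⁻¹ = r := by
      have hcm : Commute r (r⁻¹ * (y * t * y⁻¹)) := by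
        obtain ⟨n, hn⟩ := mem_zpowers_iff.1 hq
        rw [← hn]
        exact (show Commute r x from hRx r hr).zpow_right n
      have h2 : (r * (r⁻¹ * (y * t * y⁻¹))) ^ 2 = 1 := by
        rw [mul_inv_cancel_left, conj_pow, hR2 t htR, mul_one, mul_inv_cancel]
      rw [hcm.mul_pow, hR2 r hr, one_mul] at h2
      exact (inv_mul_eq_one.1 (hodd _ hq h2)).symm
    obtain ⟨i, hi⟩ := hcyc r hr fun h => ht1 (conj_eq_one_iff.1 (hyt.trans h))
    have hcix : Commute (c ^ i.val) x := (show Commute c x from hcx).pow_left _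
    obtain ⟨r', hr', n, hn⟩ := hH ((c ^ i.val)⁻¹ * y) (hcix.inv_left.mul_left hy).eq
      (mul_inv_eq_iff_eq_mul.1 (by
        calc (c ^ i.val)⁻¹ * y * t * ((c ^ i.val)⁻¹ * y)⁻¹
            = (c ^ i.val)⁻¹ * (y * t * y⁻¹) * c ^ i.val := by simp [mul_assoc]
          _ = t := by rw [hyt, ← hi]; simp [mul_assoc]))
    refine ⟨i, r', hr', ⟨n % p, Nat.mod_lt _ hp.pos⟩, ?_⟩
    show y = c ^ i.val * r' * x ^ (n % p)
    rw [← pow_eq_pow_mod n hxp, mul_assoc, hn, mul_inv_cancel_left]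
  · right
    refine ⟨e.toMonoidHom.comp π, e.surjective.comp (QuotientGroup.mk'_surjective P), fun y => ?_⟩
    show e (π y) = 1 ↔ _
    rw [map_eq_one_iff e e.injective, ← hPmem]
    exact QuotientGroup.eq_one_iff y

end CfsgLib.Small.JTwoType
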