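import Mathlib
import Cfsg.Agent.Lib.Small.JankoTwoFinal
import Cfsg.Agent.Lib.Involutions.OrderTwelve
import Cfsg.Agent.Lib.Base.Cores

/-!
# The second involution: `C(t) ≅ 2² × A₅` and `N(O₂(C(t))) ≅ A₄ × A₅`
-/

set_option autoImplicit false
set_option linter.unusedSectionVars false

namespace CfsgLib.Small.JTwoType

open Subgroup

theorem idp_iso {G : Type*} [Group G] {A B N : Subgroup G}
    (h : Cfsg.IsInternalDirectProduct A B N) : Nonempty (A × B ≃* N) := by
  obtain ⟨hA, hB, hc, hd, hs⟩ := h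
  let φ : A × B →* G := MonoidHom.noncommCoprod A.subtype B.subtype fun a b => (show Commute (A.subtype a) (B.subtype b) from hc a a.2 b b.2)
  have hinj : Function.Injective φ := fun p q hpq => by
    have := mul_injective_of_disjoint (disjoint_iff.2 hd) (show ((p.1, p.2) : A × B).1.1 * p.2.1 =
      q.1.1 * q.2.1 from hpq)
    exact this
  have hr : φ.range = N := by
    simp only [φ]
    rw [MonoidHom.noncommCoprod_range, range_subtype, range_subtype, hs]
  exact ⟨(MonoidHom.ofInjective hinj).trans (MulEquiv.subgroupCongr hr)⟩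

theorem klein_iso {R : Type*} [Group R] (h4 : Nat.card R = 4) (h2 : ∀ r : R, r ^ 2 = 1) :
    Nonempty (R ≃* Multiplicative (ZMod 2) × Multiplicative (ZMod 2)) := by
  have key : ∀ (M : Type) [Group M], Nat.card M = 4 → (∀ m : M, m ^ 2 = 1) → IsKleinFour M := by
    intro M _ hM hm
    haveI : Finite M := Nat.finite_of_card_ne_zero (by omega)
    haveI : Nontrivial M := Finite.one_lt_card_iff_nontrivial.1 (by omega)
    exact ⟨hM, (Monoid.exponent_eq_prime_iff Nat.prime_two).2 fun g hg => orderOf_eq_prime (hm g) hg⟩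
  haveI : IsKleinFour R := by
    haveI : Finite R := Nat.finite_of_card_ne_zero (by omega)
    haveI : Nontrivial R := Finite.one_lt_card_iff_nontrivial.1 (by omega)
    exact ⟨h4, (Monoid.exponent_eq_prime_iff Nat.prime_two).2 fun g hg => orderOf_eq_prime (h2 g) hg⟩
  haveI : IsKleinFour (Multiplicative (ZMod 2) × Multiplicative (ZMod 2)) := key _
    (by simp [Nat.card_eq_fintype_card]) (by decide)
  exact IsKleinFour.nonempty_mulEquiv

set_option maxRecDepth 100000 in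
theorem a5_odd_gen : ∀ k : alternatingGroup (Fin 5), ∃ a : alternatingGroup (Fin 5),
    a ^ 15 = 1 ∧ (a⁻¹ * k) ^ 15 = 1 := by
  decide +kernel

set_option maxRecDepth 100000 in
theorem a5_center : ∀ x : alternatingGroup (Fin 5), (∀ y, x * y = y * x) → x = 1 := by
  decide +kernel

theorem second_centralizer {G : Type*} [Group G] [Finite G] {t : G} (R K : Subgroup G)
    (hIDP : Cfsg.IsInternalDirectProduct R K (centralizer ({t} : Set G))) (htR : t ∈ R) (ht1 : t ≠ 1)
    (hK : Nonempty (K ≃* alternatingGroup (Fin 5))) (hR : Nat.card R = 4) (hR2 : ∀ r ∈ R, r ^ 2 = 1)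
    (c : G) (c3 : c ^ 3 = 1) (hcR : ∀ r ∈ R, c * r * c⁻¹ ∈ R) (hcK : ∀ k ∈ K, c * k = k * c)
    (hct : c * t * c⁻¹ ≠ t) :
    Nonempty (↥(centralizer ({t} : Set G)) ≃*
      (Multiplicative (ZMod 2) × Multiplicative (ZMod 2)) × alternatingGroup (Fin 5)) ∧
    Nonempty (↥(normalizer (((Cfsg.pCore 2 ↥(centralizer ({t} : Set G))).map
      (centralizer ({t} : Set G)).subtype : Subgroup G) : Set G)) ≃*
        alternatingGroup (Fin 4) × alternatingGroup (Fin 5)) := by
  classical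
  haveI : Fact (Nat.Prime 2) := ⟨Nat.prime_two⟩
  obtain ⟨eK⟩ := hK
  obtain ⟨hRH, hKH, hRK, hdisj, hsup⟩ := id hIDP
  set H := centralizer ({t} : Set G) with hH
  obtain ⟨e0⟩ := idp_iso hIDP
  obtain ⟨eR⟩ := klein_iso hR fun r => Subtype.ext (hR2 r r.2)
  refine ⟨⟨e0.symm.trans (eR.prodCongr eK)⟩, ?_⟩
  have hRcomm : ∀ a ∈ R, ∀ b ∈ R, a * b = b * a := by
    intro a ha b hb
    have h1 : a⁻¹ = a := inv_eq_of_mul_eq_one_right ((sq a).symm.trans (hR2 a ha))
    have h2 : b⁻¹ = b := inv_eq_of_mul_eq_one_right ((sq b).symm.trans (hR2 b hb))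
    have h3 : (a * b)⁻¹ = a * b :=
      inv_eq_of_mul_eq_one_right ((sq (a * b)).symm.trans (hR2 _ (mul_mem ha hb)))
    rw [mul_inv_rev, h1, h2] at h3
    exact h3.symm
  have hHR : ∀ h ∈ H, ∀ r ∈ R, h * r = r * h := by
    intro h hh r hr
    have hle : H ≤ centralizer (R : Set G) := by
      rw [← hsup]
      exact sup_le (fun a ha => fun b hb => hRcomm b hb a ha) fun k hk => fun b hb => hRK b hb k hk
    exact (hle hh r hr).symm
  have hinfK : ∀ x, x ∈ R → x ∈ K → x = 1 := fun x h1 h2 => mem_bot.1 (hdisj ▸ ⟨h1, h2⟩)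
  have hdec : ∀ x ∈ H, ∃ r ∈ R, ∃ k ∈ K, r * k = x := by
    intro x hx
    have hn : R ≤ normalizer (K : Set G) := fun a ha => by
      rw [mem_normalizer_iff]
      intro b
      refine ⟨fun hb => by rwa [hRK a ha b hb, mul_inv_cancel_right], fun hb => ?_⟩
      have h1 := hRK a ha _ hb
      rw [inv_mul_cancel_right] at h1
      rwa [mul_left_cancel h1] at hb
    have hx' : x ∈ ((R ⊔ K : Subgroup G) : Set G) := hsup ▸ hx
    rw [coe_mul_of_left_le_normalizer_right _ _ hn] at hx'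
    obtain ⟨a, ha, b, hb, hab⟩ := hx'
    exact ⟨a, ha, b, hb, hab⟩
  have hHn : H ≤ normalizer (R : Set G) := by
    intro h hh
    refine mem_normalizer_iff.2 fun y => ⟨fun hy => ?_, fun hy => ?_⟩
    · rwa [hHR h hh y hy, mul_inv_cancel_right]
    · have h1 := hHR _ (inv_mem hh) _ hy
      have e : y = h * y * h⁻¹ := by
        calc y = h⁻¹ * (h * y * h⁻¹) * h := by simp [mul_assoc]
          _ = _ := by rw [h1, inv_mul_cancel_right]
      rwa [e]
  -- `O₂(H) = R`
  have hcore : (Cfsg.pCore 2 ↥H).map H.subtype = R := by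
    refine le_antisymm ?_ (CfsgLib.Base.le_map_pCore hRH hHn
      (IsPGroup.of_card (n := 2) hR))
    · intro x hx
      set P := (Cfsg.pCore 2 ↥H).map H.subtype with hP
      have hPH : P ≤ H := map_subtype_le _
      have hPn : H ≤ normalizer (P : Set G) := CfsgLib.Base.le_normalizer_map_pCore H
      have hPp : IsPGroup 2 P := CfsgLib.Base.isPGroup_map_pCore 2 H
      let P' : Subgroup (alternatingGroup (Fin 5)) := (P.subgroupOf K).map eK.toMonoidHom
      haveI : (P.subgroupOf K).Normal :=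
        ⟨fun a ha k => ((mem_normalizer_iff.1 (hPn (hKH k.2))) a).1 ha⟩
      have hP'n : P'.Normal := Subgroup.Normal.map inferInstance _ eK.surjective
      have hP'p : IsPGroup 2 P' := (hPp.comap_of_injective K.subtype K.subtype_injective).map _
      haveI : IsSimpleGroup (alternatingGroup (Fin 5)) := alternatingGroup.isSimpleGroup (by simp)
      have hbot : P' = ⊥ := by
        refine hP'n.eq_bot_or_eq_top.resolve_right fun htop => ?_
        obtain ⟨n, hn⟩ := IsPGroup.iff_card.1 hP'p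
        rw [htop, card_top, nat_card_alternatingGroup, Nat.card_fin] at hn
        have h3 : 3 ∣ 2 ^ n := hn ▸ (by decide)
        have := (Nat.prime_dvd_prime_iff_eq Nat.prime_three Nat.prime_two).1
          (Nat.prime_three.dvd_of_dvd_pow h3)
        omega
      obtain ⟨r, hr, k, hk, rfl⟩ := hdec x (hPH hx)
      have hrP : r ∈ P := CfsgLib.Base.le_map_pCore hRH hHn (IsPGroup.of_card (p := 2) (n := 2) hR) hr
      have hkP : k ∈ P := by simpa using mul_mem (inv_mem hrP) hx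
      have hk1 : eK ⟨k, hk⟩ ∈ P' := ⟨⟨k, hk⟩, hkP, rfl⟩
      rw [hbot, mem_bot, map_eq_one_iff eK eK.injective] at hk1
      rw [show k = 1 from congrArg Subtype.val hk1, mul_one]
      exact hr
  rw [hcore]
  let L : Subgroup G := R ⊔ zpowers c
  have hcn : c ∈ normalizer (R : Set G) := by
    refine mem_normalizer_iff.2 fun y => ⟨hcR y, fun hy => ?_⟩
    have h := hcR _ (hcR _ hy)
    have e : c * (c * (c * y * c⁻¹) * c⁻¹) * c⁻¹ = c ^ 3 * y * (c ^ 3)⁻¹ := by
      simp [pow_succ, mul_assoc]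
    rwa [e, c3, one_mul, inv_one, mul_one] at h
  have hzn : zpowers c ≤ normalizer (R : Set G) := (zpowers_le).2 hcn
  have hLN : L ≤ normalizer (R : Set G) := sup_le le_normalizer hzn
  have hKN : K ≤ normalizer (R : Set G) := fun k hk => mem_normalizer_iff.2 fun y =>
    ⟨fun hy => by rwa [← hRK y hy k hk, mul_inv_cancel_right], fun hy => by
      have h := hRK _ hy k hk
      rw [inv_mul_cancel_right] at h
      rwa [mul_left_cancel h] ⟩
  have hLK : ∀ a ∈ L, ∀ b ∈ K, a * b = b * a := by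
    have hle : L ≤ centralizer (K : Set G) :=
      sup_le (fun a ha k hk => (hRK a ha k hk).symm)
        ((zpowers_le).2 fun k hk => (hcK k hk).symm)
    exact fun a ha b hb => (hle ha b hb).symm
  have hLKd : L ⊓ K = ⊥ := by
    rw [eq_bot_iff]
    rintro x ⟨hxL, hxK⟩
    have h := a5_center (eK ⟨x, hxK⟩) fun y => by
      obtain ⟨k, rfl⟩ := eK.surjective y
      rw [← map_mul, ← map_mul]
      exact congrArg eK (Subtype.ext (hLK x hxL k k.2))
    rw [map_eq_one_iff eK eK.injective] at h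
    exact mem_bot.2 (congrArg Subtype.val h)
  -- the three involutions of `R`
  have hc1 : c ≠ 1 := fun h => hct (by simp [h])
  have hcfix : ∀ r : G, c * r * c⁻¹ = r → r * c = c * r := fun r h =>
    (mul_inv_eq_iff_eq_mul.1 h).symm
  have hne : ∀ i : Fin 3, c ^ i.val * t * (c ^ i.val)⁻¹ ≠ 1 := fun i h =>
    ht1 (conj_eq_one_iff.1 h)
  have hcpow : ∀ n : ℕ, ∀ r ∈ R, c ^ n * r * (c ^ n)⁻¹ ∈ R := fun n r hr =>
    (mem_normalizer_iff.1 (pow_mem hcn n) r).1 hr
  have hinj : Function.Injective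
      (fun i : Fin 3 => (⟨⟨_, hcpow i t htR⟩, fun h => hne i (congrArg Subtype.val h)⟩ :
        {r : R // r ≠ 1})) := by
    intro i j h
    have h' : c ^ i.val * t * (c ^ i.val)⁻¹ = c ^ j.val * t * (c ^ j.val)⁻¹ :=
      congrArg (fun r : {r : R // r ≠ 1} => ((r : R) : G)) h
    have hcomm : Commute ((c ^ j.val)⁻¹ * c ^ i.val) t := by
      refine mul_inv_eq_iff_eq_mul.1 ?_
      calc (c ^ j.val)⁻¹ * c ^ i.val * t * ((c ^ j.val)⁻¹ * c ^ i.val)⁻¹
          = (c ^ j.val)⁻¹ * (c ^ i.val * t * (c ^ i.val)⁻¹) * c ^ j.val := by simp [mul_assoc]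
        _ = t := by rw [h']; simp [mul_assoc]
    by_contra hne'
    have hcomm2 : Commute c t := by
      obtain ⟨m, hm⟩ : ∃ m : ℕ, c = ((c ^ j.val)⁻¹ * c ^ i.val) ^ m := by
        have hne'' : i.val ≠ j.val := fun e => hne' (Fin.ext e)
        have hi := i.isLt
        have hj := j.isLt
        have h2 : (c ^ j.val)⁻¹ = c ^ (3 - j.val) := by
          refine inv_eq_of_mul_eq_one_right ?_
          rw [← pow_add, show j.val + (3 - j.val) = 3 by omega, c3]
        rw [h2, ← pow_add]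
        refine ⟨3 - j.val + i.val, ?_⟩
        rw [← pow_mul, pow_eq_pow_mod _ c3]
        have : ((3 - j.val + i.val) * (3 - j.val + i.val)) % 3 = 1 := by
          interval_cases hiv : i.val <;> interval_cases hjv : j.val <;>
            first | omega | rfl | norm_num
        rw [this, pow_one]
      rw [hm]
      exact hcomm.pow_left m
    exact hct (mul_inv_eq_iff_eq_mul.2 hcomm2.eq)
  have hcard3 : Nat.card {r : R // r ≠ 1} = 3 := by
    have e := Nat.card_congr (Equiv.sumCompl fun r : R => r ≠ 1)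
    rw [Nat.card_sum, hR, show Nat.card {r : R // ¬ r ≠ 1} = 1 from Nat.card_eq_one_iff_unique.2
      ⟨⟨fun a b => Subtype.ext ((not_not.1 a.2).trans (not_not.1 b.2).symm)⟩,
        ⟨⟨1, not_not.2 rfl⟩⟩⟩] at e
    omega
  have hsurj : ∀ r ∈ R, r ≠ 1 → ∃ i : Fin 3, c ^ i.val * t * (c ^ i.val)⁻¹ = r := by
    intro r hr hr1
    obtain ⟨i, hi⟩ := ((Nat.bijective_iff_injective_and_card _).2
      ⟨hinj, by rw [hcard3, Nat.card_fin]⟩).2 ⟨⟨r, hr⟩, fun h => hr1 (congrArg Subtype.val h)⟩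
    exact ⟨i, congrArg (fun r : {r : R // r ≠ 1} => ((r : R) : G)) hi⟩
  have hIDP' : Cfsg.IsInternalDirectProduct L K (normalizer (R : Set G)) := by
    refine ⟨hLN, hKN, hLK, hLKd, le_antisymm (sup_le hLN hKN) fun n hn => ?_⟩
    obtain ⟨i, hi⟩ := hsurj _ ((mem_normalizer_iff.1 hn t).1 htR)
      fun h => ht1 (conj_eq_one_iff.1 h)
    have hm : (c ^ i.val)⁻¹ * n ∈ H := by
      refine mem_centralizer_singleton_iff.2 (mul_inv_eq_iff_eq_mul.1 ?_)
      calc (c ^ i.val)⁻¹ * n * t * ((c ^ i.val)⁻¹ * n)⁻¹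
          = (c ^ i.val)⁻¹ * (n * t * n⁻¹) * c ^ i.val := by simp [mul_assoc]
        _ = t := by rw [← hi]; simp [mul_assoc]
    obtain ⟨r, hr, k, hk, hrk⟩ := hdec _ hm
    rw [← mul_inv_cancel_left (c ^ i.val) n, ← hrk, ← mul_assoc]
    exact mul_mem (mem_sup_left (mul_mem (mem_sup_right (pow_mem (mem_zpowers c) _))
      (mem_sup_left hr))) (mem_sup_right hk)
  obtain ⟨eN⟩ := idp_iso hIDP'
  have hRc : R ⊓ zpowers c = ⊥ := by
    rw [eq_bot_iff]
    rintro x ⟨hxR, hxc⟩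
    obtain ⟨n, rfl⟩ := mem_zpowers_iff.1 hxc
    have h2 := hR2 _ hxR
    have h3 : (c ^ n) ^ 3 = 1 := by
      rw [← zpow_natCast, ← zpow_mul, mul_comm, zpow_mul, zpow_natCast, c3, one_zpow]
    rw [pow_succ, h2, one_mul] at h3
    exact mem_bot.2 h3
  have hoc : orderOf c = 3 := by
    haveI : Fact (Nat.Prime 3) := ⟨Nat.prime_three⟩
    exact orderOf_eq_prime c3 hc1
  have hL : Nat.card L = 12 := by
    rw [CfsgLib.Small.card_sup_of_normalizes hzn hRc, hR, Nat.card_zpowers, hoc]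
  have hL4 : Nonempty (L ≃* alternatingGroup (Fin 4)) := by
    refine CfsgLib.Involutions.nonempty_alternatingGroup_four_of_card_twelve hL fun x hx hxc => ?_
    haveI : (R.subgroupOf L).Normal := normal_subgroupOf_of_le_normalizer hLN
    have hidx : (R.subgroupOf L).index = 3 := by
      have e := Subgroup.card_mul_index (R.subgroupOf L)
      rw [hL, Nat.card_congr (subgroupOfEquivOfLe (le_sup_left : R ≤ L)).toEquiv, hR] at e
      omega
    have h3 := Subgroup.pow_index_mem (R.subgroupOf L) x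
    rw [hidx] at h3
    have hx2 : x ^ 2 = 1 := by rw [← hx, pow_orderOf_eq_one]
    rw [pow_succ, hx2, one_mul] at h3
    have hxR : (x : G) ∈ R := h3
    have hx1 : (x : G) ≠ 1 := fun h => by
      rw [show x = 1 from Subtype.ext h] at hx
      simp at hx
    obtain ⟨i, hi⟩ := hsurj _ hxR hx1
    have hcx : c * (x : G) = (x : G) * c :=
      congrArg Subtype.val (mem_center_iff.1 hxc ⟨c, mem_sup_right (mem_zpowers c)⟩)
    apply hct
    have h' : Commute (c ^ i.val) c := (Commute.refl c).pow_left _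
    calc c * t * c⁻¹ = (c ^ i.val)⁻¹ * (c * (x : G) * c⁻¹) * c ^ i.val := by
          rw [← hi]
          simp only [← mul_assoc]
          rw [show (c ^ i.val)⁻¹ * c * c ^ i.val = c by
            rw [mul_assoc, ← h'.eq, inv_mul_cancel_left]]
          rw [mul_assoc _ c⁻¹ (c ^ i.val), ← (h'.inv_right).eq]
          simp [mul_assoc]
      _ = t := by rw [hcx, mul_inv_cancel_right, ← hi]; simp [mul_assoc]
  obtain ⟨eL⟩ := hL4
  exact ⟨eN.symm.trans (eL.prodCongr eK)⟩

namespace Frame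

variable {G : Type*} [Group G] [Finite G] {S : Setup G} {Fr : Frame S} (X : Fr.Central)

theorem c_not_H : Fr.c * (Fr.t : G) * Fr.c⁻¹ ≠ (Fr.t : G) := by
  intro h
  have hD : Fr.c ∈ Fr.D :=
    ⟨(S.mem_C _).2 Fr.c_z, mem_centralizer_singleton_iff.2 (mul_inv_eq_iff_eq_mul.1 h)⟩
  have h1 : orderOf Fr.c ∣ 16 := by
    rw [← Fr.card_D]
    exact Subgroup.orderOf_coe (⟨Fr.c, hD⟩ : Fr.D) ▸ orderOf_dvd_natCard _
  have h2 : orderOf Fr.c ∣ 3 := orderOf_dvd_of_pow_eq_one Fr.c_cube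
  exact Fr.c_ne (orderOf_eq_one_iff.1 (Nat.eq_one_of_dvd_one (Nat.dvd_gcd h1 h2)))

theorem c_R {r : G} (hr : r ∈ Fr.R) : Fr.c * r * Fr.c⁻¹ ∈ Fr.R := by
  refine ⟨Fr.c_D r (Fr.R_le_D hr), mem_centralizer_singleton_iff.2 ?_⟩
  have h1 : Commute Fr.c Fr.w := Fr.c_w
  have h2 : Commute r Fr.w := Fr.R_w hr
  exact ((h1.mul_left h2).mul_left h1.inv_left).eq

theorem Central.c_K {k : G} (hk : k ∈ X.K) : Fr.c * k = k * Fr.c := by
  obtain ⟨e⟩ := X.iso
  have hH : ∀ x ∈ Fr.H, Fr.c * x * Fr.c⁻¹ ∈ Fr.H := by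
    intro x hx
    refine mem_centralizer_singleton_iff.2 ?_
    -- `Fr.c⁻¹` carries `t` into `R`, which `H` centralises
    have hr : Fr.c * (Fr.c * (Fr.t : G) * Fr.c⁻¹) * Fr.c⁻¹ ∈ Fr.R := Fr.c_R (Fr.c_R Fr.t_mem_R)
    obtain ⟨r, hrR, a, ha, rfl⟩ := X.decomp x hx
    have hcom : Commute (r * a) (Fr.c * (Fr.c * (Fr.t : G) * Fr.c⁻¹) * Fr.c⁻¹) :=
      (show Commute r _ from Fr.R_comm hrR hr).mul_left (show Commute a _ from (X.R_comm _ hr a ha).symm)
    have hback : Fr.c * (Fr.c * (Fr.c * (Fr.t : G) * Fr.c⁻¹) * Fr.c⁻¹) * Fr.c⁻¹ = (Fr.t : G) := by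
      calc _ = Fr.c ^ 3 * (Fr.t : G) * (Fr.c ^ 3)⁻¹ := by simp [pow_succ, mul_assoc]
        _ = _ := by rw [Fr.c_cube]; simp
    conv_lhs => rw [← hback]
    conv_rhs => rw [← hback]
    rw [← Four.conj_mul', ← Four.conj_mul', hcom.eq]
  have hodd : ∀ x ∈ Fr.H, x ^ 15 = 1 → x ∈ X.K := by
    intro x hx h15
    obtain ⟨r, hr, a, ha, rfl⟩ := X.decomp x hx
    rw [(show Commute r a from X.R_comm r hr a ha).mul_pow, show 15 = 2 * 7 + 1 from rfl, pow_succ,
      pow_mul, Fr.R_sq hr, one_pow, one_mul] at h15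
    have hrK : r ∈ X.K := by
      rw [eq_inv_of_mul_eq_one_left h15]
      exact inv_mem (pow_mem ha _)
    rw [X.inf_R r hr hrK, one_mul]
    exact ha
  have hcK : ∀ x ∈ X.K, Fr.c * x * Fr.c⁻¹ ∈ X.K := by
    intro x hx
    obtain ⟨a, ha, hb⟩ := a5_odd_gen (e ⟨x, hx⟩)
    obtain ⟨b, rfl⟩ := e.surjective a
    rw [← map_pow, map_eq_one_iff e e.injective] at ha
    rw [← map_inv, ← map_mul, ← map_pow, map_eq_one_iff e e.injective] at hb
    have h1 : Fr.c * (b : G) * Fr.c⁻¹ ∈ X.K := hodd _ (hH _ (X.K_le b.2)) (by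
      rw [conj_pow, show (b : G) ^ 15 = 1 from congrArg Subtype.val ha, mul_one, mul_inv_cancel])
    have h2 : Fr.c * ((b : G)⁻¹ * x) * Fr.c⁻¹ ∈ X.K :=
      hodd _ (hH _ (mul_mem (inv_mem (X.K_le b.2)) (X.K_le hx))) (by
        rw [conj_pow, show ((b : G)⁻¹ * x) ^ 15 = 1 from congrArg Subtype.val hb, mul_one,
          mul_inv_cancel])
    have h := mul_mem h1 h2
    rwa [← Four.conj_mul', mul_inv_cancel_left] at h
  let f : X.K →* X.K :=
    { toFun := fun x => ⟨Fr.c * x * Fr.c⁻¹, hcK x x.2⟩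
      map_one' := Subtype.ext (by simp)
      map_mul' := fun x y => Subtype.ext (by simp [mul_assoc]) }
  have hf : Function.Bijective f := Finite.injective_iff_bijective.1 fun a b h =>
    Subtype.ext (mul_left_cancel (mul_right_cancel (congrArg Subtype.val h :)))
  let θ : MulAut X.K := MulEquiv.ofBijective f hf
  have hzw3 : (S.z * Fr.w) ^ 3 = 1 := by
    calc (S.z * Fr.w) ^ 3
        = S.z * (Fr.w * S.z * Fr.w⁻¹) * (Fr.w * (Fr.w * S.z * Fr.w⁻¹) * Fr.w⁻¹) * Fr.w ^ 3 := by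
          simp [pow_succ, mul_assoc]
      _ = 1 := by
        rw [Fr.w_z, Fr.w_u, Fr.w_cube, mul_one, mul_assoc, ← mul_assoc Fr.four.u, Fr.four.u_sq,
          one_mul, Four.z_mul_z (S := S)]
  have hθ : θ = 1 := aut_eq_one e θ (a := ⟨S.z, X.E_le Fr.four.z_mem_E⟩) (b := ⟨Fr.w, X.w_mem⟩)
    (Subtype.ext S.z_sq) (fun h => S.z_ne_one (congrArg Subtype.val h)) (Subtype.ext Fr.w_cube)
    (fun h => Fr.four.uz_ne.2.2.2 (by
      have h' : Fr.w = 1 := congrArg Subtype.val h
      have := Fr.w_z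
      rwa [h', one_mul, inv_one, mul_one] at this))
    (Subtype.ext hzw3) (Subtype.ext (mul_inv_eq_iff_eq_mul.2 Fr.c_z))
    (Subtype.ext (mul_inv_eq_iff_eq_mul.2 Fr.c_w))
  have h : Fr.c * k * Fr.c⁻¹ = k := congrArg Subtype.val (DFunLike.congr_fun hθ (⟨k, hk⟩ : X.K))
  exact mul_inv_eq_iff_eq_mul.1 h

end Frame

theorem Setup.second {G : Type*} [Group G] [Finite G] (S : Setup G) (t : G) (ht : orderOf t = 2)
    (htz : ¬ IsConj t S.z) :
    Nonempty (↥(centralizer ({t} : Set G)) ≃*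
      (Multiplicative (ZMod 2) × Multiplicative (ZMod 2)) × alternatingGroup (Fin 5)) ∧
    Nonempty (↥(normalizer (((Cfsg.pCore 2 ↥(centralizer ({t} : Set G))).map
      (centralizer ({t} : Set G)).subtype : Subgroup G) : Set G)) ≃*
        alternatingGroup (Fin 4) × alternatingGroup (Fin 5)) := by
  obtain ⟨Fr⟩ := S.exists_frame
  obtain ⟨X⟩ := Fr.exists_central
  obtain ⟨g, hg⟩ := isConj_iff.1
    ((S.classes Fr.t_sq Fr.t_not t ht).resolve_left htz).symm
  let φ : G ≃* G := MulAut.conj g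
  have hφ : φ (Fr.t : G) = t := hg
  obtain ⟨hRH, hKH, hRK, hdisj, hsup⟩ := X.idp
  have hHmap : Fr.H.map φ.toMonoidHom = centralizer ({t} : Set G) := by
    ext x
    rw [Subgroup.mem_map_equiv, mem_centralizer_singleton_iff, mem_centralizer_singleton_iff,
      ← φ.injective.eq_iff, map_mul, map_mul, MulEquiv.apply_symm_apply, hφ]
  refine second_centralizer (Fr.R.map φ.toMonoidHom) (X.K.map φ.toMonoidHom) ?_
    ⟨_, Fr.t_mem_R, hφ⟩ (fun h => by rw [h] at ht; simp at ht) ?_ ?_ ?_ (φ Fr.c) ?_ ?_ ?_ ?_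
  · refine ⟨hHmap ▸ map_mono hRH, hHmap ▸ map_mono hKH, ?_, ?_, ?_⟩
    · rintro _ ⟨a, ha, rfl⟩ _ ⟨b, hb, rfl⟩
      rw [← map_mul, hRK a ha b hb, map_mul]
    · rw [← map_inf _ _ _ φ.injective, hdisj, Subgroup.map_bot]
    · rw [← Subgroup.map_sup, hsup, hHmap]
  · obtain ⟨e⟩ := X.iso
    exact ⟨(φ.subgroupMap X.K).symm.trans e⟩
  · rw [Subgroup.card_map_of_injective φ.injective, Fr.card_R]
  · rintro _ ⟨r, hr, rfl⟩
    rw [← map_pow, Fr.R_sq hr, map_one]
  · rw [← map_pow, Fr.c_cube, map_one]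
  · rintro _ ⟨r, hr, rfl⟩
    exact ⟨Fr.c * r * Fr.c⁻¹, Fr.c_R hr, by simp⟩
  · rintro _ ⟨k, hk, rfl⟩
    show φ Fr.c * φ k = φ k * φ Fr.c
    rw [← map_mul, ← map_mul, X.c_K hk]
  · intro h
    rw [← hφ, ← map_inv, ← map_mul, ← map_mul] at h
    exact Fr.c_not_H (φ.injective h)

end CfsgLib.Small.JTwoType
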