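import Mathlib
import Cfsg.Agent.Lib.Small.JankoTwoSecond
import Cfsg.Agent.Lib.Small.JankoTwoQuotient
import Cfsg.Agent.Lib.Involutions.ElemAbCent
import Cfsg.Agent.Lib.Small.Basic
import Cfsg.Agent.Lib.Small.SylowInter

/-!
# Hall–Janko type: the two kinds of elements of order five and the Sylow 5-normaliser
-/

set_option autoImplicit false
set_option linter.unusedSectionVars false

namespace CfsgLib.Small.JTwoType

open Subgroup

set_option maxRecDepth 100000 in
theorem a5_centralizer_five : ∀ a : alternatingGroup (Fin 5), a ^ 5 = 1 → a ≠ 1 →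
    ∀ b : alternatingGroup (Fin 5), b * a = a * b → ∃ i : Fin 5, b = a ^ i.val := by
  decide +kernel

set_option maxRecDepth 100000 in
theorem a5_centralizer_three : ∀ a : alternatingGroup (Fin 5), a ^ 3 = 1 → a ≠ 1 →
    ∀ b : alternatingGroup (Fin 5), b * a = a * b → ∃ i : Fin 3, b = a ^ i.val := by
  decide +kernel

set_option maxRecDepth 100000 in
theorem a5_inverter : ∀ a : alternatingGroup (Fin 5), a ^ 5 = 1 →
    ∃ k : alternatingGroup (Fin 5), k * a * k⁻¹ = a⁻¹ := by
  decide +kernel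

set_option maxRecDepth 100000 in
theorem a5_conj_three : ∀ a b : alternatingGroup (Fin 5), a ^ 3 = 1 → a ≠ 1 → b ^ 3 = 1 → b ≠ 1 →
    ∃ g : alternatingGroup (Fin 5), g * a * g⁻¹ = b := by
  decide +kernel

theorem mem_zpowers_symm {G : Type*} [Group G] [Finite G] {p : ℕ} (hp : p.Prime) {a b : G}
    (ha : orderOf a = p) (hb : b ∈ zpowers a) (hb1 : b ≠ 1) : a ∈ zpowers b := by
  haveI : Fact p.Prime := ⟨hp⟩
  exact mem_zpowers_of_prime_card ((Nat.card_zpowers a).trans ha) (g := (⟨b, hb⟩ : zpowers a))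
    (g' := ⟨a, mem_zpowers a⟩) (fun h => hb1 (congrArg Subtype.val h)) |>
    fun h => by
      obtain ⟨n, hn⟩ := mem_zpowers_iff.1 h
      exact ⟨n, congrArg Subtype.val hn⟩

/-- An involution centralising only itself: the group has an abelian subgroup of index two. -/
theorem abelian_complement {Γ : Type*} [Group Γ] [Finite Γ] {u : Γ} (hu : orderOf u = 2)
    (hC : ∀ y : Γ, y * u = u * y → y = 1 ∨ y = u) :
    ∃ O : Subgroup Γ, O.Normal ∧ (∀ a ∈ O, ∀ b ∈ O, a * b = b * a) ∧
      ∀ y : Γ, Odd (orderOf y) → y ∈ O := by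
  classical
  haveI : Fact (Nat.Prime 2) := ⟨Nat.prime_two⟩
  obtain ⟨T, hT⟩ := (IsPGroup.of_card (p := 2) (n := 1)
    (show Nat.card (zpowers u) = 2 ^ 1 by rw [Nat.card_zpowers, hu, pow_one])).exists_le_sylow
  have huT : u ∈ (T : Subgroup Γ) := hT (mem_zpowers u)
  have hu2 : u ^ 2 = 1 := by rw [← hu, pow_orderOf_eq_one]
  have hu1 : u ≠ 1 := fun h => by rw [h] at hu; simp at hu
  haveI : Nontrivial (T : Subgroup Γ) :=
    ⟨⟨⟨u, huT⟩, 1, fun h => hu1 (congrArg Subtype.val h)⟩⟩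
  haveI : Nontrivial (center (T : Subgroup Γ)) := T.2.center_nontrivial
  obtain ⟨⟨⟨w, hwT⟩, hw⟩, hw1⟩ := exists_ne (1 : center (T : Subgroup Γ))
  have hwu : w = u := by
    refine (hC w (congrArg Subtype.val (mem_center_iff.1 hw ⟨u, huT⟩)).symm).resolve_left fun h => ?_
    exact hw1 (Subtype.ext (Subtype.ext h))
  subst hwu
  have hTu : ∀ y ∈ (T : Subgroup Γ), y = 1 ∨ y = w := fun y hy =>
    hC y (congrArg Subtype.val (mem_center_iff.1 hw ⟨y, hy⟩))
  have hP : normalizer ((T : Subgroup Γ) : Set Γ) ≤ centralizer ((T : Subgroup Γ) : Set Γ) := by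
    intro n hn y hy
    rcases hTu y hy with rfl | rfl
    · simp
    · have h := (mem_normalizer_iff.1 hn y).1 hy
      rcases hTu _ h with h' | h'
      · exact absurd (conj_eq_one_iff.1 h') hu1
      · exact (mul_inv_eq_iff_eq_mul.1 h').symm
  have hcomp := MonoidHom.ker_transferSylow_isComplement' T hP
  set O := (MonoidHom.transferSylow T hP).ker with hO
  have hodd : ∀ y : Γ, Odd (orderOf y) → y ∈ O := by
    intro y hy
    rw [hO, MonoidHom.mem_ker]
    have h1 : orderOf (MonoidHom.transferSylow T hP y) ∣ orderOf y := orderOf_map_dvd _ y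
    rcases hTu _ (MonoidHom.transferSylow T hP y).2 with h | h
    · exact Subtype.ext h
    · exfalso
      rw [← Subgroup.orderOf_coe, h, hu] at h1
      exact (Nat.not_even_iff_odd.2 hy) (even_iff_two_dvd.2 h1)
  have hwO : ∀ d ∈ O, w * d * w = d → d = 1 := by
    intro d hd h
    have hc : d * w = w * d := by
      have h' : w * (w * d * w) = w * d := by rw [h]
      rwa [← mul_assoc, ← mul_assoc, ← sq, hu2, one_mul] at h'
    refine (hC d hc).resolve_right fun he => hu1 ?_
    rw [← he] at huT ⊢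
    exact Subgroup.disjoint_def.1 hcomp.disjoint hd huT
  have hinv := CfsgLib.Involutions.inverts_of_fpf O hu (fun d hd => by
    have := (inferInstance : (MonoidHom.transferSylow T hP).ker.Normal).conj_mem d hd w
    rwa [inv_eq_of_mul_eq_one_right ((sq w).symm.trans hu2)] at this) hwO
  refine ⟨O, inferInstance, fun a ha b hb => ?_, hodd⟩
  have e : (b⁻¹ * a⁻¹) = a⁻¹ * b⁻¹ := by
    rw [← mul_inv_rev, ← hinv _ (mul_mem ha hb), ← hinv a ha, ← hinv b hb]
    simp only [mul_assoc, ← mul_assoc w w, (sq w).symm.trans hu2, one_mul]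
  simpa [mul_inv_rev] using congrArg (·⁻¹) e

namespace Frame

variable {G : Type*} [Group G] [Finite G] {S : Setup G} {Fr : Frame S} (X : Fr.Central)

theorem Central.odd_mem {x : G} (hx : x ∈ Fr.H) {n : ℕ} (hn : Odd n) (hxn : x ^ n = 1) :
    x ∈ X.K := by
  obtain ⟨r, hr, a, ha, rfl⟩ := X.decomp x hx
  obtain ⟨m, rfl⟩ := hn
  rw [(show Commute r a from X.R_comm r hr a ha).mul_pow, pow_succ, pow_mul, Fr.R_sq hr, one_pow,
    one_mul] at hxn
  have hrK : r ∈ X.K := by
    rw [eq_inv_of_mul_eq_one_left hxn]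
    exact inv_mem (pow_mem ha _)
  rw [X.inf_R r hr hrK, one_mul]
  exact ha

theorem Central.hH {x : G} (hx : x ∈ X.K) (e : X.K ≃* alternatingGroup (Fin 5))
    (hcyc : ∀ b : alternatingGroup (Fin 5), b * e ⟨x, hx⟩ = e ⟨x, hx⟩ * b →
      ∃ i : ℕ, b = e ⟨x, hx⟩ ^ i)
    (y : G) (hyx : y * x = x * y) (hyt : y * (Fr.t : G) = (Fr.t : G) * y) :
    ∃ r ∈ Fr.R, ∃ i : ℕ, r * x ^ i = y := by
  obtain ⟨r, hr, k, hk, rfl⟩ := X.decomp y (mem_centralizer_singleton_iff.2 hyt)
  have hkx : k * x = x * k := by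
    have h1 := (show Commute (r * k) x from hyx)
    have h2 : Commute r x := X.R_comm r hr x hx
    have h3 := h2.inv_left.mul_left h1
    rwa [inv_mul_cancel_left] at h3
  obtain ⟨i, hi⟩ := hcyc (e ⟨k, hk⟩) (by
    rw [← map_mul, ← map_mul]; exact congrArg e (Subtype.ext hkx))
  refine ⟨r, hr, i, ?_⟩
  rw [← map_pow] at hi
  rw [show k = x ^ i from congrArg Subtype.val (e.injective hi)]

include X in
theorem Central.exists_five : ∃ f ∈ X.K, orderOf f = 5 := by
  haveI : Fact (Nat.Prime 5) := ⟨by norm_num⟩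
  obtain ⟨e⟩ := X.iso
  obtain ⟨a, ha, ha1⟩ := a5_exists_five
  refine ⟨(e.symm a : G), (e.symm a).2, ?_⟩
  rw [Subgroup.orderOf_coe, orderOf_eq_prime_iff]
  exact ⟨by rw [← map_pow, ha, map_one], fun h => ha1 ((map_eq_one_iff _ e.symm.injective).1 h)⟩

include X in
theorem Central.sylow_five_card (P : Sylow 5 G) : Nat.card (P : Subgroup G) = 25 := by
  haveI : Fact (Nat.Prime 5) := ⟨by norm_num⟩
  rw [CfsgLib.Small.card_sylow_eq 2 24192 (by rw [X.card_G]; norm_num) (by norm_num) P]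
  norm_num

include X in
theorem Central.sylow_five_comm (P : Sylow 5 G) {a b : G} (ha : a ∈ (P : Subgroup G))
    (hb : b ∈ (P : Subgroup G)) : a * b = b * a := by
  haveI : Fact (Nat.Prime 5) := ⟨by norm_num⟩
  exact congrArg Subtype.val (IsPGroup.commutative_of_card_eq_prime_sq
    (show Nat.card (P : Subgroup G) = 5 ^ 2 by rw [X.sylow_five_card P]; norm_num) ⟨a, ha⟩ ⟨b, hb⟩)

/-- `C(f)/⟨f⟩ ≅ A₅`. -/
theorem Central.five_quot {f : G} (hf : f ∈ X.K) (hfo : orderOf f = 5) :
    ∃ π : ↥(centralizer ({f} : Set G)) →* alternatingGroup (Fin 5), Function.Surjective π ∧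
      (∀ y, π y = 1 ↔ (y : G) ∈ zpowers f) ∧ Nat.card (centralizer ({f} : Set G)) = 300 := by
  classical
  haveI : Fact (Nat.Prime 5) := ⟨by norm_num⟩
  obtain ⟨e⟩ := X.iso
  have hf5 : f ^ 5 = 1 := by rw [← hfo, pow_orderOf_eq_one]
  have hf1 : f ≠ 1 := fun h => by rw [h] at hfo; simp at hfo
  have hRf : ∀ r ∈ Fr.R, r * f = f * r := fun r hr => X.R_comm r hr f hf
  have hcf : Fr.c * f = f * Fr.c := X.c_K hf
  rcases quot_cases (p := 5) (by norm_num) (by norm_num) Fr.R hfo Fr.t_mem_R Fr.t_ne_one Fr.card_R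
    (fun r hr => Fr.R_sq hr) hRf Fr.c_cube hcf (fun r hr => Fr.c_R hr) Fr.c_not_H
    (fun y hyf hyt => X.hH hf e (fun b hb => (a5_centralizer_five (e ⟨f, hf⟩)
      (by rw [← map_pow, map_eq_one_iff e e.injective]; exact Subtype.ext hf5)
      (fun h => hf1 (congrArg Subtype.val ((map_eq_one_iff e e.injective).1 h)))
      b hb).elim fun i hi => ⟨i.val, hi⟩) y hyf hyt) with h | ⟨π, hπ, hker⟩
  · exfalso
    have hle : Nat.card (centralizer ({f} : Set G)) ≤ 60 := by
      let F : Fin 3 × Fr.R × Fin 5 → G := fun p => Fr.c ^ p.1.val * (p.2.1 : G) * f ^ p.2.2.val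
      have hsub : ∀ y : centralizer ({f} : Set G), ∃ p, F p = (y : G) := by
        rintro ⟨y, hy⟩
        obtain ⟨i, r, hr, j, he⟩ := h y (mem_centralizer_singleton_iff.1 hy)
        exact ⟨(i, ⟨r, hr⟩, j), he.symm⟩
      choose g hg using hsub
      have := Nat.card_le_card_of_injective g fun a b e =>
        Subtype.ext (by rw [← hg a, ← hg b, e])
      rwa [Nat.card_prod, Nat.card_prod, Fr.card_R, Nat.card_fin, Nat.card_fin] at this
    obtain ⟨P, hP⟩ := (IsPGroup.of_card (p := 5) (n := 1)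
      (show Nat.card (zpowers f) = 5 ^ 1 by rw [Nat.card_zpowers, hfo, pow_one])).exists_le_sylow
    have h25 : 25 ∣ Nat.card (centralizer ({f} : Set G)) := by
      rw [← X.sylow_five_card P]
      exact Subgroup.card_dvd_of_le fun y hy =>
        mem_centralizer_singleton_iff.2 (X.sylow_five_comm P hy (hP (mem_zpowers f)))
    have h4 : 4 ∣ Nat.card (centralizer ({f} : Set G)) := by
      rw [← Fr.card_R]
      exact Subgroup.card_dvd_of_le fun y hy => mem_centralizer_singleton_iff.2 (hRf y hy)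
    have h3 : 3 ∣ Nat.card (centralizer ({f} : Set G)) := by
      have : orderOf Fr.c = 3 := by
        haveI : Fact (Nat.Prime 3) := ⟨Nat.prime_three⟩
        exact orderOf_eq_prime Fr.c_cube Fr.c_ne
      rw [← this, ← Subgroup.orderOf_mk _ (mem_centralizer_singleton_iff.2 hcf)]
      exact orderOf_dvd_natCard _
    have h300 : 300 ∣ Nat.card (centralizer ({f} : Set G)) :=
      Nat.Coprime.mul_dvd_of_dvd_of_dvd (m := 25) (n := 12) (by norm_num) h25
        (Nat.Coprime.mul_dvd_of_dvd_of_dvd (m := 4) (n := 3) (by norm_num) h4 h3)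
    have hpos : 0 < Nat.card (centralizer ({f} : Set G)) := Nat.card_pos
    have := Nat.le_of_dvd hpos h300
    omega
  · refine ⟨π, hπ, hker, ?_⟩
    have e1 := Subgroup.card_mul_index π.ker
    rw [Subgroup.index_ker, MonoidHom.range_eq_top.2 hπ, card_top, nat_card_alternatingGroup,
      Nat.card_fin, show π.ker = (zpowers f).subgroupOf (centralizer ({f} : Set G)) from
        Subgroup.ext fun y => (hker y),
      Nat.card_congr (subgroupOfEquivOfLe (zpowers_le.2 (mem_centralizer_singleton_iff.2 rfl) :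
        zpowers f ≤ centralizer ({f} : Set G))).toEquiv, Nat.card_zpowers, hfo] at e1
    exact e1.symm

/-- Involutions commuting with `f` are conjugate to `t`. -/
theorem Central.five_invol {f : G} (hf : f ∈ X.K) (hfo : orderOf f = 5) {s : G}
    (hs : orderOf s = 2) (hsf : s * f = f * s) : IsConj s (Fr.t : G) := by
  obtain ⟨π, hπ, hker, -⟩ := X.five_quot hf hfo
  have hs2 : s ^ 2 = 1 := by rw [← hs, pow_orderOf_eq_one]
  let sM : centralizer ({f} : Set G) := ⟨s, mem_centralizer_singleton_iff.2 hsf⟩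
  let tM : centralizer ({f} : Set G) :=
    ⟨(Fr.t : G), mem_centralizer_singleton_iff.2 (X.R_comm _ Fr.t_mem_R f hf)⟩
  have hodd : ∀ y : G, y ∈ zpowers f → y ^ 2 = 1 → y = 1 := by
    intro y hy h2
    by_contra h1
    have h : orderOf y = 2 := orderOf_eq_prime h2 h1
    have h5 : orderOf y ∣ 5 := by
      obtain ⟨n, rfl⟩ := mem_zpowers_iff.1 hy
      exact orderOf_dvd_of_pow_eq_one (by
        rw [← zpow_natCast, ← zpow_mul, mul_comm, zpow_mul, zpow_natCast, ← hfo,
          pow_orderOf_eq_one, one_zpow])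
    rw [h] at h5
    norm_num at h5
  obtain ⟨a, ha⟩ := a5_conj_invol (π sM) (π tM) (by rw [← map_pow, show sM ^ 2 = 1 from
      Subtype.ext hs2, map_one])
    (fun h => by
      have := hodd s ((hker sM).1 h) hs2
      rw [this] at hs
      simp at hs)
    (by rw [← map_pow, show tM ^ 2 = 1 from Subtype.ext Fr.t_sq', map_one])
    (fun h => Fr.t_ne_one (hodd _ ((hker tM).1 h) Fr.t_sq'))
  obtain ⟨m, rfl⟩ := hπ a
  have hq : π (m * sM * m⁻¹ * tM⁻¹) = 1 := by
    rw [map_mul, map_mul, map_mul, map_inv, map_inv, ha, mul_inv_cancel]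
  have hq' : (m : G) * s * (m : G)⁻¹ * (Fr.t : G)⁻¹ ∈ zpowers f := (hker _).1 hq
  refine isConj_iff.2 ⟨m, mul_inv_eq_one.1 (hodd _ hq' ?_)⟩
  have hqt : Commute ((m : G) * s * (m : G)⁻¹ * (Fr.t : G)⁻¹) (Fr.t : G) := by
    obtain ⟨n, hn⟩ := mem_zpowers_iff.1 hq'
    rw [← hn]
    exact (show Commute f (Fr.t : G) from (X.R_comm _ Fr.t_mem_R f hf).symm).zpow_left n
  have h2 : ((m : G) * s * (m : G)⁻¹ * (Fr.t : G)⁻¹ * (Fr.t : G)) ^ 2 = 1 := by
    rw [inv_mul_cancel_right, conj_pow, hs2, mul_one, mul_inv_cancel]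
  rwa [hqt.mul_pow, Fr.t_sq', mul_one] at h2

theorem Central.five_no_z {f : G} (hf : f ∈ X.K) (hfo : orderOf f = 5) {s : G}
    (hs : IsConj S.z s) : s * f ≠ f * s := fun h =>
  Fr.t_not_conj (hs.trans (X.five_invol hf hfo
    (JTwoOrder.orderOf_two (JTwoOrder.sq_of_isConj S.ord hs)
      (JTwoOrder.not_isConj_one S.ord hs)) h))

/-- An element of order five commuting with a conjugate of `z` is not conjugate into `⟨f⟩`. -/
theorem Central.five_not_conj {f : G} (hf : f ∈ X.K) (hfo : orderOf f = 5) {g s : G}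
    (hg : g ≠ 1) (hs : IsConj S.z s) (hsg : s * g = g * s) (v : G) :
    v * g * v⁻¹ ∉ zpowers f := by
  intro h
  have hmem := mem_zpowers_symm (by norm_num) hfo h fun h' => hg (conj_eq_one_iff.1 h')
  obtain ⟨n, hn⟩ := mem_zpowers_iff.1 hmem
  refine X.five_no_z hf hfo (hs.trans (isConj_iff.2 ⟨v, rfl⟩)) ?_
  rw [← hn, conj_zpow, ← Four.conj_mul', ← Four.conj_mul',
    ((show Commute s g from hsg).zpow_right n).eq]

/-- An involution commuting with an element of order five fusing to `z` has small centraliser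
there. -/
theorem card_fix_five {g : G} (hg : orderOf g = 5) (hgz : g * S.z = S.z * g) :
    Nat.card ↥(S.C ⊓ centralizer ({g} : Set G)) ≤ 10 := by
  classical
  let gC : S.C := ⟨g, (S.mem_C g).2 hgz⟩
  have hg5 : gC ^ 5 = 1 := Subtype.ext (by
    show g ^ 5 = 1
    rw [← hg, pow_orderOf_eq_one])
  have hgQ : S.proj gC ≠ 1 := fun h => by
    have hq : (⟨gC, (S.proj_eq_one _).1 h⟩ : S.Q) ^ 5 = 1 := Subtype.ext hg5
    rw [pow_succ, S.pow_four, one_mul] at hq
    have h' : g = 1 := congrArg (fun q : S.Q => ((q : S.C) : G)) hq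
    rw [h'] at hg
    simp at hg
  let F : Fin 5 × Bool → G := fun p => g ^ p.1.val * bif p.2 then S.z else 1
  have hsub : ∀ y : ↥(S.C ⊓ centralizer ({g} : Set G)), ∃ p, F p = (y : G) := by
    rintro ⟨y, hyC, hyg⟩
    have hcomm : (⟨y, hyC⟩ : S.C) * gC = gC * ⟨y, hyC⟩ :=
      Subtype.ext (mem_centralizer_singleton_iff.1 hyg :)
    obtain ⟨i, hi⟩ := a5_centralizer_five (S.proj gC) (by rw [← map_pow, hg5, map_one]) hgQ
      (S.proj ⟨y, hyC⟩) (by rw [← map_mul, ← map_mul, hcomm])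
    have hq : (gC ^ i.val)⁻¹ * ⟨y, hyC⟩ ∈ S.Q := by
      rw [← S.proj_eq_one, map_mul, map_inv, map_pow, hi, inv_mul_cancel]
    have hc := S.fix_five hg5 hgQ ⟨_, hq⟩ (Subtype.ext (by
      rw [S.cn_apply]
      show gC * ((gC ^ i.val)⁻¹ * ⟨y, hyC⟩) * gC⁻¹ = (gC ^ i.val)⁻¹ * ⟨y, hyC⟩
      rw [← mul_assoc, ((Commute.refl gC).pow_right i.val).inv_right.eq, mul_assoc _ gC,
        ← hcomm, mul_assoc, mul_assoc, mul_inv_cancel, mul_one]))
    rcases (S.es.center_iff _).1 hc with h | h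
    · refine ⟨(i, false), ?_⟩
      have h' : (g ^ i.val)⁻¹ * y = 1 := congrArg (fun q : S.Q => ((q : S.C) : G)) h
      show g ^ i.val * 1 = y
      rw [mul_one]
      exact inv_mul_eq_one.1 h'
    · refine ⟨(i, true), ?_⟩
      have h' : (g ^ i.val)⁻¹ * y = S.z := congrArg (fun q : S.Q => ((q : S.C) : G)) h
      show g ^ i.val * S.z = y
      rw [← h', mul_inv_cancel_left]
  choose k hk using hsub
  have := Nat.card_le_card_of_injective k fun a b e => Subtype.ext (by rw [← hk a, ← hk b, e])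
  rw [Nat.card_prod, Nat.card_fin, Nat.card_eq_fintype_card (α := Bool), Fintype.card_bool] at this
  exact this

end Frame

end CfsgLib.Small.JTwoType
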