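import Mathlib
import Cfsg.Agent.Lib.Small.JankoTwoFive

/-!
# Hall–Janko type: the Sylow 5-normaliser has order 300, two classes of subgroups of order five
-/

set_option autoImplicit false
set_option linter.unusedSectionVars false

namespace CfsgLib.Small.JTwoType

open Subgroup
open scoped Pointwise

theorem conj_pow_mem_zpowers {G : Type*} [Group G] [Finite G] {p : ℕ} {x v : G} (hx : orderOf x = p)
    (hp : 0 < p) (h : v * x * v⁻¹ ∈ zpowers x) : ∃ i < p, v * x * v⁻¹ = x ^ i := by
  obtain ⟨n, hn⟩ := mem_powers_iff_mem_zpowers.2 h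
  refine ⟨n % p, Nat.mod_lt _ hp, ?_⟩
  rw [← hn, ← hx, pow_mod_orderOf]

theorem three_normalizing {G : Type*} [Group G] [Finite G] {x v : G} (hx : orderOf x = 5)
    (hv : v ^ 3 = 1) (h : v * x * v⁻¹ ∈ zpowers x) : v * x = x * v := by
  obtain ⟨i, hi, hix⟩ := conj_pow_mem_zpowers hx (by norm_num) h
  have h3 : x ^ (i * i * i) = x ^ 1 := by
    rw [pow_one, pow_mul, pow_mul, ← hix]
    simp only [conj_pow]
    rw [← hix]
    simp only [conj_pow]
    rw [← hix]
    calc v * (v * (v * x * v⁻¹) * v⁻¹) * v⁻¹ = v ^ 3 * x * (v ^ 3)⁻¹ := by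
          simp [pow_succ, mul_assoc]
      _ = x := by rw [hv]; simp
  rw [pow_inj_mod, hx] at h3
  have : i = 1 := by interval_cases i <;> simp_all
  subst this
  rw [pow_one] at hix
  exact mul_inv_eq_iff_eq_mul.1 hix

namespace Frame

variable {G : Type*} [Group G] [Finite G] {S : Setup G} {Fr : Frame S} (X : Fr.Central)

theorem Central.centralizer_sylow_le {f : G} (hf : f ∈ X.K) (hfo : orderOf f = 5) (P : Sylow 5 G)
    (hfP : f ∈ (P : Subgroup G)) :
    centralizer ((P : Subgroup G) : Set G) ≤ (P : Subgroup G) := by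
  classical
  haveI : Fact (Nat.Prime 5) := ⟨by norm_num⟩
  intro y hy
  obtain ⟨π, hπ, hker, -⟩ := X.five_quot hf hfo
  have hM : ∀ p ∈ (P : Subgroup G), p ∈ centralizer ({f} : Set G) := fun p hp =>
    mem_centralizer_singleton_iff.2 (X.sylow_five_comm P hp hfP)
  obtain ⟨p, hp, hpf⟩ : ∃ p ∈ (P : Subgroup G), p ∉ zpowers f := by
    by_contra h
    push Not at h
    have := Subgroup.card_le_of_le (show (P : Subgroup G) ≤ zpowers f from h)
    rw [X.sylow_five_card P, Nat.card_zpowers, hfo] at this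
    omega
  let pM : centralizer ({f} : Set G) := ⟨p, hM p hp⟩
  let yM : centralizer ({f} : Set G) :=
    ⟨y, mem_centralizer_singleton_iff.2 (hy f hfP).symm⟩
  have hp5 : (π pM) ^ 5 = 1 := by
    rw [← map_pow, hker]
    show p ^ 5 ∈ zpowers f
    have h25 : orderOf (⟨p, hp⟩ : (P : Subgroup G)) ∣ 25 :=
      X.sylow_five_card P ▸ orderOf_dvd_natCard _
    rw [Subgroup.orderOf_mk, show (25 : ℕ) = 5 ^ 2 by norm_num,
      Nat.dvd_prime_pow (by norm_num)] at h25
    obtain ⟨k, hk, hk'⟩ := h25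
    by_cases h2 : k = 2
    · exfalso
      subst h2
      have hall : zpowers p = (P : Subgroup G) := Subgroup.eq_of_le_of_card_ge (zpowers_le.2 hp)
        (by rw [Nat.card_zpowers, hk', X.sylow_five_card P]; norm_num)
      -- then `P` has only one subgroup of order five
      have hgen : ∀ x ∈ zpowers p, x ^ 5 = 1 → x ∈ zpowers (p ^ 5) := by
        intro x hx hx5
        obtain ⟨n, rfl⟩ := mem_zpowers_iff.1 hx
        have hdvd : ((orderOf p : ℕ) : ℤ) ∣ n * 5 := by
          rw [orderOf_dvd_iff_zpow_eq_one, zpow_mul]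
          exact_mod_cast hx5
        rw [hk'] at hdvd
        obtain ⟨c, hc⟩ : (5 : ℤ) ∣ n := by
          obtain ⟨c, hc⟩ := hdvd
          exact ⟨c, by push_cast at hc; linarith⟩
        exact ⟨c, by rw [hc, zpow_mul]; norm_cast⟩
      obtain ⟨g, hg, s, hs, hsg⟩ : ∃ g : G, orderOf g = 5 ∧ ∃ s, IsConj S.z s ∧ s * g = g * s := by
        obtain ⟨g, hg5, hgp⟩ := S.exists_gamma
        refine ⟨(g : G), ?_, S.z, IsConj.refl _, ((S.mem_C _).1 g.2).symm⟩
        rw [Subgroup.orderOf_coe]
        exact orderOf_eq_prime hg5 fun h => hgp (by rw [h, map_one])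
      obtain ⟨R, hR⟩ := (IsPGroup.of_card (p := 5) (n := 1)
        (show Nat.card (zpowers g) = 5 ^ 1 by rw [Nat.card_zpowers, hg, pow_one])).exists_le_sylow
      obtain ⟨v, hv⟩ := MulAction.exists_smul_eq G R P
      have hgP : v * g * v⁻¹ ∈ (P : Subgroup G) := by
        rw [← hv, CfsgLib.Small.mem_smul_sylow]
        simpa [mul_assoc] using hR (mem_zpowers g)
      have h5 : (v * g * v⁻¹) ^ 5 = 1 := by
        rw [conj_pow, ← hg, pow_orderOf_eq_one, mul_one, mul_inv_cancel]
      have hfp : f ∈ zpowers (p ^ 5) :=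
        hgen f (hall.symm ▸ hfP) (by rw [← hfo, pow_orderOf_eq_one])
      have hp51 : orderOf (p ^ 5) = 5 := by
        rw [orderOf_pow' p (by norm_num : 5 ≠ 0), hk']
        norm_num
      have hsub : zpowers f = zpowers (p ^ 5) := Subgroup.eq_of_le_of_card_ge (zpowers_le.2 hfp)
        (by rw [Nat.card_zpowers, Nat.card_zpowers, hfo, hp51])
      exact X.five_not_conj hf hfo (fun h => by rw [h] at hg; simp at hg) hs hsg v
        (hsub ▸ hgen _ (hall.symm ▸ hgP) h5)
    · have h5 : p ^ 5 = 1 := orderOf_dvd_iff_pow_eq_one.1 (hk' ▸ pow_dvd_pow 5 (show k ≤ 1 by omega) |>.trans (by norm_num))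
      rw [h5]
      exact one_mem _
  obtain ⟨i, hi⟩ := a5_centralizer_five (π pM) hp5 (fun h => hpf ((hker pM).1 h)) (π yM) (by
    rw [← map_mul, ← map_mul]
    exact congrArg π (Subtype.ext (hy p hp).symm))
  have hq : π ((pM ^ i.val)⁻¹ * yM) = 1 := by rw [map_mul, map_inv, map_pow, hi, inv_mul_cancel]
  have hq' : (p ^ i.val)⁻¹ * y ∈ zpowers f := (hker _).1 hq
  have := mul_mem (pow_mem hp i.val) ((zpowers_le.2 hfP) hq')
  rwa [mul_inv_cancel_left] at this

include X in
theorem Central.sylow_five_self (P : Sylow 5 G) :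
    centralizer ((P : Subgroup G) : Set G) = (P : Subgroup G) := by
  haveI : Fact (Nat.Prime 5) := ⟨by norm_num⟩
  refine le_antisymm (fun y hy => ?_) fun y hy x hx => X.sylow_five_comm P hx hy
  obtain ⟨f, hf, hfo⟩ := X.exists_five
  obtain ⟨P₀, hP₀⟩ := (IsPGroup.of_card (p := 5) (n := 1)
    (show Nat.card (zpowers f) = 5 ^ 1 by rw [Nat.card_zpowers, hfo, pow_one])).exists_le_sylow
  obtain ⟨v, hv⟩ := MulAction.exists_smul_eq G P₀ P
  rw [← hv, CfsgLib.Small.mem_smul_sylow]
  refine X.centralizer_sylow_le hf hfo P₀ (hP₀ (mem_zpowers f)) fun x hx => ?_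
  have h := hy (v * x * v⁻¹) (by
    rw [← hv, SetLike.mem_coe, CfsgLib.Small.mem_smul_sylow]
    simp only [mul_assoc, inv_mul_cancel_left, inv_mul_cancel, mul_one]
    exact hx)
  calc x * (v⁻¹ * y * v) = v⁻¹ * (v * x * v⁻¹ * y) * v := by simp [mul_assoc]
    _ = _ := by rw [h]; simp [mul_assoc]

include X in
/-- An element of order three normalising a Sylow 5-subgroup fixes no non-trivial element of it. -/
theorem Central.no_three_fix (P : Sylow 5 G) {v : G} (hv : orderOf v = 3)
    (hvN : v ∈ normalizer ((P : Subgroup G) : Set G)) {x : G} (hx : x ∈ (P : Subgroup G))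
    (hx1 : x ≠ 1) : v * x ≠ x * v := by
  classical
  intro h
  haveI : Fact (Nat.Prime 3) := ⟨Nat.prime_three⟩
  haveI : Fact (Nat.Prime 5) := ⟨by norm_num⟩
  let F : Subgroup G := (P : Subgroup G) ⊓ centralizer ({v} : Set G)
  let f : ↥(P : Subgroup G) → ↥(P : Subgroup G) := fun p =>
    ⟨v * p * v⁻¹, (mem_normalizer_iff.1 hvN p).1 p.2⟩
  have hv3 : v ^ 3 = 1 := by rw [← hv, pow_orderOf_eq_one]
  have hf : ∀ p, f (f (f p)) = p := fun p => Subtype.ext (by
    show v * (v * (v * (p : G) * v⁻¹) * v⁻¹) * v⁻¹ = p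
    calc _ = v ^ 3 * (p : G) * (v ^ 3)⁻¹ := by simp [pow_succ, mul_assoc]
      _ = _ := by rw [hv3]; simp)
  let σ : Equiv.Perm (P : Subgroup G) := ⟨f, fun p => f (f p), fun p => hf p, fun p => hf p⟩
  have hm := card_fixed_modEq (p := 3) (σ := σ) (Equiv.ext fun p => by
    show σ (σ (σ p)) = p
    exact hf p)
  have hF : Nat.card {p : (P : Subgroup G) // σ p = p} = Nat.card F :=
    Nat.card_congr
      { toFun := fun p => ⟨p.1, p.1.2, mem_centralizer_singleton_iff.2
          (mul_inv_eq_iff_eq_mul.1 (congrArg Subtype.val p.2)).symm⟩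
        invFun := fun p => ⟨⟨p.1, p.2.1⟩, Subtype.ext (mul_inv_eq_iff_eq_mul.2
          (mem_centralizer_singleton_iff.1 p.2.2).symm)⟩
        left_inv := fun p => rfl
        right_inv := fun p => rfl }
  rw [hF, X.sylow_five_card P] at hm
  have hd : Nat.card F ∣ 5 ^ 2 := by
    have := Subgroup.card_dvd_of_le (inf_le_left : F ≤ (P : Subgroup G))
    rwa [X.sylow_five_card P] at this
  obtain ⟨k, hk, hk'⟩ := (Nat.dvd_prime_pow (by norm_num)).1 hd
  have hk0 : k ≠ 0 := fun h0 => by
    rw [h0, pow_zero, Subgroup.card_eq_one] at hk'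
    exact hx1 (mem_bot.1 (hk' ▸ ⟨hx, mem_centralizer_singleton_iff.2 h.symm⟩ : x ∈ (⊥ : Subgroup G)))
  obtain rfl : k = 2 := by
    by_contra h2
    obtain rfl : k = 1 := by omega
    rw [hk'] at hm
    exact absurd hm (by decide)
  have heq : F = (P : Subgroup G) := Subgroup.eq_of_le_of_card_ge inf_le_left
    (by rw [hk', X.sylow_five_card P]; norm_num)
  have hvP : v ∈ (P : Subgroup G) := by
    rw [← X.sylow_five_self P]
    intro y hy
    rw [← heq] at hy
    exact mem_centralizer_singleton_iff.1 hy.2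
  have := orderOf_dvd_natCard (⟨v, hvP⟩ : (P : Subgroup G))
  rw [Subgroup.orderOf_mk, hv, X.sylow_five_card P] at this
  norm_num at this

theorem Central.card_normalizer_fix {f : G} (hf : f ∈ X.K) (hfo : orderOf f = 5) (P : Sylow 5 G)
    (hfP : f ∈ (P : Subgroup G)) :
    Nat.card ↥(normalizer ((P : Subgroup G) : Set G) ⊓ centralizer ({f} : Set G)) = 50 := by
  classical
  haveI : Fact (Nat.Prime 5) := ⟨by norm_num⟩
  set M := centralizer ({f} : Set G) with hM
  obtain ⟨π, hπ, hker, hcard⟩ := X.five_quot hf hfo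
  have hPM : (P : Subgroup G) ≤ M := fun y hy =>
    mem_centralizer_singleton_iff.2 (X.sylow_five_comm P hy hfP)
  let P' : Sylow 5 M := P.subtype hPM
  have e1 : Nat.card (normalizer ((P' : Subgroup M) : Set M)) =
      Nat.card ↥(normalizer ((P : Subgroup G) : Set G) ⊓ M) := by
    have hmem : ∀ y : M, y ∈ normalizer ((P' : Subgroup M) : Set M) ↔
        (y : G) ∈ normalizer ((P : Subgroup G) : Set G) := by
      intro y
      constructor
      · intro hy
        rw [mem_normalizer_iff]
        intro x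
        constructor
        · intro hx
          exact ((mem_normalizer_iff.1 hy) ⟨x, hPM hx⟩).1 hx
        · intro hx
          have hxM : x ∈ M := by
            have := mul_mem (mul_mem (inv_mem y.2) (hPM hx)) y.2
            simpa [mul_assoc] using this
          exact ((mem_normalizer_iff.1 hy) ⟨x, hxM⟩).2 hx
      · intro hy
        rw [mem_normalizer_iff]
        intro x
        exact mem_normalizer_iff.1 hy (x : G)
    exact Nat.card_congr
      { toFun := fun y => ⟨(y : M), (hmem _).1 y.2, (y : M).2⟩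
        invFun := fun y => ⟨⟨y.1, y.2.2⟩, (hmem _).2 y.2.1⟩
        left_inv := fun y => rfl
        right_inv := fun y => rfl }
  have e2 := CfsgLib.Small.card_normalizer_mul P'
  rw [e1, hcard] at e2
  have hdvd : Nat.card (Sylow 5 M) ∣ 12 :=
    CfsgLib.Small.card_sylow_dvd 2 12 (by rw [hcard]; norm_num) (by norm_num)
  have hmod := card_sylow_modEq_one 5 M
  have hn1 : Nat.card (Sylow 5 M) ≠ 1 := by
    intro h1
    haveI : Subsingleton (Sylow 5 M) := (Nat.card_eq_one_iff_unique.1 h1).1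
    haveI : (P' : Subgroup M).Normal := Sylow.normal_of_subsingleton P'
    haveI : IsSimpleGroup (alternatingGroup (Fin 5)) := alternatingGroup.isSimpleGroup (by simp)
    have hN : ((P' : Subgroup M).map π).Normal := Subgroup.Normal.map inferInstance _ hπ
    have hd : Nat.card ((P' : Subgroup M).map π) ∣ 25 := by
      refine (Subgroup.card_map_dvd (P' : Subgroup M) π).trans (dvd_of_eq ?_)
      show Nat.card ((P : Subgroup G).subgroupOf M) = 25
      rw [Nat.card_congr (subgroupOfEquivOfLe hPM).toEquiv, X.sylow_five_card P]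
    rcases hN.eq_bot_or_eq_top with h | h
    · have hle : (P : Subgroup G) ≤ zpowers f := fun y hy =>
        (hker ⟨y, hPM hy⟩).1 (mem_bot.1 (h ▸ ⟨⟨y, hPM hy⟩, hy, rfl⟩ : π ⟨y, hPM hy⟩ ∈
          (⊥ : Subgroup (alternatingGroup (Fin 5)))))
      have := Subgroup.card_le_of_le hle
      rw [X.sylow_five_card P, Nat.card_zpowers, hfo] at this
      omega
    · rw [h, card_top, nat_card_alternatingGroup, Nat.card_fin] at hd
      norm_num [Nat.factorial] at hd
  have hn6 : Nat.card (Sylow 5 M) = 6 := by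
    have hle := Nat.le_of_dvd (by norm_num) hdvd
    unfold Nat.ModEq at hmod
    generalize Nat.card (Sylow 5 M) = k at hdvd hmod hn1 hle
    interval_cases k <;> omega
  rw [hn6] at e2
  omega

theorem Central.exists_normalizing {f : G} (hf : f ∈ X.K) (hfo : orderOf f = 5) (P : Sylow 5 G)
    (hfP : f ∈ (P : Subgroup G)) {v : G} (h : v * f * v⁻¹ ∈ zpowers f) :
    ∃ n ∈ normalizer ((P : Subgroup G) : Set G), n * f * n⁻¹ = v * f * v⁻¹ := by
  classical
  haveI : Fact (Nat.Prime 5) := ⟨by norm_num⟩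
  set M := centralizer ({f} : Set G) with hM
  have hPM : (P : Subgroup G) ≤ M := fun y hy =>
    mem_centralizer_singleton_iff.2 (X.sylow_five_comm P hy hfP)
  have hf1 : f ≠ 1 := fun h => by rw [h] at hfo; simp at hfo
  have hgen := mem_zpowers_symm (by norm_num) hfo h fun h' => hf1 (conj_eq_one_iff.1 h')
  have hQM : ((v • P : Sylow 5 G) : Subgroup G) ≤ M := by
    intro y hy
    refine mem_centralizer_singleton_iff.2 ?_
    have hvf : v * f * v⁻¹ ∈ ((v • P : Sylow 5 G) : Subgroup G) := by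
      rw [CfsgLib.Small.mem_smul_sylow]
      simpa [mul_assoc] using hfP
    obtain ⟨n, hn⟩ := mem_zpowers_iff.1 hgen
    rw [← hn]
    exact ((show Commute y (v * f * v⁻¹) from X.sylow_five_comm _ hy hvf).zpow_right n).eq
  obtain ⟨m, hm⟩ := MulAction.exists_smul_eq M ((v • P).subtype hQM) (P.subtype hPM)
  rw [Sylow.smul_subtype] at hm
  have hm' : m • (v • P) = P := Sylow.subtype_injective hm
  refine ⟨(m : G) * v, Sylow.smul_eq_iff_mem_normalizer.1 ?_, ?_⟩
  · rw [mul_smul]; exact hm'
  · have hmf : Commute (m : G) (v * f * v⁻¹) := by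
      obtain ⟨n, hn⟩ := mem_zpowers_iff.1 h
      rw [← hn]
      exact (show Commute (m : G) f from mem_centralizer_singleton_iff.1 m.2).zpow_right n
    calc (m : G) * v * f * ((m : G) * v)⁻¹ = (m : G) * (v * f * v⁻¹) * (m : G)⁻¹ := by
          simp [mul_assoc]
      _ = _ := by rw [hmf.eq, mul_inv_cancel_right]

end Frame

end CfsgLib.Small.JTwoType
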