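import Mathlib
import Cfsg.Agent.Lib.Small.JankoTwoFiveSylow

/-!
# Hall–Janko type: `|N(P)| = 300` and the classes of subgroups of order five
-/

set_option autoImplicit false
set_option linter.unusedSectionVars false

namespace CfsgLib.Small.JTwoType

open Subgroup
open scoped Pointwise

/-- `x` commutes with a conjugate of `z`. -/
def Setup.FixZ {G : Type*} [Group G] (S : Setup G) (x : G) : Prop :=
  ∃ s, IsConj S.z s ∧ s * x = x * s

theorem Setup.FixZ.pow {G : Type*} [Group G] {S : Setup G} {x : G} (h : S.FixZ x) (n : ℕ) :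
    S.FixZ (x ^ n) := by
  obtain ⟨s, hs, hsx⟩ := h
  exact ⟨s, hs, ((show Commute s x from hsx).pow_right n).eq⟩

theorem Setup.FixZ.conj {G : Type*} [Group G] {S : Setup G} {x : G} (h : S.FixZ x) (v : G) :
    S.FixZ (v * x * v⁻¹) := by
  obtain ⟨s, hs, hsx⟩ := h
  refine ⟨v * s * v⁻¹, hs.trans (isConj_iff.2 ⟨v, rfl⟩), ?_⟩
  rw [show v * s * v⁻¹ * (v * x * v⁻¹) = v * (s * x) * v⁻¹ by simp [mul_assoc], hsx]
  simp [mul_assoc]

namespace Frame

variable {G : Type*} [Group G] [Finite G] {S : Setup G} {Fr : Frame S} (X : Fr.Central)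

include X in
/-- Some element of a Sylow 5-subgroup of order five commutes with a conjugate of `z`. -/
theorem Central.exists_fixZ (P : Sylow 5 G) :
    ∃ x ∈ (P : Subgroup G), orderOf x = 5 ∧ S.FixZ x := by
  haveI : Fact (Nat.Prime 5) := ⟨by norm_num⟩
  obtain ⟨g, hg5, hgp⟩ := S.exists_gamma
  have hg : orderOf (g : G) = 5 := by
    rw [Subgroup.orderOf_coe]
    exact orderOf_eq_prime hg5 fun h => hgp (by rw [h, map_one])
  obtain ⟨R, hR⟩ := (IsPGroup.of_card (p := 5) (n := 1)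
    (show Nat.card (zpowers (g : G)) = 5 ^ 1 by
      rw [Nat.card_zpowers, hg, pow_one])).exists_le_sylow
  obtain ⟨v, hv⟩ := MulAction.exists_smul_eq G R P
  refine ⟨v * (g : G) * v⁻¹, ?_, ?_,
    (show S.FixZ (g : G) from ⟨S.z, IsConj.refl _, ((S.mem_C _).1 g.2).symm⟩).conj v⟩
  · rw [← hv, CfsgLib.Small.mem_smul_sylow]
    have : v⁻¹ * (v * (g : G) * v⁻¹) * v = (g : G) := by simp [mul_assoc]
    rw [this]
    exact hR (mem_zpowers _)
  · rw [← hg]
    exact (SemiconjBy.orderOf_eq v (by simp [SemiconjBy])).symm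

theorem Central.not_fixZ {f : G} (hf : f ∈ X.K) (hfo : orderOf f = 5) {x : G} {v : G}
    (hx : v * x * v⁻¹ ∈ zpowers f) (hx1 : x ≠ 1) : ¬ S.FixZ x := fun ⟨_, hs, hsx⟩ =>
  X.five_not_conj hf hfo hx1 hs hsx v hx

include X in
/-- Four does not divide the centraliser of an element of order five commuting with a conjugate
of `z`. -/
theorem Central.fixZ_two_part {x : G} (hx : orderOf x = 5) (hz : S.FixZ x) (U : Subgroup G)
    (hU : Nat.card U = 4) : ¬ ∀ u ∈ U, u * x = x * u := by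
  classical
  intro hc
  haveI : Fact (Nat.Prime 2) := ⟨Nat.prime_two⟩
  obtain ⟨⟨s, hsU⟩, hs⟩ := exists_prime_orderOf_dvd_card' 2 (show 2 ∣ Nat.card U by rw [hU]; norm_num)
  rw [Subgroup.orderOf_mk] at hs
  have hUs : ∀ u ∈ U, u * s = s * u := fun u hu => congrArg Subtype.val
    (IsPGroup.commutative_of_card_eq_prime_sq (show Nat.card U = 2 ^ 2 by rw [hU]; norm_num)
      ⟨u, hu⟩ ⟨s, hsU⟩)
  rcases S.classes Fr.t_sq Fr.t_not s hs with h | h
  · -- `s ~ z`
    obtain ⟨v, hv⟩ := isConj_iff.1 h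
    have hxo : orderOf (v * x * v⁻¹) = 5 := by
      rw [← hx]
      exact (SemiconjBy.orderOf_eq v (by simp [SemiconjBy])).symm
    have hxz : v * x * v⁻¹ * S.z = S.z * (v * x * v⁻¹) := by
      rw [← hv, ← Four.conj_mul', ← Four.conj_mul', hc s hsU]
    have h10 := card_fix_five hxo hxz
    have hle : U.map (MulAut.conj v).toMonoidHom ≤
        S.C ⊓ centralizer ({v * x * v⁻¹} : Set G) := by
      rintro _ ⟨u, hu, rfl⟩
      refine Subgroup.mem_inf.2 ⟨(S.mem_C _).2 ?_, mem_centralizer_singleton_iff.2 ?_⟩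
      · rw [← hv]
        show v * u * v⁻¹ * (v * s * v⁻¹) = v * s * v⁻¹ * (v * u * v⁻¹)
        rw [← Four.conj_mul', ← Four.conj_mul', hUs u hu]
      · show v * u * v⁻¹ * (v * x * v⁻¹) = v * x * v⁻¹ * (v * u * v⁻¹)
        rw [← Four.conj_mul', ← Four.conj_mul', hc u hu]
    have h4 := Subgroup.card_dvd_of_le hle
    rw [Subgroup.card_map_of_injective (MulAut.conj v).injective, hU] at h4
    have h5 : 5 ∣ Nat.card ↥(S.C ⊓ centralizer ({v * x * v⁻¹} : Set G)) := by
      rw [← hxo, ← Subgroup.orderOf_mk _ (Subgroup.mem_inf.2 ⟨(S.mem_C _).2 hxz,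
        mem_centralizer_singleton_iff.2 rfl⟩ : v * x * v⁻¹ ∈
          S.C ⊓ centralizer ({v * x * v⁻¹} : Set G))]
      exact orderOf_dvd_natCard _
    have := Nat.le_of_dvd Nat.card_pos
      (Nat.Coprime.mul_dvd_of_dvd_of_dvd (by norm_num : Nat.Coprime 4 5) h4 h5)
    omega
  · -- `s ~ t`
    obtain ⟨v, hv⟩ := isConj_iff.1 h
    have hxo : orderOf (v * x * v⁻¹) = 5 := by
      rw [← hx]
      exact (SemiconjBy.orderOf_eq v (by simp [SemiconjBy])).symm
    have hxH : v * x * v⁻¹ ∈ Fr.H := by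
      refine mem_centralizer_singleton_iff.2 ?_
      rw [← hv, ← Four.conj_mul', ← Four.conj_mul', hc s hsU]
    have hxK := X.odd_mem hxH (n := 5) (by decide) (by rw [← hxo, pow_orderOf_eq_one])
    obtain ⟨s', hs', hsx'⟩ := hz.conj v
    exact X.five_no_z hxK hxo hs' hsx'

include X in
/-- The Sylow 5-normaliser has order 300. -/
theorem Central.card_normalizer_five (P : Sylow 5 G) :
    Nat.card (normalizer ((P : Subgroup G) : Set G)) = 300 := by
  classical
  haveI : Fact (Nat.Prime 5) := ⟨by norm_num⟩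
  obtain ⟨f, hf, hfo⟩ := X.exists_five
  obtain ⟨P₀, hP₀⟩ := (IsPGroup.of_card (p := 5) (n := 1)
    (show Nat.card (zpowers f) = 5 ^ 1 by rw [Nat.card_zpowers, hfo, pow_one])).exists_le_sylow
  suffices h : Nat.card (normalizer ((P₀ : Subgroup G) : Set G)) = 300 by
    have e1 := CfsgLib.Small.card_normalizer_mul P
    have e2 := CfsgLib.Small.card_normalizer_mul P₀
    rw [h] at e2
    have hpos : 0 < Nat.card (Sylow 5 G) := Nat.card_pos
    nlinarith
  have hfP : f ∈ (P₀ : Subgroup G) := hP₀ (mem_zpowers f)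
  set N := normalizer ((P₀ : Subgroup G) : Set G) with hN
  have hf1 : f ≠ 1 := fun h => by rw [h] at hfo; simp at hfo
  have hfN : f ∈ N := le_normalizer hfP
  let fN : N := ⟨f, hfN⟩
  let O := {y : N // IsConj fN y}
  have hO : Nat.card O * 50 = Nat.card N := by
    have e := CfsgLib.Involutions.card_conjugates_mul fN
    rwa [← card_inf_centralizer fN, X.card_normalizer_fix hf hfo P₀ hfP] at e
  have hmemP : ∀ (y : N), IsConj fN y → (y : G) ∈ (P₀ : Subgroup G) := by
    intro y hy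
    obtain ⟨n, rfl⟩ := isConj_iff.1 hy
    exact (mem_normalizer_iff.1 n.2 f).1 hfP
  let T1 := {x : (P₀ : Subgroup G) // x ≠ 1 ∧ ¬ S.FixZ (x : G)}
  let T2 := {x : (P₀ : Subgroup G) // x ≠ 1 ∧ S.FixZ (x : G)}
  have hT : Nat.card T1 + Nat.card T2 = 24 := by
    have e := Nat.card_congr (Equiv.sumCompl fun x : {x : (P₀ : Subgroup G) // x ≠ 1} =>
      S.FixZ (x.1 : G))
    rw [Nat.card_sum,
      Nat.card_congr (Equiv.subtypeSubtypeEquivSubtypeInter (fun x : (P₀ : Subgroup G) => x ≠ 1)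
        fun x => S.FixZ (x : G)),
      Nat.card_congr (Equiv.subtypeSubtypeEquivSubtypeInter (fun x : (P₀ : Subgroup G) => x ≠ 1)
        fun x => ¬ S.FixZ (x : G))] at e
    have e' := Nat.card_congr (Equiv.sumCompl fun x : (P₀ : Subgroup G) => x ≠ 1)
    rw [Nat.card_sum, X.sylow_five_card P₀, show Nat.card {x : (P₀ : Subgroup G) // ¬ x ≠ 1} = 1
      from Nat.card_eq_one_iff_unique.2
        ⟨⟨fun a b => Subtype.ext ((not_not.1 a.2).trans (not_not.1 b.2).symm)⟩,
          ⟨⟨1, not_not.2 rfl⟩⟩⟩] at e'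
    show Nat.card {x : (P₀ : Subgroup G) // x ≠ 1 ∧ ¬ S.FixZ (x : G)} +
      Nat.card {x : (P₀ : Subgroup G) // x ≠ 1 ∧ S.FixZ (x : G)} = 24
    omega
  have hO1 : Nat.card O ≤ Nat.card T1 := by
    refine Nat.card_le_card_of_injective (fun y => (⟨⟨(y.1 : G), hmemP _ y.2⟩, ?_, ?_⟩ : T1))
      fun a b h => Subtype.ext (Subtype.ext (congrArg (fun x : T1 => ((x.1 : G))) h :))
    · intro h
      obtain ⟨n, hn⟩ := isConj_iff.1 y.2
      have h' : (n : G) * f * (n : G)⁻¹ = 1 :=
        (congrArg Subtype.val hn).trans (congrArg Subtype.val h)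
      exact hf1 (conj_eq_one_iff.1 h')
    · obtain ⟨n, hn⟩ := isConj_iff.1 y.2
      refine X.not_fixZ hf hfo (v := (n : G)⁻¹) ?_ fun h => ?_
      · show (n : G)⁻¹ * (y.1 : G) * ((n : G)⁻¹)⁻¹ ∈ zpowers f
        rw [← show (n : G) * f * (n : G)⁻¹ = (y.1 : G) from congrArg Subtype.val hn]
        simp [mul_assoc]
      · have h' : (n : G) * f * (n : G)⁻¹ = 1 := (congrArg Subtype.val hn).trans h
        exact hf1 (conj_eq_one_iff.1 h')
  obtain ⟨g, hgP, hgo, hgz⟩ := X.exists_fixZ P₀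
  have hg1 : g ≠ 1 := fun h => by rw [h] at hgo; simp at hgo
  have hT2 : 4 ≤ Nat.card T2 := by
    rw [← Nat.card_fin 4]
    refine Nat.card_le_card_of_injective
      (fun i => (⟨⟨g ^ (i.val + 1), pow_mem hgP _⟩, ?_, hgz.pow _⟩ : T2)) fun a b h => ?_
    · intro h
      have h' : g ^ (i.val + 1) = 1 := congrArg Subtype.val h
      have := orderOf_dvd_of_pow_eq_one h'
      rw [hgo] at this
      have := Nat.le_of_dvd (by omega) this
      omega
    · have h' : g ^ (a.val + 1) = g ^ (b.val + 1) :=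
        congrArg (fun x : T2 => ((x.1 : G))) h
      have := pow_injOn_Iio_orderOf (x := g) (by rw [hgo]; simp; omega)
        (by rw [hgo]; simp; omega) h'
      exact Fin.ext (by omega)
  have hO2 : 2 ≤ Nat.card O := by
    obtain ⟨e⟩ := X.iso
    obtain ⟨k, hk⟩ := a5_inverter (e ⟨f, hf⟩) (by
      rw [← map_pow, map_eq_one_iff e e.injective]
      exact Subtype.ext (by rw [SubgroupClass.coe_pow, ← hfo, pow_orderOf_eq_one]; rfl))
    obtain ⟨k, rfl⟩ := e.surjective k
    rw [← map_inv, ← map_mul, ← map_mul, ← map_inv] at hk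
    have hk' : (k : G) * f * (k : G)⁻¹ = f⁻¹ := congrArg Subtype.val (e.injective hk)
    obtain ⟨n, hn, hnf⟩ := X.exists_normalizing hf hfo P₀ hfP (v := (k : G))
      (hk'.symm ▸ inv_mem (mem_zpowers f))
    let a : O := ⟨fN, IsConj.refl _⟩
    let b : O := ⟨(⟨n, hn⟩ : N) * fN * (⟨n, hn⟩ : N)⁻¹, isConj_iff.2 ⟨_, rfl⟩⟩
    have hab : a ≠ b := fun h => by
      have h' : f = n * f * n⁻¹ := congrArg (fun y : O => ((y.1 : N) : G)) h
      rw [hnf, hk'] at h'
      have h2 : f ^ 2 = 1 := by rw [sq]; nth_rw 2 [h']; exact mul_inv_cancel f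
      have := orderOf_dvd_of_pow_eq_one h2
      rw [hfo] at this
      norm_num at this
    haveI : Nontrivial O := ⟨⟨a, b, hab⟩⟩
    exact Finite.one_lt_card
  have e := CfsgLib.Small.card_normalizer_mul P₀
  rw [← hO, X.card_G] at e
  have hmod := card_sylow_modEq_one 5 G
  unfold Nat.ModEq at hmod
  have hdvd : Nat.card O ∣ 12096 := ⟨Nat.card (Sylow 5 G), by nlinarith⟩
  have hO6 : Nat.card O = 6 ∨ Nat.card O = 16 := by
    have hle : Nat.card O ≤ 20 := by omega
    generalize Nat.card O = o at *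
    generalize Nat.card (Sylow 5 G) = k at *
    interval_cases o <;> omega
  rcases hO6 with h | h
  · rw [← hO, h]
  · exfalso
    have hN800 : Nat.card N = 800 := by rw [← hO, h]
    let gN : N := ⟨g, le_normalizer hgP⟩
    let O' := {y : N // IsConj gN y}
    have e' : Nat.card O' * Nat.card ↥(N ⊓ centralizer ({g} : Set G)) = 800 := by
      have e2 := CfsgLib.Involutions.card_conjugates_mul gN
      rwa [← card_inf_centralizer gN, hN800] at e2
    have hmemP' : ∀ (y : N), IsConj gN y → (y : G) ∈ (P₀ : Subgroup G) := by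
      intro y hy
      obtain ⟨n, rfl⟩ := isConj_iff.1 hy
      exact (mem_normalizer_iff.1 n.2 g).1 hgP
    have hO' : Nat.card O' ≤ Nat.card T2 := by
      refine Nat.card_le_card_of_injective (fun y => (⟨⟨(y.1 : G), hmemP' _ y.2⟩, ?_, ?_⟩ : T2))
        fun a b h => Subtype.ext (Subtype.ext (congrArg (fun x : T2 => ((x.1 : G))) h :))
      · intro h
        obtain ⟨n, hn⟩ := isConj_iff.1 y.2
        have h' : (n : G) * g * (n : G)⁻¹ = 1 :=
          (congrArg Subtype.val hn).trans (congrArg Subtype.val h)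
        exact hg1 (conj_eq_one_iff.1 h')
      · obtain ⟨n, hn⟩ := isConj_iff.1 y.2
        show S.FixZ (y.1 : G)
        rw [← show (n : G) * g * (n : G)⁻¹ = (y.1 : G) from congrArg Subtype.val hn]
        exact hgz.conj _
    have h4 : ¬ 4 ∣ Nat.card ↥(N ⊓ centralizer ({g} : Set G)) := by
      intro h4
      haveI : Fact (Nat.Prime 2) := ⟨Nat.prime_two⟩
      obtain ⟨U, hU⟩ := Sylow.exists_subgroup_card_pow_prime 2 (n := 2)
        (show 2 ^ 2 ∣ Nat.card ↥(N ⊓ centralizer ({g} : Set G)) from h4)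
      exact X.fixZ_two_part hgo hgz (U.map (N ⊓ centralizer ({g} : Set G)).subtype)
        (by rw [Subgroup.card_map_of_injective (Subgroup.subtype_injective _), hU]; norm_num)
        (by rintro _ ⟨u, -, rfl⟩; exact mem_centralizer_singleton_iff.1 u.2.2)
    have hle : Nat.card O' ≤ 8 := by omega
    generalize Nat.card O' = a at *
    generalize Nat.card ↥(N ⊓ centralizer ({g} : Set G)) = b at *
    interval_cases a <;> omega

/-- `f` is conjugate to no power of itself but `f` and `f⁻¹`. -/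
theorem Central.five_auto {f : G} (hf : f ∈ X.K) (hfo : orderOf f = 5) {v : G}
    (h : v * f * v⁻¹ ∈ zpowers f) : v * f * v⁻¹ = f ∨ v * f * v⁻¹ = f⁻¹ := by
  classical
  haveI : Fact (Nat.Prime 5) := ⟨by norm_num⟩
  have hf1 : f ≠ 1 := fun h => by rw [h] at hfo; simp at hfo
  have hf5 : f ^ 5 = 1 := by rw [← hfo, pow_orderOf_eq_one]
  obtain ⟨P, hP⟩ := (IsPGroup.of_card (p := 5) (n := 1)
    (show Nat.card (zpowers f) = 5 ^ 1 by rw [Nat.card_zpowers, hfo, pow_one])).exists_le_sylow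
  have hfP : f ∈ (P : Subgroup G) := hP (mem_zpowers f)
  obtain ⟨n, hn, hnf⟩ := X.exists_normalizing hf hfo P hfP h
  obtain ⟨i, hi, hix⟩ := conj_pow_mem_zpowers hfo (by norm_num) h
  rw [hix] at hnf ⊢
  by_contra hcon
  push Not at hcon
  have hi' : i = 2 ∨ i = 3 := by
    interval_cases i
    · rw [pow_zero] at hix; exact absurd (conj_eq_one_iff.1 hix) hf1
    · exact absurd (pow_one f) hcon.1
    · exact Or.inl rfl
    · exact Or.inr rfl
    · exact absurd (eq_inv_of_mul_eq_one_left (by rw [← pow_succ, hf5])) hcon.2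
  set N := normalizer ((P : Subgroup G) : Set G) with hN
  let A : Subgroup G := N ⊓ normalizer ((zpowers f : Subgroup G) : Set G)
  have hnA : n ∈ A := Subgroup.mem_inf.2 ⟨hn, by
    rw [mem_normalizer_iff]
    intro x
    constructor
    · intro hx
      obtain ⟨m, rfl⟩ := mem_zpowers_iff.1 hx
      rw [← conj_zpow, hnf]
      exact zpow_mem (pow_mem (mem_zpowers f) i) m
    · intro hx
      obtain ⟨m, hm⟩ := mem_zpowers_iff.1 hx
      have hgen : f ∈ zpowers (f ^ i) := mem_zpowers_symm (by norm_num) hfo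
        (pow_mem (mem_zpowers f) i) (by
          rw [← hnf]; exact fun h' => hf1 (conj_eq_one_iff.1 h'))
      obtain ⟨m', hm'⟩ := mem_zpowers_iff.1 hgen
      refine mem_zpowers_iff.2 ⟨m' * m, ?_⟩
      apply (MulAut.conj n).injective
      show n * f ^ (m' * m) * n⁻¹ = n * x * n⁻¹
      rw [← conj_zpow, hnf, zpow_mul, hm', hm]⟩
  have hfA : f ∈ A := Subgroup.mem_inf.2 ⟨le_normalizer hfP, le_normalizer (mem_zpowers f)⟩
  let fA : A := ⟨f, hfA⟩
  let O := {y : A // IsConj fA y}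
  have hC : Nat.card ↥(A ⊓ centralizer ({f} : Set G)) = 50 := by
    rw [← X.card_normalizer_fix hf hfo P hfP]
    have e : A ⊓ centralizer ({f} : Set G) = N ⊓ centralizer ({f} : Set G) := by
      ext y
      refine ⟨fun hy => Subgroup.mem_inf.2 ⟨hy.1.1, hy.2⟩, fun hy =>
        Subgroup.mem_inf.2 ⟨Subgroup.mem_inf.2 ⟨hy.1, ?_⟩, hy.2⟩⟩
      rw [mem_normalizer_iff]
      intro x
      have hc : Commute y f := mem_centralizer_singleton_iff.1 hy.2
      constructor
      · intro hx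
        obtain ⟨m, rfl⟩ := mem_zpowers_iff.1 hx
        rw [(hc.zpow_right m).eq, mul_inv_cancel_right]
        exact zpow_mem (mem_zpowers f) m
      · intro hx
        obtain ⟨m, hm⟩ := mem_zpowers_iff.1 hx
        refine mem_zpowers_iff.2 ⟨m, ?_⟩
        apply (MulAut.conj y).injective
        show y * f ^ m * y⁻¹ = y * x * y⁻¹
        rw [(hc.zpow_right m).eq, mul_inv_cancel_right, hm]
    rw [e]
  have hO : Nat.card O * 50 = Nat.card A := by
    have e := CfsgLib.Involutions.card_conjugates_mul fA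
    rwa [← card_inf_centralizer fA, hC] at e
  -- the powers of `n` give four conjugates
  have hstep : ∀ k : ℕ, (n ^ k) * f * (n ^ k)⁻¹ = f ^ i ^ k := by
    intro k
    induction k with
    | zero => simp
    | succ k ih =>
      rw [pow_succ' n, show n * n ^ k * f * (n * n ^ k)⁻¹ = n * (n ^ k * f * (n ^ k)⁻¹) * n⁻¹ by
        simp [mul_assoc], ih, ← conj_pow, hnf, ← pow_mul, pow_succ']
  have h4 : 4 ≤ Nat.card O := by
    rw [← Nat.card_fin 4]
    refine Nat.card_le_card_of_injective (fun k => (⟨(⟨n, hnA⟩ : A) ^ k.val * fA *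
      ((⟨n, hnA⟩ : A) ^ k.val)⁻¹, isConj_iff.2 ⟨_, rfl⟩⟩ : O)) fun a b h => ?_
    have h' : n ^ a.val * f * (n ^ a.val)⁻¹ = n ^ b.val * f * (n ^ b.val)⁻¹ :=
      congrArg (fun y : O => ((y.1 : A) : G)) h
    rw [hstep, hstep, pow_inj_mod, hfo] at h'
    rcases hi' with rfl | rfl <;> revert h' <;> fin_cases a <;> fin_cases b <;> decide
  have hle : Nat.card O ≤ 4 := by
    have hmem : ∀ y : O, ((y.1 : A) : G) ∈ zpowers f ∧ ((y.1 : A) : G) ≠ 1 := by
      rintro ⟨y, hy⟩
      obtain ⟨a, rfl⟩ := isConj_iff.1 hy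
      exact ⟨((mem_normalizer_iff.1 a.2.2) f).1 (mem_zpowers f),
        fun h => hf1 (conj_eq_one_iff.1 h)⟩
    have e : Nat.card {x : zpowers f // x ≠ 1} = 4 := by
      have e' := Nat.card_congr (Equiv.sumCompl fun x : zpowers f => x ≠ 1)
      rw [Nat.card_sum, Nat.card_zpowers, hfo, show Nat.card {x : zpowers f // ¬ x ≠ 1} = 1
        from Nat.card_eq_one_iff_unique.2
          ⟨⟨fun a b => Subtype.ext ((not_not.1 a.2).trans (not_not.1 b.2).symm)⟩,
            ⟨⟨1, not_not.2 rfl⟩⟩⟩] at e'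
      omega
    rw [← e]
    exact Nat.card_le_card_of_injective
      (fun y => (⟨⟨_, (hmem y).1⟩, fun h => (hmem y).2 (congrArg Subtype.val h)⟩ :
        {x : zpowers f // x ≠ 1}))
      fun a b h => Subtype.ext (Subtype.ext
        (congrArg (fun x : {x : zpowers f // x ≠ 1} => (x.1 : G)) h :))
  have hdvd := Subgroup.card_dvd_of_le (inf_le_left : A ≤ N)
  rw [← hO, X.card_normalizer_five P, show Nat.card O = 4 by omega] at hdvd
  norm_num at hdvd

end Frame

end CfsgLib.Small.JTwoType
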