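import Mathlib
import Cfsg.Agent.Lib.Small.JankoTwoFiveClasses

/-!
# Hall–Janko type: the classes of subgroups of order five, and elements commuting with them
-/

set_option autoImplicit false
set_option linter.unusedSectionVars false

namespace CfsgLib.Small.JTwoType

open Subgroup
open scoped Pointwise

namespace Frame

variable {G : Type*} [Group G] [Finite G] {S : Setup G} {Fr : Frame S} (X : Fr.Central)

theorem Central.five_classes {f : G} (hf : f ∈ X.K) (hfo : orderOf f = 5) (P : Sylow 5 G)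
    (hfP : f ∈ (P : Subgroup G)) {g : G} (hgP : g ∈ (P : Subgroup G)) (hgo : orderOf g = 5)
    (hgz : S.FixZ g) {x : G} (hx : x ∈ (P : Subgroup G)) (hx1 : x ≠ 1) :
    ∃ v : G, v * x * v⁻¹ ∈ zpowers f ∨ v * x * v⁻¹ ∈ zpowers g := by
  classical
  haveI : Fact (Nat.Prime 5) := ⟨by norm_num⟩
  haveI : Fact (Nat.Prime 3) := ⟨Nat.prime_three⟩
  have hf1 : f ≠ 1 := fun h => by rw [h] at hfo; simp at hfo
  have hf5 : f ^ 5 = 1 := by rw [← hfo, pow_orderOf_eq_one]
  have hg1 : g ≠ 1 := fun h => by rw [h] at hgo; simp at hgo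
  set N := normalizer ((P : Subgroup G) : Set G) with hN
  have hNP : ∀ n ∈ N, ∀ y ∈ (P : Subgroup G), n * y * n⁻¹ ∈ (P : Subgroup G) :=
    fun n hn y hy => (mem_normalizer_iff.1 hn y).1 hy
  let fN : N := ⟨f, le_normalizer hfP⟩
  let O := {y : N // IsConj fN y}
  have hO : Nat.card O = 6 := by
    have e := CfsgLib.Involutions.card_conjugates_mul fN
    rw [← card_inf_centralizer fN, X.card_normalizer_fix hf hfo P hfP,
      X.card_normalizer_five P] at e
    show Nat.card {y : N // IsConj fN y} = 6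
    omega
  let T1 := {y : (P : Subgroup G) // y ≠ 1 ∧ ¬ S.FixZ (y : G)}
  let T2 := {y : (P : Subgroup G) // y ≠ 1 ∧ S.FixZ (y : G)}
  have hT : Nat.card T1 + Nat.card T2 = 24 := by
    have e := Nat.card_congr (Equiv.sumCompl fun y : {y : (P : Subgroup G) // y ≠ 1} =>
      S.FixZ (y.1 : G))
    rw [Nat.card_sum,
      Nat.card_congr (Equiv.subtypeSubtypeEquivSubtypeInter (fun y : (P : Subgroup G) => y ≠ 1)
        fun y => S.FixZ (y : G)),
      Nat.card_congr (Equiv.subtypeSubtypeEquivSubtypeInter (fun y : (P : Subgroup G) => y ≠ 1)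
        fun y => ¬ S.FixZ (y : G))] at e
    have e' := Nat.card_congr (Equiv.sumCompl fun y : (P : Subgroup G) => y ≠ 1)
    rw [Nat.card_sum, X.sylow_five_card P, show Nat.card {y : (P : Subgroup G) // ¬ y ≠ 1} = 1
      from Nat.card_eq_one_iff_unique.2
        ⟨⟨fun a b => Subtype.ext ((not_not.1 a.2).trans (not_not.1 b.2).symm)⟩,
          ⟨⟨1, not_not.2 rfl⟩⟩⟩] at e'
    show Nat.card {y : (P : Subgroup G) // y ≠ 1 ∧ ¬ S.FixZ (y : G)} +
      Nat.card {y : (P : Subgroup G) // y ≠ 1 ∧ S.FixZ (y : G)} = 24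
    omega
  -- twelve elements fused into `⟨f⟩`
  have hrep : ∀ y : O, ∃ n : N, (n : G) * f * (n : G)⁻¹ = ((y.1 : N) : G) := fun y => by
    obtain ⟨n, hn⟩ := isConj_iff.1 y.2
    exact ⟨n, congrArg Subtype.val hn⟩
  choose rep hrep using hrep
  have hF : ∀ p : O × Bool, (rep p.1 : G) * f ^ (bif p.2 then 2 else 1) * (rep p.1 : G)⁻¹ ∈
      (P : Subgroup G) := fun p => hNP _ (rep p.1).2 _ (pow_mem hfP _)
  have hFne : ∀ p : O × Bool, (rep p.1 : G) * f ^ (bif p.2 then 2 else 1) * (rep p.1 : G)⁻¹ ≠ 1 := by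
    intro p h
    have h' := orderOf_dvd_of_pow_eq_one (conj_eq_one_iff.1 h)
    rw [hfo] at h'
    cases hp : p.2 <;> simp [hp] at h'
  have hFz : ∀ p : O × Bool,
      ¬ S.FixZ ((rep p.1 : G) * f ^ (bif p.2 then 2 else 1) * (rep p.1 : G)⁻¹) := fun p =>
    X.not_fixZ hf hfo (v := (rep p.1 : G)⁻¹)
      (by
        rw [show (rep p.1 : G)⁻¹ * ((rep p.1 : G) * f ^ (bif p.2 then 2 else 1) * (rep p.1 : G)⁻¹) *
          ((rep p.1 : G)⁻¹)⁻¹ = f ^ (bif p.2 then 2 else 1) by simp [mul_assoc]]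
        exact pow_mem (mem_zpowers f) _) (hFne p)
  let F : O × Bool → T1 := fun p => ⟨⟨_, hF p⟩,
    fun h => hFne p (congrArg Subtype.val h), hFz p⟩
  have hFinj : Function.Injective F := by
    rintro ⟨a, i⟩ ⟨b, j⟩ h
    have h' : (rep a : G) * f ^ (bif i then 2 else 1) * (rep a : G)⁻¹ =
        (rep b : G) * f ^ (bif j then 2 else 1) * (rep b : G)⁻¹ :=
      congrArg (fun y : T1 => (y.1 : G)) h
    have hcross : ∀ n n' : N, (n : G) * f ^ 2 * (n : G)⁻¹ ≠ (n' : G) * f * (n' : G)⁻¹ := by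
      intro n n' h2
      have h3 : ((n : G)⁻¹ * (n' : G)) * f * ((n : G)⁻¹ * (n' : G))⁻¹ = f ^ 2 := by
        rw [show (n : G)⁻¹ * (n' : G) * f * ((n : G)⁻¹ * (n' : G))⁻¹ =
          (n : G)⁻¹ * ((n' : G) * f * (n' : G)⁻¹) * (n : G) by simp [mul_assoc], ← h2]
        simp [mul_assoc]
      rcases X.five_auto hf hfo (h3 ▸ pow_mem (mem_zpowers f) 2) with h4 | h4 <;> rw [h3] at h4
      · exact hf1 (by rwa [sq, mul_eq_left] at h4)
      · have h5 : f ^ 3 = 1 := by rw [pow_succ, h4, inv_mul_cancel]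
        have := orderOf_dvd_of_pow_eq_one h5
        rw [hfo] at this
        norm_num at this
    cases i <;> cases j <;> simp only [cond_false, cond_true, pow_one] at h'
    · rw [hrep, hrep] at h'
      rw [show a = b from Subtype.ext (Subtype.ext h')]
    · exact absurd h'.symm (hcross _ _)
    · exact absurd h' (hcross _ _)
    · have h2 : ((rep a : G) * f * (rep a : G)⁻¹) ^ 2 = ((rep b : G) * f * (rep b : G)⁻¹) ^ 2 := by
        rw [conj_pow, conj_pow, h']
      have h3 := congrArg (fun y => y ^ 3) h2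
      simp only [← pow_mul, conj_pow] at h3
      rw [show 2 * 3 = 5 + 1 from rfl, pow_succ, hf5, one_mul, hrep, hrep] at h3
      rw [show a = b from Subtype.ext (Subtype.ext h3)]
  -- twelve elements fused into `⟨g⟩`
  obtain ⟨⟨v, hvN⟩, hv⟩ := exists_prime_orderOf_dvd_card' (G := N) 3
    (by rw [X.card_normalizer_five P]; norm_num)
  rw [Subgroup.orderOf_mk] at hv
  have hv3 : v ^ 3 = 1 := by rw [← hv, pow_orderOf_eq_one]
  have hH : ∀ p : Fin 3 × Fin 4, v ^ p.1.val * g ^ (p.2.val + 1) * (v ^ p.1.val)⁻¹ ∈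
      (P : Subgroup G) := fun p => hNP _ (pow_mem hvN _) _ (pow_mem hgP _)
  have hHne : ∀ p : Fin 3 × Fin 4, g ^ (p.2.val + 1) ≠ 1 := by
    intro p h
    have h' := orderOf_dvd_of_pow_eq_one h
    rw [hgo] at h'
    have := Nat.le_of_dvd (by omega) h'
    omega
  let H : Fin 3 × Fin 4 → T2 := fun p => ⟨⟨_, hH p⟩,
    fun h => hHne p (conj_eq_one_iff.1 (congrArg Subtype.val h :)), (hgz.pow _).conj _⟩
  have hvg : v * g * v⁻¹ ∉ zpowers g := fun h =>
    X.no_three_fix P hv hvN hgP hg1 (three_normalizing hgo hv3 h)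
  have hHinj : Function.Injective H := by
    rintro ⟨a, i⟩ ⟨b, j⟩ h
    have h' : v ^ a.val * g ^ (i.val + 1) * (v ^ a.val)⁻¹ =
        v ^ b.val * g ^ (j.val + 1) * (v ^ b.val)⁻¹ :=
      congrArg (fun y : T2 => (y.1 : G)) h
    have hgen : ∀ k : Fin 4, g ∈ zpowers (g ^ (k.val + 1)) := fun k =>
      mem_zpowers_symm (by norm_num) hgo (pow_mem (mem_zpowers g) _) (hHne (a, k))
    have hab : a = b := by
      by_contra hne
      apply hvg
      -- `u = v^(a-b)` carries `g^(i+1)` into `⟨g⟩`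
      set u := (v ^ b.val)⁻¹ * v ^ a.val with hu
      have hu1 : u * g ^ (i.val + 1) * u⁻¹ = g ^ (j.val + 1) := by
        rw [hu, show (v ^ b.val)⁻¹ * v ^ a.val * g ^ (i.val + 1) * ((v ^ b.val)⁻¹ * v ^ a.val)⁻¹ =
          (v ^ b.val)⁻¹ * (v ^ a.val * g ^ (i.val + 1) * (v ^ a.val)⁻¹) * v ^ b.val by
            simp [mul_assoc], h']
        simp [mul_assoc]
      have hug : u * g * u⁻¹ ∈ zpowers g := by
        obtain ⟨m, hm⟩ := mem_zpowers_iff.1 (hgen i)
        rw [show u * g * u⁻¹ = (u * g ^ (i.val + 1) * u⁻¹) ^ m by rw [conj_zpow, hm], hu1]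
        exact zpow_mem (pow_mem (mem_zpowers g) _) _
      have hu3 : u ^ 3 = 1 := by
        rw [hu, (((Commute.refl v).pow_pow b.val a.val).inv_left).mul_pow, inv_pow, ← pow_mul,
          ← pow_mul, mul_comm b.val, mul_comm a.val, pow_mul, pow_mul, hv3]
        simp
      have hcomm : Commute u g := three_normalizing hgo hu3 hug
      have hvu : v ∈ zpowers u := by
        refine mem_zpowers_symm Nat.prime_three hv
          (mul_mem (inv_mem (pow_mem (mem_zpowers v) _)) (pow_mem (mem_zpowers v) _)) fun he => ?_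
        have he' : v ^ b.val = v ^ a.val := inv_mul_eq_one.1 he
        exact hne (Fin.ext (pow_injOn_Iio_orderOf (x := v) (by rw [hv]; exact a.isLt)
          (by rw [hv]; exact b.isLt) he'.symm))
      obtain ⟨m, hm⟩ := mem_zpowers_iff.1 hvu
      rw [← hm, (hcomm.zpow_left m).eq, mul_inv_cancel_right]
      exact mem_zpowers g
    subst hab
    have h2 := mul_left_cancel (mul_right_cancel h')
    have h3 := pow_injOn_Iio_orderOf (x := g) (by rw [hgo]; simp; omega)
      (by rw [hgo]; simp; omega) h2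
    exact Prod.ext rfl (Fin.ext (by simpa using h3))
  have hc1 : Nat.card (O × Bool) = 12 := by
    rw [Nat.card_prod, hO, Nat.card_eq_fintype_card (α := Bool), Fintype.card_bool]
  have hc2 : Nat.card (Fin 3 × Fin 4) = 12 := by simp
  have h1 := Nat.card_le_card_of_injective F hFinj
  have h2 := Nat.card_le_card_of_injective H hHinj
  rw [hc1] at h1
  rw [hc2] at h2
  have hFsurj := ((Nat.bijective_iff_injective_and_card F).2 ⟨hFinj, by omega⟩).2
  have hHsurj := ((Nat.bijective_iff_injective_and_card H).2 ⟨hHinj, by omega⟩).2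
  by_cases hz : S.FixZ x
  · obtain ⟨⟨a, i⟩, hp⟩ := hHsurj ⟨⟨x, hx⟩, fun h => hx1 (congrArg Subtype.val h), hz⟩
    have hp' : v ^ a.val * g ^ (i.val + 1) * (v ^ a.val)⁻¹ = x :=
      congrArg (fun y : T2 => (y.1 : G)) hp
    refine ⟨(v ^ a.val)⁻¹, Or.inr ?_⟩
    rw [← hp']
    simp [mul_assoc]
  · obtain ⟨⟨a, i⟩, hp⟩ := hFsurj ⟨⟨x, hx⟩, fun h => hx1 (congrArg Subtype.val h), hz⟩
    have hp' : (rep a : G) * f ^ (bif i then 2 else 1) * (rep a : G)⁻¹ = x :=
      congrArg (fun y : T1 => (y.1 : G)) hp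
    refine ⟨(rep a : G)⁻¹, Or.inl ?_⟩
    rw [← hp']
    simp [mul_assoc]

include X in
theorem Central.five_subgroups : ∃ A B : Subgroup G, Nat.card A = 5 ∧ Nat.card B = 5 ∧
    (∀ v : G, A.map (MulAut.conj v).toMonoidHom ≠ B) ∧ ∀ W : Subgroup G, Nat.card W = 5 →
      ∃ v : G, W.map (MulAut.conj v).toMonoidHom = A ∨ W.map (MulAut.conj v).toMonoidHom = B := by
  classical
  haveI : Fact (Nat.Prime 5) := ⟨by norm_num⟩
  obtain ⟨f, hf, hfo⟩ := X.exists_five
  obtain ⟨P, hP⟩ := (IsPGroup.of_card (p := 5) (n := 1)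
    (show Nat.card (zpowers f) = 5 ^ 1 by rw [Nat.card_zpowers, hfo, pow_one])).exists_le_sylow
  have hfP : f ∈ (P : Subgroup G) := hP (mem_zpowers f)
  obtain ⟨g, hgP, hgo, hgz⟩ := X.exists_fixZ P
  have hg1 : g ≠ 1 := fun h => by rw [h] at hgo; simp at hgo
  refine ⟨zpowers f, zpowers g, by rw [Nat.card_zpowers, hfo], by rw [Nat.card_zpowers, hgo],
    fun v h => ?_, fun W hW => ?_⟩
  · have hgm : g ∈ (zpowers f).map (MulAut.conj v).toMonoidHom := h.symm ▸ mem_zpowers g
    obtain ⟨y, hy, hyg⟩ := hgm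
    refine X.not_fixZ hf hfo (v := v⁻¹) ?_ hg1 hgz
    rw [← hyg]
    show v⁻¹ * (v * y * v⁻¹) * v⁻¹⁻¹ ∈ zpowers f
    simpa [mul_assoc] using hy
  · obtain ⟨⟨w, hwW⟩, hw⟩ := exists_prime_orderOf_dvd_card' (G := W) 5 (by rw [hW])
    rw [Subgroup.orderOf_mk] at hw
    obtain ⟨R, hR⟩ := (IsPGroup.of_card (p := 5) (n := 1)
      (show Nat.card (zpowers w) = 5 ^ 1 by rw [Nat.card_zpowers, hw, pow_one])).exists_le_sylow
    obtain ⟨u, hu⟩ := MulAction.exists_smul_eq G R P
    have hwP : u * w * u⁻¹ ∈ (P : Subgroup G) := by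
      rw [← hu, CfsgLib.Small.mem_smul_sylow]
      have : u⁻¹ * (u * w * u⁻¹) * u = w := by simp [mul_assoc]
      rw [this]
      exact hR (mem_zpowers w)
    have hw1 : w ≠ 1 := fun h => by rw [h] at hw; simp at hw
    obtain ⟨v, hv⟩ := X.five_classes hf hfo P hfP hgP hgo hgz hwP
      fun h => hw1 (conj_eq_one_iff.1 h)
    have hWeq : W = zpowers w := (Subgroup.eq_of_le_of_card_ge (zpowers_le.2 hwW)
      (by rw [hW, Nat.card_zpowers, hw])).symm
    have key : ∀ a : G, orderOf a = 5 → v * (u * w * u⁻¹) * v⁻¹ ∈ zpowers a →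
        W.map (MulAut.conj (v * u)).toMonoidHom = zpowers a := by
      intro a ha hm
      refine Subgroup.eq_of_le_of_card_ge ?_ (by
        rw [Subgroup.card_map_of_injective (MulAut.conj (v * u)).injective, hW, Nat.card_zpowers,
          ha])
      rw [hWeq, MonoidHom.map_zpowers, zpowers_le]
      show v * u * w * (v * u)⁻¹ ∈ zpowers a
      simpa [mul_assoc] using hm
    rcases hv with h | h
    · exact ⟨v * u, Or.inl (key f hfo h)⟩
    · exact ⟨v * u, Or.inr (key g hgo h)⟩

include X in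
/-- No element of order three or seven commutes with an element of order five fused into `C(z)`. -/
theorem Central.fixZ_small {g : G} (hgo : orderOf g = 5) (hgz : S.FixZ g) {v : G}
    (hv : orderOf v = 3 ∨ orderOf v = 7) : v * g ≠ g * v := by
  classical
  intro hvg
  haveI : Fact (Nat.Prime 5) := ⟨by norm_num⟩
  obtain ⟨s, hs, hsg⟩ := hgz
  have hso : orderOf s = 2 := JTwoOrder.orderOf_two (JTwoOrder.sq_of_isConj S.ord hs)
    (JTwoOrder.not_isConj_one S.ord hs)
  obtain ⟨c, hc⟩ := isConj_iff.1 hs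
  set M := centralizer ({g} : Set G) with hM
  let gM : M := ⟨g, mem_centralizer_singleton_iff.2 rfl⟩
  let sM : M := ⟨s, mem_centralizer_singleton_iff.2 hsg⟩
  let B : Subgroup M := zpowers gM
  haveI hBn : B.Normal := by
    refine ⟨fun a ha b => ?_⟩
    obtain ⟨n, rfl⟩ := mem_zpowers_iff.1 ha
    rw [((show Commute b gM from Subtype.ext (mem_centralizer_singleton_iff.1 b.2)).zpow_right n).eq,
      mul_inv_cancel_right]
    exact ha
  let π : M →* M ⧸ B := QuotientGroup.mk' B
  have hodd : ∀ y ∈ B, y ^ 2 = 1 → y = 1 := by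
    intro y hy h2
    obtain ⟨n, rfl⟩ := mem_zpowers_iff.1 hy
    have h5 : (gM ^ n) ^ 5 = 1 := by
      rw [← zpow_natCast, ← zpow_mul, mul_comm, zpow_mul, zpow_natCast,
        show gM ^ 5 = 1 from Subtype.ext (by
          show g ^ 5 = 1
          rw [← hgo, pow_orderOf_eq_one]), one_zpow]
    exact orderOf_eq_one_iff.1 (Nat.eq_one_of_dvd_one (by
      simpa using Nat.dvd_gcd (orderOf_dvd_of_pow_eq_one h2) (orderOf_dvd_of_pow_eq_one h5)))
  have hs2 : sM ^ 2 = 1 := Subtype.ext (JTwoOrder.sq_of_isConj S.ord hs)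
  have hs1 : π sM ≠ 1 := fun h => by
    have h' := hodd sM ((QuotientGroup.eq_one_iff _).1 h) hs2
    exact JTwoOrder.not_isConj_one S.ord hs (congrArg Subtype.val h')
  have hu : orderOf (π sM) = 2 := orderOf_eq_prime (by rw [← map_pow, hs2, map_one]) hs1
  have hC : ∀ y : M ⧸ B, y * π sM = π sM * y → y = 1 ∨ y = π sM := by
    intro y hy
    obtain ⟨y, rfl⟩ := QuotientGroup.mk'_surjective B y
    have hq : y * sM * y⁻¹ * sM⁻¹ ∈ B := by
      refine (QuotientGroup.eq_one_iff _).1 ?_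
      show π _ = 1
      rw [map_mul, map_mul, map_mul, map_inv, map_inv, hy, mul_inv_cancel_right, mul_inv_cancel]
    have hqc : Commute (y * sM * y⁻¹ * sM⁻¹) sM := by
      obtain ⟨n, hn⟩ := mem_zpowers_iff.1 hq
      rw [← hn]
      exact (show Commute gM sM from Subtype.ext hsg.symm).zpow_left n
    have h2 : (y * sM * y⁻¹ * sM⁻¹ * sM) ^ 2 = 1 := by
      rw [inv_mul_cancel_right, conj_pow, hs2, mul_one, mul_inv_cancel]
    rw [hqc.mul_pow, hs2, mul_one] at h2
    have hys : y * sM = sM * y := mul_inv_eq_iff_eq_mul.1 (mul_inv_eq_one.1 (hodd _ hq h2))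
    -- `y` lies in `⟨g⟩⟨s⟩`
    let A : Subgroup G := centralizer ({s} : Set G) ⊓ M
    have hAle : Nat.card A ≤ 10 := by
      have hmem : ∀ a : A, c⁻¹ * (a : G) * c ∈ S.C ⊓ centralizer ({c⁻¹ * g * c} : Set G) := by
        intro a
        refine Subgroup.mem_inf.2 ⟨(S.mem_C _).2 ?_, mem_centralizer_singleton_iff.2 ?_⟩
        · have h' : (a : G) * (c * S.z * c⁻¹) = c * S.z * c⁻¹ * (a : G) :=
            hc.symm ▸ mem_centralizer_singleton_iff.1 a.2.1
          calc c⁻¹ * (a : G) * c * S.z = c⁻¹ * ((a : G) * (c * S.z * c⁻¹)) * c := by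
                simp [mul_assoc]
            _ = _ := by rw [h']; simp [mul_assoc]
        · have h' : (a : G) * g = g * (a : G) := mem_centralizer_singleton_iff.1 a.2.2
          calc c⁻¹ * (a : G) * c * (c⁻¹ * g * c) = c⁻¹ * ((a : G) * g) * c := by simp [mul_assoc]
            _ = _ := by rw [h']; simp [mul_assoc]
      let φ : A → ↥(S.C ⊓ centralizer ({c⁻¹ * g * c} : Set G)) := fun a => ⟨_, hmem a⟩
      have hφ : Function.Injective φ := fun a b h =>
        Subtype.ext (mul_left_cancel (mul_right_cancel (congrArg Subtype.val h :)))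
      refine (Nat.card_le_card_of_injective φ hφ).trans (card_fix_five ?_ ?_)
      · rw [← hgo]
        exact SemiconjBy.orderOf_eq c (by simp [SemiconjBy, mul_assoc])
      · calc c⁻¹ * g * c * S.z = c⁻¹ * (g * (c * S.z * c⁻¹)) * c := by simp [mul_assoc]
          _ = _ := by rw [hc, ← hsg, ← hc]; simp [mul_assoc]
    let F : Fin 5 × Bool → A := fun p => ⟨g ^ p.1.val * bif p.2 then s else 1,
      Subgroup.mem_inf.2 ⟨mul_mem (pow_mem (mem_centralizer_singleton_iff.2 hsg.symm) _)
        (by cases p.2 <;> [exact one_mem _; exact mem_centralizer_singleton_iff.2 rfl]),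
        mul_mem (pow_mem (mem_centralizer_singleton_iff.2 rfl) _)
        (by cases p.2 <;> [exact one_mem _; exact mem_centralizer_singleton_iff.2 hsg])⟩⟩
    have hcontra : ∀ m : G, m ∈ zpowers g → m ≠ s := by
      intro m hm he
      have : orderOf s ∣ 5 := by
        obtain ⟨n, rfl⟩ := mem_zpowers_iff.1 hm
        rw [← he]
        exact orderOf_dvd_of_pow_eq_one (by
          rw [← zpow_natCast, ← zpow_mul, mul_comm, zpow_mul, zpow_natCast, ← hgo,
            pow_orderOf_eq_one, one_zpow])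
      rw [hso] at this
      norm_num at this
    have hFi : Function.Injective F := by
      rintro ⟨i, a⟩ ⟨j, b⟩ h
      have h' : (g ^ i.val * bif a then s else 1) = g ^ j.val * bif b then s else 1 :=
        congrArg Subtype.val h
      have hpow : ∀ k l : Fin 5, g ^ k.val = g ^ l.val → k = l := fun k l hkl => Fin.ext
        (pow_injOn_Iio_orderOf (x := g) (by rw [hgo]; exact k.isLt) (by rw [hgo]; exact l.isLt) hkl)
      cases a <;> cases b <;> simp only [cond_false, cond_true, mul_one] at h'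
      · rw [hpow _ _ h']
      · exact absurd (inv_mul_eq_iff_eq_mul.2 h')
          (hcontra _ (mul_mem (inv_mem (pow_mem (mem_zpowers g) _)) (pow_mem (mem_zpowers g) _)))
      · exact absurd (inv_mul_eq_iff_eq_mul.2 h'.symm)
          (hcontra _ (mul_mem (inv_mem (pow_mem (mem_zpowers g) _)) (pow_mem (mem_zpowers g) _)))
      · rw [hpow _ _ (mul_right_cancel h')]
    have h10 : Nat.card (Fin 5 × Bool) = 10 := by
      rw [Nat.card_prod, Nat.card_fin, Nat.card_eq_fintype_card (α := Bool), Fintype.card_bool]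
    have hle := Nat.card_le_card_of_injective F hFi
    rw [h10] at hle
    obtain ⟨⟨i, b⟩, hib⟩ := ((Nat.bijective_iff_injective_and_card F).2 ⟨hFi, by omega⟩).2
      ⟨(y : G), Subgroup.mem_inf.2 ⟨mem_centralizer_singleton_iff.2 (congrArg Subtype.val hys :),
        y.2⟩⟩
    have hib' : (g ^ i.val * bif b then s else 1) = (y : G) := congrArg Subtype.val hib
    have hy' : y = gM ^ i.val * bif b then sM else 1 := Subtype.ext (by
      rw [← hib']; cases b <;> rfl)
    have hg1 : π gM = 1 := (QuotientGroup.eq_one_iff _).2 (mem_zpowers _)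
    show π y = 1 ∨ π y = π sM
    rw [hy', map_mul, map_pow, hg1, one_pow, one_mul]
    cases b
    · exact Or.inl (map_one π)
    · exact Or.inr rfl
  obtain ⟨O, hOn, hOab, hOodd⟩ := abelian_complement hu hC
  -- `C(g)` normalises a Sylow subgroup through `g`
  obtain ⟨P, hP⟩ := (IsPGroup.of_card (p := 5) (n := 1)
    (show Nat.card (zpowers g) = 5 ^ 1 by rw [Nat.card_zpowers, hgo, pow_one])).exists_le_sylow
  have hgP : g ∈ (P : Subgroup G) := hP (mem_zpowers g)
  have hPM : ∀ p ∈ (P : Subgroup G), p ∈ M := fun p hp =>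
    mem_centralizer_singleton_iff.2 (X.sylow_five_comm P hp hgP)
  have h25 : ∀ p ∈ (P : Subgroup G), ∀ (h : p ∈ M), Odd (orderOf (π ⟨p, h⟩)) := by
    intro p hp h
    have h1 : orderOf (π ⟨p, h⟩) ∣ 25 := (orderOf_map_dvd π _).trans (by
      rw [Subgroup.orderOf_mk, ← X.sylow_five_card P, ← Subgroup.orderOf_mk p hp]
      exact orderOf_dvd_natCard _)
    exact Odd.of_dvd_nat (by decide) h1
  have hMN : ∀ y ∈ M, y ∈ normalizer ((P : Subgroup G) : Set G) := by
    intro y hy
    have key : ∀ y ∈ M, ∀ p ∈ (P : Subgroup G), y * p * y⁻¹ ∈ (P : Subgroup G) := by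
      intro y hy p hp
      let q := y * p * y⁻¹
      have hqM : q ∈ M := mul_mem (mul_mem hy (hPM p hp)) (inv_mem hy)
      have hqn : q ∈ normalizer ((P : Subgroup G) : Set G) := by
        rw [mem_normalizer_iff]
        have hmod : ∀ x ∈ (P : Subgroup G), q * x * q⁻¹ * x⁻¹ ∈ (P : Subgroup G) := by
          intro x hx
          have hxM := hPM x hx
          have hqO : π ⟨q, hqM⟩ ∈ O := by
            rw [show (⟨q, hqM⟩ : M) = ⟨y, hy⟩ * ⟨p, hPM p hp⟩ * ⟨y, hy⟩⁻¹ from rfl, map_mul,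
              map_mul, map_inv]
            exact hOn.conj_mem _ (hOodd _ (h25 p hp _)) _
          have hcm := hOab _ hqO _ (hOodd _ (h25 x hx hxM))
          have h1 : (⟨q, hqM⟩ * ⟨x, hxM⟩ * ⟨q, hqM⟩⁻¹ * ⟨x, hxM⟩⁻¹ : M) ∈ B := by
            refine (QuotientGroup.eq_one_iff _).1 ?_
            show π _ = 1
            rw [map_mul, map_mul, map_mul, map_inv, map_inv, hcm, mul_inv_cancel_right,
              mul_inv_cancel]
          obtain ⟨n, hn⟩ := mem_zpowers_iff.1 h1
          have hn' : g ^ n = q * x * q⁻¹ * x⁻¹ := congrArg Subtype.val hn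
          rw [← hn']
          exact zpow_mem hgP n
        have hone : ∀ x ∈ (P : Subgroup G), q * x * q⁻¹ ∈ (P : Subgroup G) := fun x hx => by
          simpa using mul_mem (hmod x hx) hx
        intro x
        refine ⟨hone x, fun hx => ?_⟩
        let φ : ↥(P : Subgroup G) → ↥(P : Subgroup G) := fun a => ⟨q * a * q⁻¹, hone a a.2⟩
        have hφ : Function.Injective φ := fun a b h =>
          Subtype.ext (mul_left_cancel (mul_right_cancel (congrArg Subtype.val h :)))
        obtain ⟨⟨x', hx'⟩, he⟩ := (Finite.injective_iff_surjective.1 hφ) ⟨_, hx⟩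
        exact (mul_left_cancel (mul_right_cancel (congrArg Subtype.val he :)) : x' = x) ▸ hx'
      have hq5 : IsPGroup 5 (zpowers q) :=
        (P.2.map (MulAut.conj y).toMonoidHom).to_le (zpowers_le.2 ⟨p, hp, rfl⟩)
      have hsup := hq5.to_sup_of_normal_right' P.2 (zpowers_le.2 hqn)
      exact (P.3 hsup le_sup_right) ▸ mem_sup_left (mem_zpowers q)
    rw [mem_normalizer_iff]
    intro x
    refine ⟨key y hy x, fun hx => ?_⟩
    have := key y⁻¹ (inv_mem hy) _ hx
    simpa [mul_assoc] using this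
  have hvN := hMN v (mem_centralizer_singleton_iff.2 hvg)
  rcases hv with h | h
  · exact X.no_three_fix P h hvN hgP (fun h => by rw [h] at hgo; simp at hgo) hvg
  · have := orderOf_dvd_natCard (⟨v, hvN⟩ : normalizer ((P : Subgroup G) : Set G))
    rw [Subgroup.orderOf_mk, h, X.card_normalizer_five P] at this
    norm_num at this

end Frame

end CfsgLib.Small.JTwoType
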