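import Mathlib
import Cfsg.Prelude.Def_Transfer
import Cfsg.Agent.Lib.Small.JankoTwoFiveSubgroups
import Cfsg.Agent.Lib.PGroups.Basic

/-!
# Hall–Janko type: the centralisers of the two kinds of elements of order three
-/

set_option autoImplicit false
set_option linter.unusedSectionVars false

namespace CfsgLib.Small.JTwoType

open Subgroup
open scoped Pointwise commutatorElement

theorem isExtraspecial_of_card_cube {P : Type*} [Group P] [Finite P] {p : ℕ} [Fact p.Prime]
    (hP : Nat.card P = p ^ 3) (hne : ∃ a b : P, a * b ≠ b * a) : Cfsg.IsExtraspecial p P := by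
  classical
  have hp : p.Prime := Fact.out
  have hPp : IsPGroup p P := IsPGroup.of_card hP
  obtain ⟨a₀, b₀, hab⟩ := hne
  have hdvd : Nat.card (center P) ∣ p ^ 3 := hP ▸ Subgroup.card_subgroup_dvd_card _
  obtain ⟨k, hk3, hk⟩ := (Nat.dvd_prime_pow hp).1 hdvd
  -- an element outside the centre generates, with the centre, a proper subgroup
  have hgen : ∀ x : P, x ∉ center P →
      Nat.card (centralizer ({x} : Set P)) < p ^ 3 := by
    intro x hx
    rw [← hP]
    refine lt_of_le_of_ne (Subgroup.card_le_card_group _) fun h => hx ?_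
    have htop := Subgroup.eq_top_of_card_eq _ h
    exact mem_center_iff.2 fun y => mem_centralizer_singleton_iff.1 (htop ▸ mem_top y)
  have hcle : ∀ x : P, center P ≤ centralizer ({x} : Set P) := fun x y hy =>
    mem_centralizer_singleton_iff.2 (mem_center_iff.1 hy x).symm
  have hclt : ∀ x : P, x ∉ center P → p ^ (k + 1) ≤ Nat.card (centralizer ({x} : Set P)) := by
    intro x hx
    obtain ⟨l, hl, hl'⟩ := (Nat.dvd_prime_pow hp).1
      (hP ▸ Subgroup.card_subgroup_dvd_card (centralizer ({x} : Set P)))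
    rw [hl']
    refine Nat.pow_le_pow_right hp.pos ?_
    by_contra hlt
    have heq := Subgroup.eq_of_le_of_card_ge (hcle x) (by
      rw [hl', hk]; exact Nat.pow_le_pow_right hp.pos (by omega))
    exact hx (heq ▸ mem_centralizer_singleton_iff.2 rfl)
  have ha : a₀ ∉ center P := fun h => hab (mem_center_iff.1 h b₀).symm
  have hk1 : k = 1 := by
    obtain ⟨j, hj, hj'⟩ := IsPGroup.card_center_eq_prime_pow hP (by norm_num)
    rw [hk] at hj'
    have hkj := Nat.pow_right_injective hp.two_le hj'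
    have := (Nat.pow_lt_pow_iff_right hp.one_lt).1 ((hclt a₀ ha).trans_lt (hgen a₀ ha))
    omega
  rw [hk1, pow_one] at hk
  have hquot : Nat.card (P ⧸ center P) = p ^ 2 := by
    have e := Subgroup.card_mul_index (center P)
    rw [hk, hP, Subgroup.index_eq_card, show p ^ 3 = p * p ^ 2 by ring] at e
    exact Nat.eq_of_mul_eq_mul_left hp.pos e
  have hab' := IsPGroup.commutative_of_card_eq_prime_sq hquot
  have hle : commutator P ≤ center P := by
    rw [commutator_def, Subgroup.commutator_le]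
    intro a _ b _
    rw [← QuotientGroup.eq_one_iff, ← QuotientGroup.mk'_apply, map_commutatorElement,
      commutatorElement_eq_one_iff_mul_comm]
    exact hab' _ _
  have hcom : commutator P = center P := by
    refine Subgroup.eq_of_le_of_card_ge hle ?_
    obtain ⟨l, hl, hl'⟩ := (Nat.dvd_prime_pow hp).1
      (hP ▸ Subgroup.card_subgroup_dvd_card (commutator P))
    rw [hk, hl']
    refine Nat.le_self_pow (fun h0 => hab ?_) p
    subst h0
    rw [pow_zero, Subgroup.card_eq_one] at hl'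
    have : ⁅a₀, b₀⁆ ∈ commutator P :=
      Subgroup.commutator_mem_commutator (mem_top a₀) (mem_top b₀)
    rw [hl', mem_bot, commutatorElement_eq_one_iff_mul_comm] at this
    exact this
  refine ⟨⟨hPp, le_antisymm ?_ (hcom ▸ CfsgLib.PGroups.commutator_le_frattini hPp), hcom⟩, hk⟩
  refine CfsgLib.PGroups.frattini_le_of_elementary_quotient (p := p) hle fun g => ?_
  rw [← QuotientGroup.eq_one_iff, QuotientGroup.mk_pow]
  by_contra hg
  have hg2 : orderOf (g : P ⧸ center P) = p ^ 2 := orderOf_eq_prime_pow (n := 1)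
    (by rwa [pow_one]) (by rw [show (1 + 1) = 2 from rfl, ← hquot]; exact pow_card_eq_one')
  have htop : zpowers (g : P ⧸ center P) = ⊤ :=
    Subgroup.eq_top_of_card_eq _ (by rw [Nat.card_zpowers, hg2, hquot])
  have hgc : g ∈ center P := by
    refine mem_center_iff.2 fun y => ?_
    obtain ⟨n, hn⟩ := mem_zpowers_iff.1 (htop ▸ mem_top (y : P ⧸ center P))
    have hy : (g ^ n)⁻¹ * y ∈ center P := by
      rw [← QuotientGroup.eq, QuotientGroup.mk_zpow]
      exact hn
    have h1 : Commute g ((g ^ n)⁻¹ * y) := mem_center_iff.1 hy g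
    have h2 := ((Commute.refl g).zpow_right n).mul_right h1
    rw [mul_inv_cancel_left] at h2
    exact h2.symm.eq
  rw [(QuotientGroup.eq_one_iff g).2 hgc, one_pow] at hg
  exact hg rfl

/-- In `C(x)/⟨x⟩ ≅ A₅` every involution commuting with `x` is conjugate to a given one. -/
theorem invol_conj_of_quot {G : Type*} [Group G] [Finite G] {x t : G} {p : ℕ} (hxo : orderOf x = p)
    (hp : Odd p) (π : ↥(centralizer ({x} : Set G)) →* alternatingGroup (Fin 5))
    (hπ : Function.Surjective π) (hker : ∀ y, π y = 1 ↔ (y : G) ∈ zpowers x)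
    (ht : t ^ 2 = 1) (ht1 : t ≠ 1) (htx : t * x = x * t) {s : G} (hs : s ^ 2 = 1) (hs1 : s ≠ 1)
    (hsx : s * x = x * s) : IsConj s t := by
  have hodd : ∀ y : G, y ∈ zpowers x → y ^ 2 = 1 → y = 1 := by
    intro y hy h2
    by_contra h1
    have h : orderOf y = 2 := orderOf_eq_prime h2 h1
    have h5 : orderOf y ∣ p := by
      obtain ⟨n, rfl⟩ := mem_zpowers_iff.1 hy
      exact orderOf_dvd_of_pow_eq_one (by
        rw [← zpow_natCast, ← zpow_mul, mul_comm, zpow_mul, zpow_natCast, ← hxo,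
          pow_orderOf_eq_one, one_zpow])
    rw [h] at h5
    exact (Nat.not_even_iff_odd.2 hp) (even_iff_two_dvd.2 h5)
  let sM : centralizer ({x} : Set G) := ⟨s, mem_centralizer_singleton_iff.2 hsx⟩
  let tM : centralizer ({x} : Set G) := ⟨t, mem_centralizer_singleton_iff.2 htx⟩
  obtain ⟨a, ha⟩ := a5_conj_invol (π sM) (π tM)
    (by rw [← map_pow, show sM ^ 2 = 1 from Subtype.ext hs, map_one])
    (fun h => hs1 (hodd _ ((hker sM).1 h) hs))
    (by rw [← map_pow, show tM ^ 2 = 1 from Subtype.ext ht, map_one])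
    (fun h => ht1 (hodd _ ((hker tM).1 h) ht))
  obtain ⟨m, rfl⟩ := hπ a
  have hq : π (m * sM * m⁻¹ * tM⁻¹) = 1 := by
    rw [map_mul, map_mul, map_mul, map_inv, map_inv, ha, mul_inv_cancel]
  have hq' : (m : G) * s * (m : G)⁻¹ * t⁻¹ ∈ zpowers x := (hker _).1 hq
  refine isConj_iff.2 ⟨m, mul_inv_eq_one.1 (hodd _ hq' ?_)⟩
  have hqt : Commute ((m : G) * s * (m : G)⁻¹ * t⁻¹) t := by
    obtain ⟨n, hn⟩ := mem_zpowers_iff.1 hq'
    rw [← hn]
    exact (show Commute x t from htx.symm).zpow_left n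
  have h2 : ((m : G) * s * (m : G)⁻¹ * t⁻¹ * t) ^ 2 = 1 := by
    rw [inv_mul_cancel_right, conj_pow, hs, mul_one, mul_inv_cancel]
  rwa [hqt.mul_pow, ht, mul_one] at h2

namespace Frame

variable {G : Type*} [Group G] [Finite G] {S : Setup G} {Fr : Frame S} (X : Fr.Central)

theorem w_ne_one : Fr.w ≠ 1 := fun h => Fr.four.uz_ne.2.2.2 (by
  have := Fr.w_z
  rwa [h, one_mul, inv_one, mul_one] at this)

theorem w_order : orderOf Fr.w = 3 :=
  haveI : Fact (Nat.Prime 3) := ⟨Nat.prime_three⟩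
  orderOf_eq_prime Fr.w_cube w_ne_one

theorem c_order : orderOf Fr.c = 3 :=
  haveI : Fact (Nat.Prime 3) := ⟨Nat.prime_three⟩
  orderOf_eq_prime Fr.c_cube Fr.c_ne

theorem c_inf_w : zpowers Fr.c ⊓ zpowers Fr.w = ⊥ := by
  rw [eq_bot_iff]
  rintro y ⟨hy, hy'⟩
  refine mem_bot.2 ?_
  by_contra h
  obtain ⟨m, hm⟩ := mem_zpowers_iff.1 (mem_zpowers_symm Nat.prime_three w_order hy' h)
  obtain ⟨n, hn⟩ := mem_zpowers_iff.1 hy
  have hwz : Commute Fr.w S.z := by
    rw [← hm, ← hn]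
    exact ((show Commute Fr.c S.z from Fr.c_z).zpow_left n).zpow_left m
  obtain ⟨-, -, -, h4⟩ := Fr.four.uz_ne
  exact h4 ((mul_inv_eq_iff_eq_mul.2 hwz.eq).symm.trans Fr.w_z)

theorem card_cw : Nat.card ↥(zpowers Fr.c ⊔ zpowers Fr.w) = 9 := by
  rw [CfsgLib.Small.card_sup_of_normalizes ?_ c_inf_w, Nat.card_zpowers, Nat.card_zpowers, c_order,
    w_order]
  rw [zpowers_le, mem_normalizer_iff]
  intro y
  have hc : Commute Fr.w Fr.c := Fr.c_w.symm
  constructor
  · intro hy
    obtain ⟨n, rfl⟩ := mem_zpowers_iff.1 hy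
    rw [(hc.zpow_right n).eq, mul_inv_cancel_right]
    exact zpow_mem (mem_zpowers _) n
  · intro hy
    obtain ⟨n, hn⟩ := mem_zpowers_iff.1 hy
    refine mem_zpowers_iff.2 ⟨n, ?_⟩
    apply (MulAut.conj Fr.w).injective
    show Fr.w * Fr.c ^ n * Fr.w⁻¹ = Fr.w * y * Fr.w⁻¹
    rw [(hc.zpow_right n).eq, mul_inv_cancel_right, hn]

include X in
theorem Central.three_w : Nat.card (centralizer ({Fr.w} : Set G)) = 36 ∧
    ∀ y : G, y * Fr.w = Fr.w * y →
      ∃ i : Fin 3, ∃ r ∈ Fr.R, ∃ j : Fin 3, y = Fr.c ^ i.val * r * Fr.w ^ j.val := by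
  classical
  haveI : Fact (Nat.Prime 5) := ⟨by norm_num⟩
  obtain ⟨e⟩ := X.iso
  have hw1 : Fr.w ≠ 1 := w_ne_one
  have hwK := X.w_mem
  rcases quot_cases (p := 3) Nat.prime_three (by norm_num) Fr.R (x := Fr.w) w_order Fr.t_mem_R
    Fr.t_ne_one Fr.card_R (fun r hr => Fr.R_sq hr) (fun r hr => Fr.R_w hr) Fr.c_cube Fr.c_w
    (fun r hr => Fr.c_R hr) Fr.c_not_H
    (fun y hyw hyt => X.hH hwK e (fun b hb => (a5_centralizer_three (e ⟨Fr.w, hwK⟩)
      (by rw [← map_pow, map_eq_one_iff e e.injective]; exact Subtype.ext Fr.w_cube)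
      (fun h => hw1 (congrArg Subtype.val ((map_eq_one_iff e e.injective).1 h)))
      b hb).elim fun i hi => ⟨i.val, hi⟩) y hyw hyt) with h | ⟨π, hπ, hker⟩
  · refine ⟨le_antisymm ?_ ?_, h⟩
    · let F : Fin 3 × Fr.R × Fin 3 → G := fun p => Fr.c ^ p.1.val * (p.2.1 : G) * Fr.w ^ p.2.2.val
      have hsub : ∀ y : centralizer ({Fr.w} : Set G), ∃ p, F p = (y : G) := by
        rintro ⟨y, hy⟩
        obtain ⟨i, r, hr, j, he⟩ := h y (mem_centralizer_singleton_iff.1 hy)
        exact ⟨(i, ⟨r, hr⟩, j), he.symm⟩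
      choose g hg using hsub
      have := Nat.card_le_card_of_injective g fun a b e =>
        Subtype.ext (by rw [← hg a, ← hg b, e])
      rwa [Nat.card_prod, Nat.card_prod, Fr.card_R, Nat.card_fin] at this
    · refine Nat.le_of_dvd Nat.card_pos (Nat.Coprime.mul_dvd_of_dvd_of_dvd
        (m := 4) (n := 9) (by norm_num) ?_ ?_)
      · rw [← Fr.card_R]
        exact Subgroup.card_dvd_of_le fun y hy => mem_centralizer_singleton_iff.2 (Fr.R_w hy)
      · rw [← card_cw (Fr := Fr)]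
        exact Subgroup.card_dvd_of_le (sup_le (zpowers_le.2 (mem_centralizer_singleton_iff.2 Fr.c_w))
          (zpowers_le.2 (mem_centralizer_singleton_iff.2 rfl)))
  · exfalso
    have h5 : 5 ∣ Nat.card (centralizer ({Fr.w} : Set G)) := by
      have e1 := Subgroup.card_dvd_of_surjective π hπ
      rw [nat_card_alternatingGroup, Nat.card_fin] at e1
      exact Dvd.dvd.trans (by decide) e1
    obtain ⟨⟨y, hyw⟩, hy⟩ := exists_prime_orderOf_dvd_card' 5 h5
    rw [Subgroup.orderOf_mk] at hy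
    have hyw' : y * Fr.w = Fr.w * y := mem_centralizer_singleton_iff.1 hyw
    obtain ⟨f, hf, hfo⟩ := X.exists_five
    obtain ⟨P, hP⟩ := (IsPGroup.of_card (p := 5) (n := 1)
      (show Nat.card (zpowers f) = 5 ^ 1 by rw [Nat.card_zpowers, hfo, pow_one])).exists_le_sylow
    obtain ⟨g, hgP, hgo, hgz⟩ := X.exists_fixZ P
    obtain ⟨R, hR⟩ := (IsPGroup.of_card (p := 5) (n := 1)
      (show Nat.card (zpowers y) = 5 ^ 1 by rw [Nat.card_zpowers, hy, pow_one])).exists_le_sylow
    obtain ⟨u, hu⟩ := MulAction.exists_smul_eq G R P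
    have hyP : u * y * u⁻¹ ∈ (P : Subgroup G) := by
      rw [← hu, CfsgLib.Small.mem_smul_sylow]
      have : u⁻¹ * (u * y * u⁻¹) * u = y := by simp [mul_assoc]
      rw [this]
      exact hR (mem_zpowers y)
    have hy1 : y ≠ 1 := fun h => by rw [h] at hy; simp at hy
    obtain ⟨v, hv⟩ := X.five_classes hf hfo P (hP (mem_zpowers f)) hgP hgo hgz hyP
      fun h => hy1 (conj_eq_one_iff.1 h)
    have hvy1 : v * (u * y * u⁻¹) * v⁻¹ ≠ 1 := fun h =>
      hy1 (conj_eq_one_iff.1 (conj_eq_one_iff.1 h))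
    set w' := (v * u) * Fr.w * (v * u)⁻¹ with hw'
    have hw'o : orderOf w' = 3 := by
      rw [← w_order (Fr := Fr)]
      exact (SemiconjBy.orderOf_eq (v * u) (by simp [SemiconjBy, hw', mul_assoc])).symm
    have hcomm : ∀ a : G, orderOf a = 5 → v * (u * y * u⁻¹) * v⁻¹ ∈ zpowers a → w' * a = a * w' := by
      intro a ha hm
      obtain ⟨n, hn⟩ := mem_zpowers_iff.1 (mem_zpowers_symm (by norm_num) ha hm hvy1)
      have h1 : Commute w' (v * (u * y * u⁻¹) * v⁻¹) := by
        show w' * (v * (u * y * u⁻¹) * v⁻¹) = v * (u * y * u⁻¹) * v⁻¹ * w'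
        have e1 : v * (u * y * u⁻¹) * v⁻¹ = (v * u) * y * (v * u)⁻¹ := by simp [mul_assoc]
        rw [e1, hw', ← Four.conj_mul', ← Four.conj_mul', hyw']
      rw [← hn]
      exact (h1.zpow_right n).eq
    rcases hv with h | h
    · -- `w'` commutes with `f`, so it is fused to `c`
      have hwf := hcomm f hfo h
      obtain ⟨σ, hσ, hσker, -⟩ := X.five_quot hf hfo
      have h3 : ∀ a : G, a ∈ zpowers f → a ^ 3 = 1 → a = 1 := by
        intro a ha h3
        obtain ⟨n, rfl⟩ := mem_zpowers_iff.1 ha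
        have h5 : (f ^ n) ^ 5 = 1 := by
          rw [← zpow_natCast, ← zpow_mul, mul_comm, zpow_mul, zpow_natCast, ← hfo,
            pow_orderOf_eq_one, one_zpow]
        exact orderOf_eq_one_iff.1 (Nat.eq_one_of_dvd_one (by
          simpa using Nat.dvd_gcd (orderOf_dvd_of_pow_eq_one h3) (orderOf_dvd_of_pow_eq_one h5)))
      let wM : centralizer ({f} : Set G) := ⟨w', mem_centralizer_singleton_iff.2 hwf⟩
      let cM : centralizer ({f} : Set G) := ⟨Fr.c, mem_centralizer_singleton_iff.2 (X.c_K hf)⟩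
      have hw3 : w' ^ 3 = 1 := by rw [← hw'o, pow_orderOf_eq_one]
      have hw'1 : w' ≠ 1 := fun h => by rw [h] at hw'o; simp at hw'o
      obtain ⟨a, ha⟩ := a5_conj_three (σ wM) (σ cM)
        (by rw [← map_pow, show wM ^ 3 = 1 from Subtype.ext hw3, map_one])
        (fun h => hw'1 (h3 _ ((hσker wM).1 h) hw3))
        (by rw [← map_pow, show cM ^ 3 = 1 from Subtype.ext Fr.c_cube, map_one])
        (fun h => Fr.c_ne (h3 _ ((hσker cM).1 h) Fr.c_cube))
      obtain ⟨m, rfl⟩ := hσ a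
      have hq : σ (m * wM * m⁻¹ * cM⁻¹) = 1 := by
        rw [map_mul, map_mul, map_mul, map_inv, map_inv, ha, mul_inv_cancel]
      have hq' : (m : G) * w' * (m : G)⁻¹ * Fr.c⁻¹ ∈ zpowers f := (hσker _).1 hq
      have hqc : Commute ((m : G) * w' * (m : G)⁻¹ * Fr.c⁻¹) Fr.c := by
        obtain ⟨n, hn⟩ := mem_zpowers_iff.1 hq'
        rw [← hn]
        exact ((show Commute Fr.c f from X.c_K hf).symm).zpow_left n
      have hq3 : ((m : G) * w' * (m : G)⁻¹ * Fr.c⁻¹ * Fr.c) ^ 3 = 1 := by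
        rw [inv_mul_cancel_right, conj_pow, hw3, mul_one, mul_inv_cancel]
      rw [hqc.mul_pow, Fr.c_cube, mul_one] at hq3
      have hcw : (m : G) * (v * u) * Fr.w * ((m : G) * (v * u))⁻¹ = Fr.c := by
        rw [show (m : G) * (v * u) * Fr.w * ((m : G) * (v * u))⁻¹ = (m : G) * w' * (m : G)⁻¹ by
          simp [hw', mul_assoc]]
        exact mul_inv_eq_one.1 (h3 _ hq' hq3)
      set q := (m : G) * (v * u) with hqdef
      have hsw : q⁻¹ * S.z * q * Fr.w = Fr.w * (q⁻¹ * S.z * q) := by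
        calc q⁻¹ * S.z * q * Fr.w = q⁻¹ * (S.z * (q * Fr.w * q⁻¹)) * q := by simp [mul_assoc]
          _ = q⁻¹ * ((q * Fr.w * q⁻¹) * S.z) * q := by rw [hcw, ← Fr.c_z]
          _ = _ := by simp [mul_assoc]
      have hconj : IsConj S.z (q⁻¹ * S.z * q) := isConj_iff.2 ⟨q⁻¹, by rw [inv_inv]⟩
      exact Fr.t_not_conj (hconj.trans (invol_conj_of_quot (p := 3) w_order (by decide) π hπ hker
        Fr.t_sq' Fr.t_ne_one (Fr.R_w Fr.t_mem_R) (JTwoOrder.sq_of_isConj S.ord hconj)
        (JTwoOrder.not_isConj_one S.ord hconj) hsw))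
    · exact X.fixZ_small hgo hgz (Or.inl hw'o) (hcomm g hgo h)

theorem Central.conj_w_of_mem {x : G} (hx : x ∈ X.K) (h3 : orderOf x = 3) : IsConj x Fr.w := by
  obtain ⟨e⟩ := X.iso
  have hx1 : x ≠ 1 := fun h => by rw [h] at h3; simp at h3
  obtain ⟨a, ha⟩ := a5_conj_three (e ⟨x, hx⟩) (e ⟨Fr.w, X.w_mem⟩)
    (by rw [← map_pow, map_eq_one_iff e e.injective]; exact Subtype.ext (by
      show x ^ 3 = 1
      rw [← h3, pow_orderOf_eq_one]))
    (fun h => hx1 (congrArg Subtype.val ((map_eq_one_iff e e.injective).1 h)))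
    (by rw [← map_pow, map_eq_one_iff e e.injective]; exact Subtype.ext Fr.w_cube)
    (fun h => w_ne_one (congrArg Subtype.val ((map_eq_one_iff e e.injective).1 h)))
  obtain ⟨k, rfl⟩ := e.surjective a
  rw [← map_inv, ← map_mul, ← map_mul] at ha
  exact isConj_iff.2 ⟨k, congrArg Subtype.val (e.injective ha)⟩

include X in
theorem Central.c_not_w : ¬ IsConj Fr.c Fr.w := by
  intro h
  obtain ⟨v, hv⟩ := isConj_iff.1 h
  obtain ⟨f, hf, hfo⟩ := X.exists_five
  have hm : v * f * v⁻¹ ∈ centralizer ({Fr.w} : Set G) := by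
    refine mem_centralizer_singleton_iff.2 ?_
    rw [← hv, ← Four.conj_mul', ← Four.conj_mul', X.c_K hf]
  have := orderOf_dvd_natCard (⟨_, hm⟩ : centralizer ({Fr.w} : Set G))
  rw [Subgroup.orderOf_mk, X.three_w.1,
    show orderOf (v * f * v⁻¹) = 5 by
      rw [← hfo]; exact (SemiconjBy.orderOf_eq v (by simp [SemiconjBy])).symm] at this
  norm_num at this

include X in
/-- Involutions commuting with `c` are conjugate to `z`. -/
theorem Central.three_invol {s : G} (hs : orderOf s = 2) (hsc : s * Fr.c = Fr.c * s) :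
    IsConj s S.z := by
  refine (S.classes Fr.t_sq Fr.t_not s hs).resolve_right fun h => ?_
  obtain ⟨v, hv⟩ := isConj_iff.1 h
  have h3 : orderOf (v * Fr.c * v⁻¹) = 3 := by
    rw [← c_order (Fr := Fr)]; exact (SemiconjBy.orderOf_eq v (by simp [SemiconjBy])).symm
  have hH : v * Fr.c * v⁻¹ ∈ Fr.H := by
    refine mem_centralizer_singleton_iff.2 ?_
    rw [← hv, ← Four.conj_mul', ← Four.conj_mul', hsc]
  have hK := X.odd_mem hH (n := 3) (by decide) (by rw [← h3, pow_orderOf_eq_one])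
  exact X.c_not_w ((isConj_iff.2 ⟨v, rfl⟩).trans (X.conj_w_of_mem hK h3))

/-- An element of order three of `C(z)` fixes at most eight elements of `Q`. -/
theorem three_fix_card {x : S.C} (hx : x ^ 3 = 1) (hx1 : x ≠ 1) :
    Nat.card {q : S.Q // S.cn x q = q} = 2 ∨ Nat.card {q : S.Q // S.cn x q = q} = 8 := by
  haveI : Fact (Nat.Prime 3) := ⟨Nat.prime_three⟩
  let F : Subgroup S.Q := (S.cn x).toMonoidHom.eqLocus (MonoidHom.id S.Q)
  have hF : Nat.card {q : S.Q // S.cn x q = q} = Nat.card F := rfl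
  have hm := card_fixed_aut_modEq (p := 3) (φ := S.cn x) (by rw [← map_pow, hx, map_one])
    (P := fun _ => True) fun _ _ => trivial
  rw [Nat.card_congr (Equiv.subtypeEquivRight fun q => Iff.of_eq (true_and _)),
    (Nat.card_congr (Equiv.subtypeUnivEquiv fun (_ : S.Q) => trivial)).trans S.card] at hm
  rw [hF] at hm ⊢
  have hdvd : Nat.card F ∣ 2 ^ 5 := by simpa [S.card] using card_subgroup_dvd_card F
  obtain ⟨k, hk5, hk⟩ := (Nat.dvd_prime_pow Nat.prime_two).1 hdvd
  have hm' : 2 ^ k % 3 = 32 % 3 := hk ▸ hm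
  rw [hk]
  obtain rfl | rfl | rfl : k = 1 ∨ k = 3 ∨ k = 5 := by interval_cases k <;> simp at hm' ⊢
  · exact Or.inl rfl
  · exact Or.inr rfl
  · exfalso
    have htop : F = ⊤ := Subgroup.eq_top_of_card_eq _ (by rw [hk, S.card]; rfl)
    have hxQ : x ∈ S.Q := S.cent fun q hq => by
      have h : S.cn x ⟨q, hq⟩ = ⟨q, hq⟩ := (htop ▸ mem_top (⟨q, hq⟩ : S.Q) : (⟨q, hq⟩ : S.Q) ∈ F)
      have h' : x * q * x⁻¹ = q := (S.cn_apply x ⟨q, hq⟩).symm.trans (congrArg Subtype.val h)
      exact (mul_inv_eq_iff_eq_mul.1 h').symm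
    have h4 : x ^ 4 = 1 := congrArg Subtype.val (S.pow_four ⟨x, hxQ⟩)
    rw [pow_succ, hx, one_mul] at h4
    exact hx1 h4

/-- An element of order three of `C(z)` has centraliser of order at most 24 there. -/
theorem card_fix_three {x : G} (hx : orderOf x = 3) (hxz : x * S.z = S.z * x) :
    Nat.card ↥(S.C ⊓ centralizer ({x} : Set G)) ≤ 24 := by
  classical
  let xC : S.C := ⟨x, (S.mem_C x).2 hxz⟩
  have hx3 : xC ^ 3 = 1 := Subtype.ext (by
    show x ^ 3 = 1
    rw [← hx, pow_orderOf_eq_one])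
  have hx1 : xC ≠ 1 := fun h => by
    rw [show x = 1 from congrArg Subtype.val h] at hx
    simp at hx
  have hxQ : S.proj xC ≠ 1 := fun h => hx1 (by
    have h4 : xC ^ 4 = 1 := congrArg Subtype.val (S.pow_four ⟨xC, (S.proj_eq_one _).1 h⟩)
    rwa [pow_succ, hx3, one_mul] at h4)
  let F : Fin 3 × {q : S.Q // S.cn xC q = q} → G := fun p => x ^ p.1.val * ((p.2.1 : S.C) : G)
  have hsub : ∀ y : ↥(S.C ⊓ centralizer ({x} : Set G)), ∃ p, F p = (y : G) := by
    rintro ⟨y, hyC, hyx⟩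
    have hcomm : (⟨y, hyC⟩ : S.C) * xC = xC * ⟨y, hyC⟩ :=
      Subtype.ext (mem_centralizer_singleton_iff.1 hyx :)
    obtain ⟨i, hi⟩ := a5_centralizer_three (S.proj xC) (by rw [← map_pow, hx3, map_one]) hxQ
      (S.proj ⟨y, hyC⟩) (by rw [← map_mul, ← map_mul, hcomm])
    have hq : (xC ^ i.val)⁻¹ * ⟨y, hyC⟩ ∈ S.Q := by
      rw [← S.proj_eq_one, map_mul, map_inv, map_pow, hi, inv_mul_cancel]
    refine ⟨(i, ⟨⟨_, hq⟩, Subtype.ext ?_⟩), mul_inv_cancel_left _ _⟩
    rw [S.cn_apply]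
    show xC * ((xC ^ i.val)⁻¹ * ⟨y, hyC⟩) * xC⁻¹ = (xC ^ i.val)⁻¹ * ⟨y, hyC⟩
    rw [← mul_assoc, ((Commute.refl xC).pow_right i.val).inv_right.eq, mul_assoc _ xC,
      ← hcomm, mul_assoc, mul_assoc, mul_inv_cancel, mul_one]
  choose k hk using hsub
  have := Nat.card_le_card_of_injective k fun a b e => Subtype.ext (by rw [← hk a, ← hk b, e])
  rw [Nat.card_prod, Nat.card_fin] at this
  rcases three_fix_card hx3 hx1 with h | h <;> omega

end Frame

end CfsgLib.Small.JTwoType
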