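import Cfsg.Agent.Lib.Small.Count
import Cfsg.Agent.Lib.Techniques.SylIn
import Cfsg.Agent.Lib.Chars.Irr
import Cfsg.Agent.Lib.Base.MinimalNormal
import Cfsg.Agent.S0206
import Cfsg.Agent.S1012

/-!
# The simple groups of order 168: Sylow subgroups, element classes, maximal subgroups
-/

set_option autoImplicit false

open Subgroup
open scoped commutatorElement
open CfsgLib.Techniques (cj mem_cj conj_mem_cj cj_mono cj_mul cj_inv_cj cj_cj_inv card_cj
  cj_normalizer)

namespace CfsgLib.Small

section generic

variable {G : Type*} [Group G] [Finite G]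

/-- If Sylow `p`-subgroups have order `p` there are `n_p (p - 1)` elements of order `p`. -/
theorem card_orderOf_eq_prime {p : ℕ} [hp : Fact p.Prime]
    (hP : ∀ P : Sylow p G, Nat.card (P : Subgroup G) = p) :
    Nat.card {g : G // orderOf g = p} = Nat.card (Sylow p G) * (p - 1) := by
  classical
  have : Fintype G := Fintype.ofFinite G
  have : Fintype (Sylow p G) := Fintype.ofFinite _
  have hord : ∀ (P : Sylow p G) (g : (P : Subgroup G)), g ≠ 1 → orderOf (g : G) = p := by
    intro P g hg
    rw [Subgroup.orderOf_coe]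
    rcases (Nat.dvd_prime hp.out).mp ((orderOf_dvd_natCard g).trans (hP P).dvd) with h | h
    · exact absurd (orderOf_eq_one_iff.mp h) hg
    · exact h
  have hgen : ∀ (P : Sylow p G) (g : (P : Subgroup G)), g ≠ 1 →
      zpowers (g : G) = (P : Subgroup G) := fun P g hg =>
    Subgroup.eq_of_le_of_card_ge (zpowers_le.mpr g.2)
      (by rw [Nat.card_zpowers, hord P g hg, hP P])
  let f : (Σ P : Sylow p G, {g : (P : Subgroup G) // g ≠ 1}) → {g : G // orderOf g = p} :=
    fun x => ⟨(x.2.1 : G), hord x.1 x.2.1 x.2.2⟩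
  have hf : Function.Bijective f := by
    constructor
    · rintro ⟨P, g, hg⟩ ⟨Q, k, hk⟩ e
      have e' : (g : G) = k := congrArg Subtype.val e
      obtain rfl : P = Q := Sylow.ext (by rw [← hgen P g hg, e', hgen Q k hk])
      obtain rfl : g = k := Subtype.ext e'
      rfl
    · rintro ⟨g, hg⟩
      obtain ⟨P, hPle⟩ := (IsPGroup.of_card (p := p) (n := 1)
        (show Nat.card (zpowers g) = p ^ 1 by rw [Nat.card_zpowers, hg, pow_one])).exists_le_sylow
      refine ⟨⟨P, ⟨g, hPle (mem_zpowers g)⟩, fun e => ?_⟩, rfl⟩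
      have h1 : g = 1 := congrArg Subtype.val e
      rw [h1, orderOf_one] at hg
      exact hp.out.one_lt.ne hg
  rw [← Nat.card_eq_of_bijective f hf, Nat.card_sigma]
  have hfib : ∀ P : Sylow p G, Nat.card {g : (P : Subgroup G) // g ≠ 1} = p - 1 := by
    intro P
    rw [Nat.card_eq_fintype_card, Fintype.card_subtype_compl, Fintype.card_subtype_eq,
      ← Nat.card_eq_fintype_card, hP P]
  rw [Finset.sum_congr rfl (fun P _ => hfib P), Finset.sum_const, Finset.card_univ,
    smul_eq_mul, ← Nat.card_eq_fintype_card]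

/-- A class that is as large as the set of elements of the same order exhausts it. -/
theorem isConj_of_orderOf_count {n : ℕ} {x : G} (hx : orderOf x = n)
    (hc : Nat.card {g : G // orderOf g = n} * Nat.card (centralizer ({x} : Set G)) ≤ Nat.card G)
    {y : G} (hy : orderOf y = n) : IsConj x y := by
  classical
  have hord : ∀ g : G, IsConj x g → orderOf g = n := by
    intro g hg
    obtain ⟨c, rfl⟩ := isConj_iff.mp hg
    rw [← hx]
    exact MulEquiv.orderOf_eq (MulAut.conj c) x
  let f : {g : G // IsConj x g} → {g : G // orderOf g = n} := fun g => ⟨g.1, hord g.1 g.2⟩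
  have hf : Function.Injective f := fun a b e => Subtype.ext (congrArg (fun z => z.1) e)
  have hle : Nat.card {g : G // orderOf g = n} ≤ Nat.card {g : G // IsConj x g} := by
    rw [← Chars.card_isConj_mul_card_centralizer x] at hc
    exact Nat.le_of_mul_le_mul_right hc Nat.card_pos
  obtain ⟨⟨g, hg⟩, e⟩ := (hf.bijective_of_nat_card_le hle).2 ⟨y, hy⟩
  obtain rfl : g = y := congrArg Subtype.val e
  exact hg

theorem normal_le_normalizer_of_half {T U : Subgroup G} (hUT : U ≤ T)
    (hc : 2 * Nat.card U = Nat.card T) : T ≤ normalizer (U : Set G) := by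
  have h2 : (U.subgroupOf T).index = 2 := by
    have h1 := (U.subgroupOf T).card_mul_index
    rw [Nat.card_congr (subgroupOfEquivOfLe hUT).toEquiv] at h1
    have hpos : 0 < Nat.card U := Nat.card_pos
    nlinarith
  exact (normal_subgroupOf_iff_le_normalizer hUT).mp (normal_of_index_eq_two h2)

end generic

section order168

variable {G : Type*} [Group G] [Finite G] [IsSimpleGroup G] (h : Nat.card G = 168)

include h

theorem not_comm168 : ¬ IsMulCommutative G :=
  not_isMulCommutative_of_card (h ▸ by norm_num)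

theorem card_sylow7 (P : Sylow 7 G) : Nat.card (P : Subgroup G) = 7 := by
  have := Fact.mk (show Nat.Prime 7 by norm_num)
  simpa using card_sylow_eq (p := 7) 1 24 (by omega) (by omega) P

theorem card_sylow3 (P : Sylow 3 G) : Nat.card (P : Subgroup G) = 3 := by
  have := Fact.mk Nat.prime_three
  simpa using card_sylow_eq (p := 3) 1 56 (by omega) (by omega) P

theorem card_sylow2 (P : Sylow 2 G) : Nat.card (P : Subgroup G) = 8 := by
  have := Fact.mk Nat.prime_two
  simpa using card_sylow_eq (p := 2) 3 21 (by omega) (by omega) P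

theorem n7 : Nat.card (Sylow 7 G) = 8 := by
  have := Fact.mk (show Nat.Prime 7 by norm_num)
  have hd : Nat.card (Sylow 7 G) ∣ 24 := card_sylow_dvd (p := 7) 1 24 (by omega) (by omega)
  have hm : Nat.card (Sylow 7 G) % 7 = 1 := card_sylow_modEq_one 7 G
  have h1 := one_lt_card_sylow (not_comm168 h) (p := 7) (by omega)
  have := Nat.le_of_dvd (by norm_num) hd
  interval_cases hk : Nat.card (Sylow 7 G) <;> omega

theorem centralizer7 (P : Sylow 7 G) :
    centralizer ((P : Subgroup G) : Set G) = (P : Subgroup G) := by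
  have := Fact.mk (show Nat.Prime 7 by norm_num)
  exact (sylow_succ (not_comm168 h) P (card_sylow7 h P) (n7 h)).1

theorem normalizer7 (P : Sylow 7 G) :
    Nat.card (normalizer ((P : Subgroup G) : Set G)) = 21 := by
  have := Fact.mk (show Nat.Prime 7 by norm_num)
  have h1 := card_normalizer_mul P
  rw [n7 h, h] at h1
  omega

theorem normalizer7_not_comm (P : Sylow 7 G) :
    ¬ IsMulCommutative (normalizer ((P : Subgroup G) : Set G)) := by
  intro hc
  have hle : normalizer ((P : Subgroup G) : Set G) ≤ centralizer ((P : Subgroup G) : Set G) :=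
    fun x hx => mem_centralizer_iff.mpr fun y hy =>
      congrArg Subtype.val (hc.is_comm.comm ⟨y, le_normalizer hy⟩ ⟨x, hx⟩)
  have h' := Subgroup.card_le_of_le hle
  rw [centralizer7 h P, card_sylow7 h P, normalizer7 h P] at h'
  omega

theorem n3 : Nat.card (Sylow 3 G) = 28 := by
  have := Fact.mk (show Nat.Prime 7 by norm_num)
  have := Fact.mk Nat.prime_three
  have hG := not_comm168 h
  have hd : Nat.card (Sylow 3 G) ∣ 56 := card_sylow_dvd (p := 3) 1 56 (by omega) (by omega)
  have hm : Nat.card (Sylow 3 G) % 3 = 1 := card_sylow_modEq_one 3 G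
  have h1 := one_lt_card_sylow hG (p := 3) (by omega)
  have hf : 2 * Nat.card G ∣ (Nat.card (Sylow 3 G)).factorial :=
    two_mul_card_dvd_factorial_sylow hG (by omega)
  have := Nat.le_of_dvd (by norm_num) hd
  have h3 : Nat.card (Sylow 3 G) = 7 ∨ Nat.card (Sylow 3 G) = 28 := by
    interval_cases hk : Nat.card (Sylow 3 G) <;> first | omega | (rw [h] at hf; norm_num at hf)
  refine h3.resolve_left fun h7 => ?_
  -- otherwise every element of order 3 would normalise every Sylow 7-subgroup
  obtain ⟨y, hy⟩ := exists_prime_orderOf_dvd_card' (G := G) 3 (by omega)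
  have key : ∀ Q : Sylow 7 G, y ∈ normalizer ((Q : Subgroup G) : Set G) := by
    intro Q
    set N := normalizer ((Q : Subgroup G) : Set G) with hN
    have hNc : Nat.card N = 21 := normalizer7 h Q
    have hR : ∀ R : Sylow 3 N, Nat.card (R : Subgroup N) = 3 := fun R => by
      simpa using card_sylow_eq (p := 3) 1 7 (by omega) (by omega) R
    have hall : ∀ R : Sylow 3 G, Nat.card (R : Subgroup G) = 3 := card_sylow3 h
    have hd7 : Nat.card (Sylow 3 N) ∣ 7 := card_sylow_dvd (p := 3) 1 7 (by omega) (by omega)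
    have hsev : Nat.card (Sylow 3 N) = 7 := by
      rcases (Nat.dvd_prime (by norm_num)).mp hd7 with hk | hk
      · exfalso
        have : Subsingleton (Sylow 3 N) := (Nat.card_eq_one_iff_unique.mp hk).1
        obtain ⟨R⟩ := (inferInstance : Nonempty (Sylow 3 N))
        have hRn : (R : Subgroup N).Normal := Sylow.normal_of_subsingleton R
        have hPn : ((Q : Subgroup G).subgroupOf N).Normal :=
          (normal_subgroupOf_iff_le_normalizer le_normalizer).mpr le_rfl
        have hdis : Disjoint (R : Subgroup N) ((Q : Subgroup G).subgroupOf N) := by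
          refine disjoint_iff.mpr (inf_eq_bot_of_coprime ?_)
          rw [hR, Nat.card_congr (subgroupOfEquivOfLe le_normalizer).toEquiv, card_sylow7 h Q]
          norm_num
        obtain ⟨r, hr⟩ := exists_prime_orderOf_dvd_card' (G := (R : Subgroup N)) 3 (by rw [hR])
        have hrC : ((r : N) : G) ∈ centralizer ((Q : Subgroup G) : Set G) := by
          refine mem_centralizer_iff.mpr fun q hq => ?_
          have := commute_of_normal_of_disjoint _ _ hRn hPn hdis (r : N) ⟨q, le_normalizer hq⟩
            r.2 hq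
          exact congrArg Subtype.val this.symm.eq
        rw [centralizer7 h Q] at hrC
        have := Subgroup.orderOf_dvd_natCard _ hrC
        rw [card_sylow7 h Q, orderOf_coe, orderOf_coe, hr] at this
        omega
      · exact hk
    have e1 := card_orderOf_eq_prime (p := 3) hR
    have e2 := card_orderOf_eq_prime (p := 3) hall
    rw [hsev] at e1
    rw [h7] at e2
    let f : {g : N // orderOf g = 3} → {g : G // orderOf g = 3} :=
      fun g => ⟨(g.1 : G), by rw [orderOf_coe]; exact g.2⟩
    have hf' : Function.Injective f := fun a b e =>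
      Subtype.ext (Subtype.ext (congrArg (fun z => z.1) e))
    obtain ⟨g, hg⟩ := (hf'.bijective_of_nat_card_le (by omega)).2 ⟨y, hy⟩
    have hg' : ((g.1 : N) : G) = y := congrArg Subtype.val hg
    exact hg' ▸ g.1.2
  have hy1 : y = 1 := by
    apply toPermHom_sylow_injective hG (p := 7) (by omega)
    rw [map_one]
    ext Q : 1
    exact Sylow.smul_eq_iff_mem_normalizer.mpr (key Q)
  rw [hy1, orderOf_one] at hy
  omega

theorem normalizer3 (P : Sylow 3 G) :
    Nat.card (normalizer ((P : Subgroup G) : Set G)) = 6 := by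
  have := Fact.mk Nat.prime_three
  have h1 := card_normalizer_mul P
  rw [n3 h, h] at h1
  omega

theorem centralizer3 (P : Sylow 3 G) :
    Nat.card (centralizer ((P : Subgroup G) : Set G)) = 3 := by
  have := Fact.mk Nat.prime_three
  obtain ⟨e, he1, he2, he3⟩ :=
    exists_normalizer_centralizer (not_comm168 h) P (card_sylow3 h P)
  rw [normalizer3 h P] at he3
  have := Nat.le_of_dvd (by norm_num) he2
  interval_cases e
  omega

/-- Centralisers of elements of order 3 or 7 are as small as possible. -/
theorem card_centralizer_orderOf {p : ℕ} (hp : p = 3 ∨ p = 7) {y : G} (hy : orderOf y = p) :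
    Nat.card (centralizer ({y} : Set G)) = p := by
  have hpp : p.Prime := by rcases hp with rfl | rfl <;> norm_num
  have := Fact.mk hpp
  obtain ⟨P, hP⟩ := (IsPGroup.of_card (p := p) (n := 1)
    (show Nat.card (zpowers y) = p ^ 1 by rw [Nat.card_zpowers, hy, pow_one])).exists_le_sylow
  have hPc : Nat.card (P : Subgroup G) = p := by
    rcases hp with rfl | rfl
    · exact card_sylow3 h P
    · exact card_sylow7 h P
  have hC : Nat.card (centralizer ((P : Subgroup G) : Set G)) = p := by
    rcases hp with rfl | rfl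
    · exact centralizer3 h P
    · rw [centralizer7 h P, hPc]
  have hgen : zpowers y = (P : Subgroup G) :=
    Subgroup.eq_of_le_of_card_ge hP (by rw [Nat.card_zpowers, hy, hPc])
  have hle : centralizer ({y} : Set G) ≤ centralizer ((P : Subgroup G) : Set G) := by
    intro c hc
    rw [← hgen, mem_centralizer_iff]
    rintro z ⟨k, rfl⟩
    exact ((Commute.symm (mem_centralizer_singleton_iff.mp hc)).zpow_left k).eq
  have hge : zpowers y ≤ centralizer ({y} : Set G) :=
    zpowers_le.mpr (mem_centralizer_singleton_iff.mpr rfl)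
  refine le_antisymm (hC ▸ Subgroup.card_le_of_le hle) ?_
  have := Subgroup.card_le_of_le hge
  rwa [Nat.card_zpowers, hy] at this

/-- The centraliser of an involution is a 2-group. -/
theorem card_centralizer_inv {z : G} (hz : orderOf z = 2) :
    Nat.card (centralizer ({z} : Set G)) ∣ 8 := by
  set C := centralizer ({z} : Set G)
  have hcop : ∀ p : ℕ, p = 3 ∨ p = 7 → ¬ p ∣ Nat.card C := by
    intro p hp hd
    have := Fact.mk (show p.Prime by rcases hp with rfl | rfl <;> norm_num)
    obtain ⟨y, hy⟩ := exists_prime_orderOf_dvd_card' (G := C) p hd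
    have hy' : orderOf (y : G) = p := by rw [orderOf_coe, hy]
    have hzy : z ∈ centralizer ({(y : G)} : Set G) :=
      mem_centralizer_singleton_iff.mpr (mem_centralizer_singleton_iff.mp y.2).symm
    have := Subgroup.orderOf_dvd_natCard _ hzy
    rw [card_centralizer_orderOf h hp hy', hz] at this
    rcases hp with rfl | rfl <;> omega
  have hd : Nat.card C ∣ 8 * 21 := by
    simpa [h] using card_subgroup_dvd_card C
  refine Nat.Coprime.dvd_of_dvd_mul_right ?_ hd
  exact ((Nat.prime_three.coprime_iff_not_dvd.mpr (hcop 3 (Or.inl rfl))).symm).mul_right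
    (((show Nat.Prime 7 by norm_num).coprime_iff_not_dvd.mpr (hcop 7 (Or.inr rfl))).symm)

theorem n2 : Nat.card (Sylow 2 G) = 21 := by
  have := Fact.mk Nat.prime_two
  have := Fact.mk Nat.prime_three
  have hG := not_comm168 h
  have hd : Nat.card (Sylow 2 G) ∣ 21 := card_sylow_dvd (p := 2) 3 21 (by omega) (by omega)
  have h1 := one_lt_card_sylow hG (p := 2) (by omega)
  have hf : 2 * Nat.card G ∣ (Nat.card (Sylow 2 G)).factorial :=
    two_mul_card_dvd_factorial_sylow hG (by omega)
  have := Nat.le_of_dvd (by norm_num) hd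
  have h3 : Nat.card (Sylow 2 G) = 7 ∨ Nat.card (Sylow 2 G) = 21 := by
    interval_cases hk : Nat.card (Sylow 2 G) <;> first | omega | (rw [h] at hf; norm_num at hf)
  refine h3.resolve_left fun h7 => ?_
  obtain ⟨T⟩ := (inferInstance : Nonempty (Sylow 2 G))
  set N := normalizer ((T : Subgroup G) : Set G)
  have hNc : Nat.card N = 24 := by
    have : Nat.card N * Nat.card (Sylow 2 G) = Nat.card G := card_normalizer_mul T
    rw [h7, h] at this
    omega
  obtain ⟨R⟩ := (inferInstance : Nonempty (Sylow 3 N))
  set NR := normalizer ((R : Subgroup N) : Set N)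
  have hev : 2 ∣ Nat.card NR := by
    have e : Nat.card NR * Nat.card (Sylow 3 N) = Nat.card N := card_normalizer_mul R
    have hk : Nat.card (Sylow 3 N) ∣ 8 := card_sylow_dvd (p := 3) 1 8 (by omega) (by omega)
    have hk' : Nat.card (Sylow 3 N) % 3 = 1 := card_sylow_modEq_one 3 N
    have := Nat.le_of_dvd (by norm_num) hk
    interval_cases hk'' : Nat.card (Sylow 3 N) <;> omega
  obtain ⟨s, hs⟩ := exists_prime_orderOf_dvd_card' (G := NR) 2 hev
  have hR : Nat.card (R : Subgroup N) = 3 := by
    simpa using card_sylow_eq (p := 3) 1 8 (by omega) (by omega) R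
  obtain ⟨r, hr⟩ := exists_prime_orderOf_dvd_card' (G := (R : Subgroup N)) 3 (by rw [hR])
  have hsG : orderOf ((s : N) : G) = 2 := by rw [orderOf_coe, orderOf_coe, hs]
  have hsT : ((s : N) : G) ∈ (T : Subgroup G) := by
    have hp : IsPGroup 2 (zpowers ((s : N) : G)) :=
      IsPGroup.of_card (n := 1) (by rw [Nat.card_zpowers, hsG, pow_one])
    have hsup := hp.to_sup_of_normal_right' T.isPGroup' (zpowers_le.mpr (s : N).2)
    exact (T.is_maximal' hsup le_sup_right).le
      ((le_sup_left : zpowers ((s : N) : G) ≤ _) (mem_zpowers _))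
  -- the commutator of `s` and `r` lies in `T ∩ R`
  have hc1 : (⁅((s : N) : G), ((r : N) : G)⁆ : G) ∈ (T : Subgroup G) := by
    rw [commutatorElement_def, mul_assoc, mul_assoc]
    refine mul_mem hsT ?_
    rw [← mul_assoc]
    exact ((r : N).2 _).mp (inv_mem hsT)
  have hc2 : ⁅(s : N), (r : N)⁆ ∈ (R : Subgroup N) := by
    rw [commutatorElement_def]
    exact mul_mem ((s.2 (r : N)).mp r.2) (inv_mem r.2)
  have hc : ⁅((s : N) : G), ((r : N) : G)⁆ = 1 := by
    have e : ((⁅(s : N), (r : N)⁆ : N) : G) = ⁅((s : N) : G), ((r : N) : G)⁆ := rfl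
    have d1 := Subgroup.orderOf_dvd_natCard _ hc1
    have d2 := Subgroup.orderOf_dvd_natCard _ hc2
    rw [card_sylow2 h T] at d1
    rw [hR, ← orderOf_coe, e] at d2
    have := Nat.eq_one_of_dvd_coprimes (by norm_num : Nat.Coprime 8 3) d1 d2
    exact orderOf_eq_one_iff.mp this
  have hrC : ((r : N) : G) ∈ centralizer ({((s : N) : G)} : Set G) :=
    mem_centralizer_singleton_iff.mpr (commutatorElement_eq_one_iff_mul_comm.mp hc).symm
  have := (Subgroup.orderOf_dvd_natCard _ hrC).trans (card_centralizer_inv h hsG)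
  rw [orderOf_coe, orderOf_coe, hr] at this
  omega

theorem normalizer2 (T : Sylow 2 G) :
    normalizer ((T : Subgroup G) : Set G) = (T : Subgroup G) := by
  have := Fact.mk Nat.prime_two
  have h1 := card_normalizer_mul T
  rw [n2 h, h] at h1
  exact (Subgroup.eq_of_le_of_card_ge le_normalizer (by rw [card_sylow2 h T]; omega)).symm

theorem sylow2_not_comm (T : Sylow 2 G) :
    ¬ ∀ a ∈ (T : Subgroup G), ∀ b ∈ (T : Subgroup G), a * b = b * a := by
  intro hc
  have := Fact.mk Nat.prime_two
  refine not_normalizer_le_centralizer (not_comm168 h) (by omega) T ?_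
  rw [normalizer2 h T]
  exact fun a ha => mem_centralizer_iff.mpr fun b hb => hc b hb a ha

theorem exists_sylow2_of_invol {z : G} (hz : Nat.card (centralizer ({z} : Set G)) = 8) :
    ∃ S : Sylow 2 G, (S : Subgroup G) = centralizer ({z} : Set G) := by
  have := Fact.mk Nat.prime_two
  obtain ⟨S, hS⟩ := (IsPGroup.of_card (p := 2) (n := 3)
    (show Nat.card (centralizer ({z} : Set G)) = 2 ^ 3 by rw [hz]; norm_num)).exists_le_sylow
  exact ⟨S, (Subgroup.eq_of_le_of_card_ge hS (by rw [hz, card_sylow2 h S])).symm⟩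

theorem card_center_sylow2 (T : Sylow 2 G) : Nat.card (center (T : Subgroup G)) = 2 := by
  have := Fact.mk Nat.prime_two
  have : Nontrivial (T : Subgroup G) := by
    rw [← Finite.one_lt_card_iff_nontrivial, card_sylow2 h T]; norm_num
  have hnt := T.isPGroup'.center_nontrivial
  rw [← Finite.one_lt_card_iff_nontrivial] at hnt
  have hd : Nat.card (center (T : Subgroup G)) ∣ 8 :=
    card_sylow2 h T ▸ card_subgroup_dvd_card _
  have hmi := (center (T : Subgroup G)).card_mul_index
  rw [card_sylow2 h T] at hmi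
  by_contra hne
  apply sylow2_not_comm h T
  have hidx : (center (T : Subgroup G)).index ≤ 2 := by
    have := Nat.le_of_dvd (by norm_num) hd
    interval_cases hk : Nat.card (center (T : Subgroup G)) <;> omega
  have hcyc : IsCyclic ((T : Subgroup G) ⧸ center (T : Subgroup G)) := by
    rw [index_eq_card] at hidx
    have hpos := Nat.card_pos (α := (T : Subgroup G) ⧸ center (T : Subgroup G))
    interval_cases hk : Nat.card ((T : Subgroup G) ⧸ center (T : Subgroup G))
    · have := (Nat.card_eq_one_iff_unique.mp hk).1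
      infer_instance
    · exact isCyclic_of_prime_card hk
  intro a ha b hb
  exact congrArg Subtype.val (commutative_of_cyclic_center_quotient
    (QuotientGroup.mk' (center (T : Subgroup G))) (by rw [QuotientGroup.ker_mk']) ⟨a, ha⟩ ⟨b, hb⟩)

theorem eq_of_central_sylow2 (T : Sylow 2 G) {a b : G} (ha : a ∈ (T : Subgroup G))
    (hb : b ∈ (T : Subgroup G)) (ha1 : a ≠ 1) (hb1 : b ≠ 1)
    (hac : ∀ t ∈ (T : Subgroup G), t * a = a * t)
    (hbc : ∀ t ∈ (T : Subgroup G), t * b = b * t) : a = b := by
  have hz := card_center_sylow2 h T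
  rw [Nat.card_eq_two_iff' (1 : center (T : Subgroup G))] at hz
  obtain ⟨u, _, hu⟩ := hz
  have hmem : ∀ c : G, ∀ hc : c ∈ (T : Subgroup G), (∀ t ∈ (T : Subgroup G), t * c = c * t) →
      (⟨c, hc⟩ : (T : Subgroup G)) ∈ center (T : Subgroup G) := fun c hc hcc =>
    mem_center_iff.mpr fun t => Subtype.ext (hcc t t.2)
  have e1 := hu ⟨_, hmem a ha hac⟩ fun e => ha1 (congrArg (fun z => ((z.1 : _) : G)) e)
  have e2 := hu ⟨_, hmem b hb hbc⟩ fun e => hb1 (congrArg (fun z => ((z.1 : _) : G)) e)
  exact congrArg (fun z => ((z.1 : _) : G)) (e1.trans e2.symm)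

theorem exists_central_invol (T : Sylow 2 G) : ∃ z : G, z ∈ (T : Subgroup G) ∧ orderOf z = 2 ∧
    centralizer ({z} : Set G) = (T : Subgroup G) := by
  have := Fact.mk Nat.prime_two
  obtain ⟨c, hc⟩ := exists_prime_orderOf_dvd_card' (G := center (T : Subgroup G)) 2
    (by rw [card_center_sylow2 h T])
  have ho : orderOf ((c.1 : G)) = 2 := by rw [orderOf_coe, orderOf_coe, hc]
  refine ⟨(c.1 : G), c.1.2, ho, ?_⟩
  have hle : (T : Subgroup G) ≤ centralizer ({(c.1 : G)} : Set G) := fun t ht =>
    mem_centralizer_singleton_iff.mpr (congrArg Subtype.val (mem_center_iff.mp c.2 ⟨t, ht⟩))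
  refine (Subgroup.eq_of_le_of_card_ge hle ?_).symm
  rw [card_sylow2 h T]
  exact Nat.le_of_dvd (by norm_num) (card_centralizer_inv h ho)

theorem centralizer_central (T : Sylow 2 G) {z : G} (hz : z ∈ (T : Subgroup G)) (hz1 : z ≠ 1)
    (hc : ∀ t ∈ (T : Subgroup G), t * z = z * t) :
    centralizer ({z} : Set G) = (T : Subgroup G) := by
  obtain ⟨w, hw, hw2, hwC⟩ := exists_central_invol h T
  have hwc : ∀ t ∈ (T : Subgroup G), t * w = w * t := fun t ht =>
    mem_centralizer_singleton_iff.mp (hwC ▸ ht : t ∈ centralizer ({w} : Set G))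
  have hw1 : w ≠ 1 := fun e => by rw [e, orderOf_one] at hw2; omega
  rw [eq_of_central_sylow2 h T hz hw hz1 hw1 hc hwc, hwC]

theorem orderOf_cases (g : G) :
    orderOf g = 1 ∨ orderOf g = 2 ∨ orderOf g = 3 ∨ orderOf g = 4 ∨ orderOf g = 7 := by
  have := Fact.mk Nat.prime_two
  set n := orderOf g with hn
  have hd : n ∣ 168 := h ▸ orderOf_dvd_natCard g
  by_cases hev : 2 ∣ n
  · have h0 : 0 < n := orderOf_pos g
    have hz : orderOf (g ^ (n / 2)) = 2 := by
      rw [orderOf_pow' _ (by omega), ← hn, Nat.gcd_eq_right (Nat.div_dvd_of_dvd hev)]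
      exact Nat.div_div_self hev h0.ne'
    have hgC : g ∈ centralizer ({g ^ (n / 2)} : Set G) :=
      mem_centralizer_singleton_iff.mpr ((Commute.refl g).pow_right _).eq
    have h8 : n ∣ 8 := (Subgroup.orderOf_dvd_natCard _ hgC).trans (card_centralizer_inv h hz)
    have hne : n ≠ 8 := by
      intro e
      have hp : Nat.card (zpowers g) = 2 ^ 3 := by rw [Nat.card_zpowers, ← hn, e]; norm_num
      obtain ⟨S, hS⟩ := (IsPGroup.of_card hp).exists_le_sylow
      have hS' : zpowers g = (S : Subgroup G) :=
        Subgroup.eq_of_le_of_card_ge hS (by rw [hp, card_sylow2 h S]; norm_num)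
      apply sylow2_not_comm h S
      rw [← hS']
      rintro a ⟨i, rfl⟩ b ⟨j, rfl⟩
      exact zpow_mul_comm g i j
    have := Nat.le_of_dvd (by norm_num) h8
    interval_cases n <;> omega
  · have h21 : n ∣ 21 := by
      refine Nat.Coprime.dvd_of_dvd_mul_left ?_ (show n ∣ 2 ^ 3 * 21 by simpa using hd)
      exact (((Nat.prime_two.coprime_iff_not_dvd.mpr hev).symm).pow_right 3)
    have hne : n ≠ 21 := by
      intro e
      have h3 : orderOf (g ^ 7) = 3 := by
        rw [orderOf_pow' _ (by norm_num), ← hn, e]; norm_num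
      have hgC : g ∈ centralizer ({g ^ 7} : Set G) :=
        mem_centralizer_singleton_iff.mpr ((Commute.refl g).pow_right _).eq
      have := Subgroup.orderOf_dvd_natCard _ hgC
      rw [card_centralizer_orderOf h (Or.inl rfl) h3, ← hn, e] at this
      omega
    have := Nat.le_of_dvd (by norm_num) h21
    interval_cases n <;> omega

theorem count3 : Nat.card {g : G // orderOf g = 3} = 56 := by
  have := Fact.mk Nat.prime_three
  rw [card_orderOf_eq_prime (card_sylow3 h), n3 h]

theorem count7 : Nat.card {g : G // orderOf g = 7} = 48 := by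
  have := Fact.mk (show Nat.Prime 7 by norm_num)
  rw [card_orderOf_eq_prime (card_sylow7 h), n7 h]

theorem count2_add_count4 :
    Nat.card {g : G // orderOf g = 2} + Nat.card {g : G // orderOf g = 4} = 63 := by
  classical
  have : Fintype G := Fintype.ofFinite G
  have hmem : ∀ g ∈ (Finset.univ : Finset G), orderOf g ∈ ({1, 2, 3, 4, 7} : Finset ℕ) := by
    intro g _
    rcases orderOf_cases h g with e | e | e | e | e <;> rw [e] <;> decide
  have key := Finset.card_eq_sum_card_fiberwise hmem
  have hfil : ∀ n : ℕ, (Finset.univ.filter fun g : G => orderOf g = n).card =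
      Nat.card {g : G // orderOf g = n} := fun n => by
    rw [Nat.card_eq_fintype_card, Fintype.card_subtype]
  have h1 : Nat.card {g : G // orderOf g = 1} = 1 := by
    rw [Nat.card_congr (Equiv.subtypeEquivRight fun g : G => orderOf_eq_one_iff)]
    simp
  rw [Finset.card_univ, ← Nat.card_eq_fintype_card, h] at key
  rw [Finset.sum_insert (by decide), Finset.sum_insert (by decide), Finset.sum_insert (by decide),
    Finset.sum_insert (by decide), Finset.sum_singleton, hfil 1, hfil 2, hfil 3, hfil 4, hfil 7,
    h1, count3 h, count7 h] at key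
  omega

theorem exists_order_four (T : Sylow 2 G) : ∃ x ∈ (T : Subgroup G), orderOf x = 4 := by
  by_contra hno
  apply sylow2_not_comm h T
  have hsq : ∀ a ∈ (T : Subgroup G), a * a = 1 := by
    intro a ha
    have hd := Subgroup.orderOf_dvd_natCard _ ha
    rw [card_sylow2 h T] at hd
    rw [← sq, ← orderOf_dvd_iff_pow_eq_one]
    rcases orderOf_cases h a with e | e | e | e | e
    · rw [e]; exact one_dvd _
    · rw [e]
    · rw [e] at hd; omega
    · exact absurd ⟨a, ha, e⟩ hno
    · rw [e] at hd; omega
  intro a ha b hb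
  have ea : a⁻¹ = a := inv_eq_of_mul_eq_one_right (hsq a ha)
  have eb : b⁻¹ = b := inv_eq_of_mul_eq_one_right (hsq b hb)
  have eab : (a * b)⁻¹ = a * b := inv_eq_of_mul_eq_one_right (hsq _ (mul_mem ha hb))
  rw [mul_inv_rev, ea, eb] at eab
  exact eab.symm

theorem isConj_invol168 {s t : G} (hs : orderOf s = 2) (ht : orderOf t = 2) : IsConj s t := by
  classical
  have := Fact.mk Nat.prime_two
  obtain ⟨T⟩ := (inferInstance : Nonempty (Sylow 2 G))
  obtain ⟨z, hzT, hz, hzC⟩ := exists_central_invol h T
  suffices key : ∀ u : G, orderOf u = 2 → IsConj z u from (key s hs).symm.trans (key t ht)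
  intro u hu
  by_contra hnc
  have hCu : Nat.card (centralizer ({u} : Set G)) ≤ 4 := by
    have hd := card_centralizer_inv h hu
    have hne : Nat.card (centralizer ({u} : Set G)) ≠ 8 := by
      intro e
      obtain ⟨S, hS⟩ := exists_sylow2_of_invol h e
      obtain ⟨g, rfl⟩ := MulAction.exists_smul_eq G T S
      refine hnc (isConj_iff.mpr ⟨g, ?_⟩)
      have hgz : g * z * g⁻¹ ∈ ((g • T : Sylow 2 G) : Subgroup G) := by
        rw [mem_smul_sylow]
        simpa [mul_assoc] using hzT
      refine eq_of_central_sylow2 h (g • T) hgz ?_ ?_ ?_ ?_ ?_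
      · rw [hS]; exact mem_centralizer_singleton_iff.mpr rfl
      · intro e'; rw [conj_eq_one_iff] at e'; rw [e', orderOf_one] at hz; omega
      · intro e'; rw [e', orderOf_one] at hu; omega
      · intro x hx
        rw [mem_smul_sylow] at hx
        have := mem_centralizer_singleton_iff.mp (hzC ▸ hx : g⁻¹ * x * g ∈ centralizer {z})
        calc x * (g * z * g⁻¹) = g * ((g⁻¹ * x * g) * z) * g⁻¹ := by group
          _ = g * (z * (g⁻¹ * x * g)) * g⁻¹ := by rw [this]
          _ = g * z * g⁻¹ * x := by group
      · intro x hx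
        rw [hS] at hx
        exact mem_centralizer_singleton_iff.mp hx
    have := Nat.le_of_dvd (by norm_num) hd
    interval_cases Nat.card (centralizer ({u} : Set G)) <;> omega
  have hz21 : Nat.card {g : G // IsConj z g} = 21 := by
    have e := Chars.card_isConj_mul_card_centralizer z
    rw [hzC, card_sylow2 h T, h] at e
    omega
  have hu42 : 42 ≤ Nat.card {g : G // IsConj u g} := by
    have e := Chars.card_isConj_mul_card_centralizer u
    rw [h] at e
    nlinarith
  let f : {g : G // IsConj z g} ⊕ {g : G // IsConj u g} → {g : G // orderOf g = 2} :=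
    Sum.elim (fun g => ⟨g.1, Involutions.isConj_invol g.2 hz⟩)
      (fun g => ⟨g.1, Involutions.isConj_invol g.2 hu⟩)
  have hf : Function.Injective f := by
    rintro (⟨a, ha⟩ | ⟨a, ha⟩) (⟨b, hb⟩ | ⟨b, hb⟩) e <;>
      obtain rfl : a = b := congrArg Subtype.val e
    · rfl
    · exact absurd (ha.trans hb.symm) hnc
    · exact absurd (hb.trans ha.symm) hnc
    · rfl
  have hle := Nat.card_le_card_of_injective f hf
  rw [Nat.card_sum, hz21] at hle
  obtain ⟨x, _, hx⟩ := exists_order_four h T
  have hpos : 0 < Nat.card {g : G // orderOf g = 4} :=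
    Nat.card_pos_iff.mpr ⟨⟨⟨x, hx⟩⟩, inferInstance⟩
  have := count2_add_count4 h
  omega

theorem count2 : Nat.card {g : G // orderOf g = 2} = 21 := by
  have := Fact.mk Nat.prime_two
  obtain ⟨T⟩ := (inferInstance : Nonempty (Sylow 2 G))
  obtain ⟨z, hzT, hz, hzC⟩ := exists_central_invol h T
  have e := Chars.card_isConj_mul_card_centralizer z
  rw [hzC, card_sylow2 h T, h] at e
  rw [← Nat.card_congr (Equiv.subtypeEquivRight fun g : G => show IsConj z g ↔ orderOf g = 2 from
    ⟨fun hg => Involutions.isConj_invol hg hz, fun hg => isConj_invol168 h hz hg⟩)]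
  omega

theorem count4 : Nat.card {g : G // orderOf g = 4} = 42 := by
  have := count2_add_count4 h
  rw [count2 h] at this
  omega

theorem card_centralizer_invol {z : G} (hz : orderOf z = 2) :
    Nat.card (centralizer ({z} : Set G)) = 8 := by
  have := Fact.mk Nat.prime_two
  have e := Chars.card_isConj_mul_card_centralizer z
  rw [h, Nat.card_congr (Equiv.subtypeEquivRight fun g : G => show IsConj z g ↔ orderOf g = 2 from
    ⟨fun hg => Involutions.isConj_invol hg hz, fun hg => isConj_invol168 h hz hg⟩), count2 h] at e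
  omega

theorem card_centralizer_four {x : G} (hx : orderOf x = 4) :
    Nat.card (centralizer ({x} : Set G)) = 4 := by
  have hz : orderOf (x ^ 2) = 2 := by rw [orderOf_pow' _ (by norm_num), hx]; norm_num
  have h8 := card_centralizer_invol h hz
  obtain ⟨S, hS⟩ := exists_sylow2_of_invol h h8
  have hle : centralizer ({x} : Set G) ≤ centralizer ({x ^ 2} : Set G) := fun c hc =>
    mem_centralizer_singleton_iff.mpr
      ((Commute.pow_right (mem_centralizer_singleton_iff.mp hc) 2).eq)
  have h4 : 4 ∣ Nat.card (centralizer ({x} : Set G)) :=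
    hx ▸ Subgroup.orderOf_dvd_natCard _ (mem_centralizer_singleton_iff.mpr rfl)
  have hd : Nat.card (centralizer ({x} : Set G)) ∣ 8 := h8 ▸ card_dvd_of_le hle
  have hne : Nat.card (centralizer ({x} : Set G)) ≠ 8 := by
    intro e
    have e' := Subgroup.eq_of_le_of_card_ge hle (by omega)
    have h2 : x = x ^ 2 := by
      refine eq_of_central_sylow2 h S (hS ▸ e' ▸ mem_centralizer_singleton_iff.mpr rfl)
        (hS ▸ mem_centralizer_singleton_iff.mpr rfl) ?_ ?_ ?_ ?_
      · intro e1; rw [e1, orderOf_one] at hx; omega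
      · intro e1; rw [e1, orderOf_one] at hz; omega
      · intro t ht
        exact mem_centralizer_singleton_iff.mp (e'.symm ▸ hS ▸ ht : t ∈ centralizer {x})
      · intro t ht
        exact mem_centralizer_singleton_iff.mp (hS ▸ ht : t ∈ centralizer {x ^ 2})
    rw [← h2, hx] at hz
    omega
  have := Nat.le_of_dvd (by norm_num) hd
  interval_cases Nat.card (centralizer ({x} : Set G)) <;> omega

theorem isConj_four {s t : G} (hs : orderOf s = 4) (ht : orderOf t = 4) : IsConj s t :=
  isConj_of_orderOf_count hs (by rw [count4 h, card_centralizer_four h hs, h]) ht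

theorem isConj_three {s t : G} (hs : orderOf s = 3) (ht : orderOf t = 3) : IsConj s t :=
  isConj_of_orderOf_count hs (by rw [count3 h, card_centralizer_orderOf h (Or.inl rfl) hs, h]) ht

theorem card_class_seven {x : G} (hx : orderOf x = 7) :
    Nat.card {g : G // IsConj x g} = 24 := by
  have e := Chars.card_isConj_mul_card_centralizer x
  rw [card_centralizer_orderOf h (Or.inr rfl) hx, h] at e
  omega

theorem not_isConj_inv_seven {x : G} (hx : orderOf x = 7) : ¬ IsConj x x⁻¹ := by
  intro hc
  obtain ⟨g, hg⟩ := isConj_iff.mp hc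
  have hsq : Commute (g ^ 2) x := by
    have hg' : g * x⁻¹ * g⁻¹ = x := by rw [← conj_inv, hg, inv_inv]
    show g ^ 2 * x = x * g ^ 2
    calc g ^ 2 * x = g * (g * x * g⁻¹) * g := by simp [sq, mul_assoc]
      _ = g * x⁻¹ * g := by rw [hg]
      _ = g * x⁻¹ * g⁻¹ * g ^ 2 := by group
      _ = x * g ^ 2 := by rw [hg']
  have hcx : Commute g x := by
    rcases orderOf_cases h g with e | e | e | e | e
    · rw [orderOf_eq_one_iff.mp e]; exact Commute.one_left _
    all_goals
      have hmem : g ^ 2 ∈ centralizer ({x} : Set G) := mem_centralizer_singleton_iff.mpr hsq.eq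
      have hd := Subgroup.orderOf_dvd_natCard _ hmem
      rw [card_centralizer_orderOf h (Or.inr rfl) hx, orderOf_pow' _ (by norm_num), e] at hd
      norm_num at hd
    · -- `g` is an involution inverting `x`
      exfalso
      have hxN : g ∈ normalizer ((zpowers x : Subgroup G) : Set G) := by
        rw [mem_normalizer_iff]
        intro y
        have hginv : g⁻¹ = g := inv_eq_of_mul_eq_one_right (by rw [← sq, ← e, pow_orderOf_eq_one])
        have hgen : ∀ k : ℤ, g * x ^ k * g⁻¹ = x ^ (-k) := fun k => by
          rw [← conj_zpow, hg, inv_zpow, zpow_neg]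
        constructor
        · rintro ⟨k, rfl⟩; exact ⟨-k, (hgen k).symm⟩
        · rintro ⟨k, hk⟩
          refine ⟨-k, ?_⟩
          change x ^ (-k) = y
          rw [← hgen k, show x ^ k = g * y * g⁻¹ from hk, hginv]
          simp [← mul_assoc, ← sq, show g ^ 2 = 1 by rw [← e, pow_orderOf_eq_one]]
          rw [mul_assoc, ← sq, show g ^ 2 = 1 by rw [← e, pow_orderOf_eq_one], mul_one]
      have := Fact.mk (show Nat.Prime 7 by norm_num)
      have hp : Nat.card (zpowers x) = 7 ^ 1 := by rw [Nat.card_zpowers, hx, pow_one]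
      obtain ⟨P, hP⟩ := (IsPGroup.of_card hp).exists_le_sylow
      rw [Subgroup.eq_of_le_of_card_ge hP (by rw [hp, card_sylow7 h P, pow_one])] at hxN
      have := Subgroup.orderOf_dvd_natCard _ hxN
      rw [normalizer7 h P, e] at this
      omega
    all_goals
      have hgp : g = (g ^ 2) ^ 4 := by
        rw [← pow_mul]
        rw [show (2 * 4 : ℕ) = orderOf g + 1 by omega, pow_succ, pow_orderOf_eq_one, one_mul]
      rw [hgp]
      exact hsq.pow_left 4
  have hxx : x⁻¹ = x := by rw [← hg, hcx.eq, mul_inv_cancel_right]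
  have : x ^ 2 = 1 := by rw [sq]; nth_rw 1 [← hxx]; exact inv_mul_cancel x
  have := Nat.le_of_dvd (by norm_num) (orderOf_dvd_of_pow_eq_one this)
  omega

/-- Two elements of order 4 with the same square generate the same cyclic group. -/
theorem mem_zpowers_of_sq_eq {x y : G} (hx : orderOf x = 4) (hy : orderOf y = 4)
    (e : x ^ 2 = y ^ 2) : y ∈ zpowers x := by
  obtain ⟨g, hg⟩ := isConj_iff.mp (isConj_four h hx hy)
  have hz : orderOf (x ^ 2) = 2 := by rw [orderOf_pow' _ (by norm_num), hx]; norm_num
  set C := centralizer ({x ^ 2} : Set G)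
  have hgC : g ∈ C := by
    refine mem_centralizer_singleton_iff.mpr ?_
    have : g * x ^ 2 * g⁻¹ = x ^ 2 := by rw [← conj_pow, hg, e]
    exact mul_inv_eq_iff_eq_mul.mp this
  have hle : zpowers x ≤ C :=
    zpowers_le.mpr (mem_centralizer_singleton_iff.mpr ((Commute.refl x).pow_right 2).eq)
  have hN := normal_le_normalizer_of_half hle
    (by rw [Nat.card_zpowers, hx, card_centralizer_invol h hz])
  rw [← hg]
  exact (hN hgC x).mp (mem_zpowers x)

theorem exists_dihedral_gens (T : Sylow 2 G) : ∃ x s : G, orderOf x = 4 ∧ orderOf s = 2 ∧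
    orderOf (s * x) = 2 ∧ s ≠ s * x ∧ zpowers x ≤ (T : Subgroup G) ∧ s ∈ (T : Subgroup G) ∧
    closure ({s, s * x} : Set G) = (T : Subgroup G) := by
  have := Fact.mk Nat.prime_two
  obtain ⟨x, hxT, hx⟩ := exists_order_four h T
  have hle : zpowers x ≤ (T : Subgroup G) := zpowers_le.mpr hxT
  obtain ⟨s, hsT, hs⟩ : ∃ s ∈ (T : Subgroup G), s ∉ zpowers x := by
    by_contra hno
    have := Subgroup.card_le_of_le (show (T : Subgroup G) ≤ zpowers x from
      fun s hs => by_contra fun h' => hno ⟨s, hs, h'⟩)
    rw [card_sylow2 h T, Nat.card_zpowers, hx] at this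
    omega
  obtain ⟨z, hzT, hz, hzC⟩ := exists_central_invol h T
  have hzc : ∀ t ∈ (T : Subgroup G), t * z = z * t := fun t ht =>
    mem_centralizer_singleton_iff.mp (hzC ▸ ht : t ∈ centralizer ({z} : Set G))
  have hsq : ∀ y ∈ (T : Subgroup G), orderOf y = 4 → y ^ 2 = z := by
    intro y hy hy4
    have hy2 : orderOf (y ^ 2) = 2 := by rw [orderOf_pow' _ (by norm_num), hy4]; norm_num
    have hN := normal_le_normalizer_of_half (zpowers_le.mpr hy)
      (by rw [Nat.card_zpowers, hy4, card_sylow2 h T])
    refine eq_of_central_sylow2 h T (pow_mem hy 2) hzT ?_ ?_ ?_ hzc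
    · intro e; rw [e, orderOf_one] at hy2; omega
    · intro e; rw [e, orderOf_one] at hz; omega
    · intro t ht
      obtain ⟨k, hk⟩ := (hN ht y).mp (mem_zpowers y)
      change y ^ k = t * y * t⁻¹ at hk
      have ho : orderOf (y ^ k) = 4 := by
        rw [hk, ← hy4]; exact MulEquiv.orderOf_eq (MulAut.conj t) y
      have hkodd : ¬ (2 : ℤ) ∣ k := by
        rintro ⟨m, rfl⟩
        have : (y ^ (2 * m)) ^ 2 = 1 := by
          rw [← zpow_natCast, ← zpow_mul,
            show 2 * m * ((2 : ℕ) : ℤ) = ((4 : ℕ) : ℤ) * m by push_cast; ring, zpow_mul,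
            zpow_natCast, ← hy4, pow_orderOf_eq_one, one_zpow]
        have := Nat.le_of_dvd (by norm_num) (orderOf_dvd_of_pow_eq_one this)
        omega
      have : t * y ^ 2 * t⁻¹ = y ^ 2 := by
        rw [← conj_pow, ← hk, ← zpow_natCast (y ^ k), ← zpow_mul, ← zpow_natCast y 2,
          ← orderOf_dvd_sub_iff_zpow_eq_zpow, hy4]
        push_cast
        omega
      exact mul_inv_eq_iff_eq_mul.mp this
  have hinv : ∀ u ∈ (T : Subgroup G), u ∉ zpowers x → orderOf u = 2 := by
    intro u hu hux
    have hd := Subgroup.orderOf_dvd_natCard _ hu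
    rw [card_sylow2 h T] at hd
    rcases orderOf_cases h u with e | e | e | e | e
    · exact absurd (orderOf_eq_one_iff.mp e ▸ one_mem (zpowers x)) hux
    · exact e
    · rw [e] at hd; omega
    · exact absurd (mem_zpowers_of_sq_eq h hx e (by rw [hsq x hxT hx, hsq u hu e])) hux
    · rw [e] at hd; omega
  have hsx : s * x ∉ zpowers x := fun e => hs (by simpa using mul_mem e (inv_mem (mem_zpowers x)))
  refine ⟨x, s, hx, hinv s hsT hs, hinv _ (mul_mem hsT hxT) hsx, ?_, hle, hsT, ?_⟩
  · intro e
    have hx1 : x = 1 := left_eq_mul.mp e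
    rw [hx1, orderOf_one] at hx
    omega
  · refine le_antisymm ((closure_le _).mpr ?_) ?_
    · rintro u (rfl | rfl)
      · exact hsT
      · exact mul_mem hsT hxT
    · set K := closure ({s, s * x} : Set G)
      have hsK : s ∈ K := subset_closure (by simp)
      have hxK : x ∈ K := by
        simpa using mul_mem (inv_mem hsK) (subset_closure (by simp) : s * x ∈ K)
      have hKT : K ≤ (T : Subgroup G) := (closure_le _).mpr (by
        rintro u (rfl | rfl)
        · exact hsT
        · exact mul_mem hsT hxT)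
      have h8 := card_dvd_of_le hKT
      rw [card_sylow2 h T] at h8
      have h4 := Subgroup.card_le_of_le (zpowers_le.mpr hxK)
      rw [Nat.card_zpowers, hx] at h4
      have hne : Nat.card K ≠ 4 := fun e =>
        hs ((Subgroup.eq_of_le_of_card_ge (zpowers_le.mpr hxK)
          (by rw [e, Nat.card_zpowers, hx])) ▸ hsK)
      have := Nat.le_of_dvd (by norm_num) h8
      refine (Subgroup.eq_of_le_of_card_ge hKT ?_).ge
      rw [card_sylow2 h T]
      interval_cases Nat.card K <;> omega

theorem sylow2_dihedral (T : Sylow 2 G) :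
    Nonempty ((T : Subgroup G) ≃* DihedralGroup 4) := by
  obtain ⟨x, s, hx, hs, hsx, hne, _, _, hT⟩ := exists_dihedral_gens h T
  obtain ⟨e⟩ := Cfsg.Agent.S0206.result s (s * x) hs hsx hne
  have h4 : orderOf (s * (s * x)) = 4 := by
    rw [← mul_assoc, Involutions.invol_mul_self hs, one_mul, hx]
  rw [h4] at e
  exact ⟨(MulEquiv.subgroupCongr hT.symm).trans e⟩

end order168

end CfsgLib.Small
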