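import Cfsg.Agent.Lib.Small.Order7920
import Cfsg.Agent.Lib.Base.Transport

/-!
# Groups of order 7920 with a disconnected prime graph
-/

set_option autoImplicit false
set_option linter.style.haveILetI false
set_option linter.unusedSectionVars false

open Cfsg CfsgLib.Chars CfsgLib.CharApps Subgroup

namespace CfsgLib.Small.O7920

universe u

/-- There is an element of order `a * b`. -/
def Edge (G : Type u) [Group G] (a b : ℕ) : Prop := ∃ g : G, orderOf g = a * b

variable {G : Type u} [Group G]

theorem Edge.symm {a b : ℕ} (h : Edge G a b) : Edge G b a := by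
  obtain ⟨g, hg⟩ := h
  exact ⟨g, by rw [hg, mul_comm]⟩

theorem Edge.of_subgroup {H : Subgroup G} {a b : ℕ} (h : Edge H a b) : Edge G a b := by
  obtain ⟨g, hg⟩ := h
  exact ⟨g, by rw [Subgroup.orderOf_coe, hg]⟩

theorem orderOf_pow_div (r : G) {p : ℕ} (h0 : 0 < orderOf r) (hp : p ∣ orderOf r) :
    orderOf (r ^ (orderOf r / p)) = p := by
  obtain ⟨k, hk⟩ := hp
  have hp0 : 0 < p := Nat.pos_of_ne_zero fun h => by rw [hk, h, zero_mul] at h0; omega
  have hk0 : k ≠ 0 := fun h => by rw [hk, h, mul_zero] at h0; omega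
  rw [hk, Nat.mul_div_cancel_left _ hp0, orderOf_pow' _ hk0, hk,
    Nat.gcd_eq_right (dvd_mul_left k p), Nat.mul_div_cancel _ (Nat.pos_of_ne_zero hk0)]

/-- Edges connecting the four primes. -/
def Connected (G : Type u) [Group G] : Prop :=
  (Edge G 2 11 ∧ (Edge G 3 11 ∨ Edge G 2 3) ∨ Edge G 3 11 ∧ Edge G 2 3) ∧
      (Edge G 5 2 ∨ Edge G 5 3 ∨ Edge G 5 11) ∨
    Edge G 5 2 ∧ Edge G 5 3 ∧ Edge G 5 11

variable [Finite G]

/-- Commuting elements with orders divisible by different primes. -/
theorem edge_of_commute {p q : ℕ} (hp : p.Prime) (hq : q.Prime) (hpq : p ≠ q) {r s : G}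
    (hc : Commute r s) (hr : p ∣ orderOf r) (hs : q ∣ orderOf s) : Edge G p q := by
  refine ⟨r ^ (orderOf r / p) * s ^ (orderOf s / q), ?_⟩
  have h1 := orderOf_pow_div r (orderOf_pos r) hr
  have h2 := orderOf_pow_div s (orderOf_pos s) hs
  rw [(hc.pow_pow _ _).orderOf_mul_eq_mul_orderOf_of_coprime
    (by rw [h1, h2]; exact (Nat.coprime_primes hp hq).2 hpq), h1, h2]

/-- An element of order `a * b` from a prime power subgroup centralizing an element. -/
theorem edge_of_dvd_centralizer {p q : ℕ} (hp : p.Prime) (hq : q.Prime) (hpq : p ≠ q) {x : G}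
    (hx : p ∣ orderOf x) {C : Subgroup G} (hC : ∀ y ∈ C, Commute x y) (hd : q ∣ Nat.card C) :
    Edge G p q := by
  haveI := Fact.mk hq
  obtain ⟨⟨y, hy⟩, hyo⟩ := exists_prime_orderOf_dvd_card' (G := C) q hd
  rw [Subgroup.orderOf_mk] at hyo
  exact edge_of_commute hp hq hpq (hC y hy) hx (by rw [hyo])

/-- A `p`-subgroup normalizing a `q`-subgroup `S`, whose order does not divide `|S| - 1`,
has a nontrivial element centralizing a nontrivial element of `S`. -/
theorem edge_of_normalizes {p q a b : ℕ} (hp : p.Prime) (hq : q.Prime) (hpq : p ≠ q)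
    (R S : Subgroup G) (hR : Nat.card R = p ^ a) (hS : Nat.card S = q ^ b)
    (hRS : R ≤ normalizer (S : Set G)) (h : ¬ p ^ a ∣ q ^ b - 1) : Edge G p q := by
  classical
  have hkey : ∃ r ∈ R, r ≠ 1 ∧ ∃ s ∈ S, s ≠ 1 ∧ Commute r s := by
    by_contra hno
    push Not at hno
    have hmem : ∀ (r : R) (s : {s : S // s ≠ 1}), (r : G) * (s.1 : G) * (r : G)⁻¹ ∈ S := fun r s =>
      (Subgroup.mem_normalizer_iff.1 (hRS r.2) _).1 s.1.2
    letI : MulAction R {s : S // s ≠ 1} :=
      { smul := fun r s => ⟨⟨(r : G) * (s.1 : G) * (r : G)⁻¹, hmem r s⟩, fun h => s.2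
          (Subtype.ext (conj_eq_one_iff.1 (congrArg Subtype.val h)))⟩
        one_smul := fun s => Subtype.ext (Subtype.ext (by
          show ((1 : R) : G) * (s.1 : G) * ((1 : R) : G)⁻¹ = (s.1 : G)
          simp))
        mul_smul := fun r r' s => Subtype.ext (Subtype.ext (by
          show ((r * r' : R) : G) * (s.1 : G) * ((r * r' : R) : G)⁻¹ =
            (r : G) * ((r' : G) * (s.1 : G) * (r' : G)⁻¹) * (r : G)⁻¹
          simp [mul_assoc])) }
    have hfree : ∀ s : {s : S // s ≠ 1}, MulAction.stabilizer R s = ⊥ := by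
      intro s
      rw [eq_bot_iff]
      intro r hr
      rw [Subgroup.mem_bot]
      by_contra hne
      have h1 : (r : G) * (s.1 : G) * (r : G)⁻¹ = (s.1 : G) :=
        congrArg (fun x : {s : S // s ≠ 1} => ((x.1 : S) : G)) hr
      exact hno r r.2 (fun h => hne (Subtype.ext h)) s.1 s.1.2
        (fun h => s.2 (Subtype.ext h)) (mul_inv_eq_iff_eq_mul.1 h1)
    haveI := Fintype.ofFinite {s : S // s ≠ 1}
    haveI := Fintype.ofFinite (MulAction.orbitRel.Quotient R {s : S // s ≠ 1})
    have hcard : Nat.card {s : S // s ≠ 1} =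
        Nat.card (MulAction.orbitRel.Quotient R {s : S // s ≠ 1}) * Nat.card R := by
      rw [Nat.card_congr (MulAction.selfEquivSigmaOrbitsQuotientStabilizer R {s : S // s ≠ 1}), Nat.card_sigma,
        Finset.sum_congr rfl (g := fun _ => Nat.card R) (fun ω _ => by
          rw [hfree, ← Subgroup.index, Subgroup.index_bot]), Finset.sum_const,
        smul_eq_mul, Finset.card_univ, ← Nat.card_eq_fintype_card]
    haveI := Fintype.ofFinite S
    rw [Nat.card_eq_fintype_card (α := {s : S // s ≠ 1}), Fintype.card_subtype_compl,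
      Fintype.card_subtype_eq, ← Nat.card_eq_fintype_card, hR, hS] at hcard
    exact h ⟨_, by rw [hcard, mul_comm]⟩
  obtain ⟨r, hr, hr1, s, hs, hs1, hc⟩ := hkey
  refine edge_of_commute hp hq hpq hc ?_ ?_
  · obtain ⟨i, -, hi⟩ := (Nat.dvd_prime_pow hp).1 (hR ▸ Subgroup.orderOf_dvd_natCard _ hr)
    rcases i with _ | i
    · exact absurd (orderOf_eq_one_iff.1 (by rw [hi, pow_zero])) hr1
    · rw [hi]; exact dvd_pow_self p (Nat.succ_ne_zero i)
  · obtain ⟨i, -, hi⟩ := (Nat.dvd_prime_pow hq).1 (hS ▸ Subgroup.orderOf_dvd_natCard _ hs)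
    rcases i with _ | i
    · exact absurd (orderOf_eq_one_iff.1 (by rw [hi, pow_zero])) hs1
    · rw [hi]; exact dvd_pow_self q (Nat.succ_ne_zero i)

/-- A Frattini argument: an element of order `p`, prime to the normal subgroup `M`, normalizes
a Sylow `q`-subgroup of `M`. -/
theorem edge_of_normal {p q : ℕ} [hp : Fact p.Prime] [hq : Fact q.Prime] (hpq : p ≠ q)
    (M : Subgroup G) [M.Normal] (hpG : p ∣ Nat.card G) (hpM : ¬ p ∣ Nat.card M)
    (h : ∀ b : ℕ, q ^ b ∣ Nat.card M → ¬ q ^ (b + 1) ∣ Nat.card M → ¬ p ∣ q ^ b - 1) :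
    Edge G p q := by
  obtain ⟨S⟩ := (inferInstance : Nonempty (Sylow q M))
  have hsup := Sylow.normalizer_sup_eq_top S
  set N := normalizer (((S : Subgroup M).map M.subtype : Subgroup G) : Set G)
  have hpN : p ∣ Nat.card N := by
    have hd := CfsgLib.Base.card_sup_dvd N M
    rw [hsup, Subgroup.card_top] at hd
    exact ((hp.out.dvd_mul).1 (hpG.trans hd)).resolve_right hpM
  obtain ⟨⟨g, hgN⟩, hgo⟩ := exists_prime_orderOf_dvd_card' (G := N) p hpN
  rw [Subgroup.orderOf_mk] at hgo
  refine edge_of_normalizes (a := 1) (b := (Nat.card M).factorization q) hp.out hq.out hpq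
    (zpowers g) ((S : Subgroup M).map M.subtype) (by rw [Nat.card_zpowers, hgo, pow_one])
    (by rw [Subgroup.card_map_of_injective M.subtype_injective, S.card_eq_multiplicity])
    (Subgroup.zpowers_le.2 hgN) ?_
  rw [pow_one]
  exact h _ (Nat.ordProj_dvd _ _)
    (Nat.pow_succ_factorization_not_dvd Nat.card_pos.ne' hq.out)

/-- The inner quotient of a normalizer by a centralizer for a subgroup of prime order. -/
theorem exists_index_centralizer {p : ℕ} [hp : Fact p.Prime] (P : Subgroup G)
    (hP : Nat.card P = p) :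
    ∃ e, e ∣ p - 1 ∧
      Nat.card (centralizer (P : Set G)) * e = Nat.card (normalizer (P : Set G)) := by
  have hcyc : IsCyclic P := isCyclic_of_prime_card hP
  refine ⟨(centralizer (P : Set G)).relIndex (normalizer (P : Set G)), ?_, ?_⟩
  · have key := card_dvd_of_injective _
      (QuotientGroup.kerLift_injective P.normalizerMonoidHom)
    rw [normalizerMonoidHom_ker, ← index, ← relIndex, hcyc.card_mulAut, hP,
      Nat.totient_prime hp.out] at key
    exact key
  · rw [← relIndex_bot_left (centralizer (P : Set G)),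
      relIndex_mul_relIndex _ _ _ bot_le (centralizer_le_normalizer _), relIndex_bot_left]

section

variable (hG : Nat.card G = 7920)

include hG

/-- Enough edges to connect the prime graph. -/
theorem false_of_edges
    (hdisc : ∃ A : Set ℕ, (∃ a ∈ A, a.Prime ∧ a ∣ Nat.card G) ∧
      (∃ b ∉ A, b.Prime ∧ b ∣ Nat.card G) ∧
      ∀ a ∈ A, ∀ b ∉ A, a.Prime → b.Prime → a ∣ Nat.card G → b ∣ Nat.card G →
        ¬ ∃ g : G, orderOf g = a * b)
    (hc : Connected G) : False := by
  obtain ⟨A, ⟨a, haA, ha, had⟩, ⟨b, hbA, hb, hbd⟩, hno⟩ := hdisc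
  rw [hG] at had hbd
  have hsame : ∀ p q : ℕ, p.Prime → q.Prime → p ∣ 7920 → q ∣ 7920 → Edge G p q →
      (p ∈ A ↔ q ∈ A) := by
    intro p q hp hq hpd hqd he
    constructor
    · intro h
      by_contra h'
      exact hno p h q h' hp hq (hG ▸ hpd) (hG ▸ hqd) he
    · intro h
      by_contra h'
      exact hno q h p h' hq hp (hG ▸ hqd) (hG ▸ hpd) he.symm
  have h23 := hsame 2 3 (by norm_num) (by norm_num) (by norm_num) (by norm_num)
  have h211 := hsame 2 11 (by norm_num) (by norm_num) (by norm_num) (by norm_num)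
  have h311 := hsame 3 11 (by norm_num) (by norm_num) (by norm_num) (by norm_num)
  have h52 := hsame 5 2 (by norm_num) (by norm_num) (by norm_num) (by norm_num)
  have h53 := hsame 5 3 (by norm_num) (by norm_num) (by norm_num) (by norm_num)
  have h511 := hsame 5 11 (by norm_num) (by norm_num) (by norm_num) (by norm_num)
  have hprimes : ∀ p : ℕ, p.Prime → p ∣ 7920 → p = 2 ∨ p = 3 ∨ p = 5 ∨ p = 11 := by
    intro p hp hd
    rw [show 7920 = 2 ^ 4 * (3 ^ 2 * (5 * 11)) by norm_num] at hd
    rcases hp.dvd_mul.1 hd with h | h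
    · exact Or.inl ((Nat.prime_dvd_prime_iff_eq hp Nat.prime_two).1 (hp.dvd_of_dvd_pow h))
    rcases hp.dvd_mul.1 h with h | h
    · exact Or.inr (Or.inl ((Nat.prime_dvd_prime_iff_eq hp Nat.prime_three).1
        (hp.dvd_of_dvd_pow h)))
    rcases hp.dvd_mul.1 h with h | h
    · exact Or.inr (Or.inr (Or.inl ((Nat.prime_dvd_prime_iff_eq hp (by norm_num)).1 h)))
    · exact Or.inr (Or.inr (Or.inr ((Nat.prime_dvd_prime_iff_eq hp (by norm_num)).1 h)))
  obtain ⟨k2, k3, k11, k5⟩ : (2 ∈ A ↔ 2 ∈ A) ∧ (3 ∈ A ↔ 2 ∈ A) ∧ (11 ∈ A ↔ 2 ∈ A) ∧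
      (5 ∈ A ↔ 2 ∈ A) := by
    rcases hc with ⟨h11, h5⟩ | ⟨x, y, z⟩
    · have e : (3 ∈ A ↔ 2 ∈ A) ∧ (11 ∈ A ↔ 2 ∈ A) := by
        rcases h11 with ⟨x, y | y⟩ | ⟨x, y⟩
        · exact ⟨(h311 y).trans (h211 x).symm, (h211 x).symm⟩
        · exact ⟨(h23 y).symm, (h211 x).symm⟩
        · exact ⟨(h23 y).symm, (h311 x).symm.trans (h23 y).symm⟩
      refine ⟨Iff.rfl, e.1, e.2, ?_⟩
      rcases h5 with h | h | h
      · exact h52 h
      · exact (h53 h).trans e.1
      · exact (h511 h).trans e.2
    · exact ⟨Iff.rfl, (h53 y).symm.trans (h52 x), (h511 z).symm.trans (h52 x), h52 x⟩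
  rcases hprimes a ha had with rfl | rfl | rfl | rfl <;>
    rcases hprimes b hb hbd with rfl | rfl | rfl | rfl <;> tauto

/-- A subgroup of order eleven with a large normalizer gives all the edges. -/
theorem edges_of_eleven (P : Subgroup G) (hP : Nat.card P = 11)
    (hN : Nat.card (normalizer (P : Set G)) = 660 ∨
      Nat.card (normalizer (P : Set G)) = 7920) :
    (Edge G 2 11 ∧ Edge G 3 11) ∧ (Edge G 5 3 ∨ Edge G 5 11) := by
  haveI := Fact.mk (show Nat.Prime 11 by norm_num)
  haveI := Fact.mk (show Nat.Prime 5 by norm_num)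
  haveI := Fact.mk Nat.prime_three
  obtain ⟨e, he, hce⟩ := exists_index_centralizer (p := 11) P hP
  set N := normalizer (P : Set G)
  set C := centralizer (P : Set G)
  obtain ⟨⟨x, hx⟩, hxo⟩ := exists_prime_orderOf_dvd_card' (G := P) 11 (by rw [hP])
  rw [Subgroup.orderOf_mk] at hxo
  have hC : ∀ y ∈ C, Commute x y := fun y hy => Subgroup.mem_centralizer_iff.1 hy x hx
  have hed : e = 1 ∨ e = 2 ∨ e = 5 ∨ e = 10 := by
    have h := Nat.le_of_dvd (by norm_num) he
    interval_cases e <;> first | omega | norm_num at he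
  have h2 : 2 ∣ Nat.card C := by
    rcases hed with rfl | rfl | rfl | rfl <;> rcases hN with h | h <;> rw [h] at hce <;> omega
  have h3 : 3 ∣ Nat.card C := by
    rcases hed with rfl | rfl | rfl | rfl <;> rcases hN with h | h <;> rw [h] at hce <;> omega
  have e2 := edge_of_dvd_centralizer (by norm_num) Nat.prime_two (by norm_num) (p := 11)
    (by rw [hxo]) hC h2
  have e3 := edge_of_dvd_centralizer (by norm_num) Nat.prime_three (by norm_num) (p := 11)
    (by rw [hxo]) hC h3
  refine ⟨⟨e2.symm, e3.symm⟩, ?_⟩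
  by_cases h5 : 5 ∣ Nat.card C
  · exact Or.inr (edge_of_dvd_centralizer (by norm_num) (by norm_num) (by norm_num) (p := 11)
      (by rw [hxo]) hC h5).symm
  left
  haveI hnorm : (C.subgroupOf N).Normal := by
    rw [← Subgroup.normalizerMonoidHom_ker]
    infer_instance
  have hcard : Nat.card (C.subgroupOf N) = Nat.card C :=
    Nat.card_congr (Subgroup.subgroupOfEquivOfLe (centralizer_le_normalizer _)).toEquiv
  refine Edge.of_subgroup (edge_of_normal (p := 5) (q := 3) (by norm_num) (C.subgroupOf N)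
    (by rcases hN with h | h <;> rw [h] <;> norm_num) (by rw [hcard]; exact h5) ?_)
  intro b hb _
  have hb2 : b ≤ 2 := by
    have hd : 3 ^ b ∣ 7920 :=
      hG ▸ ((hcard ▸ hb).trans (Subgroup.card_subgroup_dvd_card C))
    by_contra hlt
    have := (Nat.pow_dvd_pow 3 (show 3 ≤ b by omega)).trans hd
    norm_num at this
  interval_cases b
  · exfalso
    rename_i hnot
    exact hnot (by rw [hcard]; simpa using h3)
  · norm_num
  · norm_num

/-- A nontrivial normal subgroup of prime power order connects the graph. -/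
theorem edges_of_normal_pgroup {q b : ℕ} (hq : q.Prime) (hb : b ≠ 0) (M : Subgroup G) [M.Normal]
    (hM : Nat.card M = q ^ b) : Connected G := by
  classical
  haveI := Fact.mk (show Nat.Prime 11 by norm_num)
  haveI := Fact.mk (show Nat.Prime 5 by norm_num)
  haveI := Fact.mk Nat.prime_three
  haveI := Fact.mk Nat.prime_two
  have hdvd : q ^ b ∣ 7920 := hG ▸ hM ▸ Subgroup.card_subgroup_dvd_card M
  have hMn : ∀ R : Subgroup G, R ≤ normalizer (M : Set G) := fun R => by
    rw [Subgroup.normalizer_eq_top]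
    exact le_top
  have sylow : ∀ p a : ℕ, p.Prime → (∃ m, 7920 = p ^ a * m ∧ ¬ p ∣ m) →
      ∃ R : Subgroup G, Nat.card R = p ^ a := fun p a hp ⟨m, hm, hnd⟩ => by
    haveI := Fact.mk hp
    obtain ⟨R⟩ := (inferInstance : Nonempty (Sylow p G))
    exact ⟨R, card_sylow_eq (p := p) a m (by rw [hG, hm]) hnd R⟩
  obtain ⟨R2, hR2⟩ := sylow 2 4 Nat.prime_two ⟨495, by norm_num, by norm_num⟩
  obtain ⟨R3, hR3⟩ := sylow 3 2 Nat.prime_three ⟨880, by norm_num, by norm_num⟩
  obtain ⟨R11, hR11⟩ := sylow 11 1 (by norm_num) ⟨720, by norm_num, by norm_num⟩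
  obtain ⟨R5, hR5⟩ := sylow 5 1 (by norm_num) ⟨1584, by norm_num, by norm_num⟩
  have hq4 : q = 2 ∨ q = 3 ∨ q = 5 ∨ q = 11 := by
    have hd : q ∣ 7920 := (dvd_pow_self q hb).trans hdvd
    rw [show 7920 = 2 ^ 4 * (3 ^ 2 * (5 * 11)) by norm_num] at hd
    rcases hq.dvd_mul.1 hd with h | h
    · exact Or.inl ((Nat.prime_dvd_prime_iff_eq hq Nat.prime_two).1 (hq.dvd_of_dvd_pow h))
    rcases hq.dvd_mul.1 h with h | h
    · exact Or.inr (Or.inl ((Nat.prime_dvd_prime_iff_eq hq Nat.prime_three).1
        (hq.dvd_of_dvd_pow h)))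
    rcases hq.dvd_mul.1 h with h | h
    · exact Or.inr (Or.inr (Or.inl ((Nat.prime_dvd_prime_iff_eq hq (by norm_num)).1 h)))
    · exact Or.inr (Or.inr (Or.inr ((Nat.prime_dvd_prime_iff_eq hq (by norm_num)).1 h)))
  have hbnd : ∀ k, ¬ q ^ k ∣ 7920 → b < k := fun k hk => by
    by_contra h
    exact hk ((Nat.pow_dvd_pow q (not_lt.1 h)).trans hdvd)
  rcases hq4 with rfl | rfl | rfl | rfl
  · have hb4 : b < 5 := hbnd 5 (by norm_num)
    have e3 : Edge G 3 2 := edge_of_normalizes (by norm_num) hq (by norm_num) R3 M hR3 hM (hMn _)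
      (by interval_cases b <;> first | omega | norm_num)
    have e11 : Edge G 11 2 := edge_of_normalizes (by norm_num) hq (by norm_num) R11 M hR11 hM
      (hMn _) (by interval_cases b <;> first | omega | norm_num)
    refine Or.inl ⟨Or.inl ⟨e11.symm, Or.inr e3.symm⟩, ?_⟩
    by_cases hb5 : ¬ (5 : ℕ) ^ 1 ∣ 2 ^ b - 1
    · exact Or.inl (edge_of_normalizes (by norm_num) hq (by norm_num) R5 M hR5 hM (hMn _) hb5)
    obtain rfl : b = 4 := by interval_cases b <;> first | omega | norm_num at hb5 ⊢
    set N := normalizer (R5 : Set G) with hN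
    obtain ⟨r, hr⟩ := exists_prime_orderOf_dvd_card' (G := R5) 5 (by rw [hR5]; norm_num)
    by_cases h3 : 3 ∣ Nat.card N
    · obtain ⟨⟨g, hgN⟩, hgo⟩ := exists_prime_orderOf_dvd_card' (G := N) 3 h3
      rw [Subgroup.orderOf_mk] at hgo
      exact Or.inr (Or.inl (edge_of_normalizes (by norm_num) (by norm_num) (by norm_num)
        (zpowers g) R5 (a := 1) (b := 1) (by rw [Nat.card_zpowers, hgo, pow_one]) hR5
        (Subgroup.zpowers_le.2 hgN) (by norm_num)).symm)
    by_cases h11 : 11 ∣ Nat.card N
    · obtain ⟨⟨g, hgN⟩, hgo⟩ := exists_prime_orderOf_dvd_card' (G := N) 11 h11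
      rw [Subgroup.orderOf_mk] at hgo
      exact Or.inr (Or.inr (edge_of_normalizes (by norm_num) (by norm_num) (by norm_num)
        (zpowers g) R5 (a := 1) (b := 1) (by rw [Nat.card_zpowers, hgo, pow_one]) hR5
        (Subgroup.zpowers_le.2 hgN) (by norm_num)).symm)
    have h2 : 2 ∣ Nat.card N := by
      let P : Sylow 5 G := Sylow.ofCard R5 (by
        rw [hR5, hG, show 7920 = 5 ^ 1 * 1584 by norm_num,
          Nat.factorization_mul (by norm_num) (by norm_num), Nat.factorization_pow]
        simp [Nat.factorization_eq_zero_of_not_dvd (show ¬ 5 ∣ 1584 by norm_num),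
          Nat.Prime.factorization_self (show Nat.Prime 5 by norm_num)])
      have hmul := card_normalizer_mul P
      rw [show (P : Subgroup G) = R5 from Sylow.coe_ofCard _ _, ← hN, hG] at hmul
      have hnm : Nat.card (Sylow 5 G) % 5 = 1 := card_sylow_modEq_one 5 G
      have hd := hG ▸ Subgroup.card_subgroup_dvd_card N
      have h5N : 5 ∣ Nat.card N := by
        rw [show (5 : ℕ) = Nat.card R5 by rw [hR5]; norm_num]
        exact Subgroup.card_dvd_of_le Subgroup.le_normalizer
      obtain ⟨k, hk⟩ := h5N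
      rw [hk] at h3 h11 hd hmul ⊢
      by_contra h2
      have hk1584 : k ∣ 1584 := Nat.dvd_of_mul_dvd_mul_left (by norm_num : 0 < 5) hd
      have hc : Nat.Coprime k 1584 := by
        rw [show 1584 = 2 ^ 4 * (3 ^ 2 * 11) by norm_num]
        refine Nat.Coprime.mul_right (Nat.Coprime.pow_right _ ?_) (Nat.Coprime.mul_right
          (Nat.Coprime.pow_right _ ?_) ?_) <;>
          refine ((Nat.Prime.coprime_iff_not_dvd (by norm_num)).2 fun hdv => ?_).symm
        · exact h2 (hdv.mul_left 5)
        · exact h3 (hdv.mul_left 5)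
        · exact h11 (hdv.mul_left 5)
      obtain rfl := Nat.eq_one_of_dvd_coprimes hc dvd_rfl hk1584
      omega
    obtain ⟨⟨t, htN⟩, hto⟩ := exists_prime_orderOf_dvd_card' (G := N) 2 h2
    rw [Subgroup.orderOf_mk] at hto
    have htM : t ∈ M := by
      have h1 : (t : G ⧸ M) ^ 2 = 1 := by
        rw [← QuotientGroup.mk_pow, ← hto, pow_orderOf_eq_one, QuotientGroup.mk_one]
      have h2' := orderOf_dvd_of_pow_eq_one h1
      have h3' : orderOf (t : G ⧸ M) ∣ 495 := by
        have hq : Nat.card (G ⧸ M) = 495 := by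
          have := Subgroup.card_eq_card_quotient_mul_card_subgroup M
          rw [hG, hM] at this
          omega
        exact hq ▸ orderOf_dvd_natCard _
      exact (QuotientGroup.eq_one_iff t).1 (orderOf_eq_one_iff.1
        (Nat.eq_one_of_dvd_coprimes (by norm_num) h2' h3'))
    refine Or.inl (edge_of_commute (by norm_num) Nat.prime_two (by norm_num)
      (r := (r : G)) (s := t) ?_ (by rw [Subgroup.orderOf_coe, hr]) (by rw [hto]))
    have hinf : R5 ⊓ M = ⊥ := CfsgLib.Base.inf_eq_bot_of_coprime (by rw [hR5, hM]; norm_num)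
    have hmem : (r : G) * t * (r : G)⁻¹ * t⁻¹ ∈ R5 ⊓ M := by
      refine Subgroup.mem_inf.2 ⟨?_, mul_mem (Subgroup.Normal.conj_mem inferInstance t htM _) (inv_mem htM)⟩
      rw [show (r : G) * t * (r : G)⁻¹ * t⁻¹ = (r : G) * (t * (r : G)⁻¹ * t⁻¹) by group]
      exact mul_mem r.2 ((Subgroup.mem_normalizer_iff.1 htN _).1 (inv_mem r.2))
    rw [hinf, Subgroup.mem_bot, mul_inv_eq_one, mul_inv_eq_iff_eq_mul] at hmem
    exact hmem
  · have hb2 : b < 3 := hbnd 3 (by norm_num)
    have e2 : Edge G 2 3 := edge_of_normalizes (by norm_num) hq (by norm_num) R2 M hR2 hM (hMn _)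
      (by interval_cases b <;> first | omega | norm_num)
    have e11 : Edge G 11 3 := edge_of_normalizes (by norm_num) hq (by norm_num) R11 M hR11 hM
      (hMn _) (by interval_cases b <;> first | omega | norm_num)
    have e5 : Edge G 5 3 := edge_of_normalizes (by norm_num) hq (by norm_num) R5 M hR5 hM
      (hMn _) (by interval_cases b <;> first | omega | norm_num)
    exact Or.inl ⟨Or.inr ⟨e11.symm, e2⟩, Or.inr (Or.inl e5)⟩
  · obtain rfl : b = 1 := by have := hbnd 2 (by norm_num); omega
    obtain ⟨e, he, hce⟩ := exists_index_centralizer (p := 5) M (by rw [hM, pow_one])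
    rw [Subgroup.normalizer_eq_top, Subgroup.card_top, hG] at hce
    have he4 : e = 1 ∨ e = 2 ∨ e = 4 := by
      have h := Nat.le_of_dvd (by norm_num) he
      interval_cases e <;> first | omega | norm_num at he
    obtain ⟨⟨x, hx⟩, hxo⟩ := exists_prime_orderOf_dvd_card' (G := M) 5 (by rw [hM]; norm_num)
    rw [Subgroup.orderOf_mk] at hxo
    have hC : ∀ y ∈ centralizer (M : Set G), Commute x y := fun y hy =>
      Subgroup.mem_centralizer_iff.1 hy x hx
    have h : ∀ p : ℕ, p.Prime → p ∣ 1980 → p ≠ 5 → Edge G 5 p := fun p hp hd hne =>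
      edge_of_dvd_centralizer (by norm_num) hp (Ne.symm hne) (by rw [hxo]) hC
        (hd.trans (by rcases he4 with rfl | rfl | rfl <;> omega))
    exact Or.inr ⟨h 2 Nat.prime_two (by norm_num) (by norm_num),
      h 3 Nat.prime_three (by norm_num) (by norm_num),
      h 11 (by norm_num) (by norm_num) (by norm_num)⟩
  · obtain rfl : b = 1 := by have := hbnd 2 (by norm_num); omega
    have h := edges_of_eleven hG M (by rw [hM, pow_one])
      (Or.inr (by rw [Subgroup.normalizer_eq_top, Subgroup.card_top, hG]))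
    exact Or.inl ⟨Or.inl ⟨h.1.1, Or.inl h.1.2⟩, h.2.elim (fun h => Or.inr (Or.inl h))
      (fun h => Or.inr (Or.inr h))⟩

end

theorem signed_small : ∀ d < 63, d ∣ 3960 →
    (d % 11 = 1 → d = 1 ∨ d = 12 ∨ d = 45) ∧ (d % 11 = 10 → d = 10) := by
  decide +kernel

/-- There is no simple group of order `990 c` with forty-five Sylow 11-normalizers of
order `22 c`. -/
theorem false_of_forty_five {H : Type u} [Group H] [Finite H] [IsSimpleGroup H]
    (hn : ¬ IsMulCommutative H) (P : Sylow 11 H) [Fact (Nat.Prime 11)]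
    (hP : Nat.card (P : Subgroup H) = 11) {c : ℕ} (hc : c = 1 ∨ c = 2 ∨ c = 4)
    (hH : Nat.card H = 990 * c)
    (hC : Nat.card (centralizer ((P : Subgroup H) : Set H)) = 11 * c)
    (hN : Nat.card (centralizer ((P : Subgroup H) : Set H)) * 2 =
      Nat.card (normalizer ((P : Subgroup H) : Set H))) : False := by
  classical
  haveI := Fintype.ofFinite H
  haveI := irrFintype H
  have h2c : 2 ∣ c := by
    rcases hc with rfl | rfl | rfl
    · have := four_dvd_of_even hn (by rw [hH]; decide)
      rw [hH] at this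
      norm_num at this
    all_goals norm_num
  obtain ⟨⟨t, htC⟩, hto⟩ := exists_prime_orderOf_dvd_card' (G := centralizer
    ((P : Subgroup H) : Set H)) 2 (by rw [hC]; exact h2c.mul_left 11)
  rw [Subgroup.orderOf_mk] at hto
  have ht : t * t = 1 := by rw [← sq, ← hto, pow_orderOf_eq_one]
  have ht1 : t ≠ 1 := fun h => by rw [h, orderOf_one] at hto; omega
  have hdvdC : 11 ∣ Nat.card (centralizer ({t} : Set H)) := by
    rw [← hP]
    exact Subgroup.card_dvd_of_le fun y hy =>
      Subgroup.mem_centralizer_singleton_iff.2 (Subgroup.mem_centralizer_iff.1 htC y hy)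
  obtain ⟨M, hM⟩ := CharApps.exists_pModular (p := 11)
  haveI := hM.2.1.isPrime
  have hrel' : (centralizer ((P : Subgroup H) : Set H)).relIndex
      (normalizer ((P : Subgroup H) : Set H)) = 2 := by
    have h := relIndex_mul_relIndex _ _ _ bot_le
      (centralizer_le_normalizer ((P : Subgroup H) : Set H))
    rw [relIndex_bot_left, relIndex_bot_left, ← hN] at h
    exact Nat.eq_of_mul_eq_mul_left Nat.card_pos h
  obtain ⟨X, Y, σ, ε, hB, hdisj, hX, hY, hXp, hε, hYd, hYeq, hrel⟩ :=
    exists_block_data (by norm_num) hM P hP hrel'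
  norm_num at hY
  have hdeg : ∀ χ : IrrCharacter H, charDegree (χ : H → ℂ) ∣ 3960 ∧
      charDegree (χ : H → ℂ) < 63 := by
    intro χ
    refine ⟨(charDegree_dvd_card χ).trans (by rw [hH]; rcases hc with rfl | rfl | rfl <;> norm_num),
      ?_⟩
    have h := Finset.single_le_sum (f := fun ψ : IrrCharacter H => charDegree (ψ : H → ℂ) ^ 2)
      (fun _ _ => Nat.zero_le _) (Finset.mem_univ χ)
    rw [sum_degree_sq_nat, hH] at h
    by_contra hlt
    have := Nat.pow_le_pow_left (not_lt.1 hlt) 2
    norm_num at this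
    omega
  have hone : ∀ χ : IrrCharacter H, charDegree (χ : H → ℂ) = 1 → χ = principal H := fun χ h =>
    eq_of_degree_one hn h ((deg_eq_one_iff (principal H)).mp (principal_apply _))
  have h11one : ¬ 11 ∣ orderOf (1 : H) := by rw [orderOf_one]; norm_num
  have hprin : principal H ∈ X := by
    rcases (hB _).1 (CfsgLib.Blocks.principal_mem_principalBlock M) with h | h
    · exact h
    exfalso
    obtain ⟨a, ha, b, hb, hab⟩ := Finset.one_lt_card.1 (show 1 < Y.card by rw [hY]; norm_num)
    have key : ∀ ψ ∈ Y, ψ = principal H := fun ψ hψ => by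
      have h1 := hYeq ψ hψ _ h 1 h11one
      rw [deg_eq, principal_apply, Nat.cast_eq_one] at h1
      exact hone ψ h1
    exact hab ((key a ha).trans (key b hb).symm)
  obtain ⟨χ, hχe⟩ := Finset.card_eq_one.1 (show (X.erase (principal H)).card = 1 by
    rw [Finset.card_erase_of_mem hprin, hX])
  have hχX : χ ≠ principal H ∧ χ ∈ X := Finset.mem_erase.1 (by simp [hχe])
  obtain ⟨θ, hθ⟩ : Y.Nonempty := Finset.card_pos.1 (by rw [hY]; norm_num)
  have hσp : σ (principal H) = 1 := by
    have h := (hXp _ hprin).2.1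
    rw [(deg_eq_one_iff (principal H)).mp (principal_apply _), Int.modEq_iff_dvd] at h
    rcases (hXp _ hprin).1 with h' | h' <;> rw [h'] at h ⊢ <;> omega
  have hT : ε * (charDegree (θ : H → ℂ) : ℤ) = 1 + σ χ * (charDegree (χ : H → ℂ) : ℤ) := by
    have h := hrel θ hθ 1 h11one
    rw [← Finset.add_sum_erase _ _ hprin, hχe, Finset.sum_singleton, hσp, principal_apply,
      deg_eq, deg_eq, Int.cast_one, one_mul] at h
    exact_mod_cast h
  have hne10 : charDegree (χ : H → ℂ) ≠ 10 := by
    intro h10
    obtain ⟨m, hm⟩ := exists_int_apply_involution ht χ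
    have h4 := four_dvd_degree_sub (commutator_eq_top hn) χ ht hm
    have h11 := int_congr_of_principalBlock hM (by
      rw [hH]; rcases hc with rfl | rfl | rfl <;> norm_num) ((hB χ).2 (Or.inl hχX.2)) hdvdC hm
    have hK : ∀ K : Subgroup H, K.Normal → t ∈ K → K = ⊤ := fun K hK htK =>
      hK.eq_bot_or_eq_top.resolve_left fun h => ht1 (by rwa [h, Subgroup.mem_bot] at htK)
    have h1 := apply_ne_degree hK χ hχX.1
    rw [← hm, deg_eq, h10] at h1
    have h2 := char_norm_le (isCharacter_of_irr χ.2) t
    rw [← hm, deg_eq, Complex.norm_intCast, Complex.natCast_re, h10] at h2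
    have h3 : |m| ≤ 10 := by exact_mod_cast h2
    have hne : m ≠ 10 := fun h => h1 (by rw [h]; norm_num)
    rw [h10] at h4 h11
    obtain ⟨h5, h6⟩ := abs_le.1 h3
    omega
  have hs : σ χ * (charDegree (χ : H → ℂ) : ℤ) = 12 ∨
      σ χ * (charDegree (χ : H → ℂ) : ℤ) = 45 := by
    obtain ⟨k1, k2⟩ := signed_small _ (hdeg χ).2 (hdeg χ).1
    have hne1 : charDegree (χ : H → ℂ) ≠ 1 := fun h => hχX.1 (hone χ h)
    have h := (hXp χ hχX.2).2.1
    rw [Int.modEq_iff_dvd] at h
    rcases (hXp χ hχX.2).1 with h' | h' <;> rw [h'] at h ⊢ <;> omega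
  have hθd : charDegree (θ : H → ℂ) = 13 ∨ charDegree (θ : H → ℂ) = 46 := by
    rcases hε with h | h <;> rw [h] at hT <;> omega
  rcases hθd with h | h <;> [skip; skip] <;>
    exact absurd (h ▸ (hdeg θ).1) (by norm_num)

variable (hG : Nat.card G = 7920)

include hG

/-- A group of order 7920 that is not simple has a connected prime graph. -/
theorem connected_of_normal (K : Subgroup G) [K.Normal] (hK1 : K ≠ ⊥) (hK2 : K ≠ ⊤) :
    Connected G := by
  classical
  haveI := Fact.mk (show Nat.Prime 11 by norm_num)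
  obtain ⟨M, ⟨hMn, hM1, hMK⟩, hmin⟩ := Set.Finite.exists_minimalFor (fun M : Subgroup G => Nat.card M)
    {M : Subgroup G | M.Normal ∧ M ≠ ⊥ ∧ M ≤ K} (Set.toFinite _) ⟨K, inferInstance, hK1, le_rfl⟩
  haveI := hMn
  have hM2 : M ≠ ⊤ := fun h => hK2 (top_le_iff.1 (h ▸ hMK))
  have hminimal : ∀ L : Subgroup G, L.Normal → L ≤ M → L = ⊥ ∨ L = M := by
    intro L hL hLM
    by_contra h
    push Not at h
    have hle : Nat.card L ≤ Nat.card M := Subgroup.card_le_of_le hLM
    exact h.2 (Subgroup.eq_of_le_of_card_ge hLM (hmin (j := L) ⟨hL, h.1, hLM.trans hMK⟩ hle))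
  haveI : Nontrivial M := (Subgroup.nontrivial_iff_ne_bot M).2 hM1
  have hMd : Nat.card M ∣ 7920 := hG ▸ Subgroup.card_subgroup_dvd_card M
  have hMlt : Nat.card M < 7920 := by
    have := Subgroup.one_lt_index_of_ne_top hM2
    have h := Subgroup.card_mul_index M
    rw [hG] at h
    have := Nat.mul_le_mul_left (Nat.card M) (show 2 ≤ M.index by omega)
    have h0 : 0 < Nat.card M := Nat.card_pos
    omega
  by_cases hsol : Group.IsSolvable M
  · haveI := hsol
    have hlt := IsSolvable.commutator_lt_top_of_nontrivial M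
    have hcomm : commutator M = ⊥ := by
      rcases hminimal ⁅M, M⁆ inferInstance (Subgroup.commutator_le_self M) with h | h
      · rw [← Subgroup.map_subtype_commutator] at h
        exact (Subgroup.map_eq_bot_iff_of_injective _ M.subtype_injective).1 h
      · exfalso
        rw [← Subgroup.map_subtype_commutator] at h
        refine hlt.ne (Subgroup.map_injective M.subtype_injective ?_)
        rw [h, ← MonoidHom.range_eq_map, Subgroup.range_subtype]
    obtain ⟨q, hq, hqd⟩ := Nat.exists_prime_and_dvd (n := Nat.card M)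
      (Finite.one_lt_card (α := M)).ne'
    haveI := Fact.mk hq
    obtain ⟨S⟩ := (inferInstance : Nonempty (Sylow q M))
    haveI : IsMulCommutative M := by
      rw [commutator_eq_bot_iff_center_eq_top] at hcomm
      exact ⟨⟨fun a b => (Subgroup.mem_center_iff.1 (hcomm ▸ Subgroup.mem_top a) b).symm⟩⟩
    haveI : (S : Subgroup M).Normal := Subgroup.normal_of_isMulCommutative _
    haveI : (S : Subgroup M).Characteristic := Sylow.characteristic_of_normal S inferInstance
    haveI : ((S : Subgroup M).map M.subtype).Normal := ConjAct.normal_of_characteristic_of_normal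
    exact edges_of_normal_pgroup hG hq (b := (Nat.card M).factorization q)
      (hq.factorization_pos_of_dvd Nat.card_pos.ne' hqd).ne' ((S : Subgroup M).map M.subtype)
      (by rw [Subgroup.card_map_of_injective M.subtype_injective, S.card_eq_multiplicity])
  have hprimes : ∀ p q : ℕ, ∃ r, r.Prime ∧ r ∣ Nat.card M ∧ r ≠ p ∧ r ≠ q := by
    intro p q
    by_contra h
    push Not at h
    exact hsol (CfsgLib.Chars.isSolvable_of_primeFactors_pair p q fun r hr hd => by
      by_cases hrp : r = p
      · exact Or.inl hrp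
      · exact Or.inr (h r hr hd hrp))
  have h4 : ∀ r : ℕ, r.Prime → r ∣ Nat.card M → r = 2 ∨ r = 3 ∨ r = 5 ∨ r = 11 := by
    intro r hr hd
    have hd' := hd.trans hMd
    rw [show 7920 = 2 ^ 4 * (3 ^ 2 * (5 * 11)) by norm_num] at hd'
    rcases hr.dvd_mul.1 hd' with h | h
    · exact Or.inl ((Nat.prime_dvd_prime_iff_eq hr Nat.prime_two).1 (hr.dvd_of_dvd_pow h))
    rcases hr.dvd_mul.1 h with h | h
    · exact Or.inr (Or.inl ((Nat.prime_dvd_prime_iff_eq hr Nat.prime_three).1
        (hr.dvd_of_dvd_pow h)))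
    rcases hr.dvd_mul.1 h with h | h
    · exact Or.inr (Or.inr (Or.inl ((Nat.prime_dvd_prime_iff_eq hr (by norm_num)).1 h)))
    · exact Or.inr (Or.inr (Or.inr ((Nat.prime_dvd_prime_iff_eq hr (by norm_num)).1 h)))
  by_cases h11 : 11 ∣ Nat.card M
  swap
  · haveI := Fact.mk Nat.prime_two
    haveI := Fact.mk Nat.prime_three
    haveI := Fact.mk (show Nat.Prime 5 by norm_num)
    obtain ⟨r, hr, hrd, hr2, hr3⟩ := hprimes 2 3
    have e5 : Edge G 11 5 := by
      refine edge_of_normal (p := 11) (q := 5) (by norm_num) M (by rw [hG]; norm_num) h11 ?_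
      intro b hb _
      have : b < 2 := by
        by_contra h
        have := ((Nat.pow_dvd_pow 5 (not_lt.1 h)).trans hb).trans hMd
        norm_num at this
      interval_cases b
      · exfalso
        rename_i hnot
        obtain rfl : r = 5 := by
          rcases h4 r hr hrd with h | h | h | h <;> first | omega | exact absurd (h ▸ hrd) h11
        exact hnot (by simpa using hrd)
      · norm_num
    have e2 : Edge G 11 2 := by
      refine edge_of_normal (p := 11) (q := 2) (by norm_num) M (by rw [hG]; norm_num) h11 ?_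
      intro b hb hnot
      have : b < 5 := by
        by_contra h
        have := ((Nat.pow_dvd_pow 2 (not_lt.1 h)).trans hb).trans hMd
        norm_num at this
      interval_cases b
      · exfalso
        obtain ⟨r, hr, hrd, h1, h2⟩ := hprimes 3 5
        obtain rfl : r = 2 := by
          rcases h4 r hr hrd with h | h | h | h <;> first | omega | exact absurd (h ▸ hrd) h11
        exact hnot (by simpa using hrd)
      all_goals norm_num
    have e3 : Edge G 11 3 := by
      refine edge_of_normal (p := 11) (q := 3) (by norm_num) M (by rw [hG]; norm_num) h11 ?_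
      intro b hb hnot
      have : b < 3 := by
        by_contra h
        have := ((Nat.pow_dvd_pow 3 (not_lt.1 h)).trans hb).trans hMd
        norm_num at this
      interval_cases b
      · exfalso
        obtain ⟨r, hr, hrd, h1, h2⟩ := hprimes 2 5
        obtain rfl : r = 3 := by
          rcases h4 r hr hrd with h | h | h | h <;> first | omega | exact absurd (h ▸ hrd) h11
        exact hnot (by simpa using hrd)
      all_goals norm_num
    exact Or.inl ⟨Or.inl ⟨e2.symm, Or.inl e3.symm⟩, Or.inr (Or.inr e5.symm)⟩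
  -- `M` is simple
  have hmemM : ∀ g : G, orderOf g = 11 → g ∈ M := by
    intro g hg
    have h1 : (g : G ⧸ M) ^ 11 = 1 := by
      rw [← QuotientGroup.mk_pow, ← hg, pow_orderOf_eq_one, QuotientGroup.mk_one]
    have hq := Subgroup.card_eq_card_quotient_mul_card_subgroup M
    rw [hG] at hq
    have hcop : Nat.Coprime 11 (Nat.card (G ⧸ M)) := by
      refine (Nat.Prime.coprime_iff_not_dvd (by norm_num)).2 fun h => ?_
      have := Nat.mul_dvd_mul h h11
      rw [← hq] at this
      norm_num at this
    exact (QuotientGroup.eq_one_iff g).1 (orderOf_eq_one_iff.1 (Nat.eq_one_of_dvd_coprimes hcop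
      (orderOf_dvd_of_pow_eq_one h1) (orderOf_dvd_natCard _)))
  haveI hsimple : IsSimpleGroup M := by
    refine { eq_bot_or_eq_top_of_normal := fun L hL => ?_ }
    haveI := hL
    by_cases h11L : 11 ∣ Nat.card L
    · right
      obtain ⟨x, hx⟩ := exists_prime_orderOf_dvd_card' (G := L) 11 h11L
      let H : Subgroup G := Subgroup.closure {g : G | orderOf g = 11}
      have hHM : H ≤ M := (Subgroup.closure_le M).2 hmemM
      have hHn : H.Normal := by
        refine ⟨fun a ha g => ?_⟩
        have : H.map (MulAut.conj g).toMonoidHom ≤ H := by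
          rw [MonoidHom.map_closure, Subgroup.closure_le]
          rintro _ ⟨b, hb, rfl⟩
          exact Subgroup.subset_closure
            ((orderOf_injective (MulAut.conj g).toMonoidHom (MulAut.conj g).injective b).trans hb)
        exact this ⟨a, ha, rfl⟩
      have hxH : ((x : M) : G) ∈ H := Subgroup.subset_closure (by
        show orderOf _ = 11
        rw [Subgroup.orderOf_coe, Subgroup.orderOf_coe, hx])
      rcases hminimal H hHn hHM with h | h
      · exfalso
        rw [h, Subgroup.mem_bot] at hxH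
        have : orderOf ((x : M) : G) = 1 := by rw [hxH, orderOf_one]
        rw [Subgroup.orderOf_coe, Subgroup.orderOf_coe, hx] at this
        omega
      have hML : H ≤ L.map M.subtype := by
        rw [Subgroup.closure_le]
        intro g hg
        refine ⟨⟨g, hmemM g hg⟩, ?_, rfl⟩
        have h1 : ((⟨g, hmemM g hg⟩ : M) : M ⧸ L) ^ 11 = 1 := by
          rw [← QuotientGroup.mk_pow, show (⟨g, hmemM g hg⟩ : M) ^ 11 = 1 from Subtype.ext (by
            show g ^ 11 = 1
            rw [← (show orderOf g = 11 from hg), pow_orderOf_eq_one]), QuotientGroup.mk_one]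
        have hq := Subgroup.card_eq_card_quotient_mul_card_subgroup L
        have hcop : Nat.Coprime 11 (Nat.card (M ⧸ L)) := by
          refine (Nat.Prime.coprime_iff_not_dvd (by norm_num)).2 fun h => ?_
          have := Nat.mul_dvd_mul h h11L
          rw [← hq] at this
          have := this.trans hMd
          norm_num at this
        exact (QuotientGroup.eq_one_iff _).1 (orderOf_eq_one_iff.1 (Nat.eq_one_of_dvd_coprimes hcop
          (orderOf_dvd_of_pow_eq_one h1) (orderOf_dvd_natCard _)))
      rw [h] at hML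
      rw [eq_top_iff]
      intro y _
      obtain ⟨z, hz, hzy⟩ := hML y.2
      rwa [← Subtype.ext (show (z : G) = (y : G) from hzy)]
    · left
      obtain ⟨X, ⟨hXM, hXn, hX11⟩, hmax⟩ := Set.Finite.exists_maximalFor
        (fun X : Subgroup G => Nat.card X)
        {X : Subgroup G | X ≤ M ∧ M ≤ normalizer (X : Set G) ∧ ¬ 11 ∣ Nat.card X} (Set.toFinite _)
        ⟨⊥, bot_le, by rw [Subgroup.normalizer_eq_top]; exact le_top,
          by rw [Subgroup.card_bot]; norm_num⟩
      have hsup : ∀ Y : Subgroup G, Y ≤ M → M ≤ normalizer (Y : Set G) → ¬ 11 ∣ Nat.card Y →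
          Y ≤ X := by
        intro Y hY hYn hY11
        have hmem : X ⊔ Y ∈ {X : Subgroup G | X ≤ M ∧ M ≤ normalizer (X : Set G) ∧
            ¬ 11 ∣ Nat.card X} := by
          refine ⟨sup_le hXM hY, fun m hm => ?_, fun h => ?_⟩
          · rw [Subgroup.mem_normalizer_iff_map_conj_eq, Subgroup.map_sup,
              Subgroup.mem_normalizer_iff_map_conj_eq.1 (hXn hm),
              Subgroup.mem_normalizer_iff_map_conj_eq.1 (hYn hm)]
          · have := h.trans (CfsgLib.Coprime.card_sup_dvd (H := X) (N := Y) (hXM.trans hYn))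
            rcases (show Nat.Prime 11 by norm_num).dvd_mul.1 this with h' | h'
            · exact hX11 h'
            · exact hY11 h'
        have hge := hmax (j := X ⊔ Y) hmem (Subgroup.card_le_of_le le_sup_left)
        exact (Subgroup.eq_of_le_of_card_ge le_sup_left hge).symm ▸ le_sup_right
      have hXnormal : X.Normal := by
        refine ⟨fun a ha g => ?_⟩
        refine hsup (X.map (MulAut.conj g).toMonoidHom) ?_ ?_ ?_ ⟨a, ha, rfl⟩
        · rintro _ ⟨b, hb, rfl⟩
          exact hMn.conj_mem b (hXM hb) g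
        · intro m hm
          rw [Subgroup.mem_normalizer_iff_map_conj_eq, Subgroup.map_map]
          have hm' : g⁻¹ * m * g ∈ M := hMn.conj_mem' m hm g
          have h := Subgroup.mem_normalizer_iff_map_conj_eq.1 (hXn hm')
          conv_rhs => rw [← h, Subgroup.map_map]
          congr 1
          ext a
          simp [mul_assoc]
        · rw [Subgroup.card_map_of_injective (MulAut.conj g).injective]
          exact hX11
      have hL : L.map M.subtype ≤ X := by
        refine hsup _ (Subgroup.map_subtype_le L) (fun m hm => ?_)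
          (by rw [Subgroup.card_map_of_injective M.subtype_injective]; exact h11L)
        rw [Subgroup.mem_normalizer_iff_map_conj_eq, Subgroup.map_map]
        have h := Subgroup.mem_normalizer_iff_map_conj_eq.1
          (show (⟨m, hm⟩ : M) ∈ normalizer (L : Set M) by
            rw [Subgroup.normalizer_eq_top]; exact Subgroup.mem_top _)
        conv_rhs => rw [← h, Subgroup.map_map]
        congr 1
      rcases hminimal X hXnormal hXM with h | h
      · rw [h, le_bot_iff, Subgroup.map_eq_bot_iff_of_injective _ M.subtype_injective] at hL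
        exact hL
      · exact absurd (h ▸ h11) hX11
  have hMna : ¬ IsMulCommutative M := fun h => hsol (by
    let _ : CommGroup M := { (inferInstance : Group M) with mul_comm := fun a b => h.is_comm.comm a b }
    infer_instance)
  -- the Sylow subgroups of order eleven
  have h121 : ¬ 11 ^ 2 ∣ Nat.card M := fun h => by
    have := h.trans hMd
    norm_num at this
  obtain ⟨P⟩ := (inferInstance : Nonempty (Sylow 11 M))
  have hP : Nat.card (P : Subgroup M) = 11 := by
    obtain ⟨m, hm⟩ := h11
    simpa using card_sylow_eq (p := 11) 1 m (by rw [hm, pow_one]) (fun h => h121 (by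
      rw [hm, sq]; exact Nat.mul_dvd_mul_left 11 h)) P
  set n := Nat.card (Sylow 11 M) with hn
  have hnm : n % 11 = 1 := card_sylow_modEq_one 11 M
  have hn1 : 1 < n := one_lt_card_sylow hMna h11
  have hmulM := card_normalizer_mul P
  rw [← hn] at hmulM
  set P' : Subgroup G := (P : Subgroup M).map M.subtype with hP'
  have hP'c : Nat.card P' = 11 := by
    rw [hP', Subgroup.card_map_of_injective M.subtype_injective, hP]
  have hNG : Nat.card (normalizer (P' : Set G)) * n = 7920 := by
    have hsup : normalizer (P' : Set G) ⊔ M = ⊤ := Sylow.normalizer_sup_eq_top P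
    have hinf : Nat.card (normalizer (P' : Set G) ⊓ M : Subgroup G) =
        Nat.card (normalizer ((P : Subgroup M) : Set M)) := by
      have h : P'.subgroupOf M = (P : Subgroup M) :=
        Subgroup.comap_map_eq_self_of_injective M.subtype_injective _
      rw [← h, ← Subgroup.subgroupOf_normalizer_eq (Subgroup.map_subtype_le _),
        ← Subgroup.inf_subgroupOf_right,
        Nat.card_congr (Subgroup.subgroupOfEquivOfLe inf_le_right).toEquiv]
    have h := CfsgLib.Base.card_sup_mul_card_inf (normalizer (P' : Set G)) M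
    rw [hsup, Subgroup.card_top, hG, hinf] at h
    have h0 : 0 < Nat.card (normalizer ((P : Subgroup M) : Set M)) := Nat.card_pos
    apply Nat.eq_of_mul_eq_mul_right h0
    calc Nat.card (normalizer (P' : Set G)) * n * Nat.card (normalizer ((P : Subgroup M) : Set M))
        = Nat.card (normalizer (P' : Set G)) *
          (Nat.card (normalizer ((P : Subgroup M) : Set M)) * n) := by ring
      _ = _ := by rw [hmulM, h]
  obtain ⟨e, he1, hed, hce⟩ := exists_normalizer_centralizer hMna P hP
  obtain ⟨c, hc⟩ := dvd_card_centralizer P hP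
  rw [← hce, hc] at hmulM
  have hn720 : n ∣ 720 := by
    obtain ⟨m, hm⟩ := h11
    refine (card_sylow_dvd (p := 11) 1 m (by rw [hm, pow_one]) (fun h => h121 (by
      rw [hm, sq]; exact Nat.mul_dvd_mul_left 11 h))).trans ?_
    rw [hm] at hMd
    exact Nat.dvd_of_mul_dvd_mul_left (by norm_num : 0 < 11) hMd
  have hncases := sylow_count_arith n (Nat.lt_succ_of_le (Nat.le_of_dvd (by norm_num) hn720))
    hn720 hnm
  rcases hncases with h | h | h | h
  · omega
  · have h := edges_of_eleven hG P' hP'c (Or.inl (by rw [h] at hNG; omega))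
    exact Or.inl ⟨Or.inl ⟨h.1.1, Or.inl h.1.2⟩, h.2.elim (fun h => Or.inr (Or.inl h))
      (fun h => Or.inr (Or.inr h))⟩
  · exfalso
    rw [h] at hmulM
    have hce16 : c * e ∣ 16 := by
      have hd : 495 * (c * e) ∣ 495 * 16 := by
        rw [show 495 * (c * e) = Nat.card M by rw [← hmulM]; ring]
        exact hMd
      exact Nat.dvd_of_mul_dvd_mul_left (by norm_num) hd
    obtain rfl : e = 2 := by
      have hle := Nat.le_of_dvd (by norm_num) hed
      have he16 : e ∣ 16 := (dvd_mul_left e c).trans hce16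
      interval_cases e <;> first | rfl | omega | norm_num at he16 | norm_num at hed
    have hcH : Nat.card M = 990 * c := by rw [← hmulM]; ring
    have hc124 : c = 1 ∨ c = 2 ∨ c = 4 := by
      have h16 : c ∣ 16 := (dvd_mul_right c 2).trans hce16
      have hlt : c < 8 := by omega
      interval_cases c <;> first | omega | (norm_num at h16)
    exact false_of_forty_five hMna P hP hc124 hcH hc hce
  · exfalso
    rw [h] at hmulM
    have hd : 1584 * (c * e) ∣ 1584 * 5 := by
      rw [show 1584 * (c * e) = Nat.card M by rw [← hmulM]; ring]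
      exact hMd
    have hce5 : c * e ∣ 5 := Nat.dvd_of_mul_dvd_mul_left (by norm_num) hd
    have hlt : 1584 * (c * e) < 7920 := by
      rw [show 1584 * (c * e) = Nat.card M by rw [← hmulM]; ring]
      exact hMlt
    rcases (Nat.dvd_prime (show Nat.Prime 5 by norm_num)).1 hce5 with h5 | h5
    · have := Nat.eq_one_of_mul_eq_one_left h5
      omega
    · omega

theorem isSimpleGroup_of_disconnected
    (hdisc : ∃ A : Set ℕ, (∃ a ∈ A, a.Prime ∧ a ∣ Nat.card G) ∧
      (∃ b ∉ A, b.Prime ∧ b ∣ Nat.card G) ∧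
      ∀ a ∈ A, ∀ b ∉ A, a.Prime → b.Prime → a ∣ Nat.card G → b ∣ Nat.card G →
        ¬ ∃ g : G, orderOf g = a * b) : IsSimpleGroup G := by
  haveI : Nontrivial G := Finite.one_lt_card_iff_nontrivial.1 (by rw [hG]; norm_num)
  refine { eq_bot_or_eq_top_of_normal := fun K hK => ?_ }
  haveI := hK
  by_contra h
  push Not at h
  exact false_of_edges hG hdisc (connected_of_normal hG K h.1 h.2)

end CfsgLib.Small.O7920
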