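import Cfsg.Agent.Lib.Small.Order7920Tools

/-!
# Simple groups of order 7920: the Sylow subgroups of order 11
-/

set_option autoImplicit false
set_option linter.style.haveILetI false
set_option linter.unusedSectionVars false

open Cfsg CfsgLib.Chars CfsgLib.CharApps CfsgLib.Blocks

namespace CfsgLib.Small.O7920

universe u

variable {G : Type u} [Group G] [Finite G]

/-- The signed degrees and values of the principal block, with finite sets. -/
theorem exists_block_data {p : ℕ} [Fact p.Prime] (hodd : p ≠ 2) {M : Ideal AlgInt}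
    (hM : IsPModular p M) (P : Sylow p G) (hP : Nat.card (P : Subgroup G) = p) {e : ℕ}
    (he : (Subgroup.centralizer ((P : Subgroup G) : Set G)).relIndex
      (Subgroup.normalizer ((P : Subgroup G) : Set G)) = e) :
    ∃ (X Y : Finset (IrrCharacter G)) (σ : IrrCharacter G → ℤ) (ε : ℤ),
      (∀ χ, χ ∈ principalBlock M G ↔ χ ∈ X ∨ χ ∈ Y) ∧ Disjoint X Y ∧ X.card = e ∧
      Y.card = (p - 1) / e ∧
      (∀ χ ∈ X, (σ χ = 1 ∨ σ χ = -1) ∧ σ χ * (charDegree (χ : G → ℂ) : ℤ) ≡ 1 [ZMOD p] ∧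
        ∀ x ∈ (P : Subgroup G), x ≠ 1 → (χ : G → ℂ) x = (σ χ : ℂ)) ∧
      (ε = 1 ∨ ε = -1) ∧ (∀ θ ∈ Y, ε * (charDegree (θ : G → ℂ) : ℤ) ≡ e [ZMOD p]) ∧
      (∀ θ ∈ Y, ∀ θ' ∈ Y, ∀ g : G, ¬ p ∣ orderOf g → (θ : G → ℂ) g = (θ' : G → ℂ) g) ∧
      (∀ θ ∈ Y, ∀ g : G, ¬ p ∣ orderOf g →
        (ε : ℂ) * (θ : G → ℂ) g = ∑ χ ∈ X, (σ χ : ℂ) * (χ : G → ℂ) g) := by
  classical
  haveI := Fintype.ofFinite G
  haveI := hM.2.1.isPrime
  obtain ⟨X, Y, hB, hdisj, hX, hY, εX, ε, hXp, hε, hYdeg, hYeq, hrel⟩ :=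
    Agent.S4441.result p M hM hodd P hP e he
  refine ⟨(Set.toFinite X).toFinset, (Set.toFinite Y).toFinset, εX, ε, ?_, ?_, ?_, ?_, ?_, hε,
    ?_, ?_, ?_⟩
  · intro χ
    simp [hB]
  · exact Finset.disjoint_left.2 fun χ h1 h2 => hdisj.ne_of_mem
      ((Set.toFinite X).mem_toFinset.1 h1) ((Set.toFinite Y).mem_toFinset.1 h2) rfl
  · rw [← Nat.card_eq_card_finite_toFinset, hX]
  · rw [← Nat.card_eq_card_finite_toFinset, hY]
  · intro χ hχ
    rw [Set.Finite.mem_toFinset] at hχ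
    obtain ⟨hs, hd, hv⟩ := hXp χ hχ
    refine ⟨hs, ?_, fun x hx hx1 => ?_⟩
    · have h := hd.mul_left (εX χ)
      rcases hs with h' | h' <;> rw [h'] at h ⊢ <;> norm_num at h ⊢ <;> exact h
    · simpa using hv x hx hx1 1 (Subgroup.one_mem _)
        (by rw [orderOf_one]; exact (Fact.out : p.Prime).not_dvd_one)
  · intro θ hθ
    rw [Set.Finite.mem_toFinset] at hθ
    have h := (hYdeg θ hθ).mul_left ε
    rcases hε with h' | h' <;> rw [h'] at h ⊢ <;> simp at h ⊢ <;> exact h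
  · intro θ hθ θ' hθ'
    rw [Set.Finite.mem_toFinset] at hθ hθ'
    exact hYeq θ hθ θ' hθ'
  · intro θ hθ g hg
    rw [Set.Finite.mem_toFinset] at hθ
    rw [hrel θ hθ g hg, finsum_mem_eq_finite_toFinset_sum _ (Set.toFinite X)]

theorem not_sq_dvd {p : ℕ} (hG : Nat.card G = 7920) (hp : p = 5 ∨ p = 11) :
    ¬ p ^ 2 ∣ Nat.card G := by
  rcases hp with rfl | rfl <;> rw [hG] <;> norm_num

theorem eleven_arith (j : ℕ) (hj : j < 5) (i : ℕ) (hi : i < 5) (h : i + j = 1 ∨ i + j = 4)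
    (d : ℕ) (hd : d < 89) (hdvd : d ∣ 7920) : d ≠ 1 + 45 * j + 12 * i := by
  intro he
  interval_cases j <;> interval_cases i <;> first | omega | norm_num [he] at hdvd

theorem eleven_cases_arith (i j k : ℕ) (h : i + j + k = 4) (d : ℕ) (hlt : d < 89)
    (hd : d ∣ 7920) (h1 : 1 < d)
    (hT : (d : ℤ) = 1 + 12 * i + 45 * j - 10 * k ∨ -(d : ℤ) = 1 + 12 * i + 45 * j - 10 * k)
    (hsq : 1 + 144 * i + 2025 * j + 100 * k + 2 * d ^ 2 ≤ 7920) :
    i = 2 ∧ j = 0 ∧ k = 2 ∧ d = 5 ∧ (d : ℤ) = 1 + 12 * i + 45 * j - 10 * k ∨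
      i = 0 ∧ j = 1 ∧ k = 3 ∧ d = 16 ∧ (d : ℤ) = 1 + 12 * i + 45 * j - 10 * k := by
  obtain ⟨hi, hj, hk⟩ : i < 5 ∧ j < 5 ∧ k < 5 := ⟨by omega, by omega, by omega⟩
  interval_cases i <;> interval_cases j <;> interval_cases k <;>
    first
      | omega
      | (rcases hT with hT | hT <;> first
          | omega
          | (norm_num at hT; norm_cast at hT; subst hT; omega))

theorem sylow_count_arith : ∀ k < 721, k ∣ 720 → k % 11 = 1 →
    k = 1 ∨ k = 12 ∨ k = 45 ∨ k = 144 := by decide +kernel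

section

variable [IsSimpleGroup G] (hG : Nat.card G = 7920)

include hG

theorem nonabelian : ¬ IsMulCommutative G := not_isMulCommutative_of_card (by rw [hG]; norm_num)

theorem perfect : commutator G = ⊤ := commutator_eq_top (nonabelian hG)

theorem principal_degree : charDegree (principal G : G → ℂ) = 1 :=
  (deg_eq_one_iff (principal G)).mp (principal_apply _)

theorem eq_principal {χ : IrrCharacter G} (h : charDegree (χ : G → ℂ) = 1) : χ = principal G :=
  eq_of_degree_one (nonabelian hG) h (principal_degree hG)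

theorem degree_lt (χ : IrrCharacter G) : charDegree (χ : G → ℂ) < 89 := by
  classical
  haveI := irrFintype G
  by_cases hne : χ = principal G
  · rw [hne, principal_degree hG]; norm_num
  · have h := sum_degree_sq_nat (G := G)
    rw [← Finset.add_sum_erase _ _ (Finset.mem_univ χ), hG] at h
    by_contra hlt
    have := Nat.pow_le_pow_left (not_lt.1 hlt) 2
    norm_num at this
    omega

theorem degree_facts (χ : IrrCharacter G) :
    charDegree (χ : G → ℂ) < 89 ∧ charDegree (χ : G → ℂ) ∣ 7920 ∧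
      0 < charDegree (χ : G → ℂ) :=
  ⟨degree_lt hG χ, hG ▸ charDegree_dvd_card χ, CfsgLib.Blocks.charDegree_pos χ⟩

/-- An integral value at a nontrivial involution. -/
theorem involution_value {t : G} (ht : t * t = 1) (ht1 : t ≠ 1) (χ : IrrCharacter G)
    (hne : charDegree (χ : G → ℂ) ≠ 1) :
    ∃ m : ℤ, (m : ℂ) = (χ : G → ℂ) t ∧ (4 : ℤ) ∣ (charDegree (χ : G → ℂ) : ℤ) - m ∧
      -(charDegree (χ : G → ℂ) : ℤ) ≤ m ∧ m < (charDegree (χ : G → ℂ) : ℤ) := by
  haveI := Fintype.ofFinite G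
  obtain ⟨m, hm⟩ := exists_int_apply_involution ht χ
  have hK : ∀ K : Subgroup G, K.Normal → t ∈ K → K = ⊤ := fun K hK htK =>
    hK.eq_bot_or_eq_top.resolve_left fun h => ht1 (by rwa [h, Subgroup.mem_bot] at htK)
  have h1 := apply_ne_degree hK χ (fun h => hne (h ▸ principal_degree hG))
  rw [← hm, deg_eq] at h1
  have h2 := char_norm_le (isCharacter_of_irr χ.2) t
  rw [← hm, deg_eq, Complex.norm_intCast, Complex.natCast_re] at h2
  have h3 : |m| ≤ (charDegree (χ : G → ℂ) : ℤ) := by exact_mod_cast h2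
  have h4 : m ≠ (charDegree (χ : G → ℂ) : ℤ) := fun h => h1 (by exact_mod_cast congrArg (Int.cast : ℤ → ℂ) h)
  obtain ⟨h5, h6⟩ := abs_le.1 h3
  exact ⟨m, hm, four_dvd_degree_sub (perfect hG) χ ht hm, h5, lt_of_le_of_ne h6 h4⟩

theorem signed_eleven (χ : IrrCharacter G) {s : ℤ} (hs : s = 1 ∨ s = -1)
    (h : s * (charDegree (χ : G → ℂ) : ℤ) ≡ 1 [ZMOD 11]) :
    s * (charDegree (χ : G → ℂ) : ℤ) ∈ ({1, 12, 45, -10} : Finset ℤ) := by
  obtain ⟨hlt, hdvd, -⟩ := degree_facts hG χ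
  have key : ∀ d < 89, d ∣ 7920 → ((d % 11 = 1 → d = 1 ∨ d = 12 ∨ d = 45) ∧
      (d % 11 = 10 → d = 10)) := by decide +kernel
  obtain ⟨k1, k2⟩ := key _ hlt hdvd
  rw [Int.modEq_iff_dvd] at h
  simp only [Finset.mem_insert, Finset.mem_singleton]
  rcases hs with rfl | rfl <;> omega

/-- A Sylow 11-subgroup is self-centralizing and of index five in its normalizer. -/
theorem sylow_eleven (P : Sylow 11 G) :
    Nat.card (P : Subgroup G) = 11 ∧
      Subgroup.centralizer ((P : Subgroup G) : Set G) = (P : Subgroup G) ∧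
      Nat.card (Subgroup.normalizer ((P : Subgroup G) : Set G)) = 55 := by
  classical
  haveI := Fact.mk (show Nat.Prime 11 by norm_num)
  haveI := Fintype.ofFinite G
  haveI := irrFintype G
  have hn := nonabelian hG
  have hP : Nat.card (P : Subgroup G) = 11 := by
    simpa using card_sylow_eq (p := 11) 1 720 (by rw [hG]; rfl) (by norm_num) P
  obtain ⟨e, he1, hed, hce⟩ := exists_normalizer_centralizer hn P hP
  obtain ⟨c, hc⟩ := dvd_card_centralizer P hP
  have hmul := card_normalizer_mul P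
  rw [← hce, hc, hG] at hmul
  set n := Nat.card (Sylow 11 G) with hndef
  have hnm : n % 11 = 1 := card_sylow_modEq_one 11 G
  have hnd : n ∣ 720 := card_sylow_dvd (p := 11) 1 720 (by rw [hG]; rfl) (by norm_num)
  have he10 : e = 2 ∨ e = 5 ∨ e = 10 := by
    have h := Nat.le_of_dvd (by norm_num) hed
    norm_num at hed h
    interval_cases e <;> omega
  have hn1 : 1 < n := one_lt_card_sylow hn (by rw [hG]; norm_num) 
  have hncases : n = 12 ∨ n = 45 ∨ n = 144 := by
    have := sylow_count_arith n (Nat.lt_succ_of_le (Nat.le_of_dvd (by norm_num) hnd)) hnd hnm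
    omega
  have hgood : n = 144 ∧ e = 5 ∧ c = 1 ∨ 2 ∣ c := by
    rcases he10 with rfl | rfl | rfl <;> rcases hncases with h | h | h <;> rw [h] at hmul <;> omega
  rcases hgood with ⟨h144, rfl, rfl⟩ | h2c
  · refine ⟨hP, (Subgroup.eq_of_le_of_card_ge ?_ (by rw [hc, hP])).symm, by rw [← hce, hc]⟩
    have hcyc : IsCyclic (P : Subgroup G) := isCyclic_of_prime_card hP
    haveI := hcyc.isMulCommutative
    exact Subgroup.le_centralizer (P : Subgroup G)
  exfalso
  obtain ⟨⟨t, htC⟩, hto⟩ := exists_prime_orderOf_dvd_card' (G := Subgroup.centralizer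
    ((P : Subgroup G) : Set G)) 2 (by rw [hc]; exact h2c.mul_left 11)
  rw [Subgroup.orderOf_mk] at hto
  have ht : t * t = 1 := by rw [← sq, ← hto, pow_orderOf_eq_one]
  have ht1 : t ≠ 1 := fun h => by rw [h, orderOf_one] at hto; omega
  have hdvdC : 11 ∣ Nat.card (Subgroup.centralizer ({t} : Set G)) := by
    rw [← hP]
    exact Subgroup.card_dvd_of_le fun y hy =>
      Subgroup.mem_centralizer_singleton_iff.2 (Subgroup.mem_centralizer_iff.1 htC y hy)
  obtain ⟨M, hM⟩ := CharApps.exists_pModular (p := 11)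
  haveI := hM.2.1.isPrime
  have hno10 : ∀ χ ∈ principalBlock M G, charDegree (χ : G → ℂ) ≠ 10 := by
    intro χ hχ h10
    obtain ⟨m, hm, h4, hlo, hhi⟩ := involution_value hG ht ht1 χ (by omega)
    have h11 := int_congr_of_principalBlock hM (not_sq_dvd hG (Or.inr rfl)) hχ hdvdC hm
    rw [h10] at h4 hlo hhi h11
    omega
  have hrel' : (Subgroup.centralizer ((P : Subgroup G) : Set G)).relIndex
      (Subgroup.normalizer ((P : Subgroup G) : Set G)) = e := by
    have hle : Subgroup.centralizer ((P : Subgroup G) : Set G) ≤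
        Subgroup.normalizer ((P : Subgroup G) : Set G) := Subgroup.centralizer_le_normalizer _
    have h := Subgroup.relIndex_mul_relIndex _ _ _ bot_le hle
    rw [Subgroup.relIndex_bot_left, Subgroup.relIndex_bot_left, ← hce] at h
    exact Nat.eq_of_mul_eq_mul_left Nat.card_pos h
  obtain ⟨X, Y, σ, ε, hB, hdisj, hX, hY, hXp, hε, hYd, hYeq, hrel⟩ :=
    exists_block_data (by norm_num) hM P hP hrel'
  obtain ⟨θ, hθ⟩ : Y.Nonempty := Finset.card_pos.1 (by rw [hY]; rcases he10 with rfl | rfl | rfl <;> norm_num)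
  have hT : ε * (charDegree (θ : G → ℂ) : ℤ) = ∑ χ ∈ X, σ χ * (charDegree (χ : G → ℂ) : ℤ) := by
    have h := hrel θ hθ 1 (by rw [orderOf_one]; norm_num)
    simp only [deg_eq] at h
    exact_mod_cast h
  have hpos : ∀ χ ∈ X, σ χ * (charDegree (χ : G → ℂ) : ℤ) = 1 ∨
      σ χ * (charDegree (χ : G → ℂ) : ℤ) = 12 ∨ σ χ * (charDegree (χ : G → ℂ) : ℤ) = 45 := by
    intro χ hχ
    have h := signed_eleven hG χ (hXp χ hχ).1 (hXp χ hχ).2.1
    simp only [Finset.mem_insert, Finset.mem_singleton] at h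
    have := hno10 χ ((hB χ).2 (Or.inl hχ))
    rcases (hXp χ hχ).1 with h' | h' <;> rw [h'] at h ⊢ <;> omega
  obtain ⟨hθlt, hθd, hθ0⟩ := degree_facts hG θ
  by_cases h10 : e = 10
  · subst h10
    have h1 : 0 < ∑ χ ∈ X, σ χ * (charDegree (χ : G → ℂ) : ℤ) := by
      refine Finset.sum_pos (fun χ hχ => ?_) (Finset.card_pos.1 (by rw [hX]; norm_num))
      have := hpos χ hχ
      omega
    have h2 := hno10 θ ((hB θ).2 (Or.inr hθ))
    have h3 := hYd θ hθ
    rw [← hT] at h1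
    rcases hε with rfl | rfl
    · have h4 := signed_eleven hG θ (Or.inr rfl) (by
        rw [Int.modEq_iff_dvd] at h3 ⊢; omega)
      simp only [Finset.mem_insert, Finset.mem_singleton] at h4
      omega
    · omega
  have hY2 : 1 < Y.card := by rw [hY]; rcases he10 with rfl | rfl | rfl <;> omega
  have hprin : principal G ∈ X := by
    rcases (hB _).1 (CfsgLib.Blocks.principal_mem_principalBlock M) with h | h
    · exact h
    exfalso
    obtain ⟨a, ha, b, hb, hab⟩ := Finset.one_lt_card.1 hY2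
    have key : ∀ ψ ∈ Y, ψ = principal G := fun ψ hψ => by
      have h1 := hYeq ψ hψ _ h 1 (by rw [orderOf_one]; norm_num)
      rw [deg_eq, principal_apply, Nat.cast_eq_one] at h1
      exact eq_principal hG h1
    exact hab ((key a ha).trans (key b hb).symm)
  have hbig : ∀ χ ∈ X.erase (principal G), σ χ * (charDegree (χ : G → ℂ) : ℤ) = 12 ∨
      σ χ * (charDegree (χ : G → ℂ) : ℤ) = 45 := by
    intro χ hχ
    rw [Finset.mem_erase] at hχ
    have h := hpos χ hχ.2
    have h1 : charDegree (χ : G → ℂ) ≠ 1 := fun h => hχ.1 (eq_principal hG h)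
    rcases (hXp χ hχ.2).1 with h' | h' <;> rw [h'] at h ⊢ <;> omega
  have hp1 : σ (principal G) * (charDegree (principal G : G → ℂ) : ℤ) = 1 := by
    have h := hpos _ hprin
    rw [principal_degree hG] at h ⊢
    rcases (hXp _ hprin).1 with h' | h' <;> rw [h'] at h ⊢ <;> omega
  rw [← Finset.add_sum_erase _ _ hprin, hp1] at hT
  have hcard : (X.erase (principal G)).card = e - 1 := by
    rw [Finset.card_erase_of_mem hprin, hX]
  rw [Finset.sum_congr rfl (g := fun χ => if σ χ * (charDegree (χ : G → ℂ) : ℤ) = 45 then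
    (12 : ℤ) + 33 else 12) (fun χ hχ => by rcases hbig χ hχ with h | h <;> rw [h] <;> norm_num),
    Finset.sum_ite, Finset.sum_const, Finset.sum_const] at hT
  have hfl := Finset.card_filter_add_card_filter_not (s := X.erase (principal G))
    (fun χ => σ χ * (charDegree (χ : G → ℂ) : ℤ) = 45)
  simp only [nsmul_eq_mul] at hT
  set j := ((X.erase (principal G)).filter
    fun χ => σ χ * (charDegree (χ : G → ℂ) : ℤ) = 45).card with hj
  set i := ((X.erase (principal G)).filter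
    fun χ => ¬ σ χ * (charDegree (χ : G → ℂ) : ℤ) = 45).card with hi
  refine eleven_arith j ?_ i ?_ ?_ _ hθlt hθd ?_
  · rcases he10 with rfl | rfl | rfl <;> omega
  · rcases he10 with rfl | rfl | rfl <;> omega
  · rcases he10 with rfl | rfl | rfl <;> omega
  · rcases hε with rfl | rfl <;> omega

/-- Elements of order eleven are self-centralizing and inverted by no involution. -/
theorem order_eleven {x : G} (hx : orderOf x = 11) :
    Nat.card (Subgroup.centralizer ({x} : Set G)) = 11 ∧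
      ∀ u : G, u * u = 1 → u * x * u⁻¹ = x⁻¹ → u = 1 := by
  haveI := Fact.mk (show Nat.Prime 11 by norm_num)
  let P : Sylow 11 G := Sylow.ofCard (Subgroup.zpowers x) (by
    rw [Nat.card_zpowers, hx, hG, show 7920 = 11 ^ 1 * 720 by norm_num,
      Nat.factorization_mul (by norm_num) (by norm_num), Nat.factorization_pow]
    simp [Nat.factorization_eq_zero_of_not_dvd (show ¬ 11 ∣ 720 by norm_num),
      Nat.Prime.factorization_self (show Nat.Prime 11 by norm_num)])
  obtain ⟨hP, hC, hN⟩ := sylow_eleven hG P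
  have hCx : Subgroup.centralizer (Subgroup.zpowers x : Set G) =
      Subgroup.centralizer ({x} : Set G) := by
    rw [Subgroup.zpowers_eq_closure, Subgroup.centralizer_closure]
  have hPz : (P : Subgroup G) = Subgroup.zpowers x := Sylow.coe_ofCard _ _
  rw [hPz] at hC hN hP
  refine ⟨by rw [← hCx, hC, hP], fun u hu hux => ?_⟩
  have hmap : ∀ y ∈ Subgroup.zpowers x, u * y * u⁻¹ ∈ Subgroup.zpowers x := fun y hy => by
    obtain ⟨k, rfl⟩ := Subgroup.mem_zpowers_iff.1 hy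
    rw [← conj_zpow, hux]
    exact Subgroup.zpow_mem _ (Subgroup.inv_mem _ (Subgroup.mem_zpowers x)) k
  have hmem : u ∈ Subgroup.normalizer ((Subgroup.zpowers x : Subgroup G) : Set G) := by
    rw [Subgroup.mem_normalizer_iff]
    refine fun y => ⟨hmap y, fun hy => ?_⟩
    have h := hmap _ hy
    have hinv : u⁻¹ = u := inv_eq_of_mul_eq_one_left hu
    rw [hinv] at h
    simpa [mul_assoc, hu, ← mul_assoc u u] using h
  have h1 := Subgroup.orderOf_dvd_natCard _ hmem
  rw [hN] at h1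
  have h2 : orderOf u ∣ 2 := orderOf_dvd_of_pow_eq_one (by rw [sq, hu])
  exact orderOf_eq_one_iff.1 (Nat.eq_one_of_dvd_coprimes (by norm_num) h1 h2)

omit hG in
variable (G) in
/-- The first candidate for the degrees: `1, 12, 12, 10, 10, 5, 5` and multiples of eleven. -/
def CaseI : Prop :=
  (∀ χ : IrrCharacter G, charDegree (χ : G → ℂ) ∈
    ({1, 5, 10, 12, 11, 22, 33, 44, 55, 66} : Finset ℕ)) ∧
  ∃ a₁ a₂ : IrrCharacter G, a₁ ≠ a₂ ∧ charDegree (a₁ : G → ℂ) = 12 ∧
    charDegree (a₂ : G → ℂ) = 12 ∧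
    (∀ χ : IrrCharacter G, charDegree (χ : G → ℂ) = 12 → χ = a₁ ∨ χ = a₂) ∧
    ∀ t : G, t * t = 1 → t ≠ 1 → ∀ m₁ m₂ : ℤ, (m₁ : ℂ) = (a₁ : G → ℂ) t →
      (m₂ : ℂ) = (a₂ : G → ℂ) t → ∃ B u : ℤ, 60 + 5 * (m₁ ^ 2 + m₂ ^ 2) - 6 * B - 12 * u ^ 2 = 0

omit hG in
variable (G) in
/-- The degrees `1, 45, 10, 10, 10, 16, 16` and multiples of eleven. -/
structure CaseII [Fintype (IrrCharacter G)] where
  j : IrrCharacter G
  a₁ : IrrCharacter G
  a₂ : IrrCharacter G
  a₃ : IrrCharacter G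
  θ₁ : IrrCharacter G
  θ₂ : IrrCharacter G
  hj : charDegree (j : G → ℂ) = 45
  ha₁ : charDegree (a₁ : G → ℂ) = 10
  ha₂ : charDegree (a₂ : G → ℂ) = 10
  ha₃ : charDegree (a₃ : G → ℂ) = 10
  hθ₁ : charDegree (θ₁ : G → ℂ) = 16
  hθ₂ : charDegree (θ₂ : G → ℂ) = 16
  ne₁₂ : a₁ ≠ a₂
  ne₁₃ : a₁ ≠ a₃
  ne₂₃ : a₂ ≠ a₃
  neθ : θ₁ ≠ θ₂
  cover : ∀ χ : IrrCharacter G, χ = principal G ∨ χ = j ∨ χ = a₁ ∨ χ = a₂ ∨ χ = a₃ ∨ χ = θ₁ ∨
    χ = θ₂ ∨ 11 ∣ charDegree (χ : G → ℂ) ∧ charDegree (χ : G → ℂ) ∈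
      ({11, 22, 33, 44, 55, 66} : Finset ℕ)
  sum_sq : ∑ χ ∈ Finset.univ.filter (fun χ : IrrCharacter G => 11 ∣ charDegree (χ : G → ℂ)),
    charDegree (χ : G → ℂ) ^ 2 = 5082
  regular : ∀ g : G, ¬ 11 ∣ orderOf g → (θ₂ : G → ℂ) g = (θ₁ : G → ℂ) g ∧ (θ₁ : G → ℂ) g =
    1 + (j : G → ℂ) g - ((a₁ : G → ℂ) g + (a₂ : G → ℂ) g + (a₃ : G → ℂ) g)
  invol : ∀ t : G, t * t = 1 → t ≠ 1 → 720 + 16 * (j : G → ℂ) t ^ 2 -
    72 * ((a₁ : G → ℂ) t ^ 2 + (a₂ : G → ℂ) t ^ 2 + (a₃ : G → ℂ) t ^ 2) -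
    45 * (θ₁ : G → ℂ) t ^ 2 = 0

theorem eleven_cases [Fintype (IrrCharacter G)] : CaseI G ∨ Nonempty (CaseII G) := by
  classical
  haveI := Fact.mk (show Nat.Prime 11 by norm_num)
  haveI := Fintype.ofFinite G
  obtain ⟨x, hx⟩ := exists_prime_orderOf_dvd_card' (G := G) 11 (by rw [hG]; norm_num)
  obtain ⟨P⟩ := (inferInstance : Nonempty (Sylow 11 G))
  obtain ⟨hP, hC, hN⟩ := sylow_eleven hG P
  have hrel' : (Subgroup.centralizer ((P : Subgroup G) : Set G)).relIndex
      (Subgroup.normalizer ((P : Subgroup G) : Set G)) = 5 := by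
    have hle : Subgroup.centralizer ((P : Subgroup G) : Set G) ≤
        Subgroup.normalizer ((P : Subgroup G) : Set G) := Subgroup.centralizer_le_normalizer _
    have h := Subgroup.relIndex_mul_relIndex _ _ _ bot_le hle
    rw [Subgroup.relIndex_bot_left, Subgroup.relIndex_bot_left, hN, hC, hP] at h
    rw [hC]
    omega
  obtain ⟨M, hM⟩ := CharApps.exists_pModular (p := 11)
  haveI := hM.2.1.isPrime
  obtain ⟨X, Y, σ, ε, hB, hdisj, hX, hY, hXp, hε, hYd, hYeq, hrel⟩ :=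
    exists_block_data (by norm_num) hM P hP hrel'
  norm_num at hY
  obtain ⟨θ₁, θ₂, hθne, rfl⟩ := Finset.card_eq_two.1 hY
  have hθm : θ₁ ∈ ({θ₁, θ₂} : Finset (IrrCharacter G)) := by simp
  have hθm2 : θ₂ ∈ ({θ₁, θ₂} : Finset (IrrCharacter G)) := by simp
  have h11one : ¬ 11 ∣ orderOf (1 : G) := by rw [orderOf_one]; norm_num
  have hprin : principal G ∈ X := by
    rcases (hB _).1 (CfsgLib.Blocks.principal_mem_principalBlock M) with h | h
    · exact h
    exfalso
    have key : ∀ ψ ∈ ({θ₁, θ₂} : Finset (IrrCharacter G)), ψ = principal G := fun ψ hψ => by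
      have h1 := hYeq ψ hψ _ h 1 h11one
      rw [deg_eq, principal_apply, Nat.cast_eq_one] at h1
      exact eq_principal hG h1
    exact hθne ((key _ hθm).trans (key _ hθm2).symm)
  -- the signed degrees
  set X' := X.erase (principal G) with hX'
  have hX'c : X'.card = 4 := by rw [hX', Finset.card_erase_of_mem hprin, hX]
  let f : IrrCharacter G → ℤ := fun χ => σ χ * (charDegree (χ : G → ℂ) : ℤ)
  have hf : ∀ χ ∈ X', f χ ∈ ({12, 45, -10} : Finset ℤ) := by
    intro χ hχ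
    rw [hX', Finset.mem_erase] at hχ
    have h := signed_eleven hG χ (hXp χ hχ.2).1 (hXp χ hχ.2).2.1
    have h1 : charDegree (χ : G → ℂ) ≠ 1 := fun h => hχ.1 (eq_principal hG h)
    simp only [Finset.mem_insert, Finset.mem_singleton, f] at h ⊢
    rcases (hXp χ hχ.2).1 with h' | h' <;> rw [h'] at h ⊢ <;> omega
  have hσp : σ (principal G) = 1 := by
    have h := (hXp _ hprin).2.1
    rw [principal_degree hG, Int.modEq_iff_dvd] at h
    rcases (hXp _ hprin).1 with h' | h' <;> rw [h'] at h ⊢ <;> omega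
  set A := X'.filter (fun χ => f χ = 12) with hA
  set J := X'.filter (fun χ => f χ = 45) with hJ
  set C := X'.filter (fun χ => f χ = -10) with hCdef
  have hsumF : ∀ F : IrrCharacter G → ℂ,
      ∑ χ ∈ X, F χ = F (principal G) + (∑ χ ∈ A, F χ + ∑ χ ∈ J, F χ + ∑ χ ∈ C, F χ) := by
    intro F
    rw [← Finset.add_sum_erase _ _ hprin, ← hX', ← Finset.sum_fiberwise_of_maps_to hf,
      Finset.sum_insert (by decide), Finset.sum_insert (by decide), Finset.sum_singleton,
      ← add_assoc (∑ χ ∈ X' with f χ = 12, F χ)]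
  have hcnt : A.card + J.card + C.card = 4 := by
    rw [← hX'c, Finset.card_eq_sum_card_fiberwise (t := ({12, 45, -10} : Finset ℤ)) hf,
      Finset.sum_insert (by decide), Finset.sum_insert (by decide), Finset.sum_singleton,
      ← add_assoc]
  have hAd : ∀ χ ∈ A, charDegree (χ : G → ℂ) = 12 ∧ σ χ = 1 := by
    intro χ hχ
    rw [hA, hX', Finset.mem_filter, Finset.mem_erase] at hχ
    have h := hχ.2
    simp only [f] at h
    rcases (hXp χ hχ.1.2).1 with h' | h' <;> rw [h'] at h ⊢ <;> omega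
  have hJd : ∀ χ ∈ J, charDegree (χ : G → ℂ) = 45 ∧ σ χ = 1 := by
    intro χ hχ
    rw [hJ, hX', Finset.mem_filter, Finset.mem_erase] at hχ
    have h := hχ.2
    simp only [f] at h
    rcases (hXp χ hχ.1.2).1 with h' | h' <;> rw [h'] at h ⊢ <;> omega
  have hCd : ∀ χ ∈ C, charDegree (χ : G → ℂ) = 10 ∧ σ χ = -1 := by
    intro χ hχ
    rw [hCdef, hX', Finset.mem_filter, Finset.mem_erase] at hχ
    have h := hχ.2
    simp only [f] at h
    rcases (hXp χ hχ.1.2).1 with h' | h' <;> rw [h'] at h ⊢ <;> omega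
  -- the relation between the exceptional characters and the others
  have hreg : ∀ g : G, ¬ 11 ∣ orderOf g → (ε : ℂ) * (θ₁ : G → ℂ) g = 1 + (∑ χ ∈ A, (χ : G → ℂ) g +
      ∑ χ ∈ J, (χ : G → ℂ) g - ∑ χ ∈ C, (χ : G → ℂ) g) := by
    intro g hg
    have hs : ∀ (S : Finset (IrrCharacter G)) (c : ℤ), (∀ χ ∈ S, σ χ = c) →
        ∑ χ ∈ S, (σ χ : ℂ) * (χ : G → ℂ) g = (c : ℂ) * ∑ χ ∈ S, (χ : G → ℂ) g := by
      intro S c hS
      rw [Finset.mul_sum]
      exact Finset.sum_congr rfl fun χ hχ => by rw [hS χ hχ]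
    rw [hrel θ₁ hθm g hg, hsumF, hσp, principal_apply, hs A 1 fun χ hχ => (hAd χ hχ).2,
      hs J 1 fun χ hχ => (hJd χ hχ).2, hs C (-1) fun χ hχ => (hCd χ hχ).2]
    push_cast
    ring
  have hdeg2 : charDegree (θ₂ : G → ℂ) = charDegree (θ₁ : G → ℂ) := by
    have h := hYeq θ₂ hθm2 θ₁ hθm 1 h11one
    rw [deg_eq, deg_eq, Nat.cast_inj] at h
    exact h
  set d := charDegree (θ₁ : G → ℂ) with hd
  have hT : ε * (d : ℤ) = 1 + (12 * (A.card : ℤ) + 45 * J.card - 10 * C.card) := by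
    have h := hreg 1 h11one
    rw [Finset.sum_congr (g := fun _ => ((12 : ℕ) : ℂ)) (s₁ := A) rfl
        (fun χ hχ => by rw [deg_eq, (hAd χ hχ).1]),
      Finset.sum_congr (g := fun _ => ((45 : ℕ) : ℂ)) (s₁ := J) rfl
        (fun χ hχ => by rw [deg_eq, (hJd χ hχ).1]),
      Finset.sum_congr (g := fun _ => ((10 : ℕ) : ℂ)) (s₁ := C) rfl
        (fun χ hχ => by rw [deg_eq, (hCd χ hχ).1]),
      Finset.sum_const, Finset.sum_const, Finset.sum_const, deg_eq, ← hd] at h
    simp only [nsmul_eq_mul] at h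
    push_cast at h
    have h2 : ((ε * (d : ℤ) : ℤ) : ℂ) =
        ((1 + (12 * (A.card : ℤ) + 45 * J.card - 10 * C.card) : ℤ) : ℂ) := by
      push_cast
      rw [h]
      ring
    exact Int.cast_injective h2
  -- characters outside the block
  have hmem : ∀ χ : IrrCharacter G,
      ¬ 11 ∣ charDegree (χ : G → ℂ) ↔ χ ∈ X ∪ {θ₁, θ₂} := by
    intro χ
    rw [Finset.mem_union]
    refine ⟨fun h => (hB χ).1 (mem_principalBlock_of_selfCentral hM P hP hC χ h), ?_⟩
    rintro (h | h) hdvd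
    · have h' := (hXp χ h).2.1
      rw [Int.modEq_iff_dvd] at h'
      rcases (hXp χ h).1 with h'' | h'' <;> rw [h''] at h' <;> omega
    · have h' := hYd χ h
      rw [Int.modEq_iff_dvd] at h'
      rcases hε with h'' | h'' <;> rw [h''] at h' <;> omega
  have hnotmem : Finset.univ.filter (fun χ : IrrCharacter G => ¬ 11 ∣ charDegree (χ : G → ℂ)) =
      X ∪ {θ₁, θ₂} := by ext χ; simp [hmem χ]
  have hout : Finset.univ.filter
      (fun χ : IrrCharacter G => 11 ∣ charDegree (χ : G → ℂ)) = (X ∪ {θ₁, θ₂})ᶜ := by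
    ext χ; rw [Finset.mem_compl, ← hmem χ]; simp
  -- the sum of the squares of the degrees
  have hsq : 1 + (144 * A.card + 2025 * J.card + 100 * C.card) + 2 * d ^ 2 +
      ∑ χ ∈ Finset.univ.filter (fun χ : IrrCharacter G => 11 ∣ charDegree (χ : G → ℂ)),
        charDegree (χ : G → ℂ) ^ 2 = 7920 := by
    have h := sum_degree_sq_nat (G := G)
    rw [← Finset.sum_add_sum_compl (X ∪ {θ₁, θ₂}), ← hout, Finset.sum_union hdisj,
      Finset.sum_pair hθne, hdeg2, ← hd, hG] at h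
    have h2 := hsumF (fun χ => ((charDegree (χ : G → ℂ) ^ 2 : ℕ) : ℂ))
    rw [principal_degree hG, Finset.sum_congr (g := fun _ => ((12 ^ 2 : ℕ) : ℂ)) (s₁ := A) rfl
        (fun χ hχ => by rw [(hAd χ hχ).1]),
      Finset.sum_congr (g := fun _ => ((45 ^ 2 : ℕ) : ℂ)) (s₁ := J) rfl
        (fun χ hχ => by rw [(hJd χ hχ).1]),
      Finset.sum_congr (g := fun _ => ((10 ^ 2 : ℕ) : ℂ)) (s₁ := C) rfl
        (fun χ hχ => by rw [(hCd χ hχ).1]),
      Finset.sum_const, Finset.sum_const, Finset.sum_const] at h2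
    simp only [nsmul_eq_mul] at h2
    norm_cast at h2
    rw [h2] at h
    norm_num at h
    linarith
  obtain ⟨hdlt, hdd, hd0⟩ := degree_facts hG θ₁
  have hd1 : 1 < d := by
    rcases Nat.lt_or_ge 1 d with h | h
    · exact h
    · exact absurd (eq_principal hG (χ := θ₁) (by omega))
        (fun h' => Finset.disjoint_left.1 hdisj hprin (h' ▸ hθm))
  -- the weighted squares at an involution
  have hinv : ∀ t : G, t * t = 1 → t ≠ 1 →
      1 + (∑ χ ∈ A, (χ : G → ℂ) t ^ 2 / 12 + ∑ χ ∈ J, (χ : G → ℂ) t ^ 2 / 45 -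
        ∑ χ ∈ C, (χ : G → ℂ) t ^ 2 / 10) - (ε : ℂ) * (θ₁ : G → ℂ) t ^ 2 / (d : ℂ) = 0 := by
    intro t ht ht1
    obtain ⟨z, hzP, hz⟩ : ∃ z ∈ (P : Subgroup G), z ≠ 1 :=
      (Subgroup.bot_or_exists_ne_one (P : Subgroup G)).resolve_left fun h => by
        rw [h, Subgroup.card_bot] at hP
        omega
    have hzo : orderOf z = 11 := by
      rcases (Nat.dvd_prime (show Nat.Prime 11 by norm_num)).1
        (hP ▸ Subgroup.orderOf_dvd_natCard _ hzP) with h | h
      · exact absurd (orderOf_eq_one_iff.1 h) hz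
      · exact h
    have h := card_conj_mul_conj t t z⁻¹
    rw [inv_inv] at h
    haveI : IsEmpty {ab : G × G // (ab.1 * t * ab.1⁻¹) * (ab.2 * t * ab.2⁻¹) = z⁻¹} := by
      refine ⟨fun ⟨⟨a, b⟩, hab⟩ => ?_⟩
      have h1 : (a * t * a⁻¹) * (a * t * a⁻¹) = 1 := by
        rw [← sq, conj_pow, sq, ht, mul_one, mul_inv_cancel]
      have h2 : (b * t * b⁻¹) * (b * t * b⁻¹) = 1 := by
        rw [← sq, conj_pow, sq, ht, mul_one, mul_inv_cancel]
      have hu := (order_eleven hG (x := z⁻¹) (by rw [orderOf_inv, hzo])).2 (a * t * a⁻¹) h1 ?_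
      · exact ht1 (conj_eq_one_iff.1 hu)
      · simp only at hab
        generalize a * t * a⁻¹ = u at hab h1 ⊢
        generalize b * t * b⁻¹ = v at hab h2
        rw [← hab, mul_inv_rev u v, inv_eq_of_mul_eq_one_left h2, inv_eq_of_mul_eq_one_left h1,
          ← mul_assoc, h1, one_mul]
    rw [Nat.card_of_isEmpty, Nat.cast_zero, eq_comm, mul_eq_zero] at h
    have h0 := h.resolve_left (Chars.card_ne_zero G)
    rw [← Finset.sum_add_sum_compl (X ∪ {θ₁, θ₂}), Finset.sum_union hdisj,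
      Finset.sum_pair hθne] at h0
    have hz0 : ∀ χ ∈ (X ∪ {θ₁, θ₂})ᶜ, (χ : G → ℂ) z = 0 := by
      intro χ hχ
      rw [← hout, Finset.mem_filter] at hχ
      exact eq_zero_of_dvd_orderOf χ.2 (n := 1) (p := 11) (by norm_num) (deg_eq χ)
        (not_sq_dvd hG (Or.inr rfl)) (by rw [pow_one]; exact hχ.2) (by rw [hzo])
    rw [Finset.sum_eq_zero (s := (X ∪ {θ₁, θ₂})ᶜ) (fun χ hχ => by simp [hz0 χ hχ]), add_zero,
      hsumF] at h0
    have hcol := sum_degree_mul (G := G) z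
    rw [if_neg hz, ← Finset.sum_add_sum_compl (X ∪ {θ₁, θ₂}), Finset.sum_union hdisj,
      Finset.sum_pair hθne,
      Finset.sum_eq_zero (s := (X ∪ {θ₁, θ₂})ᶜ) (fun χ hχ => by simp [hz0 χ hχ]), add_zero] at hcol
    have hXd : ∑ χ ∈ X, (χ : G → ℂ) 1 * (χ : G → ℂ) z = (ε : ℂ) * (d : ℂ) := by
      rw [hd, ← deg_eq, hrel θ₁ hθm 1 h11one]
      refine Finset.sum_congr rfl fun χ hχ => ?_
      rw [(hXp χ hχ).2.2 z hzP hz]
      ring
    have hdeq : (θ₂ : G → ℂ) 1 = (d : ℂ) := by rw [deg_eq, hdeg2]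
    have hd1' : (θ₁ : G → ℂ) 1 = (d : ℂ) := by rw [hd, deg_eq]
    have hdne : (d : ℂ) ≠ 0 := Nat.cast_ne_zero.2 (by omega)
    rw [hXd, hdeq, hd1'] at hcol
    have hYz : (θ₁ : G → ℂ) z + (θ₂ : G → ℂ) z = -(ε : ℂ) := by
      have h3 : (d : ℂ) * ((ε : ℂ) + ((θ₁ : G → ℂ) z + (θ₂ : G → ℂ) z)) = 0 := by
        linear_combination hcol
      linear_combination (mul_eq_zero.1 h3).resolve_left hdne
    have h11t : ¬ 11 ∣ orderOf t := fun hdvd => by
      have h2 : orderOf t ∣ 2 := orderOf_dvd_of_pow_eq_one (by rw [sq, ht])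
      have := Nat.le_of_dvd two_pos (hdvd.trans h2)
      omega
    rw [hYeq θ₂ hθm2 θ₁ hθm t h11t, hdeq, hd1', principal_apply, principal_apply,
      principal_apply] at h0
    have e1 : ∀ (S : Finset (IrrCharacter G)) (c : ℂ) (s : ℤ),
        (∀ χ ∈ S, (χ : G → ℂ) 1 = c ∧ (χ : G → ℂ) z = (s : ℂ)) →
        ∑ χ ∈ S, (χ : G → ℂ) t * (χ : G → ℂ) t * (χ : G → ℂ) z / (χ : G → ℂ) 1 =
          (s : ℂ) * ∑ χ ∈ S, (χ : G → ℂ) t ^ 2 / c := by
      intro S c s hS
      rw [Finset.mul_sum]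
      refine Finset.sum_congr rfl fun χ hχ => ?_
      rw [(hS χ hχ).1, (hS χ hχ).2]
      ring
    rw [e1 A 12 1 (fun χ hχ => ⟨by rw [deg_eq, (hAd χ hχ).1]; norm_num, by
        rw [(hXp χ (Finset.mem_of_mem_erase (Finset.mem_of_mem_filter χ hχ))).2.2 z hzP hz,
          (hAd χ hχ).2]⟩),
      e1 J 45 1 (fun χ hχ => ⟨by rw [deg_eq, (hJd χ hχ).1]; norm_num, by
        rw [(hXp χ (Finset.mem_of_mem_erase (Finset.mem_of_mem_filter χ hχ))).2.2 z hzP hz,
          (hJd χ hχ).2]⟩),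
      e1 C 10 (-1) (fun χ hχ => ⟨by rw [deg_eq, (hCd χ hχ).1]; norm_num, by
        rw [(hXp χ (Finset.mem_of_mem_erase (Finset.mem_of_mem_filter χ hχ))).2.2 z hzP hz,
          (hCd χ hχ).2]⟩)] at h0
    push_cast at h0
    linear_combination h0 - ((θ₁ : G → ℂ) t ^ 2 / (d : ℂ)) * hYz
  have hcases := eleven_cases_arith A.card J.card C.card hcnt d hdlt hdd hd1
    (by rcases hε with h | h <;> rw [h] at hT <;> omega) (by omega)
  have hεpos : ε = 1 := by
    rcases hcases with ⟨h1, h2, h3, h4, -⟩ | ⟨h1, h2, h3, h4, -⟩ <;>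
      rw [h1, h2, h3, h4] at hT <;> omega
  subst hεpos
  have hothers : ∀ χ : IrrCharacter G, 11 ∣ charDegree (χ : G → ℂ) →
      charDegree (χ : G → ℂ) ∈ ({11, 22, 33, 44, 55, 66} : Finset ℕ) := by
    intro χ hχ
    obtain ⟨h1, h2, h3⟩ := degree_facts hG χ
    have h88 : charDegree (χ : G → ℂ) ≠ 88 ∧ charDegree (χ : G → ℂ) ≠ 77 := by
      refine ⟨fun h => ?_, fun h => by rw [h] at h2; norm_num at h2⟩
      have h4 := Finset.single_le_sum (f := fun ψ : IrrCharacter G => charDegree (ψ : G → ℂ) ^ 2)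
        (fun _ _ => Nat.zero_le _) (show χ ∈ Finset.univ.filter
          (fun χ : IrrCharacter G => 11 ∣ charDegree (χ : G → ℂ)) by simp [hχ])
      simp only [h] at h4
      norm_num at h4
      rcases hcases with ⟨g1, g2, g3, g4, -⟩ | ⟨g1, g2, g3, g4, -⟩ <;>
        rw [g1, g2, g3, g4] at hsq <;> omega
    simp only [Finset.mem_insert, Finset.mem_singleton]
    omega
  have hXall : ∀ χ ∈ X, χ = principal G ∨ χ ∈ A ∨ χ ∈ J ∨ χ ∈ C := by
    intro χ hχ
    by_cases h : χ = principal G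
    · exact Or.inl h
    · have hm : χ ∈ X' := Finset.mem_erase.2 ⟨h, hχ⟩
      have h' := hf χ hm
      simp only [Finset.mem_insert, Finset.mem_singleton] at h'
      simp only [hA, hJ, hCdef, Finset.mem_filter]
      tauto
  rcases hcases with ⟨hA2, hJ0, hC2, hd5, -⟩ | ⟨hA0, hJ1, hC3, hd16, -⟩
  · left
    rw [Finset.card_eq_zero] at hJ0
    obtain ⟨a₁, a₂, hne, hAe⟩ := Finset.card_eq_two.1 hA2
    obtain ⟨b₁, b₂, hbne, hCe⟩ := Finset.card_eq_two.1 hC2
    have ha : ∀ χ, χ = a₁ ∨ χ = a₂ → χ ∈ A := fun χ h => by rw [hAe]; simpa using h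
    have hcl : ∀ χ : IrrCharacter G, 11 ∣ charDegree (χ : G → ℂ) ∨
        charDegree (χ : G → ℂ) = 1 ∨ charDegree (χ : G → ℂ) = 5 ∨
        charDegree (χ : G → ℂ) = 10 ∨ χ ∈ A := by
      intro χ
      by_cases h : 11 ∣ charDegree (χ : G → ℂ)
      · exact Or.inl h
      rcases Finset.mem_union.1 ((hmem χ).1 h) with hx | hy
      · rcases hXall χ hx with rfl | h' | h' | h'
        · exact Or.inr (Or.inl (principal_degree hG))
        · exact Or.inr (Or.inr (Or.inr (Or.inr h')))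
        · rw [hJ0] at h'; simp at h'
        · exact Or.inr (Or.inr (Or.inr (Or.inl (hCd χ h').1)))
      · refine Or.inr (Or.inr (Or.inl ?_))
        rcases Finset.mem_insert.1 hy with rfl | hy
        · exact hd5
        · rw [Finset.mem_singleton.1 hy, hdeg2, hd5]
    refine ⟨fun χ => ?_, a₁, a₂, hne, (hAd _ (ha _ (Or.inl rfl))).1,
      (hAd _ (ha _ (Or.inr rfl))).1, fun χ h12 => ?_, fun t ht ht1 m₁ m₂ hm₁ hm₂ => ?_⟩
    · rcases hcl χ with h | h | h | h | h
      · have := hothers χ h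
        simp only [Finset.mem_insert, Finset.mem_singleton] at this ⊢
        omega
      all_goals first | (simp [h]; done) | simp [(hAd χ h).1]
    · rcases hcl χ with h | h | h | h | h
      · omega
      · omega
      · omega
      · omega
      · rw [hAe] at h; simpa using h
    · have h := hinv t ht ht1
      obtain ⟨n₁, hn₁⟩ := exists_int_apply_involution ht b₁
      obtain ⟨n₂, hn₂⟩ := exists_int_apply_involution ht b₂
      obtain ⟨u, hu⟩ := exists_int_apply_involution ht θ₁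
      rw [hJ0, hAe, hCe, Finset.sum_pair hne, Finset.sum_pair hbne, hd5, ← hm₁, ← hm₂, ← hn₁,
        ← hn₂, ← hu] at h
      refine ⟨n₁ ^ 2 + n₂ ^ 2, u, ?_⟩
      have h2 : ((60 + 5 * (m₁ ^ 2 + m₂ ^ 2) - 6 * (n₁ ^ 2 + n₂ ^ 2) - 12 * u ^ 2 : ℤ) : ℂ) =
          ((0 : ℤ) : ℂ) := by
        push_cast
        simp at h
        linear_combination 60 * h
      exact Int.cast_injective h2
  · right
    rw [Finset.card_eq_zero] at hA0
    obtain ⟨j, hJe⟩ := Finset.card_eq_one.1 hJ1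
    obtain ⟨a₁, a₂, a₃, h12, h13, h23, hCe⟩ := Finset.card_eq_three.1 hC3
    have hC' : ∀ χ, χ = a₁ ∨ χ = a₂ ∨ χ = a₃ → χ ∈ C := fun χ h => by rw [hCe]; simpa using h
    have hreg' : ∀ g : G, ¬ 11 ∣ orderOf g → (θ₂ : G → ℂ) g = (θ₁ : G → ℂ) g ∧
        (θ₁ : G → ℂ) g = 1 + (j : G → ℂ) g -
          ((a₁ : G → ℂ) g + (a₂ : G → ℂ) g + (a₃ : G → ℂ) g) := by
      intro g hg
      have h := hreg g hg
      rw [hA0, hJe, hCe] at h
      simp [h12, h13, h23] at h
      exact ⟨hYeq θ₂ hθm2 θ₁ hθm g hg, by linear_combination h⟩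
    refine ⟨{ j := j, a₁ := a₁, a₂ := a₂, a₃ := a₃, θ₁ := θ₁, θ₂ := θ₂,
              hj := (hJd j (by rw [hJe]; simp)).1,
              ha₁ := (hCd _ (hC' _ (Or.inl rfl))).1,
              ha₂ := (hCd _ (hC' _ (Or.inr (Or.inl rfl)))).1,
              ha₃ := (hCd _ (hC' _ (Or.inr (Or.inr rfl)))).1,
              hθ₁ := hd16, hθ₂ := by rw [hdeg2, hd16],
              ne₁₂ := h12, ne₁₃ := h13, ne₂₃ := h23, neθ := hθne,
              cover := fun χ => ?_, sum_sq := by rw [hA0, hJ1, hC3, hd16] at hsq; simp at hsq; omega,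
              regular := hreg', invol := fun t ht ht1 => ?_ }⟩
    · by_cases h : 11 ∣ charDegree (χ : G → ℂ)
      · have := hothers χ h; tauto
      rcases Finset.mem_union.1 ((hmem χ).1 h) with hx | hy
      · rcases hXall χ hx with h' | h' | h' | h'
        · exact Or.inl h'
        · rw [hA0] at h'; simp at h'
        · rw [hJe, Finset.mem_singleton] at h'; exact Or.inr (Or.inl h')
        · rw [hCe] at h'; simp only [Finset.mem_insert, Finset.mem_singleton] at h'; tauto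
      · simp only [Finset.mem_insert, Finset.mem_singleton] at hy; tauto
    · have h := hinv t ht ht1
      rw [hA0, hJe, hCe, hd16] at h
      simp [h12, h13, h23] at h
      linear_combination 720 * h

end

end CfsgLib.Small.O7920
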