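import Cfsg.Agent.Lib.Small.Order7920

/-!
# Simple groups of order 7920: the Sylow subgroups of order 5 and the table of degrees
-/

set_option autoImplicit false
set_option linter.style.haveILetI false
set_option linter.unusedSectionVars false

open Cfsg CfsgLib.Chars CfsgLib.CharApps CfsgLib.Blocks

namespace CfsgLib.Small.O7920

universe u

variable {G : Type u} [Group G] [Finite G]

/-- The degrees. -/
def degs : Fin 10 → ℕ := ![1, 45, 10, 10, 10, 16, 16, 11, 44, 55]

variable (G) in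
/-- The irreducible characters with their degrees and the block relations. -/
structure Table where
  c : Fin 10 ≃ IrrCharacter G
  deg : ∀ i, charDegree (c i : G → ℂ) = degs i
  principal : c 0 = Chars.principal G
  rel11 : ∀ g : G, ¬ 11 ∣ orderOf g → (c 6 : G → ℂ) g = (c 5 : G → ℂ) g ∧ (c 5 : G → ℂ) g =
    1 + (c 1 : G → ℂ) g - ((c 2 : G → ℂ) g + (c 3 : G → ℂ) g + (c 4 : G → ℂ) g)
  rel5 : ∀ g : G, ¬ 5 ∣ orderOf g →
    1 + (c 5 : G → ℂ) g + (c 6 : G → ℂ) g + (c 7 : G → ℂ) g - (c 8 : G → ℂ) g = 0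
  invol : ∀ t : G, t * t = 1 → t ≠ 1 → 720 + 16 * (c 1 : G → ℂ) t ^ 2 -
    72 * ((c 2 : G → ℂ) t ^ 2 + (c 3 : G → ℂ) t ^ 2 + (c 4 : G → ℂ) t ^ 2) -
    45 * (c 5 : G → ℂ) t ^ 2 = 0

theorem five_two_arith {d dt : ℕ}
    (hd : d ∈ ({5, 10, 12, 16, 45, 11, 22, 33, 44, 55, 66} : Finset ℕ))
    (hdt : dt ∈ ({1, 5, 10, 12, 16, 45, 11, 22, 33, 44, 55, 66} : Finset ℕ)) {s t : ℤ}
    (hs : s = d ∨ s = -(d : ℤ)) (ht : t = dt ∨ t = -(dt : ℤ)) (hs1 : s % 5 = 1)
    (ht2 : t % 5 = 2) (h : 1 + s = t) : dt = 12 := by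
  simp only [Finset.mem_insert, Finset.mem_singleton] at hd hdt
  rcases hdt with rfl | rfl | rfl | rfl | rfl | rfl | rfl | rfl | rfl | rfl | rfl | rfl <;> omega

theorem five_odd_arith {n c : ℕ} (hodd : ¬ 2 ∣ c) (hn : n % 5 = 1) :
    (c * 2 * n = 1584 → False) ∧
      (c * 4 * n = 1584 → (c = 1 ∧ n = 396) ∨ (c = 11 ∧ n = 36)) := by
  refine ⟨fun h => ?_, fun h => ?_⟩
  · have hle : c ≤ 792 := Nat.le_of_dvd (by norm_num) ⟨n, by linarith⟩
    have key : ∀ k < 793, k % 2 = 1 → k ∣ 792 → 792 / k % 5 ≠ 1 := by decide +kernel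
    have h2 : c * n = 792 := by linarith
    refine key c (by omega) (by omega) ⟨n, h2.symm⟩ ?_
    rw [← h2, Nat.mul_div_cancel_left _ (by omega)]
    exact hn
  · have h2 : c * n = 396 := by linarith
    have hle : c ≤ 396 := Nat.le_of_dvd (by norm_num) ⟨n, h2.symm⟩
    have key : ∀ k < 397, k % 2 = 1 → k ∣ 396 → 396 / k % 5 = 1 → k = 1 ∨ k = 11 := by
      decide +kernel
    have hc := key c (by omega) (by omega) ⟨n, h2.symm⟩ (by
      rw [← h2, Nat.mul_div_cancel_left _ (by omega)]; exact hn)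
    rcases hc with rfl | rfl <;> omega

theorem five_four_arith {i j k l : ℕ} (hi : i ≤ 2) (hc : i + j + k + l = 4)
    (h : (1 : ℤ) + 16 * i + 11 * j - 44 * k + 66 * l = 0) :
    i = 2 ∧ j = 1 ∧ k = 1 ∧ l = 0 := by
  omega

section

variable [IsSimpleGroup G] (hG : Nat.card G = 7920)

include hG

/-- A Sylow 5-subgroup is self-centralizing, and the table of degrees. -/
theorem five_main (P : Sylow 5 G) :
    Subgroup.centralizer ((P : Subgroup G) : Set G) = (P : Subgroup G) ∧
      Nonempty (Table G) := by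
  classical
  haveI := Fact.mk (show Nat.Prime 5 by norm_num)
  haveI := Fintype.ofFinite G
  haveI := irrFintype G
  have hn := nonabelian hG
  have hP : Nat.card (P : Subgroup G) = 5 := by
    simpa using card_sylow_eq (p := 5) 1 1584 (by rw [hG]; rfl) (by norm_num) P
  obtain ⟨e, he1, hed, hce⟩ := exists_normalizer_centralizer hn P hP
  obtain ⟨c, hc⟩ := dvd_card_centralizer P hP
  have hmul := card_normalizer_mul P
  rw [← hce, hc, hG] at hmul
  set n := Nat.card (Sylow 5 G) with hndef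
  have hnm : n % 5 = 1 := card_sylow_modEq_one 5 G
  have hmul' : c * e * n = 1584 := by
    have : 5 * (c * e * n) = 5 * 1584 := by linarith
    omega
  have he24 : e = 2 ∨ e = 4 := by
    have h := Nat.le_of_dvd (by norm_num) hed
    norm_num at hed h
    interval_cases e <;> omega
  have hrel' : (Subgroup.centralizer ((P : Subgroup G) : Set G)).relIndex
      (Subgroup.normalizer ((P : Subgroup G) : Set G)) = e := by
    have hle : Subgroup.centralizer ((P : Subgroup G) : Set G) ≤
        Subgroup.normalizer ((P : Subgroup G) : Set G) := Subgroup.centralizer_le_normalizer _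
    have h := Subgroup.relIndex_mul_relIndex _ _ _ bot_le hle
    rw [Subgroup.relIndex_bot_left, Subgroup.relIndex_bot_left, ← hce] at h
    exact Nat.eq_of_mul_eq_mul_left Nat.card_pos h
  obtain ⟨M, hM⟩ := CharApps.exists_pModular (p := 5)
  haveI := hM.2.1.isPrime
  obtain ⟨X, Y, σ, ε, hB, hdisj, hX, hY, hXp, hε, hYd, hYeq, hrel⟩ :=
    exists_block_data (by norm_num) hM P hP hrel'
  -- an involution centralizing `P`
  have hinvC : 2 ∣ c → ∃ t : G, t * t = 1 ∧ t ≠ 1 ∧
      5 ∣ Nat.card (Subgroup.centralizer ({t} : Set G)) := by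
    intro h2c
    obtain ⟨⟨t, htC⟩, hto⟩ := exists_prime_orderOf_dvd_card' (G := Subgroup.centralizer
      ((P : Subgroup G) : Set G)) 2 (by rw [hc]; exact h2c.mul_left 5)
    rw [Subgroup.orderOf_mk] at hto
    refine ⟨t, by rw [← sq, ← hto, pow_orderOf_eq_one],
      fun h => by rw [h, orderOf_one] at hto; omega, ?_⟩
    rw [← hP]
    exact Subgroup.card_dvd_of_le fun y hy =>
      Subgroup.mem_centralizer_singleton_iff.2 (Subgroup.mem_centralizer_iff.1 htC y hy)
  have h5one : ¬ 5 ∣ orderOf (1 : G) := by rw [orderOf_one]; norm_num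
  rcases he24 with rfl | rfl
  · -- `e = 2`
    exfalso
    norm_num at hY
    obtain ⟨θ₁, θ₂, hθne, rfl⟩ := Finset.card_eq_two.1 hY
    have hθm : θ₁ ∈ ({θ₁, θ₂} : Finset (IrrCharacter G)) := by simp
    have hθm2 : θ₂ ∈ ({θ₁, θ₂} : Finset (IrrCharacter G)) := by simp
    have hdeg2 : charDegree (θ₂ : G → ℂ) = charDegree (θ₁ : G → ℂ) := by
      have h := hYeq θ₂ hθm2 θ₁ hθm 1 h5one
      rw [deg_eq, deg_eq, Nat.cast_inj] at h
      exact h
    have hprin : Chars.principal G ∈ X := by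
      rcases (hB _).1 (CfsgLib.Blocks.principal_mem_principalBlock M) with h | h
      · exact h
      exfalso
      have key : ∀ ψ ∈ ({θ₁, θ₂} : Finset (IrrCharacter G)), ψ = Chars.principal G := fun ψ hψ => by
        have h1 := hYeq ψ hψ _ h 1 h5one
        rw [deg_eq, principal_apply, Nat.cast_eq_one] at h1
        exact eq_principal hG h1
      exact hθne ((key _ hθm).trans (key _ hθm2).symm)
    obtain ⟨χ, hχe⟩ := Finset.card_eq_one.1 (show (X.erase (Chars.principal G)).card = 1 by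
      rw [Finset.card_erase_of_mem hprin, hX])
    have hχX : χ ∈ X ∧ χ ≠ Chars.principal G := by
      have h : χ ∈ X.erase (Chars.principal G) := by simp [hχe]
      rw [Finset.mem_erase] at h
      exact ⟨h.2, h.1⟩
    have hσp : σ (Chars.principal G) = 1 := by
      have h := (hXp _ hprin).2.1
      rw [principal_degree hG, Int.modEq_iff_dvd] at h
      rcases (hXp _ hprin).1 with h' | h' <;> rw [h'] at h ⊢ <;> omega
    have hT : ε * (charDegree (θ₁ : G → ℂ) : ℤ) = 1 + σ χ * (charDegree (χ : G → ℂ) : ℤ) := by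
      have h := hrel θ₁ hθm 1 h5one
      rw [← Finset.add_sum_erase _ _ hprin, hχe, Finset.sum_singleton, hσp, principal_apply,
        deg_eq, deg_eq, Int.cast_one, one_mul] at h
      exact_mod_cast h
    have hall : ∀ ψ : IrrCharacter G, charDegree (ψ : G → ℂ) ∈
        ({1, 5, 10, 12, 16, 45, 11, 22, 33, 44, 55, 66} : Finset ℕ) := by
      intro ψ
      rcases eleven_cases hG with ⟨h, -⟩ | ⟨⟨C⟩⟩
      · have := h ψ
        simp only [Finset.mem_insert, Finset.mem_singleton] at this ⊢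
        omega
      · rcases C.cover ψ with h | h | h | h | h | h | h | ⟨-, h⟩
        · rw [h, principal_degree hG]; simp
        all_goals first
          | (simp [h, C.hj, C.ha₁, C.ha₂, C.ha₃, C.hθ₁, C.hθ₂]; done)
          | (simp only [Finset.mem_insert, Finset.mem_singleton] at h ⊢; omega)
    have h12 : charDegree (θ₁ : G → ℂ) = 12 := by
      have h1 := (hXp χ hχX.1).2.1
      have h2 := hYd θ₁ hθm
      rw [Int.ModEq] at h1 h2
      norm_num at h1 h2
      refine five_two_arith (d := charDegree (χ : G → ℂ)) ?_ (hall θ₁) ?_ ?_ h1 h2 hT.symm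
      · have h := hall χ
        have hne : charDegree (χ : G → ℂ) ≠ 1 := fun h => hχX.2 (eq_principal hG h)
        simp only [Finset.mem_insert, Finset.mem_singleton] at h ⊢
        omega
      · rcases (hXp χ hχX.1).1 with h | h <;> simp [h]
      · rcases hε with h | h <;> simp [h]
    rcases eleven_cases hG with ⟨-, a₁, a₂, hne, ha₁, ha₂, huniq, heq⟩ | ⟨⟨C⟩⟩
    · by_cases h2c : 2 ∣ c
      swap
      · exact (five_odd_arith h2c hnm).1 hmul'
      obtain ⟨t, ht, ht1, hdvdC⟩ := hinvC h2c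
      have hval : ∀ ψ ∈ ({θ₁, θ₂} : Finset (IrrCharacter G)), (ψ : G → ℂ) t = ((-8 : ℤ) : ℂ) := by
        intro ψ hψ
        have hd : charDegree (ψ : G → ℂ) = 12 := by
          rcases Finset.mem_insert.1 hψ with rfl | h
          · exact h12
          · rw [Finset.mem_singleton.1 h, hdeg2, h12]
        obtain ⟨m, hm, h4, hlo, hhi⟩ := involution_value hG ht ht1 ψ (by omega)
        have h5 := int_congr_of_principalBlock hM (not_sq_dvd hG (Or.inl rfl))
          ((hB ψ).2 (Or.inr hψ)) hdvdC hm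
        rw [hd] at h4 hlo hhi h5
        rw [← hm]
        congr 1
        omega
      have hmemY : ∀ a : IrrCharacter G, charDegree (a : G → ℂ) = 12 → a ∈ ({θ₁, θ₂} : Finset (IrrCharacter G)) := by
        intro a ha
        simp only [Finset.mem_insert, Finset.mem_singleton]
        rcases huniq θ₁ h12 with h | h <;> rcases huniq θ₂ (by rw [hdeg2, h12]) with h' | h' <;>
          rcases huniq a ha with h'' | h'' <;>
          first
            | exact Or.inl (h''.trans h.symm)
            | exact Or.inr (h''.trans h'.symm)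
            | exact absurd (h.trans h'.symm) hθne
      obtain ⟨B, u, h⟩ := heq t ht ht1 (-8) (-8) (hval _ (hmemY _ ha₁)).symm
        (hval _ (hmemY _ ha₂)).symm
      omega
    · rcases C.cover θ₁ with h | h | h | h | h | h | h | ⟨-, h⟩
      · rw [h, principal_degree hG] at h12; omega
      all_goals first
        | (rw [h] at h12; simp [C.hj, C.ha₁, C.ha₂, C.ha₃, C.hθ₁, C.hθ₂] at h12; done)
        | (rw [h12] at h; simp at h)
  -- `e = 4`
  norm_num at hY
  obtain ⟨θ, rfl⟩ := Finset.card_eq_one.1 hY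
  have hθm : θ ∈ ({θ} : Finset (IrrCharacter G)) := by simp
  set S := X ∪ {θ} with hS
  have hScard : S.card = 5 := by rw [hS, Finset.card_union_of_disjoint hdisj, hX]; simp
  let τ : IrrCharacter G → ℤ := fun χ => if χ ∈ X then σ χ else -ε
  have hτ : ∀ χ ∈ S, (τ χ = 1 ∨ τ χ = -1) ∧
      τ χ * (charDegree (χ : G → ℂ) : ℤ) ≡ 1 [ZMOD 5] := by
    intro χ hχ
    by_cases h : χ ∈ X
    · simp only [τ, if_pos h]
      exact ⟨(hXp χ h).1, (hXp χ h).2.1⟩
    · simp only [τ, if_neg h]
      obtain rfl : χ = θ := by simpa [hS, h] using hχ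
      have h1 := hYd χ hθm
      rw [Int.modEq_iff_dvd] at h1 ⊢
      rcases hε with h' | h' <;> rw [h'] at h1 ⊢ <;> omega
  have hrelS : ∀ g : G, ¬ 5 ∣ orderOf g → ∑ χ ∈ S, (τ χ : ℂ) * (χ : G → ℂ) g = 0 := by
    intro g hg
    rw [hS, Finset.sum_union hdisj, Finset.sum_singleton]
    have hθX : θ ∉ X := fun h => Finset.disjoint_left.1 hdisj h hθm
    simp only [τ, if_neg hθX]
    rw [Finset.sum_congr rfl (g := fun χ => (σ χ : ℂ) * (χ : G → ℂ) g)
      (fun χ hχ => by rw [if_pos hχ]), ← hrel θ hθm g hg]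
    push_cast
    ring
  have hSB : ∀ χ, χ ∈ principalBlock M G ↔ χ ∈ S := fun χ => by rw [hB, hS, Finset.mem_union]
  have hprin : Chars.principal G ∈ S :=
    (hSB _).1 (CfsgLib.Blocks.principal_mem_principalBlock M)
  have hτp : τ (Chars.principal G) = 1 := by
    have h := (hτ _ hprin).2
    rw [principal_degree hG, Int.modEq_iff_dvd] at h
    rcases (hτ _ hprin).1 with h' | h' <;> rw [h'] at h ⊢ <;> omega
  set S' := S.erase (Chars.principal G) with hS'
  have hS'c : S'.card = 4 := by rw [hS', Finset.card_erase_of_mem hprin, hScard]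
  have hsum0 : (1 : ℤ) + ∑ χ ∈ S', τ χ * (charDegree (χ : G → ℂ) : ℤ) = 0 := by
    have h := hrelS 1 h5one
    rw [← Finset.add_sum_erase _ _ hprin, ← hS', hτp, principal_apply] at h
    simp only [deg_eq] at h
    push_cast at h
    have h2 : ((1 + ∑ χ ∈ S', τ χ * (charDegree (χ : G → ℂ) : ℤ) : ℤ) : ℂ) = ((0 : ℤ) : ℂ) := by
      push_cast
      linear_combination h
    exact Int.cast_injective h2
  rcases eleven_cases hG with ⟨hD, -⟩ | ⟨⟨C⟩⟩
  · exfalso
    have h11 : (11 : ℤ) ∣ ∑ χ ∈ S', τ χ * (charDegree (χ : G → ℂ) : ℤ) := by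
      refine Finset.dvd_sum fun χ hχ => ?_
      rw [hS', Finset.mem_erase] at hχ
      have hne : charDegree (χ : G → ℂ) ≠ 1 := fun h => hχ.1 (eq_principal hG h)
      have h := hD χ
      have h1 := (hτ χ hχ.2).2
      rw [Int.modEq_iff_dvd] at h1
      simp only [Finset.mem_insert, Finset.mem_singleton] at h
      rcases (hτ χ hχ.2).1 with h' | h' <;> rw [h'] at h1 ⊢ <;> omega
    omega
  let f : IrrCharacter G → ℤ := fun χ => τ χ * (charDegree (χ : G → ℂ) : ℤ)
  have hf : ∀ χ ∈ S', f χ ∈ ({16, 11, -44, 66} : Finset ℤ) := by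
    intro χ hχ
    rw [hS', Finset.mem_erase] at hχ
    have hne : charDegree (χ : G → ℂ) ≠ 1 := fun h => hχ.1 (eq_principal hG h)
    have h1 := (hτ χ hχ.2).2
    rw [Int.modEq_iff_dvd] at h1
    simp only [f, Finset.mem_insert, Finset.mem_singleton]
    have hd : charDegree (χ : G → ℂ) ∈
        ({10, 16, 45, 11, 22, 33, 44, 55, 66} : Finset ℕ) := by
      rcases C.cover χ with h | h | h | h | h | h | h | ⟨-, h⟩
      · exact absurd h hχ.1
      all_goals first
        | (simp [h, C.hj, C.ha₁, C.ha₂, C.ha₃, C.hθ₁, C.hθ₂]; done)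
        | (simp only [Finset.mem_insert, Finset.mem_singleton] at h ⊢; omega)
    simp only [Finset.mem_insert, Finset.mem_singleton] at hd
    rcases (hτ χ hχ.2).1 with h' | h' <;> rw [h'] at h1 ⊢ <;> omega
  set A := S'.filter (fun χ => f χ = 16) with hA
  set J := S'.filter (fun χ => f χ = 11) with hJ
  set K := S'.filter (fun χ => f χ = -44) with hK
  set L := S'.filter (fun χ => f χ = 66) with hL
  have hfd : ∀ (T : Finset (IrrCharacter G)) (s : ℤ), T ⊆ S' → (∀ χ ∈ T, f χ = s) → 0 < s →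
      ∀ χ ∈ T, τ χ = 1 ∧ (charDegree (χ : G → ℂ) : ℤ) = s := by
    intro T s hTS hTs hs χ hχ
    have h := hTs χ hχ
    simp only [f] at h
    rcases (hτ χ (Finset.mem_of_mem_erase (hTS hχ))).1 with h' | h' <;> rw [h'] at h ⊢ <;> omega
  have hAd := hfd A 16 (Finset.filter_subset _ _) (fun χ hχ => (Finset.mem_filter.1 hχ).2)
    (by norm_num)
  have hJd := hfd J 11 (Finset.filter_subset _ _) (fun χ hχ => (Finset.mem_filter.1 hχ).2)
    (by norm_num)
  have hAsub : A ⊆ {C.θ₁, C.θ₂} := by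
    intro χ hχ
    have h := (hAd χ hχ).2
    simp only [Finset.mem_insert, Finset.mem_singleton]
    rcases C.cover χ with h' | h' | h' | h' | h' | h' | h' | ⟨-, h'⟩
    · rw [h', principal_degree hG] at h; omega
    · rw [h', C.hj] at h; omega
    · rw [h', C.ha₁] at h; omega
    · rw [h', C.ha₂] at h; omega
    · rw [h', C.ha₃] at h; omega
    · exact Or.inl h'
    · exact Or.inr h'
    · simp only [Finset.mem_insert, Finset.mem_singleton] at h'; omega
  have hcnt : A.card + J.card + K.card + L.card = 4 := by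
    rw [← hS'c, Finset.card_eq_sum_card_fiberwise (t := ({16, 11, -44, 66} : Finset ℤ)) hf,
      Finset.sum_insert (by decide), Finset.sum_insert (by decide), Finset.sum_insert (by decide),
      Finset.sum_singleton, ← add_assoc, ← add_assoc]
  have hfs : ∑ χ ∈ S', f χ =
      16 * (A.card : ℤ) + 11 * J.card - 44 * K.card + 66 * L.card := by
    rw [← Finset.sum_fiberwise_of_maps_to hf, Finset.sum_insert (by decide),
      Finset.sum_insert (by decide), Finset.sum_insert (by decide), Finset.sum_singleton]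
    have hc : ∀ s : ℤ, ∑ χ ∈ S' with f χ = s, f χ = s * (S'.filter fun χ => f χ = s).card := by
      intro s
      rw [Finset.sum_congr rfl (g := fun _ => s) (fun χ hχ => (Finset.mem_filter.1 hχ).2),
        Finset.sum_const, nsmul_eq_mul, mul_comm]
    rw [hc 16, hc 11, hc (-44), hc 66, ← hA, ← hJ, ← hK, ← hL]
    ring
  obtain ⟨hA2, hJ1, hK1, hL0⟩ := five_four_arith
    ((Finset.card_le_card hAsub).trans (Finset.card_le_two)) hcnt (by
      simp only [f] at hfs; rw [hfs] at hsum0; linarith)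
  have hAe : A = {C.θ₁, C.θ₂} := Finset.eq_of_subset_of_card_le hAsub (by
    rw [hA2]; exact Finset.card_le_two)
  rw [Finset.card_eq_zero] at hL0
  obtain ⟨r, hJe⟩ := Finset.card_eq_one.1 hJ1
  obtain ⟨w, hKe⟩ := Finset.card_eq_one.1 hK1
  have hr : charDegree (r : G → ℂ) = 11 ∧ τ r = 1 ∧ r ∈ S := by
    have h := hJd r (by simp [hJe])
    refine ⟨by omega, h.1, Finset.mem_of_mem_erase (Finset.mem_of_mem_filter r (?_ : r ∈ J))⟩
    simp [hJe]
  have hw : charDegree (w : G → ℂ) = 44 ∧ τ w = -1 ∧ w ∈ S := by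
    have hm : w ∈ K := by simp [hKe]
    have h := (Finset.mem_filter.1 hm).2
    have hS : w ∈ S := Finset.mem_of_mem_erase (Finset.mem_of_mem_filter w hm)
    simp only [f] at h
    rcases (hτ w hS).1 with h' | h' <;> rw [h'] at h <;> refine ⟨by omega, by omega, hS⟩
  have hθS : ∀ χ, χ = C.θ₁ ∨ χ = C.θ₂ → χ ∈ A := fun χ h => by rw [hAe]; simpa using h
  have hS5 : ∀ χ ∈ S, χ = Chars.principal G ∨ χ = C.θ₁ ∨ χ = C.θ₂ ∨ χ = r ∨ χ = w := by
    intro χ hχ
    by_cases h : χ = Chars.principal G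
    · exact Or.inl h
    have hm : χ ∈ S' := Finset.mem_erase.2 ⟨h, hχ⟩
    have h' := hf χ hm
    simp only [Finset.mem_insert, Finset.mem_singleton] at h'
    rcases h' with h' | h' | h' | h'
    · have : χ ∈ A := Finset.mem_filter.2 ⟨hm, h'⟩
      rw [hAe] at this; simp at this; tauto
    · have : χ ∈ J := Finset.mem_filter.2 ⟨hm, h'⟩
      rw [hJe] at this; simp at this; tauto
    · have : χ ∈ K := Finset.mem_filter.2 ⟨hm, h'⟩
      rw [hKe] at this; simp at this; tauto
    · have : χ ∈ L := Finset.mem_filter.2 ⟨hm, h'⟩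
      rw [hL0] at this; simp at this
  have hrel5 : ∀ g : G, ¬ 5 ∣ orderOf g →
      1 + (C.θ₁ : G → ℂ) g + (C.θ₂ : G → ℂ) g + (r : G → ℂ) g - (w : G → ℂ) g = 0 := by
    intro g hg
    have h := hrelS g hg
    rw [← Finset.add_sum_erase _ _ hprin, ← hS', ← Finset.sum_fiberwise_of_maps_to hf,
      Finset.sum_insert (by decide), Finset.sum_insert (by decide), Finset.sum_insert (by decide),
      Finset.sum_singleton, ← hA, ← hJ, ← hK, ← hL, hAe, hJe, hKe, hL0, Finset.sum_empty,
      Finset.sum_singleton, Finset.sum_singleton, Finset.sum_pair C.neθ, hτp, hr.2.1, hw.2.1,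
      (hAd _ (hθS _ (Or.inl rfl))).1, (hAd _ (hθS _ (Or.inr rfl))).1, principal_apply] at h
    push_cast at h
    linear_combination h
  have hθB : ∀ χ, χ = C.θ₁ ∨ χ = C.θ₂ → χ ∈ principalBlock M G := fun χ h =>
    (hSB χ).2 (Finset.mem_of_mem_erase (Finset.mem_of_mem_filter χ (hθS χ h)))
  -- `C(P) = P`
  have hodd : ¬ 2 ∣ c := by
    intro h2c
    obtain ⟨t, ht, ht1, hdvdC⟩ := hinvC h2c
    obtain ⟨u, hu, hu4, hulo, huhi⟩ := involution_value hG ht ht1 C.θ₁ (by rw [C.hθ₁]; omega)
    have h5 := int_congr_of_principalBlock hM (not_sq_dvd hG (Or.inl rfl))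
      (hθB _ (Or.inl rfl)) hdvdC hu
    rw [C.hθ₁] at hu4 hulo huhi h5
    obtain rfl : u = -4 := by omega
    obtain ⟨b, hb, hb4, -, -⟩ := involution_value hG ht ht1 C.j (by rw [C.hj]; omega)
    obtain ⟨a₁, ha₁, ⟨l₁, hl₁⟩, -, -⟩ := involution_value hG ht ht1 C.a₁ (by rw [C.ha₁]; omega)
    obtain ⟨a₂, ha₂, ⟨l₂, hl₂⟩, -, -⟩ := involution_value hG ht ht1 C.a₂ (by rw [C.ha₂]; omega)
    obtain ⟨a₃, ha₃, ⟨l₃, hl₃⟩, -, -⟩ := involution_value hG ht ht1 C.a₃ (by rw [C.ha₃]; omega)
    rw [C.hj] at hb4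
    rw [C.ha₁] at hl₁
    rw [C.ha₂] at hl₂
    rw [C.ha₃] at hl₃
    obtain ⟨l, hl⟩ := hb4
    have h := C.invol t ht ht1
    rw [← hb, ← ha₁, ← ha₂, ← ha₃, ← hu] at h
    have h2 : 720 + 16 * b ^ 2 - 72 * (a₁ ^ 2 + a₂ ^ 2 + a₃ ^ 2) - 45 * (-4 : ℤ) ^ 2 = 0 := by
      apply Int.cast_injective (α := ℂ)
      push_cast at h ⊢
      linear_combination h
    obtain rfl : b = 45 - 4 * l := by omega
    obtain rfl : a₁ = 10 - 4 * l₁ := by omega
    obtain rfl : a₂ = 10 - 4 * l₂ := by omega
    obtain rfl : a₃ = 10 - 4 * l₃ := by omega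
    ring_nf at h2
    omega
  have hc1 : c = 1 := by
    rcases (five_odd_arith hodd hnm).2 hmul' with ⟨h, -⟩ | ⟨rfl, -⟩
    · exact h
    exfalso
    haveI := Fact.mk (show Nat.Prime 11 by norm_num)
    obtain ⟨⟨x, hxC⟩, hxo⟩ := exists_prime_orderOf_dvd_card' (G := Subgroup.centralizer
      ((P : Subgroup G) : Set G)) 11 (by rw [hc]; exact dvd_mul_left 11 5)
    rw [Subgroup.orderOf_mk] at hxo
    have h5 : (P : Subgroup G) ≤ Subgroup.centralizer ({x} : Set G) := fun y hy =>
      Subgroup.mem_centralizer_singleton_iff.2 (Subgroup.mem_centralizer_iff.1 hxC y hy)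
    have := Subgroup.card_dvd_of_le h5
    rw [hP, (order_eleven hG hxo).1] at this
    norm_num at this
  subst hc1
  have hC : Subgroup.centralizer ((P : Subgroup G) : Set G) = (P : Subgroup G) := by
    have hcyc : IsCyclic (P : Subgroup G) := isCyclic_of_prime_card hP
    haveI := hcyc.isMulCommutative
    exact (Subgroup.eq_of_le_of_card_ge (Subgroup.le_centralizer (P : Subgroup G))
      (by rw [hc, hP])).symm
  refine ⟨hC, ?_⟩
  -- the character of degree 55
  set F := Finset.univ.filter (fun χ : IrrCharacter G => 11 ∣ charDegree (χ : G → ℂ)) with hF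
  have hrw : r ≠ w := fun h => by rw [h] at hr; omega
  have hrwF : {r, w} ⊆ F := by
    intro χ hχ
    simp only [Finset.mem_insert, Finset.mem_singleton] at hχ
    rw [hF, Finset.mem_filter]
    rcases hχ with rfl | rfl
    · exact ⟨Finset.mem_univ _, by rw [hr.1]⟩
    · exact ⟨Finset.mem_univ _, by rw [hw.1]; norm_num⟩
  have h55 : ∀ χ ∈ F \ {r, w}, charDegree (χ : G → ℂ) = 55 := by
    intro χ hχ
    simp only [hF, Finset.mem_sdiff, Finset.mem_filter, Finset.mem_insert, Finset.mem_singleton,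
      Finset.mem_univ, true_and] at hχ
    have hd : charDegree (χ : G → ℂ) ∈ ({11, 22, 33, 44, 55, 66} : Finset ℕ) := by
      rcases C.cover χ with h | h | h | h | h | h | h | ⟨-, h⟩
      · rw [h, principal_degree hG] at hχ; omega
      all_goals first
        | exact h
        | (rw [h] at hχ; simp [C.hj, C.ha₁, C.ha₂, C.ha₃, C.hθ₁, C.hθ₂] at hχ)
    have h5 : 5 ∣ charDegree (χ : G → ℂ) := by
      by_contra h
      rcases hS5 χ ((hSB χ).1 (mem_principalBlock_of_selfCentral hM P hP hC χ h)) with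
        h' | h' | h' | h' | h'
      · rw [h', principal_degree hG] at hχ; omega
      · rw [h', C.hθ₁] at hχ; omega
      · rw [h', C.hθ₂] at hχ; omega
      · exact hχ.2 (Or.inl h')
      · exact hχ.2 (Or.inr h')
    simp only [Finset.mem_insert, Finset.mem_singleton] at hd
    omega
  have hcard1 : (F \ {r, w}).card = 1 := by
    have h := C.sum_sq
    rw [← hF, ← Finset.sum_sdiff hrwF, Finset.sum_pair hrw, hr.1, hw.1,
      Finset.sum_congr rfl (g := fun _ => 55 ^ 2) (fun χ hχ => by rw [h55 χ hχ]),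
      Finset.sum_const, smul_eq_mul] at h
    omega
  obtain ⟨z, hz⟩ := Finset.card_eq_one.1 hcard1
  have hzd : charDegree (z : G → ℂ) = 55 := h55 z (by simp [hz])
  let v : Fin 10 → IrrCharacter G :=
    ![Chars.principal G, C.j, C.a₁, C.a₂, C.a₃, C.θ₁, C.θ₂, r, w, z]
  have hdeg : ∀ i, charDegree (v i : G → ℂ) = degs i := by
    intro i
    fin_cases i <;> simp [v, degs, principal_degree hG, C.hj, C.ha₁, C.ha₂, C.ha₃, C.hθ₁, C.hθ₂,
      hr.1, hw.1, hzd]
  have hinj : Function.Injective v := by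
    intro i k h
    have h' := congrArg (fun χ : IrrCharacter G => charDegree (χ : G → ℂ)) h
    simp only [hdeg] at h'
    fin_cases i <;> fin_cases k <;> simp [degs] at h' ⊢ <;>
      simp [v, C.ne₁₂, C.ne₁₃, C.ne₂₃, C.neθ, C.ne₁₂.symm, C.ne₁₃.symm, C.ne₂₃.symm,
        C.neθ.symm] at h
  have hsurj : Function.Surjective v := by
    intro χ
    rcases C.cover χ with h | h | h | h | h | h | h | ⟨h, -⟩
    · exact ⟨0, h.symm⟩
    · exact ⟨1, h.symm⟩
    · exact ⟨2, h.symm⟩
    · exact ⟨3, h.symm⟩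
    · exact ⟨4, h.symm⟩
    · exact ⟨5, h.symm⟩
    · exact ⟨6, h.symm⟩
    · by_cases hr' : χ = r
      · exact ⟨7, hr'.symm⟩
      by_cases hw' : χ = w
      · exact ⟨8, hw'.symm⟩
      refine ⟨9, ?_⟩
      have : χ ∈ F \ {r, w} := by simp [hF, h, hr', hw']
      rw [hz, Finset.mem_singleton] at this
      exact this.symm
  exact ⟨{ c := Equiv.ofBijective v ⟨hinj, hsurj⟩, deg := hdeg, principal := rfl,
           rel11 := C.regular, rel5 := hrel5, invol := C.invol }⟩

theorem exists_table : Nonempty (Table G) := by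
  obtain ⟨P⟩ := (inferInstance : Nonempty (Sylow 5 G))
  exact (five_main hG P).2

/-- Elements of order five are self-centralizing. -/
theorem order_five {y : G} (hy : orderOf y = 5) :
    Nat.card (Subgroup.centralizer ({y} : Set G)) = 5 := by
  haveI := Fact.mk (show Nat.Prime 5 by norm_num)
  let P : Sylow 5 G := Sylow.ofCard (Subgroup.zpowers y) (by
    rw [Nat.card_zpowers, hy, hG, show 7920 = 5 ^ 1 * 1584 by norm_num,
      Nat.factorization_mul (by norm_num) (by norm_num), Nat.factorization_pow]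
    simp [Nat.factorization_eq_zero_of_not_dvd (show ¬ 5 ∣ 1584 by norm_num),
      Nat.Prime.factorization_self (show Nat.Prime 5 by norm_num)])
  have hC := (five_main hG P).1
  rw [show (P : Subgroup G) = Subgroup.zpowers y from Sylow.coe_ofCard _ _] at hC
  rw [← Subgroup.centralizer_closure, ← Subgroup.zpowers_eq_closure, hC, Nat.card_zpowers, hy]

end

end CfsgLib.Small.O7920
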