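import Cfsg.Agent.Lib.Small.SmallOrder
import Cfsg.Agent.Lib.Small.PrincipalDegrees
import Cfsg.Agent.Lib.Chars.Burnside
import Cfsg.Agent.Lib.Perm.JordanCycle
import Cfsg.Agent.S0992
import Cfsg.Agent.S1019

/-!
# More tools for sieving the orders of simple groups

The possible numbers attached to a Sylow subgroup of prime order, centralizers of two primes,
Jordan's theorem on coset actions, and intersections of Sylow subgroups of order `p ^ 2`.
-/

set_option autoImplicit false
set_option linter.unusedSectionVars false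
set_option linter.style.haveILetI false

open Subgroup
open scoped Nat

namespace CfsgLib.Small

universe u

variable {G : Type u} [Group G] [Finite G]

/-- The admissible triples `(n, e, k)`: the number of Sylow `p`-subgroups, `|N(P) : C(P)|` and
`|C(P) : P|` in a simple group of order `N = p * m`. -/
def primeOptions (N p m : ℕ) : List (ℕ × ℕ × ℕ) :=
  ((List.range (m + 1)).filter fun n =>
      n % p == 1 && 1 < n && n ∣ m && (16 ≤ n || 2 * N ∣ n.factorial)).flatMap fun n =>
    ((List.range p).filter fun e => 1 < e && e ∣ p - 1 && n * e ∣ m &&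
      ((n != p + 1) || (m / (n * e) == 1 && (p % 4 != 3 || e % 2 == 1))) &&
      (4 * p < n || m / (n * e) % 2 == 1) &&
      ([3, 5, 7, 11, 13, 17].all fun r => r == p || !(r ∣ m / (n * e)) || r * p < n)).map
        fun e => (n, e, m / (n * e))

/-- An element of order an odd prime centralizing a Sylow subgroup of order `p` needs more than
`r p` Sylow subgroups. -/
theorem mul_lt_of_dvd_centralizer [IsSimpleGroup G] (hG : ¬ IsMulCommutative G) {p r : ℕ}
    [hp : Fact p.Prime] [hr : Fact r.Prime] (hrp : r ≠ p) (P : Sylow p G)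
    (hP : Nat.card (P : Subgroup G) = p)
    (hdvd : r ∣ Nat.card (centralizer ((P : Subgroup G) : Set G))) :
    r * p < Nat.card (Sylow p G) := by
  classical
  have : Fintype (Sylow p G) := Fintype.ofFinite _
  obtain ⟨c, hc⟩ := exists_prime_orderOf_dvd_card' (G := centralizer ((P : Subgroup G) : Set G)) r hdvd
  have hco : orderOf (c : G) = r := by rw [Subgroup.orderOf_coe, hc]
  obtain ⟨hdp, hPn⟩ := support_of_centralizing P hP c.2
  have hinj := toPermHom_sylow_injective hG (hP ▸ card_subgroup_dvd_card (P : Subgroup G))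
  set σ := MulAction.toPermHom G (Sylow p G) (c : G) with hσ
  have ho : orderOf σ = r := by rw [hσ, orderOf_injective _ hinj, hco]
  obtain ⟨i, hi⟩ := Equiv.Perm.cycleType_prime_order (ho ▸ hr.out)
  have hsum := σ.sum_cycleType
  rw [hi, Multiset.sum_replicate, smul_eq_mul, ho] at hsum
  have hdr : r * p ∣ σ.support.card :=
    Nat.Coprime.mul_dvd_of_dvd_of_dvd ((Nat.coprime_primes hr.out hp.out).mpr hrp)
      ⟨i + 1, by rw [← hsum, mul_comm]⟩ hdp
  have hpos : 0 < σ.support.card := by rw [← hsum]; have := hr.out.pos; positivity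
  have hlt : σ.support.card < Nat.card (Sylow p G) := by
    rw [Nat.card_eq_fintype_card]
    exact Finset.card_lt_univ_of_notMem hPn
  exact lt_of_le_of_lt (Nat.le_of_dvd hpos hdr) hlt

/-- The Sylow data for a prime dividing the order exactly once. -/
theorem exists_prime_option [IsSimpleGroup G] (hG : ¬ IsMulCommutative G) {N : ℕ}
    (hN : Nat.card G = N) (p m : ℕ) [hp : Fact p.Prime] (hNm : N = p * m) (hm : ¬ p ∣ m)
    (hodd : p ≠ 2) :
    ∃ (P : Sylow p G) (n e k : ℕ), Nat.card (P : Subgroup G) = p ∧ Nat.card (Sylow p G) = n ∧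
      (n, e, k) ∈ primeOptions N p m ∧
      (centralizer ((P : Subgroup G) : Set G)).relIndex
        (normalizer ((P : Subgroup G) : Set G)) = e ∧
      Nat.card (centralizer ((P : Subgroup G) : Set G)) = p * k ∧
      Nat.card (normalizer ((P : Subgroup G) : Set G)) = p * k * e ∧
      n * (e * k) = m := by
  obtain ⟨P⟩ : Nonempty (Sylow p G) := inferInstance
  have hP : Nat.card (P : Subgroup G) = p := by
    simpa using card_sylow_eq (p := p) 1 m (by rw [hN, hNm, pow_one]) hm P
  obtain ⟨e, he1, hed, hce⟩ := exists_normalizer_centralizer hG P hP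
  obtain ⟨k, hk⟩ := dvd_card_centralizer P hP
  have hmul := card_normalizer_mul P
  have hd : p ∣ Nat.card G := ⟨m, by rw [hN, hNm]⟩
  have hfac := two_mul_card_dvd_factorial_sylow hG hd
  have hn1 := one_lt_card_sylow hG hd
  have hmod : Nat.card (Sylow p G) % p = 1 :=
    Eq.trans (card_sylow_modEq_one p G) (Nat.mod_eq_of_lt hp.out.one_lt)
  rw [← hce, hk, hN, hNm] at hmul
  set n := Nat.card (Sylow p G) with hn
  have hnek : n * (e * k) = m := by
    apply Nat.eq_of_mul_eq_mul_left hp.out.pos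
    rw [← hmul]; ring
  refine ⟨P, n, e, k, hP, rfl, ?_, relIndex_of_card_mul P hce, hk, by rw [← hce, hk], hnek⟩
  have hm0 : m ≠ 0 := fun h => hm (h ▸ dvd_zero p)
  have hne : n * e ∣ m := ⟨k, by rw [← hnek]; ring⟩
  have hne0 : 0 < n * e := Nat.mul_pos (by omega) (by omega)
  have hkdiv : m / (n * e) = k := Nat.div_eq_of_eq_mul_left hne0 (by rw [← hnek]; ring)
  have helt : e < p := by
    have := Nat.le_of_dvd (by have := hp.out.two_le; omega) hed
    omega
  simp only [primeOptions, List.mem_flatMap, List.mem_map, List.mem_filter, List.mem_range,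
    Bool.and_eq_true, Bool.or_eq_true, List.all_eq_true, decide_eq_true_eq, beq_iff_eq,
    bne_iff_ne, Bool.not_eq_true', decide_eq_false_iff_not]
  refine ⟨n, ⟨Nat.lt_succ_of_le (Nat.le_of_dvd (Nat.pos_of_ne_zero hm0) ⟨e * k, hnek.symm⟩),
    ⟨⟨hmod, hn1⟩, ⟨e * k, hnek.symm⟩⟩, Or.inr (hN ▸ hfac)⟩,
    e, ⟨helt, ⟨⟨⟨⟨he1, hed⟩, hne⟩, ?_⟩, ?_⟩, ?_⟩, by rw [hkdiv]⟩
  · rw [hkdiv]
    by_cases hs : n = p + 1
    · right
      obtain ⟨hC, hN'⟩ := sylow_succ hG P hP (by rw [← hn, hs])
      rw [hC, hP] at hk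
      have hk1 : k = 1 := by
        nlinarith [hp.out.pos]
      refine ⟨hk1, ?_⟩
      by_cases h3 : p % 4 = 3
      · right
        have h := hN' h3
        rw [← hce] at h
        exact Nat.odd_iff.mp (Nat.Odd.of_mul_right h)
      · exact Or.inl h3
    · exact Or.inl hs
  · rw [hkdiv]
    by_cases hs : 4 * p < n
    · exact Or.inl hs
    · right
      have h := odd_card_centralizer_of_few hG hodd P hP (by omega)
      rw [hk] at h
      exact Nat.odd_iff.mp (Nat.Odd.of_mul_right h)
  · intro r hr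
    rw [hkdiv]
    by_cases hrp : r = p
    · exact Or.inl (Or.inl hrp)
    by_cases hrk : r ∣ k
    · right
      have : Fact r.Prime := ⟨by
        simp only [List.mem_cons, List.not_mem_nil, or_false] at hr
        rcases hr with rfl | rfl | rfl | rfl | rfl | rfl <;> norm_num⟩
      exact mul_lt_of_dvd_centralizer hG hrp P hP (hk ▸ hrk.mul_left p)
    · exact Or.inl (Or.inr hrk)

/-- An order with no admissible triple. -/
theorem false_of_options_nil [IsSimpleGroup G] (hG : ¬ IsMulCommutative G) {N : ℕ}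
    (hN : Nat.card G = N) (p m : ℕ) [Fact p.Prime] (hNm : N = p * m) (hm : ¬ p ∣ m)
    (hodd : p ≠ 2) (key : primeOptions N p m = []) : False := by
  obtain ⟨P, n, e, k, -, -, hmem, -⟩ := exists_prime_option hG hN p m hNm hm hodd
  rw [key] at hmem
  exact List.not_mem_nil hmem

theorem card_centralizer_smul {p : ℕ} (P : Sylow p G) (g : G) :
    Nat.card (centralizer (((g • P : Sylow p G) : Subgroup G) : Set G)) =
      Nat.card (centralizer ((P : Subgroup G) : Set G)) := by
  refine (Nat.card_congr ((MulAut.conj g).toEquiv.subtypeEquiv fun x => ?_)).symm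
  rw [mem_centralizer_iff, mem_centralizer_iff]
  constructor
  · intro h y hy
    rw [Sylow.coe_subgroup_smul] at hy
    obtain ⟨z, hz, rfl⟩ := hy
    show (MulAut.conj g) z * (MulAut.conj g) x = (MulAut.conj g) x * (MulAut.conj g) z
    rw [← map_mul, ← map_mul, h z hz]
  · intro h z hz
    have := h (MulAut.conj g z) (by rw [Sylow.coe_subgroup_smul]; exact ⟨z, hz, rfl⟩)
    change (MulAut.conj g) z * (MulAut.conj g) x = (MulAut.conj g) x * (MulAut.conj g) z at this
    rw [← map_mul, ← map_mul] at this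
    exact (MulAut.conj g).injective this

theorem card_centralizer_sylow_eq {p : ℕ} [Fact p.Prime] (P Q : Sylow p G) :
    Nat.card (centralizer ((P : Subgroup G) : Set G)) =
      Nat.card (centralizer ((Q : Subgroup G) : Set G)) := by
  obtain ⟨g, rfl⟩ := MulAction.exists_smul_eq G P Q
  exact (card_centralizer_smul P g).symm

/-- If `r` divides `|C(P)|` then `p` divides `|C(R)|`, for Sylow subgroups of prime order. -/
theorem dvd_centralizer_symm {p r : ℕ} [Fact p.Prime] [hr : Fact r.Prime] (P : Sylow p G)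
    (hP : Nat.card (P : Subgroup G) = p) (R : Sylow r G) (hR : Nat.card (R : Subgroup G) = r)
    (h : r ∣ Nat.card (centralizer ((P : Subgroup G) : Set G))) :
    p ∣ Nat.card (centralizer ((R : Subgroup G) : Set G)) := by
  obtain ⟨c, hc⟩ := exists_prime_orderOf_dvd_card' (G := centralizer ((P : Subgroup G) : Set G)) r h
  have hcard : Nat.card (zpowers (c : G)) = r := by
    rw [Nat.card_zpowers, Subgroup.orderOf_coe, hc]
  obtain ⟨S, hS⟩ := (IsPGroup.of_card (p := r) (n := 1)
    (by rw [pow_one, hcard])).exists_le_sylow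
  obtain ⟨g, hg⟩ := MulAction.exists_smul_eq G R S
  rw [card_centralizer_sylow_eq R S]
  have hSc : Nat.card (S : Subgroup G) = r := (S.card_eq_multiplicity.trans R.card_eq_multiplicity.symm).trans hR
  have heq : (S : Subgroup G) = zpowers (c : G) :=
    (eq_of_le_of_card_ge hS (by rw [hcard, hSc])).symm
  rw [heq]
  refine (dvd_of_eq hP.symm).trans (card_dvd_of_le fun x hx => ?_)
  rw [mem_centralizer_iff]
  rintro y ⟨i, rfl⟩
  exact ((Commute.zpow_left (mem_centralizer_iff.mp c.2 x hx).symm i).eq)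

/-- Two commuting Sylow subgroups of prime order give no new options. -/
theorem mutual_of_options [IsSimpleGroup G] (hG : ¬ IsMulCommutative G) {N : ℕ}
    (hN : Nat.card G = N) (p m r m' : ℕ) [Fact p.Prime] [Fact r.Prime] (hNm : N = p * m)
    (hm : ¬ p ∣ m) (hNm' : N = r * m') (hm' : ¬ r ∣ m') (hp2 : p ≠ 2) (hr2 : r ≠ 2) (hpr : p ≠ r) :
    ∃ (x : ℕ × ℕ × ℕ) (y : ℕ × ℕ × ℕ), x ∈ primeOptions N p m ∧ y ∈ primeOptions N r m' ∧
      (r ∣ x.2.2 ↔ p ∣ y.2.2) := by
  obtain ⟨P, n, e, k, hP, -, hx, -, hk, -⟩ := exists_prime_option hG hN p m hNm hm hp2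
  obtain ⟨R, n', e', k', hR, -, hy, -, hk', -⟩ := exists_prime_option hG hN r m' hNm' hm' hr2
  have hp : p.Prime := Fact.out
  have hr : r.Prime := Fact.out
  refine ⟨_, _, hx, hy, fun h => ?_, fun h => ?_⟩
  · have h1 := dvd_centralizer_symm P hP R hR (hk ▸ dvd_mul_of_dvd_right h p)
    rw [hk'] at h1
    exact (hp.dvd_mul.mp h1).resolve_left fun h' => hpr ((Nat.prime_dvd_prime_iff_eq hp hr).mp h')
  · have h1 := dvd_centralizer_symm R hR P hP (hk' ▸ dvd_mul_of_dvd_right h r)
    rw [hk] at h1
    exact (hr.dvd_mul.mp h1).resolve_left fun h' => hpr ((Nat.prime_dvd_prime_iff_eq hr hp).mp h').symm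

/-- A simple group with a small subgroup index whose Sylow `p`-subgroups are those of the
symmetric group is alternating, by Jordan's theorem. -/
theorem index_ne_of_full_sylow [IsSimpleGroup G] (hG : ¬ IsMulCommutative G) {p a i : ℕ}
    [hp : Fact p.Prime] (hdvd : p ^ a ∣ Nat.card G) (hfull : ¬ p ^ (a + 1) ∣ i !) (hpi : p + 3 ≤ i)
    (hmin : ∀ j ∈ Nat.divisors i, 1 < j → j < i → ¬ 2 * Nat.card G ∣ j !)
    (hlt : 2 * Nat.card G < i !) (H : Subgroup G) : H.index ≠ i := by
  classical
  intro hi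
  have hH : H ≠ ⊤ := fun h => by rw [h, index_top] at hi; omega
  haveI := Fintype.ofFinite (G ⧸ H)
  set f := MulAction.toPermHom G (G ⧸ H) with hf
  have hinj := toPermHom_injective (G := G) hH
  have hcard : Fintype.card (G ⧸ H) = i := by rw [← Nat.card_eq_fintype_card, ← hi]; rfl
  have hmax : IsCoatom H := by
    refine ⟨hH, fun K hK => ?_⟩
    by_contra hKt
    have hd : K.index ∣ i := hi ▸ index_dvd_of_le hK.le
    have hlt' : K.index < i := by
      rw [← hi, ← relIndex_mul_index hK.le]
      have h2 : 1 < H.relIndex K := by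
        have h0 : H.relIndex K ≠ 0 := fun h0 => index_ne_zero_of_finite' (H.subgroupOf K) h0
        have h1 : H.relIndex K ≠ 1 := fun h1 => not_le_of_gt hK (relIndex_eq_one.mp h1)
        omega
      exact lt_mul_left (Nat.pos_of_ne_zero (index_ne_zero_of_finite' K)) h2
    exact hmin _ (Nat.mem_divisors.mpr ⟨hd, by omega⟩) (two_le_index hKt) hlt'
      (two_mul_card_dvd_factorial hG hKt)
  haveI : Nontrivial (G ⧸ H) := Fintype.one_lt_card_iff_nontrivial.mp (by omega)
  have hprim : MulAction.IsPreprimitive G (G ⧸ H) := by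
    rw [← MulAction.isCoatom_stabilizer_iff_preprimitive G ((1 : G) : G ⧸ H),
      MulAction.stabilizer_quotient]
    exact hmax
  have hprim' : MulAction.IsPreprimitive f.range (G ⧸ H) := by
    let g : (G ⧸ H) →ₑ[f.rangeRestrict] (G ⧸ H) := ⟨id, fun _ _ => rfl⟩
    exact MulAction.IsPreprimitive.of_surjective (f := g) Function.surjective_id
  -- a Sylow subgroup of the symmetric group inside the image
  have hrange : Nat.card f.range = Nat.card G :=
    (Nat.card_congr (MonoidHom.ofInjective hinj).toEquiv).symm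
  obtain ⟨Q, hQ⟩ := Sylow.exists_subgroup_card_pow_prime (G := G) p hdvd
  set Q' := Q.map f with hQ'
  have hQ'c : Nat.card Q' = p ^ a := by rw [hQ', card_map_of_injective hinj, hQ]
  have hS : Nat.card (Equiv.Perm (G ⧸ H)) = i ! := by rw [Nat.card_perm, Nat.card_eq_fintype_card, hcard]
  have hsyl : ¬ p ∣ Q'.index := by
    intro hd
    apply hfull
    rw [← hS, ← card_mul_index Q', hQ'c, pow_succ]
    exact Nat.mul_dvd_mul_left _ hd
  let S : Sylow p (Equiv.Perm (G ⧸ H)) := (IsPGroup.of_card hQ'c).toSylow hsyl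
  -- a cycle of length `p`
  obtain ⟨s, hs⟩ := Finset.exists_subset_card_eq (s := (Finset.univ : Finset (G ⧸ H)))
    (n := p) (by rw [Finset.card_univ, hcard]; omega)
  obtain ⟨σ, hσc, hσs⟩ : ∃ σ : Equiv.Perm (G ⧸ H), σ.IsCycle ∧ σ.support.card = p := by
    have hl : 2 ≤ s.toList.length := by rw [Finset.length_toList, hs.2]; exact hp.out.two_le
    refine ⟨s.toList.formPerm, List.isCycle_formPerm s.nodup_toList hl, ?_⟩
    rw [List.support_formPerm_of_nodup _ s.nodup_toList (fun x hx => by
      rw [hx] at hl; simp at hl), Finset.toList_toFinset, hs.2]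
  have hσo : orderOf σ = p := hσc.orderOf.trans hσs
  obtain ⟨T, hT⟩ := (IsPGroup.of_card (p := p) (n := 1)
    (by rw [pow_one, Nat.card_zpowers, hσo] : Nat.card (zpowers σ) = p ^ 1)).exists_le_sylow
  obtain ⟨g, hg⟩ := MulAction.exists_smul_eq (Equiv.Perm (G ⧸ H)) T S
  have hmem : g * σ * g⁻¹ ∈ (S : Subgroup _) := by
    rw [← hg, Sylow.coe_subgroup_smul]
    exact ⟨σ, hT (mem_zpowers σ), rfl⟩
  have hle : alternatingGroup (G ⧸ H) ≤ f.range :=
    CfsgLib.Perm.alternatingGroup_le_of_prime_cycle hprim' (p := p) (g := g * σ * g⁻¹)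
      (by rw [hcard]; omega) hσc.conj (by rw [Equiv.Perm.card_support_conj, hσs]) (by
        obtain ⟨x, -, hx⟩ := (hmem : g * σ * g⁻¹ ∈ Q')
        exact ⟨x, hx⟩)
  have hA := card_dvd_of_le hle
  rw [hrange] at hA
  have h2 := two_mul_nat_card_alternatingGroup (α := G ⧸ H)
  rw [hS] at h2
  have := Nat.le_of_dvd Nat.card_pos hA
  omega

/-- Two Sylow subgroups of order `p ^ 2` meeting nontrivially give a centralizer of an element
of order `p` containing both. -/
theorem exists_centralizer_of_inter {p : ℕ} [hp : Fact p.Prime] {m : ℕ}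
    (h : Nat.card G = p ^ 2 * m) (hm : ¬ p ∣ m) (hn : Nat.card (Sylow p G) % p ^ 2 ≠ 1) :
    ∃ x : G, orderOf x = p ∧ 1 < Nat.card (Sylow p (centralizer ({x} : Set G))) ∧
      Nat.card (Sylow p (centralizer ({x} : Set G))) % p = 1 ∧
      (centralizer ({x} : Set G)).index * Nat.card (Sylow p (centralizer ({x} : Set G))) ∣ m := by
  obtain ⟨P⟩ := (inferInstance : Nonempty (Sylow p G))
  have hne : ¬ Nat.card (Sylow p G) ≡ 1 [MOD p ^ 2] := by
    intro hc
    apply hn
    rw [hc, Nat.mod_eq_of_lt (Nat.one_lt_pow two_ne_zero hp.out.one_lt)]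
  obtain ⟨R, hPR, hidx⟩ := exists_inter_index_le hne P
  have hcard : ∀ S : Sylow p G, Nat.card (S : Subgroup G) = p ^ 2 := fun S =>
    card_sylow_eq 2 m h hm S
  have hD : (P : Subgroup G) ⊓ (R : Subgroup G) ≠ ⊥ := by
    intro hb
    rw [← inf_subgroupOf_left, hb, bot_subgroupOf, index_bot, hcard] at hidx
    simp only [show (2 : ℕ) - 1 = 1 from rfl, pow_one] at hidx
    have := hp.out.one_lt
    nlinarith
  obtain ⟨x, hx, hx1⟩ : ∃ x ∈ (P : Subgroup G) ⊓ (R : Subgroup G), x ≠ 1 := by
    by_contra hc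
    push Not at hc
    exact hD ((Subgroup.eq_bot_iff_forall _).mpr hc)
  have hxo : orderOf x = p := by
    obtain ⟨j, hj2, hj⟩ := (Nat.dvd_prime_pow hp.out).mp
      (hcard P ▸ Subgroup.orderOf_dvd_natCard _ hx.1)
    interval_cases j
    · exact absurd (orderOf_eq_one_iff.mp (by simpa using hj)) hx1
    · simpa using hj
    · exfalso
      refine hPR (Sylow.ext ?_)
      have hzP : zpowers x = (P : Subgroup G) :=
        eq_of_le_of_card_ge (zpowers_le.mpr hx.1) (by rw [Nat.card_zpowers, hj, hcard])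
      have hzR : zpowers x = (R : Subgroup G) :=
        eq_of_le_of_card_ge (zpowers_le.mpr hx.2) (by rw [Nat.card_zpowers, hj, hcard])
      rw [← hzP, hzR]
  set C := centralizer ({x} : Set G) with hC
  have hle : ∀ S : Sylow p G, x ∈ (S : Subgroup G) → (S : Subgroup G) ≤ C := by
    intro S hS y hy
    have hab := IsPGroup.isMulCommutative_of_card_eq_prime_sq (hcard S)
    rw [hC, mem_centralizer_singleton_iff]
    exact congrArg Subtype.val (hab.is_comm.comm ⟨y, hy⟩ ⟨x, hS⟩)
  refine ⟨x, hxo, ?_, Eq.trans (card_sylow_modEq_one p C)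
    (Nat.mod_eq_of_lt hp.out.one_lt), ?_⟩
  · rw [Finite.one_lt_card_iff_nontrivial]
    exact ⟨P.subtype (hle P hx.1), R.subtype (hle R hx.2),
      fun hc => hPR (Sylow.subtype_injective hc)⟩
  · obtain ⟨r, hr⟩ : p ^ 2 ∣ Nat.card C := hcard P ▸ card_dvd_of_le (hle P hx.1)
    have hmul := card_mul_index C
    rw [hr, h, mul_assoc] at hmul
    have hm' : m = r * C.index := (Nat.eq_of_mul_eq_mul_left (pow_pos hp.out.pos 2) hmul).symm
    have hrp : ¬ p ∣ r := fun hd => hm (hm' ▸ dvd_mul_of_dvd_left hd _)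
    rw [hm', mul_comm r]
    exact Nat.mul_dvd_mul_left _ (card_sylow_dvd 2 r hr hrp)

/-- The class of a non-identity element is not of prime power size. -/
theorem index_centralizer_ne_prime_pow [IsSimpleGroup G] (hG : ¬ IsMulCommutative G) {x : G}
    (hx : x ≠ 1) (q k : ℕ) (hq : q.Prime) : (centralizer ({x} : Set G)).index ≠ q ^ k := by
  intro h
  have hc := CfsgLib.Chars.prime_card_of_class_prime_pow q k hq x hx h
  exact hG (isCyclic_of_prime_card (hp := ⟨hc⟩) rfl).isMulCommutative

end CfsgLib.Small
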