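import Cfsg.Agent.Lib.Small.Order7920Tools
import Cfsg.Agent.Lib.Small.PrincipalDegrees
import Cfsg.Agent.Lib.CharApps.PrimeClassBound
import Cfsg.Agent.Lib.Chars.TwoConjugates

/-!
# Principal block values at an involution centralizing a Sylow subgroup of prime order
-/

set_option autoImplicit false
set_option linter.unusedSectionVars false
set_option linter.style.haveILetI false

open Cfsg CfsgLib.Chars CfsgLib.CharApps

namespace CfsgLib.Small

universe u

variable {G : Type u} [Group G] [Finite G]

/-- If the values of a character on the powers of an element of prime order sum to zero, so do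
the values on every coset of these powers. -/
theorem sum_pow_mul_eq_zero {p : ℕ} [hp : Fact p.Prime] (χ : IrrCharacter G) {u : G}
    (hu : u ^ p = 1) (h : ∑ i ∈ Finset.range p, (χ : G → ℂ) (u ^ i) = 0) (z : G) :
    ∑ i ∈ Finset.range p, (χ : G → ℂ) (u ^ i * z) = 0 := by
  classical
  obtain ⟨d, ρ, -, hρ⟩ := χ.2
  simp only [← hρ] at h ⊢
  obtain ⟨b, μ, hμ, hb⟩ := exists_eigenbasis (ρ u) (N := p) hp.out.pos
    (by rw [← map_pow, hu, map_one])
  set E : Module.End ℂ (Fin d → ℂ) := ∑ i ∈ Finset.range p, ρ u ^ i with hE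
  have hpow : ∀ (k : ℕ) j, (ρ u ^ k) (b j) = μ j ^ k • b j := by
    intro k j
    induction k with
    | zero => simp
    | succ k ih => rw [pow_succ', Module.End.mul_apply, ih, map_smul, hb, smul_smul, pow_succ]
  have hEb : ∀ j, E (b j) = (if μ j = 1 then (p : ℂ) else 0) • b j := by
    intro j
    rw [hE, LinearMap.sum_apply]
    simp only [hpow, ← Finset.sum_smul]
    congr 1
    split_ifs with h1
    · simp [h1]
    · rw [geom_sum_eq h1, hμ j, sub_self, zero_div]
  have htr : ∑ j, (if μ j = 1 then (p : ℂ) else 0) = 0 := by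
    rw [← trace_eq_sum_of_eigenbasis E b _ hEb, hE, map_sum, ← h]
    refine Finset.sum_congr rfl fun i _ => ?_
    rw [Representation.character, map_pow ρ]
  have hne : ∀ j, μ j ≠ 1 := by
    intro j hj
    rw [← Finset.sum_filter, Finset.sum_const, nsmul_eq_mul, mul_eq_zero] at htr
    rcases htr with h0 | h0
    · have h1 := Finset.card_eq_zero.mp (Nat.cast_eq_zero.mp h0)
      exact (Finset.eq_empty_iff_forall_notMem.mp h1 j)
        (Finset.mem_filter.mpr ⟨Finset.mem_univ _, hj⟩)
    · exact hp.out.ne_zero (Nat.cast_eq_zero.mp h0)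
  have hE0 : E = 0 := b.ext fun j => by rw [hEb j, if_neg (hne j), zero_smul, LinearMap.zero_apply]
  calc ∑ i ∈ Finset.range p, ρ.character (u ^ i * z)
      = LinearMap.trace ℂ _ (E * ρ z) := by
        rw [hE, Finset.sum_mul, map_sum]
        refine Finset.sum_congr rfl fun i _ => ?_
        rw [Representation.character, map_mul ρ, map_pow ρ]
    _ = 0 := by rw [hE0, zero_mul, map_zero]

/-- An integral value of a non-principal character of a simple group off the identity is smaller
than the degree in absolute value. -/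
theorem natAbs_lt_degree [IsSimpleGroup G] (hG : ¬ IsMulCommutative G) {χ : IrrCharacter G}
    (hχ : χ ≠ principal G) {t : G} (ht : t ≠ 1) {v : ℤ} (hv : (v : ℂ) = (χ : G → ℂ) t) :
    v.natAbs < charDegree (χ : G → ℂ) := by
  classical
  haveI := Fintype.ofFinite G
  have hker : ∀ g : G, g ≠ 1 → (χ : G → ℂ) g ≠ (χ : G → ℂ) 1 := fun g hg =>
    CharApps.apply_ne_degree (fun K hK hgK => (hK.eq_bot_or_eq_top).resolve_left
      fun h => hg (Subgroup.mem_bot.mp (h ▸ hgK))) χ hχ
  obtain ⟨d, ρ, -, hρ⟩ := χ.2
  have hd : charDegree (χ : G → ℂ) = d := by simp [charDegree, ← hρ]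
  have hle : ‖(χ : G → ℂ) t‖ ≤ (d : ℝ) := by
    rw [← hρ]; simpa using norm_character_le ρ t
  rw [← hv, Complex.norm_intCast] at hle
  have hle' : (v.natAbs : ℝ) ≤ (d : ℝ) := by rwa [Nat.cast_natAbs, Int.cast_abs]
  rw [hd]
  refine lt_of_le_of_ne (by exact_mod_cast hle') fun heq => ?_
  have hnorm : ‖ρ.character t‖ = (Module.finrank ℂ (Fin d → ℂ) : ℝ) := by
    rw [hρ, ← hv, Complex.norm_intCast, Module.finrank_fin_fun, ← heq, Nat.cast_natAbs,
      Int.cast_abs]
  obtain ⟨ω, hω⟩ := (norm_character_eq_iff ρ t).mp hnorm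
  have hcent : t ∈ Subgroup.center G := by
    rw [Subgroup.mem_center_iff]
    intro g
    by_contra hne
    apply hker (g * t * g⁻¹ * t⁻¹) (fun h1 => hne (by
      rw [mul_inv_eq_one, mul_inv_eq_iff_eq_mul] at h1; exact h1))
    rw [← hρ, Representation.character, Representation.character]
    congr 1
    have hcomm : ρ g * ρ t = ρ t * ρ g := by
      rw [hω]
      ext x
      simp
    rw [map_mul, map_mul, map_mul, hcomm, mul_assoc (ρ t), ← map_mul ρ g, mul_inv_cancel,
      map_one, mul_one, ← map_mul, mul_inv_cancel, map_one]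
  rw [center_eq_bot hG] at hcent
  exact ht (Subgroup.mem_bot.mp hcent)

/-- The signed degrees of the principal block together with the signed values at an involution
centralizing the Sylow subgroup. -/
theorem exists_block_involution [IsSimpleGroup G] (hG : ¬ IsMulCommutative G) {p : ℕ}
    [hp : Fact p.Prime] (hodd : p ≠ 2) (P : Sylow p G) (hP : Nat.card (P : Subgroup G) = p)
    {e : ℕ} (he : (Subgroup.centralizer ((P : Subgroup G) : Set G)).relIndex
      (Subgroup.normalizer ((P : Subgroup G) : Set G)) = e) (hep : 2 * e ≤ p - 1)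
    {y : G} (hy : y ∈ Subgroup.centralizer ((P : Subgroup G) : Set G)) (hy2 : y * y = 1)
    (hy1 : y ≠ 1) :
    ∃ L : List (ℤ × ℤ), L.length = e - 1 ∧
      (∀ x ∈ L, x.1 ∈ signedCands (Nat.card G) p ∧ (4 * p : ℤ) ∣ x.1 - x.2 ∧
        x.2.natAbs < x.1.natAbs) ∧
      (1 + (L.map Prod.fst).sum).natAbs ∣ Nat.card G ∧
      (1 + (L.map Prod.fst).sum).natAbs ^ 2 < Nat.card G ∧
      (1 + (L.map Prod.snd).sum).natAbs < (1 + (L.map Prod.fst).sum).natAbs ∧
      1 + (L.map fun x => x.2 ^ 2).sum + (((p - 1) / e : ℕ) : ℤ) * (1 + (L.map Prod.snd).sum) ^ 2 ≤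
        (Nat.card (Subgroup.centralizer ({y} : Set G)) : ℤ) := by
  classical
  haveI := Fintype.ofFinite G
  haveI := irrFintype G
  obtain ⟨M, hM⟩ := CharApps.exists_pModular p
  haveI := hM.2.1.isPrime
  obtain ⟨X, Y, hB, hdisj, hX, hY, εX, ε, hXp, hε, hYdeg, hYeq, hrel⟩ :=
    Agent.S4441.result p M hM hodd P hP e he
  have hsq : ¬ p ^ 2 ∣ Nat.card G := by
    intro h
    have h2 := (hp.out.pow_dvd_iff_le_factorization Nat.card_pos.ne').1 h
    have h1 := P.card_eq_multiplicity
    rw [hP] at h1
    have h3 : (Nat.card G).factorization p = 1 :=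
      Nat.pow_right_injective hp.out.two_le
        (show p ^ (Nat.card G).factorization p = p ^ 1 by rw [pow_one, ← h1])
    omega
  have hcg : p ∣ Nat.card (Subgroup.centralizer ({y} : Set G)) := by
    rw [← hP]
    refine Subgroup.card_dvd_of_le fun x hx => ?_
    rw [Subgroup.mem_centralizer_singleton_iff]
    exact (Subgroup.mem_centralizer_iff.mp hy x hx)
  have hyreg : ¬ p ∣ orderOf y := by
    intro h
    have h2 : orderOf y ∣ 2 := orderOf_dvd_of_pow_eq_one (by rw [sq, hy2])
    exact hodd ((Nat.prime_dvd_prime_iff_eq hp.out Nat.prime_two).mp (h.trans h2))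
  choose v hv using fun χ : IrrCharacter G => CharApps.exists_int_apply_involution hy2 χ
  have he0 : 0 < e := by
    rw [← he]
    exact Nat.pos_of_ne_zero fun h => Subgroup.index_ne_zero_of_finite
      (H := (Subgroup.centralizer ((P : Subgroup G) : Set G)).subgroupOf
        (Subgroup.normalizer ((P : Subgroup G) : Set G))) h
  have hY2 : 1 < Nat.card Y := by
    rw [hY]
    exact (Nat.le_div_iff_mul_le he0).mpr (by omega)
  have hprin1 : charDegree ((principal G : IrrCharacter G) : G → ℂ) = 1 :=
    (deg_eq_one_iff (principal G)).mp (principal_apply _)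
  have hdegne : ∀ χ : IrrCharacter G, χ ≠ principal G → 1 < charDegree (χ : G → ℂ) := by
    intro χ hne
    have h0 := CfsgLib.Blocks.charDegree_pos χ
    by_contra h
    exact hne (eq_of_degree_one hG (by omega) hprin1)
  have hprin : principal G ∈ X := by
    have hmem : principal G ∈ X ∪ Y := hB ▸ CfsgLib.Blocks.principal_mem_principalBlock M
    rcases hmem with h | h
    · exact h
    exfalso
    obtain ⟨a, b, hab⟩ := Finite.one_lt_card_iff_nontrivial.mp hY2
    have key : ∀ θ ∈ Y, θ = principal G := by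
      intro θ hθ
      by_contra hne
      have h1 := hYeq θ hθ _ h 1 (by rw [orderOf_one]; exact hp.out.not_dvd_one)
      rw [deg_eq, principal_apply] at h1
      have := hdegne θ hne
      rw [Nat.cast_eq_one] at h1
      omega
    exact hab (Subtype.ext ((key a a.2).trans (key b b.2).symm))
  obtain ⟨⟨θ, hθ⟩⟩ : Nonempty Y := (Finite.card_pos_iff).mp (by omega)
  have hsqd : ∀ χ : IrrCharacter G, charDegree (χ : G → ℂ) ^ 2 < Nat.card G := by
    intro χ
    rw [← sum_degree_sq_nat (G := G)]
    by_cases hne : χ = principal G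
    · subst hne
      rw [hprin1, one_pow, sum_degree_sq_nat]
      exact Finite.one_lt_card
    · rw [← Finset.add_sum_erase _ _ (Finset.mem_univ χ)]
      have hmem : principal G ∈ (Finset.univ.erase χ : Finset (IrrCharacter G)) :=
        Finset.mem_erase.mpr ⟨Ne.symm hne, Finset.mem_univ _⟩
      have := Finset.single_le_sum (f := fun ψ : IrrCharacter G => charDegree (ψ : G → ℂ) ^ 2)
        (fun _ _ => Nat.zero_le _) hmem
      rw [hprin1, one_pow] at this
      omega
  set F : Finset (IrrCharacter G) := (Set.toFinite X).toFinset with hF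
  have hprinF : principal G ∈ F := by simpa [hF] using hprin
  let f : IrrCharacter G → ℤ := fun χ => εX χ * (charDegree (χ : G → ℂ) : ℤ)
  let g : IrrCharacter G → ℤ := fun χ => εX χ * v χ
  have hεp : εX (principal G) = 1 := by
    have h1 := (hXp _ hprin).2.1
    rw [hprin1, Nat.cast_one] at h1
    rcases (hXp _ hprin).1 with h | h
    · exact h
    · rw [h] at h1
      exfalso
      have h2 : (p : ℤ) ∣ 2 := by
        have := h1.dvd
        norm_num at this
        exact this
      have := Nat.le_of_dvd two_pos (Int.natCast_dvd_natCast.mp (by exact_mod_cast h2))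
      have := hp.out.two_le
      omega
  have hvp : v (principal G) = 1 := by
    have h := hv (principal G)
    rw [principal_apply] at h
    exact_mod_cast h
  -- the relations at `1` and at `y`
  have hrel' : ∀ (x : G) (φ : IrrCharacter G → ℤ), ¬ p ∣ orderOf x →
      (∀ χ : IrrCharacter G, (φ χ : ℂ) = (χ : G → ℂ) x) →
      ε * φ θ = 1 + ∑ χ ∈ F.erase (principal G), εX χ * φ χ := by
    intro x φ hx hφ
    have h := hrel θ hθ x hx
    rw [finsum_mem_eq_finite_toFinset_sum _ (Set.toFinite X), ← hF,
      ← Finset.add_sum_erase _ _ hprinF, principal_apply, hεp] at h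
    simp only [← hφ] at h
    push_cast at h
    apply Int.cast_injective (α := ℂ)
    push_cast
    rw [h, one_mul]
  have hσ := hrel' 1 (fun χ => (charDegree (χ : G → ℂ) : ℤ))
    (by rw [orderOf_one]; exact hp.out.not_dvd_one) fun χ => by rw [deg_eq]; push_cast; rfl
  have hw := hrel' y v hyreg hv
  have hne : ∀ θ ∈ Y, θ ≠ principal G := fun θ hθ h => hdisj.ne_of_mem hprin hθ h.symm
  refine ⟨(F.erase (principal G)).toList.map fun χ => (f χ, g χ), ?_, ?_, ?_⟩
  · rw [List.length_map, Finset.length_toList, Finset.card_erase_of_mem hprinF,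
      hF, ← Nat.card_eq_card_finite_toFinset, hX]
  · intro x hx
    rw [List.mem_map] at hx
    obtain ⟨χ, hχ, rfl⟩ := hx
    rw [Finset.mem_toList, Finset.mem_erase, hF, Set.Finite.mem_toFinset] at hχ
    have hcong : (p : ℤ) ∣ v χ - charDegree (χ : G → ℂ) :=
      int_congr_of_principalBlock hM hsq (hB ▸ Or.inl hχ.2) hcg (hv χ)
    have hfour := four_dvd_degree_sub (commutator_eq_top hG) χ hy2 (hv χ)
    have habs : ∀ m : ℤ, (εX χ * m).natAbs = m.natAbs := fun m => by
      rcases (hXp χ hχ.2).1 with h | h <;> simp [h]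
    refine ⟨mem_signedCands ?_ ?_ ?_ ?_, ?_, ?_⟩
    · have h := ((hXp χ hχ.2).2.1).mul_left (εX χ)
      rcases (hXp χ hχ.2).1 with h' | h' <;> simp [f, h'] at h ⊢ <;> exact h
    · rw [habs, Int.natAbs_natCast]; exact charDegree_dvd_card χ
    · rw [habs, Int.natAbs_natCast]; exact hdegne χ hχ.1
    · rw [habs, Int.natAbs_natCast]; exact hsqd χ
    · show (4 * p : ℤ) ∣ εX χ * _ - εX χ * v χ
      rw [← mul_sub]
      refine dvd_mul_of_dvd_right (IsCoprime.mul_dvd ?_ hfour (dvd_sub_comm.mp hcong)) _
      have h2 : Nat.Coprime 4 p :=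
        ((Nat.coprime_primes Nat.prime_two hp.out).mpr (Ne.symm hodd)).pow_left 2
      exact_mod_cast Nat.Coprime.isCoprime h2
    · show (εX χ * v χ).natAbs < (εX χ * _).natAbs
      rw [habs, habs, Int.natAbs_natCast]
      exact natAbs_lt_degree hG hχ.1 hy1 (hv χ)
  · simp only [List.map_map, Function.comp_def, Finset.sum_map_toList, f, g]
    rw [← hσ, ← hw]
    have habs : ∀ m : ℤ, (ε * m).natAbs = m.natAbs := fun m => by
      rcases hε with h | h <;> simp [h]
    rw [habs, habs, Int.natAbs_natCast]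
    refine ⟨charDegree_dvd_card θ, hsqd θ, natAbs_lt_degree hG (hne θ hθ) hy1 (hv θ), ?_⟩
    -- the column norm
    have hcol : (Nat.card (Subgroup.centralizer ({y} : Set G)) : ℤ) = ∑ χ, v χ ^ 2 := by
      have h := sum_normSq (G := G) y
      simp only [← hv, Complex.normSq_intCast] at h
      have h2 : ((∑ χ : IrrCharacter G, v χ ^ 2 : ℤ) : ℝ) =
          ((Nat.card (Subgroup.centralizer ({y} : Set G)) : ℤ) : ℝ) := by
        push_cast
        simp only [pow_two]
        exact h
      exact (Int.cast_injective h2).symm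
    set FY : Finset (IrrCharacter G) := (Set.toFinite Y).toFinset with hFY
    have hd : Disjoint F FY := by
      rw [hF, hFY, Set.Finite.disjoint_toFinset]
      exact hdisj
    have hsub : ∑ χ ∈ F ∪ FY, v χ ^ 2 ≤ ∑ χ, v χ ^ 2 :=
      Finset.sum_le_sum_of_subset_of_nonneg (Finset.subset_univ _) fun _ _ _ => sq_nonneg _
    rw [Finset.sum_union hd, ← Finset.add_sum_erase _ _ hprinF, hvp, one_pow,
      Finset.sum_congr rfl (s₁ := FY) (g := fun _ => v θ ^ 2) (fun θ' hθ' => by
        have h1 := hYeq θ' ((Set.Finite.mem_toFinset _).mp hθ') θ hθ y hyreg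
        rw [← hv, ← hv] at h1
        rw [Int.cast_injective h1]),
      Finset.sum_const, hFY, ← Nat.card_eq_card_finite_toFinset, hY, nsmul_eq_mul] at hsub
    have h1 : (ε * v θ) ^ 2 = v θ ^ 2 := by rcases hε with h | h <;> simp [h]
    have h2 : ∑ χ ∈ F.erase (principal G), (εX χ * v χ) ^ 2 =
        ∑ χ ∈ F.erase (principal G), v χ ^ 2 := Finset.sum_congr rfl fun χ hχ => by
      rw [Finset.mem_erase, hF, Set.Finite.mem_toFinset] at hχ
      rcases (hXp χ hχ.2).1 with h | h <;> simp [h]
    rw [h1, h2, hcol]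
    exact hsub

end CfsgLib.Small
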