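import Cfsg.Agent.Lib.Small.OrderTools
import Cfsg.Agent.Lib.Small.InvertedColumn
import Cfsg.Agent.Lib.Small.InvolutionCongr
import Cfsg.Agent.Lib.Small.Order7920Tools
import Cfsg.Agent.Lib.CharApps.PrimeClassBound
import Cfsg.Agent.Lib.CharApps.ClassCount
import Cfsg.Agent.Lib.Chars.TwoConjugates

/-!
# No simple group has order 1512

The Sylow 7-normalizer is the Frobenius group of order 42, so the column of an element of order 7
is rational, and no table fits the number of ways of writing it as a product of two involutions.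
-/

set_option autoImplicit false
set_option linter.unusedSectionVars false

open Cfsg CfsgLib.Chars CfsgLib.CharApps Subgroup
open scoped ComplexConjugate

namespace CfsgLib.Small.Ord1512

/-- The possible pairs of a degree and a nonzero value at an element of order 7. -/
def dwCands : List (ℕ × ℤ) := [(2, 2), (6, -1), (8, 1), (9, 2), (12, -2), (27, -1), (36, 1)]

/-- The values allowed at an involution. -/
def vals (d : ℕ) : List ℤ :=
  ((List.range (2 * d)).map fun i : ℕ => (i : ℤ) - (d : ℤ)).filter fun v =>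
    decide (v.natAbs < d) && ((d : ℤ) - v) % 4 == 0

/-- The possible orders of the centralizer of an involution. -/
def cents : List ℕ :=
  (List.range 169).filter fun c => c % 6 == 0 && 1512 % c == 0 && decide (0 < c)

/-- No values at an involution complete the rows. -/
def vGo (c : ℕ) : List (ℕ × ℤ) → ℤ → ℤ → ℤ → Bool
  | [], sv, _, T => !(sv == 0 && T == 7 * (c : ℤ) ^ 2)
  | (d, w) :: L, sv, sq, T =>
    (vals d).all fun v =>
      !(decide (sq + v * v ≤ (c : ℤ))) || vGo c L (sv + w * v) (sq + v * v)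
        (T + w * (v * v) * ((1512 / d : ℕ) : ℤ))

/-- Every admissible list of rows fails. -/
def dGo : ℕ → ℤ → ℤ → ℕ → List (ℕ × ℤ) → Bool
  | 0, w2, S, _, acc => !(w2 == 0 && S == 0) || cents.all fun c => vGo c acc 1 1 1512
  | k + 1, w2, S, dd, acc =>
    (!(w2 == 0 && S == 0) || cents.all fun c => vGo c acc 1 1 1512) &&
      dwCands.all fun x =>
        !(decide (x.2 * x.2 ≤ w2) && decide (dd + x.1 * x.1 < 1512)) ||
          dGo k (w2 - x.2 * x.2) (S + x.2 * (x.1 : ℤ)) (dd + x.1 * x.1) (x :: acc)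

theorem dGo_check : dGo 6 6 1 0 [] = true := by decide +kernel

theorem vGo_sound (c : ℕ) : ∀ (M : List (ℕ × ℤ × ℤ)) (sv sq T : ℤ),
    vGo c (M.map fun x => (x.1, x.2.1)) sv sq T = true →
    (∀ x ∈ M, x.2.2 ∈ vals x.1) →
    sq + (M.map fun x => x.2.2 * x.2.2).sum ≤ c →
    sv + (M.map fun x => x.2.1 * x.2.2).sum = 0 →
    T + (M.map fun x => x.2.1 * (x.2.2 * x.2.2) * ((1512 / x.1 : ℕ) : ℤ)).sum = 7 * (c : ℤ) ^ 2 →
    False := by
  intro M
  induction M with
  | nil =>
    intro sv sq T h _ _ h1 h2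
    simp only [List.map_nil, List.sum_nil, add_zero] at h h1 h2
    simp [vGo, h1, h2] at h
  | cons x M ih =>
    intro sv sq T h hmem hsq h1 h2
    simp only [List.map_cons, List.sum_cons] at h hsq h1 h2
    rw [vGo, List.all_eq_true] at h
    have hx := h _ (hmem x List.mem_cons_self)
    have hnn : 0 ≤ (M.map fun x => x.2.2 * x.2.2).sum := by
      apply List.sum_nonneg
      intro y hy
      obtain ⟨z, -, rfl⟩ := List.mem_map.1 hy
      exact mul_self_nonneg _
    have hle : sq + x.2.2 * x.2.2 ≤ (c : ℤ) := by linarith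
    simp only [hle, decide_true, Bool.not_true, Bool.false_or] at hx
    exact ih _ _ _ hx (fun y hy => hmem y (List.mem_cons_of_mem _ hy)) (by linarith)
      (by linarith) (by linarith)

theorem dGo_sound : ∀ (k : ℕ) (L : List (ℕ × ℤ)) (w2 S : ℤ) (dd : ℕ) (acc : List (ℕ × ℤ)),
    dGo k w2 S dd acc = true → L.length ≤ k → (∀ x ∈ L, x ∈ dwCands) →
    w2 = (L.map fun x => x.2 * x.2).sum → S + (L.map fun x => x.2 * (x.1 : ℤ)).sum = 0 →
    dd + (L.map fun x => x.1 * x.1).sum < 1512 →
    ∀ c ∈ cents, vGo c (L.reverse ++ acc) 1 1 1512 = true := by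
  intro k L
  induction L generalizing k with
  | nil =>
    intro w2 S dd acc h _ _ hw hS _ c hc
    simp only [List.map_nil, List.sum_nil, add_zero] at hw hS
    cases k with
    | zero =>
      simp only [dGo, hw, hS, beq_self_eq_true, Bool.and_self, Bool.not_true, Bool.false_or,
        List.all_eq_true] at h
      exact h c hc
    | succ k =>
      simp only [dGo, hw, hS, beq_self_eq_true, Bool.and_self, Bool.not_true, Bool.false_or,
        Bool.and_eq_true, List.all_eq_true] at h
      exact h.1 c hc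
  | cons x L ih =>
    intro w2 S dd acc h hlen hmem hw hS hdd c hc
    simp only [List.length_cons] at hlen
    simp only [List.map_cons, List.sum_cons] at hw hS hdd
    obtain ⟨k, rfl⟩ : ∃ j, k = j + 1 := ⟨k - 1, by omega⟩
    rw [dGo, Bool.and_eq_true] at h
    have hx := List.all_eq_true.1 h.2 x (hmem x List.mem_cons_self)
    have hnn : 0 ≤ (L.map fun x => x.2 * x.2).sum := by
      apply List.sum_nonneg
      intro y hy
      obtain ⟨z, -, rfl⟩ := List.mem_map.1 hy
      exact mul_self_nonneg _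
    have h1 : x.2 * x.2 ≤ w2 := by linarith
    have h2 : dd + x.1 * x.1 < 1512 := by omega
    simp only [h1, h2, decide_true, Bool.and_self, Bool.not_true, Bool.false_or] at hx
    rw [List.reverse_cons, List.append_assoc]
    exact ih k _ _ _ _ hx (by omega) (fun y hy => hmem y (List.mem_cons_of_mem _ hy))
      (by linarith) (by linarith) (by omega) c hc

theorem mem_dwCands_aux : ∀ d ∈ List.range 39, ∀ w ∈ [(-2 : ℤ), -1, 1, 2],
    1 < d → d ∣ 1512 → (7 : ℤ) ∣ w - (d : ℤ) → ((d, w) : ℕ × ℤ) ∈ dwCands := by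
  decide +kernel

theorem mem_dwCands {d : ℕ} {w : ℤ} (h1 : 1 < d) (hd : d ∣ 1512) (hsq : d * d < 1512)
    (hw : w ≠ 0) (hw2 : w * w ≤ 6) (hmod : (7 : ℤ) ∣ w - (d : ℤ)) : (d, w) ∈ dwCands := by
  have hd39 : d < 39 := by
    by_contra h
    have := Nat.mul_le_mul (not_lt.1 h) (not_lt.1 h)
    omega
  have hwb : -2 ≤ w ∧ w ≤ 2 := by constructor <;> nlinarith
  refine mem_dwCands_aux d (List.mem_range.2 hd39) w ?_ h1 hd hmod
  obtain ⟨hl, hu⟩ := hwb
  interval_cases w <;> simp at hw ⊢

theorem mem_vals {d : ℕ} {v : ℤ} (h : v.natAbs < d) (h4 : (4 : ℤ) ∣ (d : ℤ) - v) : v ∈ vals d := by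
  rw [vals, List.mem_filter]
  refine ⟨List.mem_map.2 ⟨(v + d).toNat, List.mem_range.2 (by omega), by omega⟩, ?_⟩
  simp only [Bool.and_eq_true, decide_eq_true_eq, beq_iff_eq]
  exact ⟨h, Int.emod_eq_zero_of_dvd h4⟩

universe u

theorem card_mul_relIndex_of_le {G : Type u} [Group G] {H K : Subgroup G} (h : H ≤ K) :
    Nat.card H * H.relIndex K = Nat.card K := by
  rw [relIndex, ← Nat.card_congr (subgroupOfEquivOfLe h).toEquiv]
  exact card_mul_index _

variable {G : Type u} [Group G] [Finite G] [IsSimpleGroup G]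

/-- Some element of the normalizer cubes the generator. -/
theorem exists_cube (hG : ¬ IsMulCommutative G) (h : Nat.card G = 1512) :
    ∃ u g : G, orderOf u = 7 ∧ centralizer ({u} : Set G) = zpowers u ∧ g * u * g⁻¹ = u ^ 3 ∧
      ∀ j < 7, j ≠ 0 → IsConj (u ^ j) u := by
  classical
  have := Fintype.ofFinite G
  have := Fact.mk (show Nat.Prime 7 by norm_num)
  obtain ⟨P, e, hP, hrel, he1, hediv, hen, hmod, hfac⟩ := exists_index_three_prime (p := 7)
    (a := 3) (b := 3) hG Nat.prime_two Nat.prime_three (by norm_num) (by norm_num)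
    (by rw [h]; norm_num)
  obtain ⟨x, hx⟩ := (isCyclic_of_prime_card hP).exists_generator
  set u : G := (x : G) with hu
  have huo : orderOf u = 7 := by
    rw [hu, Subgroup.orderOf_coe, orderOf_eq_card_of_forall_mem_zpowers hx, hP]
  have hgen : (P : Subgroup G) = zpowers u :=
    (eq_of_le_of_card_ge (zpowers_le.2 x.2) (by rw [Nat.card_zpowers, huo, hP])).symm
  rw [h] at hfac
  replace hen : e * Nat.card (Sylow 7 G) = 216 := hen
  have key : ∀ e ∈ List.range 7, e ∣ 6 → 1 < e → ∀ d ∈ Nat.divisors 216, e * d = 216 → d % 7 = 1 →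
      2 * 1512 ∣ d.factorial ∨ 16 ≤ d → d = 36 ∧ e = 6 := by decide +kernel
  obtain ⟨hn36, he6⟩ := key e (List.mem_range.2 (by have := Nat.le_of_dvd (by norm_num) hediv; omega))
    hediv he1 _ (Nat.mem_divisors.2 ⟨Dvd.intro_left e hen, by norm_num⟩) hen hmod (Or.inl hfac)
  set C := centralizer ((P : Subgroup G) : Set G) with hC
  set N := normalizer ((P : Subgroup G) : Set G) with hN
  have hNc : Nat.card N = 42 := by
    have := card_normalizer_mul P
    rw [hn36, h] at this
    rw [hN]; omega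
  have hCN : Nat.card C * 6 = 42 := by
    have := card_mul_relIndex_of_le (centralizer_le_normalizer ((P : Subgroup G) : Set G))
    rw [hrel, he6, ← hC, ← hN, hNc] at this
    exact this
  have hCu : centralizer ({u} : Set G) = C := by
    rw [hC, hgen, zpowers_eq_closure, centralizer_closure]
  have hCz : centralizer ({u} : Set G) = zpowers u := by
    rw [hCu]
    refine (eq_of_le_of_card_ge ?_ (by rw [Nat.card_zpowers, huo]; omega)).symm
    rw [← hgen]
    have := (isCyclic_of_prime_card hP).isMulCommutative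
    exact le_centralizer _
  have hex : ∀ j < 7, j ≠ 0 → ∃ g : G, g * u * g⁻¹ = u ^ j := fun j hj hj0 => by
    obtain ⟨g, -, hg⟩ := exists_conj_eq_pow_of_full P hP (by rw [← hC, ← hN, hNc]; exact hCN)
      (hgen ▸ mem_zpowers u : u ∈ (P : Subgroup G)) hj hj0
    exact ⟨g, hg⟩
  obtain ⟨g, hg⟩ := hex 3 (by norm_num) (by norm_num)
  exact ⟨u, g, huo, hCz, hg, fun j hj hj0 =>
    (isConj_iff.2 (hex j hj hj0)).symm⟩

theorem card_ne_1512 (hG : ¬ IsMulCommutative G) : Nat.card G ≠ 1512 := by
  classical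
  intro h
  have := Fintype.ofFinite G
  have := irrFintype G
  have := Fact.mk (show Nat.Prime 7 by norm_num)
  obtain ⟨u, g, huo, hCu, hg, hconj⟩ := exists_cube hG h
  have hu7 : u ^ 7 = 1 := by rw [← huo, pow_orderOf_eq_one]
  have hu1 : u ≠ 1 := fun h1 => by rw [h1, orderOf_one] at huo; omega
  -- powers of g
  have hgk : ∀ k : ℕ, g ^ k * u * (g ^ k)⁻¹ = u ^ (3 ^ k) := by
    intro k
    induction k with
    | zero => simp
    | succ k ih =>
      rw [pow_succ' g, mul_inv_rev, show g * g ^ k * u * ((g ^ k)⁻¹ * g⁻¹) =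
        g * (g ^ k * u * (g ^ k)⁻¹) * g⁻¹ by group, ih, ← conj_pow, hg, ← pow_mul, pow_succ]
      congr 1; ring
  set t := g ^ 3 with ht
  have htinv : t * u * t⁻¹ = u⁻¹ := by
    rw [ht, hgk 3, ← pow_mod_orderOf, huo]
    exact eq_inv_of_mul_eq_one_left (by rw [← pow_succ]; exact hu7)
  have ht2 : t * t = 1 := by
    have h1 : (t * t) * u * (t * t)⁻¹ = u := by
      rw [show (t * t) * u * (t * t)⁻¹ = t * (t * u * t⁻¹) * t⁻¹ by group, htinv, ← conj_inv,
        htinv, inv_inv]
    have hmem : t * t ∈ centralizer ({u} : Set G) :=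
      mem_centralizer_singleton_iff.2 (mul_inv_eq_iff_eq_mul.1 h1)
    rw [hCu] at hmem
    obtain ⟨i, hi⟩ := mem_powers_iff_mem_zpowers.2 hmem
    have h2 : t * (t * t) * t⁻¹ = t * t := by group
    rw [← hi] at h2 ⊢
    simp only at h2 ⊢
    rw [← conj_pow, htinv, inv_pow, inv_eq_iff_mul_eq_one, ← pow_add] at h2
    have h7 : 7 ∣ i + i := huo ▸ orderOf_dvd_of_pow_eq_one h2
    refine orderOf_dvd_iff_pow_eq_one.1 ?_
    rw [huo]
    omega
  have ht1 : t ≠ 1 := fun h1 => by
    rw [h1, one_mul, inv_one, mul_one, eq_inv_iff_mul_eq_one, ← sq] at htinv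
    have := orderOf_dvd_of_pow_eq_one htinv
    rw [huo] at this
    norm_num at this
  have hto : orderOf t = 2 := orderOf_eq_prime (by rw [sq, ht2]) ht1
  have hs1 : g ^ 2 ≠ 1 := fun h1 => by
    have h2 := hgk 2
    rw [h1, one_mul, inv_one, mul_one, ← pow_mod_orderOf, huo] at h2
    norm_num at h2
    rw [eq_comm, pow_succ, mul_eq_right, pow_one] at h2
    exact hu1 h2
  have hg6 : (g ^ 2) ^ 3 = 1 := by rw [← pow_mul, pow_mul g 3 2, sq]; exact ht2
  set c := Nat.card (centralizer ({t} : Set G)) with hc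
  have hc3 : 3 ∣ c := by
    have hso : orderOf (g ^ 2) = 3 := orderOf_eq_prime hg6 hs1
    rw [← hso, hc]
    exact Subgroup.orderOf_dvd_natCard _
      (mem_centralizer_singleton_iff.2 ((Commute.refl g).pow_pow 2 3).eq)
  have hc2 : 2 ∣ c := by
    rw [← hto, hc]
    exact Subgroup.orderOf_dvd_natCard _ (mem_centralizer_singleton_iff.2 rfl)
  have hcd : c ∣ 1512 := h ▸ card_subgroup_dvd_card _
  have hcle : c ≤ 168 := by
    have hi : 9 ≤ (centralizer ({t} : Set G)).index := by
      by_contra hlt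
      have h8 := two_mul_card_dvd_factorial hG (centralizer_singleton_ne_top hG ht1)
      rw [h] at h8
      have := h8.trans (Nat.factorial_dvd_factorial (show _ ≤ 8 by omega))
      norm_num [Nat.factorial] at this
    have := card_mul_index (centralizer ({t} : Set G))
    rw [h, ← hc] at this
    have := Nat.mul_le_mul_left c hi
    omega
  have hcm : c ∈ cents := by
    rw [cents, List.mem_filter]
    refine ⟨List.mem_range.2 (by omega), ?_⟩
    simp only [Bool.and_eq_true, beq_iff_eq, decide_eq_true_eq]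
    refine ⟨⟨?_, Nat.mod_eq_zero_of_dvd hcd⟩, Nat.card_pos⟩
    omega
  -- values
  choose w hw hwmod using fun χ : IrrCharacter G => exists_int_of_rational χ huo hconj
  choose v hv using fun χ : IrrCharacter G => exists_int_apply_involution ht2 χ
  have hperf := commutator_eq_top hG
  have hnc : ¬ IsConj u t := fun hh => by
    obtain ⟨b, hb⟩ := isConj_iff.1 hh
    have := (MulAut.conj b).orderOf_eq u
    rw [MulAut.conj_apply, hb, hto, huo] at this
    omega
  have hSw2 : ∑ χ : IrrCharacter G, w χ * w χ = 7 := by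
    have h1 := sum_normSq (G := G) u
    rw [hCu, Nat.card_zpowers, huo] at h1
    have h2 : ∀ χ : IrrCharacter G, Complex.normSq ((χ : G → ℂ) u) = ((w χ * w χ : ℤ) : ℝ) := by
      intro χ
      rw [← hw χ, Complex.normSq_intCast]
      push_cast; ring
    rw [Finset.sum_congr rfl (fun (χ : IrrCharacter G) _ => h2 χ)] at h1
    exact_mod_cast h1
  have hSwd : ∑ χ : IrrCharacter G, w χ * (charDegree (χ : G → ℂ) : ℤ) = 0 := by
    have h1 := sum_degree_mul (G := G) u
    rw [if_neg hu1] at h1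
    rw [Finset.sum_congr rfl (fun (χ : IrrCharacter G) _ => show (χ : G → ℂ) 1 * (χ : G → ℂ) u =
      ((w χ * (charDegree (χ : G → ℂ) : ℤ) : ℤ) : ℂ) by rw [deg_eq, ← hw χ]; push_cast; ring)] at h1
    exact_mod_cast h1
  have hSwv : ∑ χ : IrrCharacter G, w χ * v χ = 0 := by
    have h1 := second_orthogonality (G := G) u t
    rw [if_neg fun hh => hnc hh.symm] at h1
    rw [Finset.sum_congr rfl (fun (χ : IrrCharacter G) _ => show (χ : G → ℂ) u * conj ((χ : G → ℂ) t) =
      ((w χ * v χ : ℤ) : ℂ) by rw [← hw χ, ← hv χ, map_intCast]; push_cast; ring)] at h1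
    exact_mod_cast h1
  have hSv2 : ∑ χ : IrrCharacter G, v χ * v χ = c := by
    have h1 := sum_normSq (G := G) t
    rw [← hc] at h1
    rw [Finset.sum_congr rfl (fun (χ : IrrCharacter G) _ => show Complex.normSq ((χ : G → ℂ) t) =
      ((v χ * v χ : ℤ) : ℝ) by rw [← hv χ, Complex.normSq_intCast]; push_cast; ring)] at h1
    exact_mod_cast h1
  have hSd2 := sum_degree_sq_nat (G := G)
  rw [h] at hSd2
  have hdd : ∀ χ : IrrCharacter G, charDegree (χ : G → ℂ) ∣ 1512 := fun χ =>
    h ▸ charDegree_dvd_card χ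
  have hSeq : ∑ χ : IrrCharacter G,
      w χ * (v χ * v χ) * ((1512 / charDegree (χ : G → ℂ) : ℕ) : ℤ) = 7 * (c : ℤ) ^ 2 := by
    have h1 := card_conj_mul_conj (G := G) t t u
    rw [card_pairs_inverting (p := 7) (by norm_num) huo hCu ht2 htinv, ← hc, Finset.mul_sum,
      Finset.sum_congr rfl (fun (χ : IrrCharacter G) _ => show (Nat.card G : ℂ) *
        ((χ : G → ℂ) t * (χ : G → ℂ) t * (χ : G → ℂ) u⁻¹ / (χ : G → ℂ) 1) =
        ((w χ * (v χ * v χ) * ((1512 / charDegree (χ : G → ℂ) : ℕ) : ℤ) : ℤ) : ℂ) by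
          have hd0 : (charDegree (χ : G → ℂ) : ℂ) ≠ 0 := Nat.cast_ne_zero.2 (deg_pos χ).ne'
          rw [h, irr_inv, ← hw χ, ← hv χ, map_intCast, deg_eq, Int.cast_mul, Int.cast_mul,
            Int.cast_mul, Int.cast_natCast, Nat.cast_div (hdd χ) hd0]
          field_simp)] at h1
    exact_mod_cast h1.symm
  -- the rows other than the principal one
  set χ₀ := principal G with hχ₀
  set S := (Finset.univ.erase χ₀).filter fun χ : IrrCharacter G => w χ ≠ 0 with hS
  have hw0 : w χ₀ = 1 := by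
    have := hw χ₀; rw [hχ₀, principal_apply] at this; exact_mod_cast this
  have hv0 : v χ₀ = 1 := by
    have := hv χ₀; rw [hχ₀, principal_apply] at this; exact_mod_cast this
  have hd0 : charDegree ((χ₀ : IrrCharacter G) : G → ℂ) = 1 :=
    (deg_eq_one_iff χ₀).mp (principal_apply _)
  have hsplit : ∀ f : IrrCharacter G → ℤ, (∀ χ, w χ = 0 → f χ = 0) →
      ∑ χ : IrrCharacter G, f χ = f χ₀ + ∑ χ ∈ S, f χ := by
    intro f hf
    rw [← Finset.add_sum_erase _ _ (Finset.mem_univ χ₀), hS,
      Finset.sum_filter_of_ne (p := fun χ : IrrCharacter G => w χ ≠ 0) fun χ _ hne => fun h0 => hne (hf χ h0)]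
  have hwS : ∑ χ ∈ S, w χ * w χ = 6 := by
    have := hsplit (fun χ => w χ * w χ) fun χ h0 => by simp [h0]
    rw [hSw2, hw0] at this; linarith
  set M : List (ℕ × ℤ × ℤ) := S.toList.map fun χ : IrrCharacter G =>
    (charDegree (χ : G → ℂ), w χ, v χ) with hM
  set L := M.map fun x => (x.1, x.2.1) with hL
  have hsum : ∀ F : ℕ × ℤ × ℤ → ℤ,
      (M.map F).sum = ∑ χ ∈ S, F (charDegree (χ : G → ℂ), w χ, v χ) := fun F => by
    rw [hM, List.map_map]; exact Finset.sum_map_toList S _
  have hmemS : ∀ χ ∈ S, χ ≠ χ₀ ∧ w χ ≠ 0 := fun χ hχ =>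
    ⟨Finset.ne_of_mem_erase (Finset.mem_filter.1 hχ).1, (Finset.mem_filter.1 hχ).2⟩
  have hd2 : ∑ χ ∈ S, charDegree (χ : G → ℂ) * charDegree (χ : G → ℂ) < 1512 := by
    rw [← Finset.add_sum_erase _ _ (Finset.mem_univ χ₀), hd0] at hSd2
    have h1 := Finset.sum_le_sum_of_subset (f := fun χ : IrrCharacter G =>
      charDegree (χ : G → ℂ) * charDegree (χ : G → ℂ))
      (Finset.filter_subset (fun χ => w χ ≠ 0) (Finset.univ.erase χ₀))
    simp only [sq] at hSd2
    rw [← hS] at h1
    omega
  have hone : ∀ χ ∈ S, 1 < charDegree (χ : G → ℂ) := fun χ hχ => by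
    have h0 := CfsgLib.Blocks.charDegree_pos χ
    by_contra h'
    exact (hmemS χ hχ).1 (eq_of_degree_one hG (by omega) hd0)
  have hcandS : ∀ χ ∈ S, (charDegree (χ : G → ℂ), w χ) ∈ dwCands := by
    intro χ hχ
    refine mem_dwCands (hone χ hχ) (hdd χ) ?_ (hmemS χ hχ).2 ?_ (hwmod χ)
    · have := Finset.single_le_sum (f := fun χ : IrrCharacter G =>
        charDegree (χ : G → ℂ) * charDegree (χ : G → ℂ)) (fun _ _ => Nat.zero_le _) hχ
      omega
    · rw [← hwS]
      exact Finset.single_le_sum (f := fun χ => w χ * w χ) (fun _ _ => mul_self_nonneg _) hχ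
  have hlen : L.length ≤ 6 := by
    rw [hL, hM, List.length_map, List.length_map, Finset.length_toList]
    have h1 : (S.card : ℤ) ≤ ∑ χ ∈ S, w χ * w χ := by
      rw [Finset.card_eq_sum_ones, Nat.cast_sum]
      refine Finset.sum_le_sum fun χ hχ => ?_
      have := mul_self_pos.2 (hmemS χ hχ).2
      push_cast; omega
    rw [hwS] at h1
    exact_mod_cast h1
  have hchk := dGo_sound 6 L.reverse 6 1 0 [] dGo_check (by simpa using hlen) ?_ ?_ ?_ ?_ c hcm
  · rw [List.reverse_reverse, List.append_nil] at hchk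
    refine vGo_sound c M 1 1 1512 hchk ?_ ?_ ?_ ?_
    · intro x hx
      obtain ⟨χ, hχ, rfl⟩ := List.mem_map.1 hx
      rw [Finset.mem_toList] at hχ
      exact mem_vals (natAbs_lt_degree hG (hmemS χ hχ).1 ht1 (hv χ))
        (four_dvd_degree_sub hperf χ ht2 (hv χ))
    · rw [hsum fun x => x.2.2 * x.2.2, ← hSv2, ← Finset.add_sum_erase _ _ (Finset.mem_univ χ₀),
        hv0, hS]
      have := Finset.sum_le_sum_of_subset_of_nonneg (f := fun χ : IrrCharacter G => v χ * v χ)
        (Finset.filter_subset (fun χ => w χ ≠ 0) (Finset.univ.erase χ₀))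
        (fun χ _ _ => mul_self_nonneg _)
      linarith
    · rw [hsum fun x => x.2.1 * x.2.2]
      have := hsplit (fun χ => w χ * v χ) fun χ h0 => by simp [h0]
      rw [hSwv, hw0, hv0] at this; linarith
    · rw [hsum fun x => x.2.1 * (x.2.2 * x.2.2) * ((1512 / x.1 : ℕ) : ℤ)]
      have := hsplit (fun χ => w χ * (v χ * v χ) * ((1512 / charDegree (χ : G → ℂ) : ℕ) : ℤ))
        fun χ h0 => by simp [h0]
      rw [hSeq, hw0, hv0, hd0] at this
      norm_num at this ⊢
      linarith
  · intro x hx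
    rw [List.mem_reverse, hL, hM, List.map_map, List.mem_map] at hx
    obtain ⟨χ, hχ, rfl⟩ := hx
    exact hcandS χ (Finset.mem_toList.1 hχ)
  · rw [List.map_reverse, List.sum_reverse, hL, List.map_map]
    exact ((hsum fun x => x.2.1 * x.2.1).trans hwS).symm
  · rw [List.map_reverse, List.sum_reverse, hL, List.map_map]
    have := hsplit (fun χ => w χ * (charDegree (χ : G → ℂ) : ℤ)) fun χ h0 => by simp [h0]
    rw [hSwd, hw0, hd0] at this
    have h2 := hsum fun x => x.2.1 * (x.1 : ℤ)
    simp only [Function.comp_def] at h2 ⊢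
    rw [h2]
    push_cast at this
    linarith
  · rw [zero_add, List.map_reverse, List.sum_reverse, hL, List.map_map, hM, List.map_map,
      Finset.sum_map_toList]
    exact hd2

end CfsgLib.Small.Ord1512
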