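import Cfsg.Agent.Lib.Small.SelfCentralPrime
import Cfsg.Agent.Lib.Small.PrincipalDegrees
import Cfsg.Agent.Lib.Small.Order7920Tools

/-!
# Characters realizing the degree relation, and the degrees seen by a self-centralizing element
-/

set_option autoImplicit false
set_option linter.unusedSectionVars false
set_option linter.style.haveILetI false

open Cfsg CfsgLib.Chars CfsgLib.CharApps

namespace CfsgLib.Small

universe u

variable {G : Type u} [Group G] [Finite G] [IsSimpleGroup G]

/-- The signed degrees of the principal block with characters realizing them. -/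
theorem exists_degree_witness (hG : ¬ IsMulCommutative G) {p : ℕ} [hp : Fact p.Prime]
    (hodd : p ≠ 2) (P : Sylow p G) (hP : Nat.card (P : Subgroup G) = p) {e : ℕ}
    (he : (Subgroup.centralizer ((P : Subgroup G) : Set G)).relIndex
      (Subgroup.normalizer ((P : Subgroup G) : Set G)) = e) (hep : 2 * e ≤ p - 1) :
    ∃ L : List ℤ, L.length = e - 1 ∧
      (∀ s ∈ L, s ∈ signedCands (Nat.card G) p ∧
        ∃ χ : IrrCharacter G, charDegree (χ : G → ℂ) = s.natAbs) ∧
      (1 + L.sum).natAbs ∣ Nat.card G ∧ (1 + L.sum).natAbs ^ 2 < Nat.card G ∧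
      ∃ S : Finset (IrrCharacter G), S.card = (p - 1) / e ∧
        ∀ θ ∈ S, θ ≠ principal G ∧ charDegree (θ : G → ℂ) = (1 + L.sum).natAbs := by
  classical
  haveI := Fintype.ofFinite G
  haveI := irrFintype G
  obtain ⟨M, hM⟩ := CharApps.exists_pModular p
  haveI := hM.2.1.isPrime
  obtain ⟨X, Y, hB, hdisj, hX, hY, εX, ε, hXp, hε, hYdeg, hYeq, hrel⟩ :=
    Agent.S4441.result p M hM hodd P hP e he
  have he0 : 0 < e := by
    rw [← he]
    exact Nat.pos_of_ne_zero fun h => Subgroup.index_ne_zero_of_finite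
      (H := (Subgroup.centralizer ((P : Subgroup G) : Set G)).subgroupOf
        (Subgroup.normalizer ((P : Subgroup G) : Set G))) h
  have hY2 : 1 < Nat.card Y := by
    rw [hY]
    exact (Nat.le_div_iff_mul_le he0).mpr (by omega)
  have hprin1 : charDegree ((principal G : IrrCharacter G) : G → ℂ) = 1 :=
    (deg_eq_one_iff (principal G)).mp (principal_apply _)
  have hdegne : ∀ χ : IrrCharacter G, χ ≠ principal G → 1 < charDegree (χ : G → ℂ) := by
    intro χ hne
    have h0 := CfsgLib.Blocks.charDegree_pos χ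
    by_contra h
    exact hne (eq_of_degree_one hG (by omega) hprin1)
  have hprin : principal G ∈ X := by
    have hmem : principal G ∈ X ∪ Y := hB ▸ CfsgLib.Blocks.principal_mem_principalBlock M
    rcases hmem with h | h
    · exact h
    exfalso
    obtain ⟨a, b, hab⟩ := Finite.one_lt_card_iff_nontrivial.mp hY2
    have key : ∀ θ ∈ Y, θ = principal G := by
      intro θ hθ
      by_contra hne
      have h1 := hYeq θ hθ _ h 1 (by rw [orderOf_one]; exact hp.out.not_dvd_one)
      rw [deg_eq, principal_apply] at h1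
      have := hdegne θ hne
      rw [Nat.cast_eq_one] at h1
      omega
    exact hab (Subtype.ext ((key a a.2).trans (key b b.2).symm))
  have hsqd : ∀ χ : IrrCharacter G, charDegree (χ : G → ℂ) ^ 2 < Nat.card G := by
    intro χ
    rw [← sum_degree_sq_nat (G := G)]
    by_cases hne : χ = principal G
    · subst hne
      rw [hprin1, one_pow, sum_degree_sq_nat]
      exact Finite.one_lt_card
    · rw [← Finset.add_sum_erase _ _ (Finset.mem_univ χ)]
      have hmem : principal G ∈ (Finset.univ.erase χ : Finset (IrrCharacter G)) :=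
        Finset.mem_erase.mpr ⟨Ne.symm hne, Finset.mem_univ _⟩
      have := Finset.single_le_sum (f := fun ψ : IrrCharacter G => charDegree (ψ : G → ℂ) ^ 2)
        (fun _ _ => Nat.zero_le _) hmem
      rw [hprin1, one_pow] at this
      omega
  set F : Finset (IrrCharacter G) := (Set.toFinite X).toFinset with hF
  have hpF : principal G ∈ F := by simpa [hF] using hprin
  have hεp : εX (principal G) = 1 := by
    have h1 := (hXp _ hprin).2.1
    rw [hprin1, Nat.cast_one] at h1
    rcases (hXp _ hprin).1 with h | h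
    · exact h
    · rw [h] at h1
      exfalso
      have h2 : (p : ℤ) ∣ 2 := by
        have := h1.dvd
        norm_num at this
        exact this
      have := Nat.le_of_dvd two_pos (Int.natCast_dvd_natCast.mp (by exact_mod_cast h2))
      have := hp.out.two_le
      omega
  obtain ⟨⟨θ₀, hθ₀⟩⟩ : Nonempty Y := (Finite.card_pos_iff).mp (by omega)
  set L := (F.erase (principal G)).toList.map fun χ => εX χ * (charDegree (χ : G → ℂ) : ℤ) with hL
  have hσ : ∀ θ ∈ Y, (1 + L.sum : ℤ) = ε * charDegree (θ : G → ℂ) := by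
    intro θ hθ
    have h := hrel θ hθ 1 (by rw [orderOf_one]; exact hp.out.not_dvd_one)
    rw [finsum_mem_eq_finite_toFinset_sum _ (Set.toFinite X), ← hF,
      ← Finset.add_sum_erase _ _ hpF, principal_apply, hεp] at h
    simp only [deg_eq] at h
    rw [hL, Finset.sum_map_toList]
    apply Int.cast_injective (α := ℂ)
    push_cast
    rw [h]
    push_cast
    ring
  have habs : ∀ θ : IrrCharacter G, θ ∈ Y → charDegree (θ : G → ℂ) = (1 + L.sum).natAbs := by
    intro θ hθ
    rw [hσ θ hθ]
    rcases hε with h | h <;> simp [h]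
  refine ⟨L, ?_, ?_, ?_, ?_, (Set.toFinite Y).toFinset, ?_, ?_⟩
  · rw [hL, List.length_map, Finset.length_toList, Finset.card_erase_of_mem hpF, hF,
      ← Nat.card_eq_card_finite_toFinset, hX]
  · intro s hs
    rw [hL, List.mem_map] at hs
    obtain ⟨χ, hχ, rfl⟩ := hs
    rw [Finset.mem_toList, Finset.mem_erase, hF, Set.Finite.mem_toFinset] at hχ
    have ha : (εX χ * (charDegree (χ : G → ℂ) : ℤ)).natAbs = charDegree (χ : G → ℂ) := by
      rcases (hXp χ hχ.2).1 with h | h <;> simp [h]
    refine ⟨mem_signedCands ?_ ?_ ?_ ?_, χ, ha.symm⟩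
    · have h := ((hXp χ hχ.2).2.1).mul_left (εX χ)
      rcases (hXp χ hχ.2).1 with h' | h' <;> simp [h'] at h ⊢ <;> exact h
    · rw [ha]; exact charDegree_dvd_card χ
    · rw [ha]; exact hdegne χ hχ.1
    · rw [ha]; exact hsqd χ
  · rw [← habs θ₀ hθ₀]; exact charDegree_dvd_card θ₀
  · rw [← habs θ₀ hθ₀]; exact hsqd θ₀
  · rw [← Nat.card_eq_card_finite_toFinset, hY]
  · intro θ hθ
    rw [Set.Finite.mem_toFinset] at hθ
    exact ⟨fun h => hdisj.ne_of_mem hprin hθ h.symm, habs θ hθ⟩

/-- With a self-centralizing Sylow subgroup of prime order `p`, a degree prime to `p` is congruent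
to `±1` (for at most `e` characters, the principal one among them) or to `±e`. -/
theorem degree_residue_of_selfCentral {p : ℕ} [hp : Fact p.Prime] (P : Sylow p G)
    (hP : Nat.card (P : Subgroup G) = p) (hsq : ¬ p ^ 2 ∣ Nat.card G)
    (hC : Nat.card (Subgroup.centralizer ((P : Subgroup G) : Set G)) = p) {e : ℕ}
    (hN : Nat.card (Subgroup.normalizer ((P : Subgroup G) : Set G)) = p * e)
    (he2 : 2 ≤ e) (hep : e + 2 ≤ p) :
    ∃ B : Finset (IrrCharacter G), principal G ∈ B ∧ B.card = e ∧
      (∀ χ ∈ B, (p : ℤ) ∣ charDegree (χ : G → ℂ) - 1 ∨ (p : ℤ) ∣ charDegree (χ : G → ℂ) + 1) ∧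
      ∀ χ : IrrCharacter G, ¬ p ∣ charDegree (χ : G → ℂ) → χ ∈ B ∨
        (p : ℤ) ∣ charDegree (χ : G → ℂ) - e ∨ (p : ℤ) ∣ charDegree (χ : G → ℂ) + e := by
  classical
  haveI := Fintype.ofFinite G
  obtain ⟨u, hu⟩ := (isCyclic_of_prime_card hP).exists_generator
  have huo : orderOf (u : G) = p := by
    rw [Subgroup.orderOf_coe, orderOf_eq_card_of_forall_mem_zpowers hu, hP]
  have hgen : (P : Subgroup G) = Subgroup.zpowers (u : G) :=
    (Subgroup.eq_of_le_of_card_ge (Subgroup.zpowers_le.mpr u.2)
      (by rw [Nat.card_zpowers, huo, hP])).symm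
  have hPC : (P : Subgroup G) ≤ Subgroup.centralizer ((P : Subgroup G) : Set G) := by
    have hcyc : IsCyclic (P : Subgroup G) := isCyclic_of_prime_card hP
    have := hcyc.isMulCommutative
    exact Subgroup.le_centralizer _
  have hCP : Subgroup.centralizer ((P : Subgroup G) : Set G) = (P : Subgroup G) :=
    (Subgroup.eq_of_le_of_card_ge hPC (by rw [hC, hP])).symm
  rw [hgen] at hCP hN
  obtain ⟨B, Y, ε, a, hε, -, hBc, -, hprin, -, hBp, -, hzero, hYv⟩ :=
    selfCentral_data (u : G) huo hsq hCP hN he2 hep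
  refine ⟨B, hprin, hBc, fun χ hχ => ?_, fun χ hnd => ?_⟩
  · obtain ⟨hc, -, hd⟩ := hBp χ hχ
    have h := hd.symm.dvd
    rcases hc with h' | h' <;> rw [h'] at h
    · exact Or.inl h
    · exact Or.inr (by simpa using h)
  by_cases hB : χ ∈ B
  · exact Or.inl hB
  right
  by_cases hY : χ ∈ Y
  · have h1 := (hYv χ hY).2 1 (by rw [orderOf_one]; exact hp.out.not_dvd_one)
    simp only [deg_eq] at h1
    have h2 : ε * (charDegree (χ : G → ℂ) : ℤ) = ∑ ψ ∈ B, a ψ * charDegree (ψ : G → ℂ) := by
      exact_mod_cast h1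
    have h3 : (p : ℤ) ∣ ∑ ψ ∈ B, a ψ * (charDegree (ψ : G → ℂ) : ℤ) - e := by
      rw [← hBc, Finset.card_eq_sum_ones, Nat.cast_sum, ← Finset.sum_sub_distrib]
      refine Finset.dvd_sum fun ψ hψ => ?_
      obtain ⟨hc, -, hd⟩ := hBp ψ hψ
      have h := hd.symm.dvd
      rcases hc with h' | h' <;> rw [h'] at h ⊢
      · simpa using h
      · have h' := dvd_neg.mpr h
        ring_nf at h' ⊢
        exact h'
    rw [← h2] at h3
    rcases hε with h | h <;> rw [h] at h3
    · exact Or.inl (by simpa using h3)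
    · refine Or.inr ?_
      have h4 := dvd_neg.mpr h3
      ring_nf at h4 ⊢
      exact h4
  · exfalso
    have h0 : ((0 : ℤ) : ℂ) = (χ : G → ℂ) (u : G) := by
      rw [hzero χ (by simp [hB, hY]), Int.cast_zero]
    have h := int_congr_of_pow_eq_one (p := p) χ (orderOf_dvd_iff_pow_eq_one.mp (dvd_of_eq huo)) h0
    rw [zero_sub, dvd_neg] at h
    exact hnd (Int.natCast_dvd_natCast.mp h)

end CfsgLib.Small
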