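import Cfsg.Agent.Lib.Small.OrderTools

/-!
# No simple group of order 5400

Two Sylow 5-subgroups meet in a line of the group of order 25; exactly two of the six lines are
special in this way, and an element of order three of the normalizer cannot fix one of them.
-/

set_option autoImplicit false
set_option linter.unusedSectionVars false

open Subgroup
open scoped Nat

namespace CfsgLib.Small

variable {G : Type*} [Group G] [Finite G]

theorem count5400_lines [Fact (Nat.Prime 5)] (P : Sylow 5 G) (hP : Nat.card (P : Subgroup G) = 25)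
    (hn : Nat.card (Sylow 5 G) = 36)
    (hd : ∀ L : Subgroup G, Nat.card L = 5 → L ≤ (P : Subgroup G) →
      (∀ R : Sylow 5 G, L ≤ (R : Subgroup G) → R = P) ∨
        Nat.card {R : Sylow 5 G // L ≤ (R : Subgroup G)} = 6) :
    Nat.card {L : Subgroup G // Nat.card L = 5 ∧ L ≤ (P : Subgroup G) ∧
      ∃ R : Sylow 5 G, R ≠ P ∧ L ≤ (R : Subgroup G)} ≤ 2 := by
  classical
  have : Fintype G := Fintype.ofFinite G
  have : Fintype (Sylow 5 G) := Fintype.ofFinite _
  have : Fintype (Subgroup G) := Fintype.ofFinite _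
  set Ls : Finset (Subgroup G) := Finset.univ.filter fun L => Nat.card L = 5 ∧
    L ≤ (P : Subgroup G) ∧ ∃ R : Sylow 5 G, R ≠ P ∧ L ≤ (R : Subgroup G) with hLs
  have hb : Nat.card {L : Subgroup G // Nat.card L = 5 ∧ L ≤ (P : Subgroup G) ∧
      ∃ R : Sylow 5 G, R ≠ P ∧ L ≤ (R : Subgroup G)} = Ls.card := by
    rw [Nat.card_eq_fintype_card, Fintype.card_subtype, hLs]
  rw [hb]
  have hall : ∀ R : Sylow 5 G, Nat.card (R : Subgroup G) = 25 := fun R => by
    rw [← hP]
    exact R.card_eq_multiplicity.trans P.card_eq_multiplicity.symm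
  have hmeet : ∀ L L' : Subgroup G, Nat.card L = 5 → Nat.card L' = 5 → L ≠ L' → L ⊓ L' = ⊥ := by
    intro L L' hL hL' hne
    apply Subgroup.eq_bot_of_card_eq
    have h1 : Nat.card (L ⊓ L' : Subgroup G) ∣ 5 := hL ▸ card_dvd_of_le inf_le_left
    rcases (Nat.dvd_prime Nat.prime_five).mp h1 with h | h
    · exact h
    · exfalso
      have e1 := eq_of_le_of_card_ge (inf_le_left : L ⊓ L' ≤ L) (by rw [h, hL])
      have e2 := eq_of_le_of_card_ge (inf_le_right : L ⊓ L' ≤ L') (by rw [h, hL'])
      exact hne (e1.symm.trans e2)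
  -- at most six lines
  have h6 : Ls.card ≤ 6 := by
    have hsub : Ls.biUnion (fun L : Subgroup G => ((Finset.univ : Finset G).filter (· ∈ L)).erase 1) ⊆
        ((Finset.univ : Finset G).filter (· ∈ (P : Subgroup G))).erase 1 := by
      intro x hx
      simp only [Finset.mem_biUnion, Finset.mem_erase, Finset.mem_filter, Finset.mem_univ,
        true_and, hLs] at hx ⊢
      obtain ⟨L, ⟨-, hLP, -⟩, hx1, hxL⟩ := hx
      exact ⟨hx1, hLP hxL⟩
    have hcard : ∀ H : Subgroup G,
        (((Finset.univ : Finset G).filter (· ∈ H)).erase 1).card = Nat.card H - 1 := by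
      intro H
      rw [Finset.card_erase_of_mem (by simp), Nat.card_eq_fintype_card, Fintype.card_subtype]
    have := Finset.card_le_card hsub
    rw [Finset.card_biUnion, hcard, hP, Finset.sum_congr rfl (g := fun _ => 4) (fun L hL => by
      rw [hcard, (Finset.mem_filter.mp hL).2.1]), Finset.sum_const, smul_eq_mul] at this
    · omega
    · intro L hL L' hL' hne
      rw [Function.onFun, Finset.disjoint_left]
      intro x hx hx'
      simp only [Finset.mem_erase, Finset.mem_filter, Finset.mem_univ, true_and] at hx hx'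
      have hxx : x ∈ L ⊓ L' := ⟨hx.2, hx'.2⟩
      rw [hmeet L L' (Finset.mem_filter.mp hL).2.1 (Finset.mem_filter.mp hL').2.1 hne] at hxx
      exact hx.1 (mem_bot.mp hxx)
  -- the Sylow subgroups meeting P
  set T : Finset (Sylow 5 G) := Finset.univ.filter fun R =>
    R ≠ P ∧ (P : Subgroup G) ⊓ (R : Subgroup G) ≠ ⊥ with hT
  have hTeq : T = Ls.biUnion fun L =>
      (Finset.univ : Finset (Sylow 5 G)).filter fun (R : Sylow 5 G) => R ≠ P ∧ L ≤ (R : Subgroup G) := by
    ext R
    simp only [hT, hLs, Finset.mem_filter, Finset.mem_univ, true_and, Finset.mem_biUnion]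
    constructor
    · rintro ⟨hRP, hne⟩
      obtain ⟨L, hL, hLle⟩ : ∃ L : Subgroup G, Nat.card L = 5 ∧
          L ≤ (P : Subgroup G) ⊓ (R : Subgroup G) := by
        have h5 : 5 ∣ Nat.card ((P : Subgroup G) ⊓ (R : Subgroup G) : Subgroup G) := by
          obtain ⟨j, -, hj⟩ := (Nat.dvd_prime_pow Nat.prime_five).mp
            (show _ ∣ 5 ^ 2 from hP ▸ card_dvd_of_le (inf_le_left :
              (P : Subgroup G) ⊓ (R : Subgroup G) ≤ (P : Subgroup G)))
          rw [hj]
          exact dvd_pow_self 5 fun h0 => hne (Subgroup.eq_bot_of_card_eq _ (by rw [hj, h0, pow_zero]))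
        obtain ⟨y, hy⟩ := exists_prime_orderOf_dvd_card' 5 h5
        exact ⟨zpowers (y : G), by rw [Nat.card_zpowers, Subgroup.orderOf_coe, hy],
          zpowers_le.mpr y.2⟩
      exact ⟨L, ⟨hL, hLle.trans inf_le_left, R, hRP, hLle.trans inf_le_right⟩, hRP,
        hLle.trans inf_le_right⟩
    · rintro ⟨L, ⟨hL, hLP, -⟩, hRP, hLR⟩
      refine ⟨hRP, fun hb => ?_⟩
      have h' : L ≤ ⊥ := hb ▸ le_inf hLP hLR
      rw [le_bot_iff.mp h', card_bot] at hL
      omega
  have hTcard : T.card = Ls.card * 5 := by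
    rw [hTeq, Finset.card_biUnion, Finset.sum_congr rfl (g := fun _ => 5) (fun L hL => ?_),
      Finset.sum_const, smul_eq_mul]
    · obtain ⟨hL5, hLP, R, hRP, hLR⟩ := (Finset.mem_filter.mp hL).2
      rcases hd L hL5 hLP with h | h
      · exact absurd (h R hLR) hRP
      · rw [Nat.card_eq_fintype_card, Fintype.card_subtype] at h
        have hmem : P ∈ (Finset.univ : Finset (Sylow 5 G)).filter fun (R : Sylow 5 G) => L ≤ (R : Subgroup G) :=
          Finset.mem_filter.mpr ⟨Finset.mem_univ _, hLP⟩
        rw [show ((Finset.univ : Finset (Sylow 5 G)).filter fun (R : Sylow 5 G) => R ≠ P ∧ L ≤ (R : Subgroup G)) =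
          ((Finset.univ : Finset (Sylow 5 G)).filter fun (R : Sylow 5 G) => L ≤ (R : Subgroup G)).erase P from by
            ext R; simp [and_comm], Finset.card_erase_of_mem hmem, h]
    · intro L hL L' hL' hne
      rw [Function.onFun, Finset.disjoint_left]
      intro R hR hR'
      simp only [Finset.mem_filter, Finset.mem_univ, true_and] at hR hR'
      obtain ⟨hL5, hLP, -⟩ := (Finset.mem_filter.mp hL).2
      obtain ⟨hL5', hLP', -⟩ := (Finset.mem_filter.mp hL').2
      -- two lines generate P
      have hle : L ⊔ L' ≤ (P : Subgroup G) ⊓ (R : Subgroup G) :=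
        sup_le (le_inf hLP hR.2) (le_inf hLP' hR'.2)
      obtain ⟨j, hj2, hj⟩ := (Nat.dvd_prime_pow Nat.prime_five).mp
        (show Nat.card (L ⊔ L' : Subgroup G) ∣ 5 ^ 2 from
          (card_dvd_of_le (hle.trans inf_le_left)).trans (by rw [hP]; norm_num))
      have hj' : j = 2 := by
        by_contra hj'
        have h1 : Nat.card (L ⊔ L' : Subgroup G) ≤ 5 := by
          rw [hj]
          calc (5 : ℕ) ^ j ≤ 5 ^ 1 := Nat.pow_le_pow_right (by norm_num) (by omega)
            _ = 5 := pow_one 5
        exact hne ((eq_of_le_of_card_ge le_sup_left (by rw [hL5]; exact h1)).trans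
          (eq_of_le_of_card_ge le_sup_right (by rw [hL5']; exact h1)).symm)
      have hfull := eq_of_le_of_card_ge (hle.trans inf_le_left) (by rw [hP, hj, hj']; norm_num)
      have h2 := eq_of_le_of_card_ge (hle.trans inf_le_right) (by rw [hall, hj, hj']; norm_num)
      exact hR.1 (Sylow.ext (h2.symm.trans hfull))
  -- the others fall into regular orbits
  set U : Finset (Sylow 5 G) := Finset.univ.filter fun R =>
    (P : Subgroup G) ⊓ (R : Subgroup G) = ⊥ with hU
  let S : SubMulAction (P : Subgroup G) (Sylow 5 G) :=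
    { carrier := {R | (P : Subgroup G) ⊓ (R : Subgroup G) = ⊥}
      smul_mem' := by
        intro u R hR
        simp only [Set.mem_setOf_eq] at hR ⊢
        rw [Subgroup.eq_bot_iff_forall] at hR ⊢
        intro y hy
        obtain ⟨hy1, hy2⟩ := hy
        rw [show u • R = (u : G) • R from rfl, Sylow.coe_subgroup_smul] at hy2
        obtain ⟨z, hz, rfl⟩ := hy2
        have hzP : z ∈ (P : Subgroup G) := by
          have h1 : (u : G) * z * (u : G)⁻¹ ∈ (P : Subgroup G) := hy1
          simpa [mul_assoc] using mul_mem (mul_mem (inv_mem u.2) h1) u.2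
        rw [hR z ⟨hzP, hz⟩]
        simp }
  have h25 : 25 ∣ U.card := by
    have hcS : Nat.card S = U.card := by
      rw [hU, ← Fintype.card_subtype, Nat.card_eq_fintype_card]
      exact Fintype.card_congr (Equiv.refl _)
    rw [← hcS, Nat.card_congr (MulAction.selfEquivSigmaOrbitsQuotientStabilizer (P : Subgroup G) S)]
    have : Fintype (MulAction.orbitRel.Quotient (P : Subgroup G) S) := Fintype.ofFinite _
    rw [Nat.card_sigma]
    refine Finset.dvd_sum fun ω _ => ?_
    have hstab : MulAction.stabilizer (P : Subgroup G) ω.out = ⊥ := by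
      rw [Subgroup.eq_bot_iff_forall]
      intro u hu
      rw [MulAction.mem_stabilizer_iff, Subtype.ext_iff] at hu
      change (u : G) • (ω.out : Sylow 5 G) = ω.out at hu
      have hN : (u : G) ∈ (P : Subgroup G) ⊓ normalizer (((ω.out : Sylow 5 G) : Subgroup G) : Set G) :=
        ⟨u.2, Sylow.smul_eq_iff_mem_normalizer.mp hu⟩
      have h1 := (P.2.inf_normalizer_sylow (ω.out : Sylow 5 G)).le hN
      have hmem : (P : Subgroup G) ⊓ ((ω.out : Sylow 5 G) : Subgroup G) = ⊥ := (ω.out).2
      rw [hmem, mem_bot] at h1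
      exact Subtype.ext h1
    show 25 ∣ (MulAction.stabilizer (P : Subgroup G) ω.out).index
    rw [hstab, index_bot, hP]
  have hsplit : 1 + T.card + U.card = 36 := by
    rw [← hn, Nat.card_eq_fintype_card, ← Finset.card_univ]
    have e1 : (Finset.univ : Finset (Sylow 5 G)) = insert P (T ∪ U) := by
      ext R
      simp only [hT, hU, Finset.mem_univ, Finset.mem_insert, Finset.mem_union, Finset.mem_filter,
        true_and, true_iff]
      tauto
    have hPT : P ∉ T ∪ U := by
      simp only [hT, hU, Finset.mem_union, Finset.mem_filter, Finset.mem_univ, true_and]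
      rintro (⟨h, -⟩ | h)
      · exact h rfl
      · rw [inf_idem] at h
        rw [h, card_bot] at hP
        omega
    rw [e1, Finset.card_insert_of_notMem hPT, Finset.card_union_of_disjoint]
    · ring
    · rw [Finset.disjoint_left]
      intro R hR hR'
      exact (Finset.mem_filter.mp hR).2.2 (Finset.mem_filter.mp hR').2
  omega

/-- No simple group has order 5400. -/
theorem card_ne_5400 [IsSimpleGroup G] (hG : ¬ IsMulCommutative G) : Nat.card G ≠ 5400 := by
  classical
  intro hN
  have := Fact.mk Nat.prime_five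
  have h : Nat.card G = 5 ^ 2 * 216 := by rw [hN]; norm_num
  have hm : ¬ 5 ∣ 216 := by norm_num
  have hd5 : 5 ∣ Nat.card G := by rw [hN]; norm_num
  have hn36 : Nat.card (Sylow 5 G) = 36 := by
    have hmem : Nat.card (Sylow 5 G) ∈ Nat.divisors 216 :=
      Nat.mem_divisors.mpr ⟨card_sylow_dvd 2 216 h hm, by norm_num⟩
    have hmod : Nat.card (Sylow 5 G) % 5 = 1 :=
      Eq.trans (card_sylow_modEq_one 5 G) (Nat.mod_eq_of_lt (by norm_num))
    have hfac := hN ▸ two_mul_card_dvd_factorial_sylow hG hd5
    have key : ∀ d ∈ Nat.divisors 216, 1 < d → d % 5 = 1 →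
        (d < 16 → 2 * 5400 ∣ d !) → d = 36 ∨ d = 216 := by decide +kernel
    rcases key _ hmem (one_lt_card_sylow hG hd5) hmod (fun _ => hfac) with h' | h'
    · exact h'
    exfalso
    obtain ⟨P⟩ : Nonempty (Sylow 5 G) := inferInstance
    have hPc := card_sylow_eq 2 216 h hm P
    have hidx := card_normalizer_mul P
    rw [h', hN] at hidx
    have heq : (P : Subgroup G) = normalizer ((P : Subgroup G) : Set G) :=
      eq_of_le_of_card_ge le_normalizer (by rw [hPc]; omega)
    refine not_normalizer_le_centralizer hG hd5 P ?_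
    have := IsPGroup.isMulCommutative_of_card_eq_prime_sq hPc
    rw [← heq]
    exact le_centralizer _
  -- the centralizer of a common element of two Sylow subgroups
  have hcent : ∀ x : G, orderOf x = 5 → Nat.card (Sylow 5 (centralizer ({x} : Set G))) = 1 ∨
      (Nat.card (Sylow 5 (centralizer ({x} : Set G))) = 6 ∧
        ((centralizer ({x} : Set G)).index = 18 ∨ (centralizer ({x} : Set G)).index = 36)) := by
    intro x hx
    set C := centralizer ({x} : Set G) with hC
    have hx1 : x ≠ 1 := fun h1 => by rw [h1, orderOf_one] at hx; omega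
    have hne : C ≠ ⊤ := centralizer_singleton_ne_top hG hx1
    have h25 : 5 ^ 2 ∣ Nat.card C := by
      obtain ⟨S, hS⟩ := (IsPGroup.of_card (p := 5) (n := 1)
        (by rw [pow_one, Nat.card_zpowers, hx] : Nat.card (zpowers x) = 5 ^ 1)).exists_le_sylow
      have hSc := card_sylow_eq 2 216 h hm S
      rw [← hSc]
      refine card_dvd_of_le fun y hy => ?_
      rw [hC, mem_centralizer_singleton_iff]
      have hab := IsPGroup.isMulCommutative_of_card_eq_prime_sq hSc
      exact congrArg Subtype.val (hab.is_comm.comm ⟨y, hy⟩ ⟨x, hS (mem_zpowers x)⟩)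
    obtain ⟨r, hr⟩ := h25
    have hmul := card_mul_index C
    rw [hr, h, mul_assoc] at hmul
    have hm' : r * C.index = 216 := Nat.eq_of_mul_eq_mul_left (by norm_num) hmul
    have hrp : ¬ 5 ∣ r := fun hd => hm (hm' ▸ dvd_mul_of_dvd_left hd _)
    have hd : Nat.card (Sylow 5 C) ∣ r := card_sylow_dvd 2 r hr hrp
    have hmod : Nat.card (Sylow 5 C) % 5 = 1 :=
      Eq.trans (card_sylow_modEq_one 5 C) (Nat.mod_eq_of_lt (by norm_num))
    have hfac := hN ▸ two_mul_card_dvd_factorial hG hne
    have h12 : C.index ≠ 12 := index_ne_of_full_sylow hG (p := 5) (a := 2)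
      (by rw [hN]; norm_num) (by decide) (by norm_num)
      (by rw [hN]; decide +kernel) (by rw [hN]; decide) C
    have key : ∀ i ∈ Nat.divisors 216, (i < 16 → 2 * 5400 ∣ i !) → i ≠ 12 →
        ∀ d ∈ Nat.divisors 216, d % 5 = 1 → i * d ∣ 216 → d = 1 ∨ (d = 6 ∧ (i = 18 ∨ i = 36)) := by
      decide +kernel
    exact key _ (Nat.mem_divisors.mpr ⟨Dvd.intro_left r hm', by norm_num⟩) (fun _ => hfac) h12 _
      (Nat.mem_divisors.mpr ⟨hd.trans (Dvd.intro _ hm'), by norm_num⟩) hmod
      (by rw [mul_comm]; exact hm' ▸ Nat.mul_dvd_mul_right hd _)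
  obtain ⟨x, hxo, hd1, -, -⟩ := exists_centralizer_of_inter h hm (by rw [hn36]; norm_num)
  obtain ⟨P, hxP⟩ : ∃ P : Sylow 5 G, x ∈ (P : Subgroup G) := by
    obtain ⟨P, hP⟩ := (IsPGroup.of_card (p := 5) (n := 1)
      (by rw [pow_one, Nat.card_zpowers, hxo] : Nat.card (zpowers x) = 5 ^ 1)).exists_le_sylow
    exact ⟨P, hP (mem_zpowers x)⟩
  have hall : ∀ R : Sylow 5 G, Nat.card (R : Subgroup G) = 25 := fun R =>
    card_sylow_eq 2 216 h hm R
  have hle : ∀ (y : G) (R : Sylow 5 G), y ∈ (R : Subgroup G) →
      (R : Subgroup G) ≤ centralizer ({y} : Set G) := fun y R hy z hz => by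
    rw [mem_centralizer_singleton_iff]
    have hab := IsPGroup.isMulCommutative_of_card_eq_prime_sq
      (show Nat.card (R : Subgroup G) = 5 ^ 2 from hall R)
    exact congrArg Subtype.val (hab.is_comm.comm ⟨z, hz⟩ ⟨y, hy⟩)
  -- the Sylow subgroups containing y are those of its centralizer
  have hbij : ∀ y : G, orderOf y = 5 → y ∈ (P : Subgroup G) →
      Nat.card {R : Sylow 5 G // zpowers y ≤ (R : Subgroup G)} =
        Nat.card (Sylow 5 (centralizer ({y} : Set G))) := by
    intro y hyo hyP
    refine Nat.card_congr (Equiv.ofBijective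
      (fun R => R.1.subtype (hle y R.1 (zpowers_le.mp R.2))) ⟨fun R R' hRR => ?_, fun Q => ?_⟩)
    · exact Subtype.ext (Sylow.subtype_injective hRR)
    · have hyc : y ∈ (centralizer ({y} : Set G)) := mem_centralizer_singleton_iff.mpr rfl
      have hQ : Nat.card (Q : Subgroup (centralizer ({y} : Set G))) = 25 := by
        rw [Q.card_eq_multiplicity, ← (P.subtype (hle y P hyP)).card_eq_multiplicity,
          Sylow.coe_subtype, Nat.card_congr (subgroupOfEquivOfLe (hle y P hyP)).toEquiv, hall]
      have hyQ : (⟨y, hyc⟩ : (centralizer ({y} : Set G))) ∈ (Q : Subgroup (centralizer ({y} : Set G))) := by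
        have hN : (⟨y, hyc⟩ : (centralizer ({y} : Set G))) ∈ normalizer ((Q : Subgroup (centralizer ({y} : Set G))) : Set (centralizer ({y} : Set G))) := by
          refine centralizer_le_normalizer _ ?_
          rw [mem_centralizer_iff]
          intro z _
          exact Subtype.ext (mem_centralizer_singleton_iff.mp z.2)
        have hp : IsPGroup 5 (zpowers (⟨y, hyc⟩ : (centralizer ({y} : Set G)))) :=
          IsPGroup.of_card (n := 1) (by rw [Nat.card_zpowers, pow_one, ← Subgroup.orderOf_coe]; exact hyo)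
        exact ((hp.inf_normalizer_sylow Q).le ⟨mem_zpowers _, hN⟩).2
      have hQ' : Nat.card ((Q : Subgroup (centralizer ({y} : Set G))).map (centralizer ({y} : Set G)).subtype) = 5 ^ 2 := by
        rw [card_map_of_injective (centralizer ({y} : Set G)).subtype_injective, hQ]; norm_num
      obtain ⟨R, hR⟩ := (IsPGroup.of_card hQ').exists_le_sylow
      have hRe : (Q : Subgroup (centralizer ({y} : Set G))).map (centralizer ({y} : Set G)).subtype = (R : Subgroup G) :=
        eq_of_le_of_card_ge hR (by rw [hQ', hall]; norm_num)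
      refine ⟨⟨R, zpowers_le.mpr (hRe ▸ ⟨_, hyQ, rfl⟩)⟩, ?_⟩
      refine Sylow.ext ?_
      show ((R.subtype _ : Sylow 5 (centralizer ({y} : Set G))) : Subgroup (centralizer ({y} : Set G))) = _
      rw [Sylow.coe_subtype]
      rw [← hRe, subgroupOf, comap_map_eq_self_of_injective (centralizer ({y} : Set G)).subtype_injective]
  have hcount := count5400_lines P (hall P) hn36 fun L hL hLP => by
    obtain ⟨y, hy⟩ := (isCyclic_of_prime_card hL).exists_generator
    have hyo : orderOf (y : G) = 5 := by
      rw [Subgroup.orderOf_coe, orderOf_eq_card_of_forall_mem_zpowers hy, hL]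
    have hLy : zpowers (y : G) = L :=
      eq_of_le_of_card_ge (zpowers_le.mpr y.2) (by rw [Nat.card_zpowers, hyo, hL])
    rw [← hLy]
    rcases hcent _ hyo with h' | ⟨h', -⟩
    · left
      intro R hR
      rw [← hbij _ hyo (hLP y.2)] at h'
      have := (Nat.card_eq_one_iff_unique.mp h').1.elim ⟨R, hR⟩
        ⟨P, hLy.le.trans hLP⟩
      exact congrArg Subtype.val this
    · right
      rw [hbij _ hyo (hLP y.2), h']
  -- an element of order three in the normalizer
  have hNc := card_normalizer_mul P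
  rw [hn36, hN] at hNc
  set N := normalizer ((P : Subgroup G) : Set G) with hNdef
  have := Fact.mk Nat.prime_three
  obtain ⟨g', hg'⟩ := exists_prime_orderOf_dvd_card' (G := N) 3
    ⟨50, by omega⟩
  set g : G := (g' : G) with hg
  have hgo : orderOf g = 3 := by rw [hg, Subgroup.orderOf_coe, hg']
  rcases hcent x hxo with h' | ⟨h6, hidx⟩
  · omega
  set C := centralizer ({x} : Set G) with hC
  have hgC : g ∉ C := by
    intro hgC
    have hPC := hle x P hxP
    have e1 : normalizer (((P.subtype hPC : Sylow 5 C) : Subgroup C) : Set C) =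
        N.subgroupOf C := (subgroupOf_normalizer_eq hPC).symm
    have hmulC := card_normalizer_mul (P.subtype hPC)
    rw [h6] at hmulC
    have hm2 := card_mul_index C
    have hg3 : 3 ∣ Nat.card (normalizer (((P.subtype hPC : Sylow 5 C) : Subgroup C) : Set C)) := by
      rw [e1, ← hgo]
      have hmem : (⟨g, hgC⟩ : C) ∈ N.subgroupOf C := g'.2
      have := Subgroup.orderOf_dvd_natCard _ hmem
      rwa [← Subgroup.orderOf_coe] at this
    rw [hN] at hm2
    have hceq : Nat.card (centralizer ({x} : Set G)) = Nat.card C := rfl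
    obtain ⟨c, hc⟩ := hg3
    rw [hc] at hmulC
    rcases hidx with h' | h' <;> rw [h', ← hceq, ← hmulC] at hm2 <;> omega
  -- g moves the line of x
  set L := zpowers x with hL
  have hLc : Nat.card L = 5 := by rw [hL, Nat.card_zpowers, hxo]
  have hfix : ∀ w : G, orderOf w = 3 → L.map (MulAut.conj w).toMonoidHom = L → w ∈ C := by
    intro w hwo hw
    have hwN : w ∈ normalizer (L : Set G) := by
      rw [mem_normalizer_iff]
      intro z
      constructor
      · intro hz; rw [← hw]; exact ⟨z, hz, rfl⟩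
      · intro hz
        rw [← hw] at hz
        obtain ⟨z', hz', hzz⟩ := hz
        rwa [← (MulAut.conj w).injective hzz]
    have hcyc : IsCyclic L := isCyclic_of_prime_card hLc
    set ψ := L.normalizerMonoidHom with hψ
    have h4 : orderOf (ψ ⟨w, hwN⟩) ∣ 4 := by
      have := orderOf_dvd_natCard (ψ ⟨w, hwN⟩)
      rwa [hcyc.card_mulAut, hLc, Nat.totient_prime Nat.prime_five] at this
    have h3 : orderOf (ψ ⟨w, hwN⟩) ∣ 3 := by
      refine (orderOf_map_dvd ψ _).trans ?_
      rw [← Subgroup.orderOf_coe]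
      exact dvd_of_eq hwo
    have h1 := Nat.eq_one_of_dvd_coprimes (by norm_num : Nat.Coprime 4 3) h4 h3
    rw [orderOf_eq_one_iff, ← MonoidHom.mem_ker, hψ, normalizerMonoidHom_ker] at h1
    rw [hC, mem_centralizer_singleton_iff]
    exact (mem_centralizer_iff.mp h1 x (mem_zpowers x)).symm
  obtain ⟨R, hR, hxR⟩ : ∃ R : Sylow 5 G, R ≠ P ∧ x ∈ (R : Subgroup G) := by
    rw [← hbij x hxo hxP, Finite.one_lt_card_iff_nontrivial] at hd1
    obtain ⟨R, hR⟩ := @exists_ne _ hd1 ⟨P, zpowers_le.mpr hxP⟩
    exact ⟨R.1, fun e => hR (Subtype.ext e), zpowers_le.mp R.2⟩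
  have hspecial : ∀ w ∈ N, Nat.card (L.map (MulAut.conj w).toMonoidHom) = 5 ∧
      L.map (MulAut.conj w).toMonoidHom ≤ (P : Subgroup G) ∧
      ∃ R' : Sylow 5 G, R' ≠ P ∧ L.map (MulAut.conj w).toMonoidHom ≤ (R' : Subgroup G) := by
    intro w hw
    have hwP : w • P = P := Sylow.smul_eq_iff_mem_normalizer.mpr hw
    refine ⟨by rw [card_map_of_injective (MulAut.conj w).injective, hLc], ?_, w • R, ?_, ?_⟩
    · rw [← hwP, Sylow.coe_subgroup_smul]
      exact map_mono (zpowers_le.mpr hxP)
    · intro e
      exact hR (MulAction.injective w (e.trans hwP.symm))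
    · rw [Sylow.coe_subgroup_smul]
      exact map_mono (zpowers_le.mpr hxR)
  let φ₀ : Fin 3 → {L' : Subgroup G // Nat.card L' = 5 ∧ L' ≤ (P : Subgroup G) ∧
      ∃ R : Sylow 5 G, R ≠ P ∧ L' ≤ (R : Subgroup G)} := fun i =>
    ⟨L.map (MulAut.conj (g ^ (i : ℕ))).toMonoidHom, hspecial _ (pow_mem g'.2 _)⟩
  have hinj : Function.Injective φ₀ := by
    intro i j hij
    by_contra hne
    have he : L.map (MulAut.conj (g ^ (i : ℕ))).toMonoidHom =
        L.map (MulAut.conj (g ^ (j : ℕ))).toMonoidHom := congrArg Subtype.val hij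
    set w := (g ^ (i : ℕ))⁻¹ * g ^ (j : ℕ) with hw
    have hwL : L.map (MulAut.conj w).toMonoidHom = L := by
      have := congrArg (fun K => K.map (MulAut.conj (g ^ (i : ℕ))⁻¹).toMonoidHom) he
      simp only [map_map] at this
      have e : ∀ a b : G, (MulAut.conj a).toMonoidHom.comp (MulAut.conj b).toMonoidHom =
          (MulAut.conj (a * b)).toMonoidHom := by
        intro a b; ext z; simp [mul_assoc]
      rw [e, e, inv_mul_cancel] at this
      rw [hw, ← this, map_one]
      exact Subgroup.map_id L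
    have hwg : w = g ^ (((j : ℕ) : ℤ) - (i : ℕ)) := by
      rw [hw, zpow_sub, zpow_natCast, zpow_natCast]
      exact ((Commute.pow_pow_self g _ _).inv_left).eq
    have hwo : orderOf w = 3 := by
      refine orderOf_eq_prime ?_ ?_
      · rw [hwg, ← zpow_natCast, ← zpow_mul, mul_comm, zpow_mul, zpow_natCast,
          orderOf_dvd_iff_pow_eq_one.mp (dvd_of_eq hgo), one_zpow]
      · intro h1
        rw [hw, inv_mul_eq_one, pow_eq_pow_iff_modEq, hgo] at h1
        apply hne
        ext
        have := i.2; have := j.2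
        rw [Nat.ModEq] at h1
        omega
    have hwC := hfix w hwo hwL
    have hsub : g ∈ zpowers w := by
      have hle' : zpowers w ≤ zpowers g := zpowers_le.mpr (hwg ▸ zpow_mem (mem_zpowers g) _)
      rw [eq_of_le_of_card_ge hle' (by rw [Nat.card_zpowers, Nat.card_zpowers, hgo, hwo])]
      exact mem_zpowers g
    exact hgC (zpowers_le.mpr hwC hsub)
  have h3 := Nat.card_le_card_of_injective φ₀ hinj
  rw [Nat.card_fin] at h3
  omega

end CfsgLib.Small
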