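import Cfsg.Agent.Lib.Small.OrderTools
import Cfsg.Agent.Lib.Small.DegreeWitness
import Cfsg.Agent.Lib.Small.Order5400
import Cfsg.Agent.S0989
import Cfsg.Agent.S0990
import Cfsg.Agent.S1018

/-!
# Orders between 3640 and 6232 of no simple group
-/

set_option autoImplicit false
set_option linter.unusedSectionVars false

open Subgroup Cfsg CfsgLib.Chars
open scoped Nat

namespace CfsgLib.Small

universe u

variable {G : Type u} [Group G] [Finite G] [IsSimpleGroup G]

/-- Only one index `e` is left and the degree relation fails for it. -/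
theorem false_of_options_relation (hG : ¬ IsMulCommutative G) {N : ℕ} (hN : Nat.card G = N)
    (p m e : ℕ) [Fact p.Prime] (hNm : N = p * m) (hm : ¬ p ∣ m) (hodd : p ≠ 2)
    (key : ∀ x ∈ primeOptions N p m, x.2.1 = e) (hep : 2 * e ≤ p - 1)
    (hno : relationExists N p (e - 1) 1 = false) : False := by
  obtain ⟨P, n, e', k, hP, -, hmem, hrel, -⟩ := exists_prime_option hG hN p m hNm hm hodd
  obtain rfl : e' = e := key _ hmem
  exact false_of_no_relation hG hodd P hP hN hrel hep hno

theorem card_mul_le (hG : ¬ IsMulCommutative G) {N i₀ : ℕ} (hN : Nat.card G = N)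
    (h : ∀ i < i₀, ¬ 2 * N ∣ i !) {H : Subgroup G} (hH : H ≠ ⊤) : i₀ * Nat.card H ≤ N := by
  have hi : i₀ ≤ H.index := by
    by_contra hlt
    exact h _ (not_le.mp hlt) (hN ▸ two_mul_card_dvd_factorial hG hH)
  rw [← hN, ← card_mul_index H, mul_comm (Nat.card H)]
  exact Nat.mul_le_mul_right _ hi

/-- An involution centralizing a Sylow subgroup against the degree relation, for `e = 2`. -/
theorem odd_of_no_pair (hG : ¬ IsMulCommutative G) {N p e M : ℕ} [Fact p.Prime]
    (hodd : p ≠ 2) (hN : Nat.card G = N) (P : Sylow p G) (hP : Nat.card (P : Subgroup G) = p)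
    (he : (centralizer ((P : Subgroup G) : Set G)).relIndex
      (normalizer ((P : Subgroup G) : Set G)) = e) (hep : 2 * e ≤ p - 1)
    (hM : ∀ H : Subgroup G, H ≠ ⊤ → Nat.card H ≤ M)
    (key : ∀ L : List (ℤ × ℤ), L.length = e - 1 →
      (∀ x ∈ L, x.1 ∈ signedCands N p ∧ (4 * p : ℤ) ∣ x.1 - x.2 ∧ x.2.natAbs < x.1.natAbs) →
      (1 + (L.map Prod.fst).sum).natAbs ∣ N →
      (1 + (L.map Prod.snd).sum).natAbs < (1 + (L.map Prod.fst).sum).natAbs →
      1 + (L.map fun x => x.2 ^ 2).sum + (((p - 1) / e : ℕ) : ℤ) * (1 + (L.map Prod.snd).sum) ^ 2 ≤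
        M → False) :
    Odd (Nat.card (centralizer ((P : Subgroup G) : Set G))) := by
  by_contra hev
  rw [Nat.not_odd_iff_even] at hev
  have := Fact.mk Nat.prime_two
  obtain ⟨y, hy⟩ := exists_prime_orderOf_dvd_card' (G := centralizer ((P : Subgroup G) : Set G)) 2
    (even_iff_two_dvd.mp hev)
  have hyo : orderOf (y : G) = 2 := by rw [Subgroup.orderOf_coe, hy]
  have hy2 : (y : G) * y = 1 := by rw [← sq, ← hyo, pow_orderOf_eq_one]
  have hy1 : (y : G) ≠ 1 := fun h1 => by rw [h1, orderOf_one] at hyo; omega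
  obtain ⟨L, hlen, hL, hσ, -, hw, hsum⟩ :=
    exists_block_involution hG hodd P hP he hep y.2 hy2 hy1
  rw [hN] at hL hσ
  exact key L hlen hL hσ hw (hsum.trans (by exact_mod_cast hM _ (centralizer_singleton_ne_top hG hy1)))

/-- A signed degree for which some signed value at an involution is possible. -/
theorem mem_of_signed {N p : ℕ} {a : ℤ × ℤ} {S : List (ℤ × ℤ)}
    (hd : ∀ s ∈ signedCands N p, ∀ v ∈ (List.range (2 * Nat.sqrt N + 1)).map
      (fun i : ℕ => (i : ℤ) - Nat.sqrt N),
      (4 * p : ℤ) ∣ s - v → v.natAbs < s.natAbs → (s, v) ∈ S)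
    (hsmall : ∀ s ∈ signedCands N p, s.natAbs ≤ Nat.sqrt N)
    (ha : a.1 ∈ signedCands N p ∧ (4 * p : ℤ) ∣ a.1 - a.2 ∧ a.2.natAbs < a.1.natAbs) : a ∈ S := by
  obtain ⟨h1, h2, h3⟩ := ha
  refine hd _ h1 a.2 ?_ h2 h3
  have := hsmall _ h1
  rw [List.mem_map]
  exact ⟨(a.2 + Nat.sqrt N).toNat, List.mem_range.mpr (by omega), by omega⟩

theorem pairs_3960 : ∀ s ∈ signedCands 3960 11, ∀ v ∈ (List.range (2 * Nat.sqrt 3960 + 1)).map
    (fun i : ℕ => (i : ℤ) - Nat.sqrt 3960),
    (4 * (11 : ℕ) : ℤ) ∣ s - v → v.natAbs < s.natAbs → (s, v) ∈ [((45 : ℤ), (1 : ℤ)), (45, -43)] := by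
  decide +kernel

theorem pairs_4200 : ∀ s ∈ signedCands 4200 7, ∀ v ∈ (List.range (2 * Nat.sqrt 4200 + 1)).map
    (fun i : ℕ => (i : ℤ) - Nat.sqrt 4200),
    (4 * (7 : ℕ) : ℤ) ∣ s - v → v.natAbs < s.natAbs →
      (s, v) ∈ [((15 : ℤ), (-13 : ℤ)), (-20, 8), (50, -34), (50, -6), (50, 22)] := by
  decide +kernel

theorem pairs_5940 : ∀ s ∈ signedCands 5940 11, ∀ v ∈ (List.range (2 * Nat.sqrt 5940 + 1)).map
    (fun i : ℕ => (i : ℤ) - Nat.sqrt 5940),
    (4 * (11 : ℕ) : ℤ) ∣ s - v → v.natAbs < s.natAbs →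
      (s, v) ∈ [((45 : ℤ), (1 : ℤ)), (45, -43), (-54, -10), (-54, 34)] := by
  decide +kernel

theorem pairs_5460 : ∀ s ∈ signedCands 5460 13, ∀ v ∈ (List.range (2 * Nat.sqrt 5460 + 1)).map
    (fun i : ℕ => (i : ℤ) - Nat.sqrt 5460),
    (4 * (13 : ℕ) : ℤ) ∣ s - v → v.natAbs < s.natAbs → False := by
  decide +kernel

theorem card_ne_3780 (hG : ¬ IsMulCommutative G) : Nat.card G ≠ 3780 := by
  intro hN
  have := Fact.mk Nat.prime_five
  have := Fact.mk (show Nat.Prime 7 by norm_num)
  obtain ⟨x, y, hx, hy, hxy⟩ := mutual_of_options hG hN 5 756 7 540 (by norm_num) (by norm_num)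
    (by norm_num) (by norm_num) (by norm_num) (by norm_num) (by norm_num)
  have key : ∀ x ∈ primeOptions 3780 5 756, ∀ y ∈ primeOptions 3780 7 540,
      ¬ (7 ∣ x.2.2 ↔ 5 ∣ y.2.2) := by decide +kernel
  exact key x hx y hy hxy

theorem card_ne_3960 (hG : ¬ IsMulCommutative G) : Nat.card G ≠ 3960 := by
  intro hN
  have := Fact.mk (show Nat.Prime 11 by norm_num)
  obtain ⟨P, n, e, k, hP, -, hmem, hrel, hk, -, -⟩ :=
    exists_prime_option hG hN 11 360 (by norm_num) (by norm_num) (by norm_num)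
  rw [show primeOptions 3960 11 360 = [(45, 2, 4)] by decide +kernel, List.mem_singleton,
    Prod.mk.injEq, Prod.mk.injEq] at hmem
  obtain ⟨rfl, rfl, rfl⟩ := hmem
  have hodd := odd_of_no_pair hG (by norm_num) hN P hP hrel (by norm_num) (M := 360)
    (fun H hH => by have := card_mul_le hG hN (i₀ := 11) (by decide) hH; omega)
    fun L hlen hL hσ hw _ => by
      obtain ⟨a, rfl⟩ := List.length_eq_one_iff.mp hlen
      have ha := mem_of_signed pairs_3960 (by decide +kernel) (hL a List.mem_cons_self)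
      simp only [List.mem_cons, List.not_mem_nil, or_false] at ha
      rcases ha with rfl | rfl <;> norm_num at hσ
  rw [hk] at hodd
  exact (by decide : ¬ Odd (11 * 4)) hodd

theorem card_ne_5940 (hG : ¬ IsMulCommutative G) : Nat.card G ≠ 5940 := by
  intro hN
  have := Fact.mk (show Nat.Prime 11 by norm_num)
  obtain ⟨P, n, e, k, hP, -, hmem, hrel, hk, -, -⟩ :=
    exists_prime_option hG hN 11 540 (by norm_num) (by norm_num) (by norm_num)
  rw [show primeOptions 5940 11 540 = [(45, 2, 6)] by decide +kernel, List.mem_singleton,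
    Prod.mk.injEq, Prod.mk.injEq] at hmem
  obtain ⟨rfl, rfl, rfl⟩ := hmem
  have hodd := odd_of_no_pair hG (by norm_num) hN P hP hrel (by norm_num) (M := 540)
    (fun H hH => by have := card_mul_le hG hN (i₀ := 11) (by decide) hH; omega)
    fun L hlen hL hσ hw hsum => by
      obtain ⟨a, rfl⟩ := List.length_eq_one_iff.mp hlen
      have ha := mem_of_signed pairs_5940 (by decide +kernel) (hL a List.mem_cons_self)
      simp only [List.mem_cons, List.not_mem_nil, or_false] at ha
      rcases ha with rfl | rfl | rfl | rfl <;> norm_num at hσ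
  rw [hk] at hodd
  exact (by decide : ¬ Odd (11 * 6)) hodd

/-- With `|C(P)| = 2 p`, a full automizer and `n_p = 50` for `p = 7` the central involution fixes
too many cosets. -/
theorem false_of_4200_full (hG : ¬ IsMulCommutative G) (hN : Nat.card G = 4200)
    [Fact (Nat.Prime 7)] (P : Sylow 7 G) (hP : Nat.card (P : Subgroup G) = 7)
    (hn : Nat.card (Sylow 7 G) = 50)
    (hC : Nat.card (centralizer ((P : Subgroup G) : Set G)) = 14) : False := by
  classical
  have := Fact.mk Nat.prime_two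
  have : Fintype G := Fintype.ofFinite G
  have : Fintype (Sylow 7 G) := Fintype.ofFinite _
  set C := centralizer ((P : Subgroup G) : Set G) with hCdef
  obtain ⟨y, hy⟩ := exists_prime_orderOf_dvd_card' (G := C) 2 (by rw [hC]; norm_num)
  have hyo : orderOf (y : G) = 2 := by rw [Subgroup.orderOf_coe, hy]
  have hy1 : (y : G) ≠ 1 := fun h1 => by rw [h1, orderOf_one] at hyo; omega
  set N := normalizer ((P : Subgroup G) : Set G) with hNdef
  have hNc : Nat.card N = 84 := by
    have := card_normalizer_mul P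
    rw [hn, hN] at this
    rw [hNdef]; omega
  obtain ⟨hd7, hPn⟩ := support_of_centralizing P hP y.2
  have hinj := toPermHom_sylow_injective hG (p := 7) (by rw [hN]; norm_num)
  set σ := MulAction.toPermHom G (Sylow 7 G) (y : G) with hσ
  have h4 := involution_fixed_mod_four hG (MulAction.toPermHom G (Sylow 7 G)) (x := (y : G))
    (by rw [← hyo, pow_orderOf_eq_one])
  have hne : σ.support.card ≠ 0 := by
    rw [Ne, Finset.card_eq_zero, Equiv.Perm.support_eq_empty_iff, hσ,
      ← map_one (MulAction.toPermHom G (Sylow 7 G))]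
    exact fun h => hy1 (hinj h)
  have hlt : σ.support.card < 50 := by
    rw [← hn, Nat.card_eq_fintype_card]
    exact Finset.card_lt_univ_of_notMem hPn
  rw [← hσ] at h4
  have h28 : σ.support.card = 28 := by omega
  have hcyc : IsCyclic (P : Subgroup G) := isCyclic_of_prime_card hP
  have hPC : (P : Subgroup G) ≤ C := by
    have := hcyc.isMulCommutative
    exact le_centralizer _
  -- the involution of C(Q)
  have hy_unique : ∀ Q : Sylow 7 G, ∃! z : G, z ∈ centralizer ((Q : Subgroup G) : Set G) ∧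
      orderOf z = 2 := by
    intro Q
    have hQ : Nat.card (Q : Subgroup G) = 7 := by
      rw [Q.card_eq_multiplicity, ← P.card_eq_multiplicity, hP]
    set D := centralizer ((Q : Subgroup G) : Set G) with hD
    have hDc : Nat.card D = 14 := by rw [hD, card_centralizer_sylow_eq Q P, hC]
    obtain ⟨z, hz⟩ := exists_prime_orderOf_dvd_card' (G := D) 2 (by rw [hDc]; norm_num)
    obtain ⟨q, hq⟩ := exists_prime_orderOf_dvd_card' (G := (Q : Subgroup G)) 7 (by rw [hQ])
    have hcomm : ∀ w : D, Commute (⟨(q : G), by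
        have := (isCyclic_of_prime_card hQ).isMulCommutative
        exact le_centralizer _ q.2⟩ : D) w := fun w =>
      Subtype.ext (mem_centralizer_iff.mp w.2 q q.2)
    have hgen : IsCyclic D := by
      refine isCyclic_of_orderOf_eq_card (⟨(q : G), by
        have := (isCyclic_of_prime_card hQ).isMulCommutative
        exact le_centralizer _ q.2⟩ * z) ?_
      rw [(hcomm z).orderOf_mul_eq_mul_orderOf_of_coprime, hz, ← Subgroup.orderOf_coe]
      · show orderOf (q : G) * 2 = _
        rw [Subgroup.orderOf_coe, hq, hDc]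
      · rw [hz, ← Subgroup.orderOf_coe]
        show Nat.Coprime (orderOf (q : G)) 2
        rw [Subgroup.orderOf_coe, hq]; norm_num
    refine ⟨z, ⟨z.2, by rw [Subgroup.orderOf_coe, hz]⟩, fun w ⟨hw, hwo⟩ => ?_⟩
    have := Fintype.ofFinite D
    have hcount := IsCyclic.card_orderOf_eq_totient (α := D) (d := 2)
      (by rw [← Nat.card_eq_fintype_card, hDc]; norm_num)
    rw [Nat.totient_two, Finset.card_eq_one] at hcount
    obtain ⟨a, ha⟩ := hcount
    have h1 : z = a := by
      have : z ∈ (Finset.univ.filter fun g : D => orderOf g = 2) := by simp [hz]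
      rwa [ha, Finset.mem_singleton] at this
    have h2 : (⟨w, hw⟩ : D) = a := by
      have : (⟨w, hw⟩ : D) ∈ (Finset.univ.filter fun g : D => orderOf g = 2) := by
        refine Finset.mem_filter.mpr ⟨Finset.mem_univ _, ?_⟩
        rw [← Subgroup.orderOf_coe]
        exact hwo
      rwa [ha, Finset.mem_singleton] at this
    exact congrArg Subtype.val (h2.trans h1.symm)
  choose t ht htu using hy_unique
  have htP : t P = y := (htu P (y : G) ⟨y.2, hyo⟩).symm
  have hconj : ∀ (g : G) (Q : Sylow 7 G), t (g • Q) = g * t Q * g⁻¹ := by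
    intro g Q
    refine (htu (g • Q) _ ⟨?_, ?_⟩).symm
    · rw [mem_centralizer_iff]
      intro a ha
      change a ∈ ((g • Q : Sylow 7 G) : Subgroup G) at ha
      rw [Sylow.coe_subgroup_smul] at ha
      obtain ⟨b, hb, rfl⟩ := ha
      show g * b * g⁻¹ * (g * t Q * g⁻¹) = g * t Q * g⁻¹ * (g * b * g⁻¹)
      have := mem_centralizer_iff.mp (ht Q).1 b hb
      calc g * b * g⁻¹ * (g * t Q * g⁻¹) = g * (b * t Q) * g⁻¹ := by group
        _ = g * (t Q * b) * g⁻¹ := by rw [this]
        _ = _ := by group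
    · rw [← MulAut.conj_apply, MulEquiv.orderOf_eq]
      exact (ht Q).2
  -- the centralizer of the involution of P is N(P)
  set Cy := centralizer ({(y : G)} : Set G) with hCy
  have hNle : N ≤ Cy := by
    intro g hg
    rw [hCy, mem_centralizer_singleton_iff]
    have h1 := hconj g P
    rw [Sylow.smul_eq_iff_mem_normalizer.mpr hg, htP] at h1
    exact (mul_inv_eq_iff_eq_mul.mp h1.symm)
  have hCyN : Cy = N := by
    refine (eq_of_le_of_card_ge hNle ?_).symm
    have hle := card_mul_le hG hN (i₀ := 10) (by decide) (centralizer_singleton_ne_top hG hy1)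
    rw [← hCy] at hle
    obtain ⟨j, hj⟩ := hNc ▸ card_dvd_of_le hNle
    have hj2 : Nat.card Cy ∣ 4200 := hN ▸ card_subgroup_dvd_card Cy
    rw [hj] at hle hj2
    have hPy : (P : Subgroup G) ≤ Cy := le_normalizer.trans hNle
    have hmul := card_normalizer_mul (P.subtype hPy)
    have e1 : normalizer (((P.subtype hPy : Sylow 7 Cy) : Subgroup Cy) : Set Cy) =
        N.subgroupOf Cy := (subgroupOf_normalizer_eq hPy).symm
    rw [e1, Nat.card_congr (subgroupOfEquivOfLe hNle).toEquiv, hNc, hj] at hmul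
    have hmod : Nat.card (Sylow 7 Cy) % 7 = 1 :=
      Eq.trans (card_sylow_modEq_one 7 Cy) (Nat.mod_eq_of_lt (by norm_num))
    have hnj : Nat.card (Sylow 7 Cy) = j := by omega
    rw [hnj] at hmod
    have : j ≤ 5 := by omega
    rw [hNc, hj]
    omega
  have hinjt : Function.Injective t := by
    intro Q Q' hQQ
    obtain ⟨g, rfl⟩ := MulAction.exists_smul_eq G P Q
    obtain ⟨g', rfl⟩ := MulAction.exists_smul_eq G P Q'
    rw [hconj, hconj, htP] at hQQ
    have hmem : g'⁻¹ * g ∈ Cy := by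
      rw [hCy, mem_centralizer_singleton_iff]
      calc g'⁻¹ * g * (y : G) = g'⁻¹ * (g * (y : G) * g⁻¹) * g := by group
        _ = g'⁻¹ * (g' * (y : G) * g'⁻¹) * g := by rw [hQQ]
        _ = _ := by group
    rw [hCyN] at hmem
    have h1 := Sylow.smul_eq_iff_mem_normalizer.mpr hmem
    rw [mul_smul, inv_smul_eq_iff] at h1
    exact h1
  -- 22 involutions of N(P)
  set F := σ.supportᶜ with hF
  have hFc : F.card = 22 := by
    rw [hF, Finset.card_compl, ← Nat.card_eq_fintype_card, hn, h28]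
  obtain ⟨x, hx⟩ := hcyc.exists_generator
  have hxo : orderOf (x : G) = 7 := by
    rw [Subgroup.orderOf_coe, orderOf_eq_card_of_forall_mem_zpowers hx, hP]
  have hgen : (P : Subgroup G) = zpowers (x : G) :=
    (eq_of_le_of_card_ge (zpowers_le.mpr x.2) (by rw [Nat.card_zpowers, hxo, hP])).symm
  set I := (Finset.univ : Finset G).filter fun z => z ∈ N ∧ orderOf z = 2 with hI
  have hle22 : 22 ≤ I.card := by
    rw [← hFc]
    refine Finset.card_le_card_of_injOn t ?_ fun a _ b _ h => hinjt h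
    intro Q hQ
    have hfix : (y : G) • Q = Q :=
      Equiv.Perm.notMem_support.mp (Finset.mem_compl.mp (Finset.mem_coe.mp hQ))
    refine Finset.mem_coe.mpr (Finset.mem_filter.mpr ⟨Finset.mem_univ _, ?_, (ht Q).2⟩)
    rw [← hCyN, hCy, mem_centralizer_singleton_iff]
    have h1 := hconj (y : G) Q
    rw [hfix] at h1
    exact (mul_inv_eq_iff_eq_mul.mp h1.symm).symm
  -- an involution of N centralizes or inverts P
  have hsplit : ∀ z ∈ I, z ∈ C ∨ z * (x : G) * z⁻¹ = (x : G)⁻¹ := by
    intro z hz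
    obtain ⟨-, hzN, hzo⟩ := Finset.mem_filter.mp hz
    obtain ⟨i, hi⟩ := hgen.le ((hzN (x : G)).mp x.2)
    change (x : G) ^ i = z * x * z⁻¹ at hi
    have hzz : z * z = 1 := by rw [← sq, ← hzo, pow_orderOf_eq_one]
    have hzinv : z⁻¹ = z := inv_eq_of_mul_eq_one_left hzz
    have hi2 : (x : G) ^ (i * i) = x := by
      rw [zpow_mul, hi, conj_zpow, hi, hzinv]
      simp [mul_assoc, hzz, ← mul_assoc z z]
    have h7 : (7 : ℤ) ∣ (i - 1) * (i + 1) := by
      rw [show (i - 1) * (i + 1) = i * i - 1 by ring, show (7 : ℤ) = ((orderOf (x : G) : ℕ) : ℤ) by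
        rw [hxo]; rfl, orderOf_dvd_iff_zpow_eq_one, zpow_sub, zpow_one, hi2, mul_inv_cancel]
    rcases (Int.prime_iff_natAbs_prime.mpr (by norm_num : Nat.Prime (7 : ℤ).natAbs)).dvd_or_dvd h7
      with h1 | h1
    · left
      have h2 : (x : G) ^ (i - 1) = 1 := by
        rw [← orderOf_dvd_iff_zpow_eq_one, hxo]; exact_mod_cast h1
      rw [zpow_sub, zpow_one, mul_inv_eq_one, hi] at h2
      rw [hCdef, mem_centralizer_iff]
      intro a ha
      obtain ⟨b, rfl⟩ := hgen.le ha
      exact ((Commute.zpow_right (mul_inv_eq_iff_eq_mul.mp h2 : Commute z x) b).eq).symm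
    · right
      have h2 : (x : G) ^ (i + 1) = 1 := by
        rw [← orderOf_dvd_iff_zpow_eq_one, hxo]; exact_mod_cast h1
      rw [← hi]
      rw [zpow_add, zpow_one] at h2
      exact eq_inv_of_mul_eq_one_left h2
  have hA : (I.filter (· ∈ C)).card ≤ 1 := by
    rw [Finset.card_le_one]
    intro a ha b hb
    obtain ⟨ha, haC⟩ := Finset.mem_filter.mp ha
    obtain ⟨hb, hbC⟩ := Finset.mem_filter.mp hb
    rw [htu P a ⟨haC, (Finset.mem_filter.mp ha).2.2⟩, htu P b ⟨hbC, (Finset.mem_filter.mp hb).2.2⟩]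
  have hB : (I.filter (· ∉ C)).card ≤ 14 := by
    rcases (I.filter (· ∉ C)).eq_empty_or_nonempty with h0 | ⟨a, ha⟩
    · rw [h0]; simp
    have hCf : ((Finset.univ : Finset G).filter (· ∈ C)).card = 14 := by
      rw [← Fintype.card_subtype, ← Nat.card_eq_fintype_card]; exact hC
    rw [← hCf]
    refine Finset.card_le_card_of_injOn (fun b => a⁻¹ * b) ?_ fun b _ c _ h => mul_left_cancel h
    intro b hb
    obtain ⟨ha, haC⟩ := Finset.mem_filter.mp ha
    obtain ⟨hb, hbC⟩ := Finset.mem_filter.mp (Finset.mem_coe.mp hb)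
    have h1 := (hsplit a ha).resolve_left haC
    have h2 := (hsplit b hb).resolve_left hbC
    refine Finset.mem_coe.mpr (Finset.mem_filter.mpr ⟨Finset.mem_univ _, ?_⟩)
    have h3 : a⁻¹ * b * (x : G) * (a⁻¹ * b)⁻¹ = x := by
      calc a⁻¹ * b * (x : G) * (a⁻¹ * b)⁻¹ = a⁻¹ * (b * (x : G) * b⁻¹) * a := by group
        _ = a⁻¹ * (a * (x : G) * a⁻¹) * a := by rw [h2, h1]
        _ = x := by group
    rw [hCdef, mem_centralizer_iff]
    intro c hc
    obtain ⟨k, rfl⟩ := hgen.le hc
    exact ((Commute.zpow_right (mul_inv_eq_iff_eq_mul.mp h3 : Commute (a⁻¹ * b) x) k).eq).symm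
  have := Finset.card_filter_add_card_filter_not (s := I) (· ∈ C)
  omega

theorem card_ne_4200 (hG : ¬ IsMulCommutative G) : Nat.card G ≠ 4200 := by
  intro hN
  have := Fact.mk (show Nat.Prime 7 by norm_num)
  obtain ⟨P, n, e, k, hP, hn, hmem, hrel, hk, -, -⟩ :=
    exists_prime_option hG hN 7 600 (by norm_num) (by norm_num) (by norm_num)
  rw [show primeOptions 4200 7 600 = [(50, 2, 6), (50, 3, 4), (50, 6, 2)] by decide +kernel] at hmem
  simp only [List.mem_cons, List.not_mem_nil, or_false, Prod.mk.injEq] at hmem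
  have hM : ∀ H : Subgroup G, H ≠ ⊤ → Nat.card H ≤ 420 := fun H hH => by
    have := card_mul_le hG hN (i₀ := 10) (by decide) hH; omega
  rcases hmem with ⟨rfl, rfl, rfl⟩ | ⟨rfl, rfl, rfl⟩ | ⟨rfl, rfl, rfl⟩
  · have hodd := odd_of_no_pair hG (by norm_num) hN P hP hrel (by norm_num) hM
      fun L hlen hL hσ hw hsum => by
        obtain ⟨a, rfl⟩ := List.length_eq_one_iff.mp hlen
        have ha := mem_of_signed pairs_4200 (by decide +kernel) (hL a List.mem_cons_self)
        simp only [List.mem_cons, List.not_mem_nil, or_false] at ha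
        rcases ha with rfl | rfl | rfl | rfl | rfl <;> first | (norm_num at hσ; done) | (norm_num at hw; done) | (norm_num at hsum; done)
    rw [hk] at hodd
    exact (by decide : ¬ Odd (7 * 6)) hodd
  · have hodd := odd_of_no_pair hG (by norm_num) hN P hP hrel (by norm_num) hM
      fun L hlen hL hσ hw hsum => by
        obtain ⟨a, b, rfl⟩ := List.length_eq_two.mp hlen
        have ha := mem_of_signed pairs_4200 (by decide +kernel) (hL a (by simp))
        have hb := mem_of_signed pairs_4200 (by decide +kernel) (hL b (by simp))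
        simp only [List.mem_cons, List.not_mem_nil, or_false] at ha hb
        rcases ha with rfl | rfl | rfl | rfl | rfl <;>
          rcases hb with rfl | rfl | rfl | rfl | rfl <;> first | (norm_num at hσ; done) | (norm_num at hw; done) | (norm_num at hsum; done)
    rw [hk] at hodd
    exact (by decide : ¬ Odd (7 * 4)) hodd
  · exact false_of_4200_full hG hN P hP hn hk

theorem card_ne_4212 (hG : ¬ IsMulCommutative G) : Nat.card G ≠ 4212 := by
  classical
  intro hN
  have := Fact.mk (show Nat.Prime 13 by norm_num)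
  have := Fact.mk Nat.prime_three
  obtain ⟨P, e, hP, -, he1, he, hen, hmod, -⟩ := exists_index_three_prime (p := 13) (a := 2) (b := 4)
    hG Nat.prime_two Nat.prime_three (by norm_num) (by norm_num) (by rw [hN]; norm_num)
  have hd : Nat.card (Sylow 13 G) ∈ Nat.divisors 324 :=
    Nat.mem_divisors.mpr ⟨Dvd.intro_left e (by simpa using hen), by norm_num⟩
  have key : ∀ d ∈ Nat.divisors 324, d % 13 = 1 → ∀ e ∈ Finset.range 13, e ∣ 12 → 1 < e →
      e * d = 324 → d = 27 ∧ e = 12 := by decide +kernel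
  obtain ⟨hn, rfl⟩ := key _ hd hmod e
    (Finset.mem_range.mpr (by have := Nat.le_of_dvd (by norm_num) he; omega)) he he1
    (by simpa using hen)
  -- a subgroup of index 13
  obtain ⟨H, hH⟩ : ∃ H : Subgroup G, H.index = 13 := by
    obtain ⟨S⟩ : Nonempty (Sylow 3 G) := inferInstance
    have h : Nat.card G = 3 ^ 4 * 52 := by rw [hN]; norm_num
    have hd3 : 3 ∣ Nat.card G := by rw [hN]; norm_num
    by_cases hm9 : Nat.card (Sylow 3 G) % 3 ^ 2 = 1
    · refine ⟨normalizer ((S : Subgroup G) : Set G), ?_⟩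
      rw [← card_sylow_eq_index]
      have hmem : Nat.card (Sylow 3 G) ∈ Nat.divisors 52 :=
        Nat.mem_divisors.mpr ⟨card_sylow_dvd 4 52 h (by norm_num), by norm_num⟩
      have key : ∀ d ∈ Nat.divisors 52, 1 < d → d % 3 ^ 2 = 1 →
          (d < 16 → 2 * 4212 ∣ d !) → d = 13 := by decide +kernel
      exact key _ hmem (one_lt_card_sylow hG hd3) hm9
        fun _ => hN ▸ two_mul_card_dvd_factorial_sylow hG hd3
    · obtain ⟨H, hH, d, hd1, hdm, hdiv⟩ := exists_subgroup_of_inter hG (by norm_num) h (by norm_num) hm9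
      refine ⟨H, ?_⟩
      have key : ∀ i ∈ Nat.divisors 52, (i < 16 → 2 * 4212 ∣ i !) → ∀ d ∈ Nat.divisors 52,
          1 < d → d % 3 = 1 → i * d ∣ 52 → i = 13 := by decide +kernel
      exact key _ (Nat.mem_divisors.mpr ⟨(dvd_mul_right _ _).trans hdiv, by norm_num⟩)
        (fun _ => hN ▸ two_mul_card_dvd_factorial hG hH) d
        (Nat.mem_divisors.mpr ⟨(dvd_mul_left _ _).trans hdiv, by norm_num⟩) hd1 hdm hdiv
  -- the automizer of a Sylow 13-subgroup is too big for the alternating group of degree 13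
  obtain ⟨f, hf⟩ := exists_embedding_alternating hG H fun h => by rw [h, index_top] at hH; omega
  set α := Fin H.index
  set Q := ((P : Subgroup G).map f).map (alternatingGroup α).subtype with hQdef
  have hQc : Nat.card Q = 13 ^ 1 := by
    rw [hQdef, card_map_of_injective (alternatingGroup α).subtype_injective,
      card_map_of_injective hf, hP, pow_one]
  have hSc : Nat.card (Equiv.Perm α) = 13 ! := by rw [Nat.card_perm, Nat.card_fin, hH]
  have hQi : ¬ 13 ∣ Q.index := by
    intro hd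
    have h2 : 13 ^ 2 ∣ 13 ! := by
      rw [← hSc, ← card_mul_index Q, hQc, pow_one, sq]
      exact Nat.mul_dvd_mul_left _ hd
    revert h2; decide
  let Q' : Sylow 13 (Equiv.Perm α) := (IsPGroup.of_card hQc).toSylow hQi
  obtain ⟨-, h2⟩ := Agent.S0990.result (α := α) (by rw [Fintype.card_fin, hH]; norm_num) 13
    (by norm_num) Q'
  rw [Agent.S0989.result (α := α) 13 (Or.inl (by rw [Fintype.card_fin, hH])) Q'] at h2
  have hNle : (normalizer ((P : Subgroup G) : Set G)).map f ≤
      normalizer ((((Q' : Subgroup (Equiv.Perm α)).subgroupOf (alternatingGroup α) :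
        Subgroup (alternatingGroup α))) : Set (alternatingGroup α)) := by
    have hQ' : (Q' : Subgroup (Equiv.Perm α)).subgroupOf (alternatingGroup α) =
        (P : Subgroup G).map f := by
      show Q.subgroupOf _ = _
      rw [hQdef, subgroupOf, comap_map_eq_self_of_injective (alternatingGroup α).subtype_injective]
    rw [hQ']
    exact le_normalizer_map f
  have h3 := card_dvd_of_le hNle
  rw [card_map_of_injective hf] at h3
  have hmul := card_normalizer_mul P
  rw [hn, hN] at hmul
  have h5 := (Nat.mul_dvd_mul_left 2 h3).trans (dvd_of_eq h2)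
  have := Nat.le_of_dvd (by norm_num) h5
  omega

theorem card_ne_5148 (hG : ¬ IsMulCommutative G) : Nat.card G ≠ 5148 := by
  intro hN
  have := Fact.mk (show Nat.Prime 11 by norm_num)
  have := Fact.mk Nat.prime_three
  obtain ⟨P, n, e, k, hP, -, hmem, -, hk, hNk, -⟩ :=
    exists_prime_option hG hN 11 468 (by norm_num) (by norm_num) (by norm_num)
  rw [show primeOptions 5148 11 468 = [(78, 2, 3)] by decide +kernel, List.mem_singleton,
    Prod.mk.injEq, Prod.mk.injEq] at hmem
  obtain ⟨rfl, rfl, rfl⟩ := hmem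
  obtain ⟨y, hy⟩ := exists_prime_orderOf_dvd_card'
    (G := centralizer ((P : Subgroup G) : Set G)) 3 (by rw [hk]; norm_num)
  have hyo : orderOf (y : G) = 3 := by rw [Subgroup.orderOf_coe, hy]
  have hy1 : (y : G) ≠ 1 := fun h1 => by rw [h1, orderOf_one] at hyo; omega
  set H := centralizer ({(y : G)} : Set G) with hH
  have hbound := card_mul_le hG hN (i₀ := 13) (by decide) (centralizer_singleton_ne_top hG hy1)
  rw [← hH] at hbound
  have hPH : (P : Subgroup G) ≤ H := fun x hx => by
    rw [hH, mem_centralizer_singleton_iff]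
    exact mem_centralizer_iff.mp y.2 x hx
  have h9 : 9 ∣ Nat.card H := by
    obtain ⟨S, hS⟩ := (IsPGroup.of_card (p := 3) (n := 1)
      (by rw [Nat.card_zpowers, hyo, pow_one] : Nat.card (zpowers (y : G)) = 3 ^ 1)).exists_le_sylow
    have hScard : Nat.card (S : Subgroup G) = 3 ^ 2 := card_sylow_eq (p := 3) 2 572 (by omega) (by norm_num) S
    have hc := IsPGroup.isMulCommutative_of_card_eq_prime_sq hScard
    have hle : (S : Subgroup G) ≤ H := fun x hx => by
      rw [hH, mem_centralizer_singleton_iff]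
      exact congrArg Subtype.val (hc.is_comm.comm ⟨x, hx⟩ ⟨y, hS (mem_zpowers _)⟩)
    have := card_dvd_of_le hle
    rw [hScard] at this
    exact this
  have h99 : 99 ∣ Nat.card H :=
    Nat.Coprime.mul_dvd_of_dvd_of_dvd (by norm_num : Nat.Coprime 9 11) h9 (hP ▸ card_dvd_of_le hPH)
  have hi := card_mul_index H
  rw [hN] at hi
  have hne13 := index_centralizer_ne_prime_pow hG hy1 13 1 (by norm_num)
  rw [← hH, pow_one] at hne13
  have hd : Nat.card H ∣ 5148 := ⟨H.index, hi.symm⟩
  -- the Sylow 11-subgroups of H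
  have hmul := card_normalizer_mul (P.subtype hPH)
  have e1 : normalizer (((P.subtype hPH : Sylow 11 H) : Subgroup H) : Set H) =
      (normalizer ((P : Subgroup G) : Set G)).subgroupOf H := (subgroupOf_normalizer_eq hPH).symm
  rw [e1] at hmul
  have hNH : Nat.card ((normalizer ((P : Subgroup G) : Set G)).subgroupOf H) ∣ 66 := by
    rw [← inf_subgroupOf_right, Nat.card_congr (subgroupOfEquivOfLe inf_le_right).toEquiv]
    exact (card_dvd_of_le inf_le_left).trans (dvd_of_eq hNk)
  have hmod : Nat.card (Sylow 11 H) % 11 = 1 :=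
    Eq.trans (card_sylow_modEq_one 11 H) (Nat.mod_eq_of_lt (by norm_num))
  have hle : Nat.card ((normalizer ((P : Subgroup G) : Set G)).subgroupOf H) ≤ 66 :=
    Nat.le_of_dvd (by norm_num) hNH
  obtain ⟨j, hj⟩ := h99
  rw [hj] at hbound hi hmul hd
  set a := Nat.card ((normalizer ((P : Subgroup G) : Set G)).subgroupOf H)
  set b := Nat.card (Sylow 11 H)
  have hj4 : j ≤ 4 := by omega
  interval_cases j
  · omega
  all_goals
    have hb : b ∣ Nat.card H := Sylow.card_dvd_index (P.subtype hPH) |>.trans (index_dvd_card _)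
    rw [hj] at hb
    have hbl := Nat.le_of_dvd (by norm_num) hb
    interval_cases a <;> omega

theorem card_ne_inter (hG : ¬ IsMulCommutative G) {N p a m : ℕ} [Fact p.Prime] (ha : 2 ≤ a)
    (hN : Nat.card G = N) (hNm : N = p ^ a * m) (hm : ¬ p ∣ m)
    (key1 : ∀ d ∈ Nat.divisors m, 1 < d → d % p = 1 → (d < 16 → 2 * N ∣ d !) → d % p ^ 2 ≠ 1)
    (key2 : ∀ i ∈ Nat.divisors m, (i < 16 → 2 * N ∣ i !) → ∀ d ∈ Nat.divisors m,
      1 < d → d % p = 1 → ¬ i * d ∣ m) : False := by
  have hp : p.Prime := Fact.out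
  have h : Nat.card G = p ^ a * m := hN.trans hNm
  have hm0 : m ≠ 0 := fun h0 => hm (h0 ▸ dvd_zero p)
  have hdvd : p ∣ Nat.card G := by rw [h]; exact (dvd_pow_self p (by omega)).mul_right m
  have hn := key1 _ (Nat.mem_divisors.mpr ⟨card_sylow_dvd a m h hm, hm0⟩)
    (one_lt_card_sylow hG hdvd)
    (Eq.trans (card_sylow_modEq_one p G) (Nat.mod_eq_of_lt hp.one_lt))
    fun _ => hN ▸ two_mul_card_dvd_factorial_sylow hG hdvd
  obtain ⟨H, hH, d, hd1, hdm, hdiv⟩ := exists_subgroup_of_inter hG ha h hm hn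
  exact key2 _ (Nat.mem_divisors.mpr ⟨(dvd_mul_right _ _).trans hdiv, hm0⟩)
    (fun _ => hN ▸ two_mul_card_dvd_factorial hG hH) d
    (Nat.mem_divisors.mpr ⟨(dvd_mul_left _ _).trans hdiv, hm0⟩) hd1 hdm hdiv

theorem card_ne_4900 (hG : ¬ IsMulCommutative G) : Nat.card G ≠ 4900 := by
  intro hN
  have := Fact.mk Nat.prime_five
  obtain ⟨P⟩ : Nonempty (Sylow 5 G) := inferInstance
  have h : Nat.card G = 5 ^ 2 * 196 := by rw [hN]; norm_num
  have hPc := card_sylow_eq 2 196 h (by norm_num) P
  have hd : 5 ∣ Nat.card G := by rw [hN]; norm_num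
  have key : ∀ d ∈ Nat.divisors 196, 1 < d → d % 5 = 1 → (d < 16 → 2 * 4900 ∣ d !) → d = 196 := by
    decide +kernel
  have h196 := key _ (Nat.mem_divisors.2 ⟨card_sylow_dvd 2 196 h (by norm_num), by norm_num⟩)
    (one_lt_card_sylow hG hd) (Eq.trans (card_sylow_modEq_one 5 G) (Nat.mod_eq_of_lt (by norm_num)))
    fun _ => hN ▸ two_mul_card_dvd_factorial_sylow hG hd
  have hidx := card_normalizer_mul P
  rw [h196, hN] at hidx
  have heq : (P : Subgroup G) = normalizer ((P : Subgroup G) : Set G) :=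
    eq_of_le_of_card_ge le_normalizer (by rw [hPc]; omega)
  refine not_normalizer_le_centralizer hG hd P ?_
  have := IsPGroup.isMulCommutative_of_card_eq_prime_sq hPc
  rw [← heq]
  exact le_centralizer _

theorem card_ne_4800 (hG : ¬ IsMulCommutative G) : Nat.card G ≠ 4800 := by
  intro hN
  have := Fact.mk Nat.prime_five
  have h : Nat.card G = 5 ^ 2 * 192 := by rw [hN]; norm_num
  have hd5 : 5 ∣ Nat.card G := by rw [hN]; norm_num
  have key0 : ∀ d ∈ Nat.divisors 192, 1 < d → d % 5 = 1 → (d < 16 → 2 * 4800 ∣ d !) →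
      d % 5 ^ 2 ≠ 1 := by decide +kernel
  obtain ⟨x, hxo, hd1, hdm, hdiv⟩ := exists_centralizer_of_inter h (by norm_num)
    (key0 _ (Nat.mem_divisors.2 ⟨card_sylow_dvd 2 192 h (by norm_num), by norm_num⟩)
      (one_lt_card_sylow hG hd5)
      (Eq.trans (card_sylow_modEq_one 5 G) (Nat.mod_eq_of_lt (by norm_num)))
      fun _ => hN ▸ two_mul_card_dvd_factorial_sylow hG hd5)
  have hx1 : x ≠ 1 := fun h1 => by rw [h1, orderOf_one] at hxo; omega
  set C := centralizer ({x} : Set G) with hC
  have key : ∀ i ∈ Nat.divisors 192, (i < 16 → 2 * 4800 ∣ i !) → ∀ d ∈ Nat.divisors 192,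
      1 < d → d % 5 = 1 → i * d ∣ 192 → i = 12 ∨ i = 2 ^ 4 ∨ i = 2 ^ 5 := by decide +kernel
  rcases key _ (Nat.mem_divisors.mpr ⟨(dvd_mul_right _ _).trans hdiv, by norm_num⟩)
    (fun _ => hN ▸ two_mul_card_dvd_factorial hG (centralizer_singleton_ne_top hG hx1)) _
    (Nat.mem_divisors.mpr ⟨(dvd_mul_left _ _).trans hdiv, by norm_num⟩) hd1 hdm hdiv with h' | h' | h'
  · exact index_ne_of_full_sylow hG (p := 5) (a := 2) (by rw [hN]; norm_num) (by decide)
      (by norm_num) (by rw [hN]; decide +kernel) (by rw [hN]; decide) C h'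
  · exact index_centralizer_ne_prime_pow hG hx1 2 4 Nat.prime_two h'
  · exact index_centralizer_ne_prime_pow hG hx1 2 5 Nat.prime_two h'

theorem card_ne_5880 (hG : ¬ IsMulCommutative G) : Nat.card G ≠ 5880 := by
  intro hN
  have := Fact.mk (show Nat.Prime 7 by norm_num)
  have h : Nat.card G = 7 ^ 2 * 120 := by rw [hN]; norm_num
  have hd7 : 7 ∣ Nat.card G := by rw [hN]; norm_num
  have key0 : ∀ d ∈ Nat.divisors 120, 1 < d → d % 7 = 1 → (d < 16 → 2 * 5880 ∣ d !) →
      d % 7 ^ 2 ≠ 1 := by decide +kernel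
  obtain ⟨H, hH, d, hd1, hdm, hdiv⟩ := exists_subgroup_of_inter hG le_rfl h (by norm_num)
    (key0 _ (Nat.mem_divisors.2 ⟨card_sylow_dvd 2 120 h (by norm_num), by norm_num⟩)
      (one_lt_card_sylow hG hd7)
      (Eq.trans (card_sylow_modEq_one 7 G) (Nat.mod_eq_of_lt (by norm_num)))
      fun _ => hN ▸ two_mul_card_dvd_factorial_sylow hG hd7)
  have key : ∀ i ∈ Nat.divisors 120, (i < 16 → 2 * 5880 ∣ i !) → ∀ d ∈ Nat.divisors 120,
      1 < d → d % 7 = 1 → i * d ∣ 120 → i = 15 := by decide +kernel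
  exact index_ne_of_full_sylow hG (p := 7) (a := 2) (by rw [hN]; norm_num) (by decide)
    (by norm_num) (by rw [hN]; decide +kernel) (by rw [hN]; decide) H
    (key _ (Nat.mem_divisors.mpr ⟨(dvd_mul_right _ _).trans hdiv, by norm_num⟩)
      (fun _ => hN ▸ two_mul_card_dvd_factorial hG hH) d
      (Nat.mem_divisors.mpr ⟨(dvd_mul_left _ _).trans hdiv, by norm_num⟩) hd1 hdm hdiv)

theorem cands_4620 : ∀ s ∈ signedCands 4620 11, (1 + s).natAbs ∣ 4620 →
    (1 + s).natAbs ^ 2 < 4620 → (1 + s).natAbs = 20 := by decide +kernel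

theorem card_ne_4620 (hG : ¬ IsMulCommutative G) : Nat.card G ≠ 4620 := by
  classical
  intro hN
  have := Fact.mk (show Nat.Prime 11 by norm_num)
  have := Fact.mk (show Nat.Prime 7 by norm_num)
  obtain ⟨P, n, e, k, hP, -, hmem, hrel, -, -, -⟩ :=
    exists_prime_option hG hN 11 420 (by norm_num) (by norm_num) (by norm_num)
  rw [show primeOptions 4620 11 420 = [(210, 2, 1)] by decide +kernel, List.mem_singleton,
    Prod.mk.injEq, Prod.mk.injEq] at hmem
  obtain ⟨rfl, rfl, rfl⟩ := hmem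
  obtain ⟨R, n', e', k', hR, -, hmem', -, hkR, hNR, -⟩ :=
    exists_prime_option hG hN 7 660 (by norm_num) (by norm_num) (by norm_num)
  rw [show primeOptions 4620 7 660 = [(330, 2, 1)] by decide +kernel, List.mem_singleton,
    Prod.mk.injEq, Prod.mk.injEq] at hmem'
  obtain ⟨rfl, rfl, rfl⟩ := hmem'
  obtain ⟨L, hlen, hL, hd, hsq, S, hS, hdeg⟩ :=
    exists_degree_witness hG (by norm_num) P hP hrel (by norm_num)
  obtain ⟨a, rfl⟩ := List.length_eq_one_iff.mp hlen
  simp only [List.sum_cons, List.sum_nil, add_zero] at hd hsq hdeg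
  rw [hN] at hL hd hsq
  have h20 := cands_4620 a (hL a List.mem_cons_self).1 hd hsq
  obtain ⟨B, hprin, hB, -, hres⟩ := degree_residue_of_selfCentral R hR (by rw [hN]; norm_num)
    (by omega) (by omega) le_rfl (by norm_num)
  have hmemB : ∀ θ ∈ S, θ ∈ B.erase (principal G) := by
    intro θ hθ
    obtain ⟨hne, hd20⟩ := hdeg θ hθ
    rw [h20] at hd20
    refine Finset.mem_erase.mpr ⟨hne, ?_⟩
    rcases hres θ (by rw [hd20]; norm_num) with h | h | h
    · exact h
    · rw [hd20] at h; norm_num at h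
    · rw [hd20] at h; norm_num at h
  have h1 := Finset.card_le_card (fun θ hθ => hmemB θ hθ : S ⊆ B.erase (principal G))
  rw [Finset.card_erase_of_mem hprin, hB, hS] at h1
  norm_num at h1

theorem cands_5460 : ∀ a ∈ signedCands 5460 13, ∀ b ∈ signedCands 5460 13,
    ∀ c ∈ signedCands 5460 13, (1 + (a + (b + (c + 0)))).natAbs ∣ 5460 →
      (1 + (a + (b + (c + 0)))).natAbs ^ 2 < 5460 → a.natAbs = 12 := by decide +kernel

theorem card_ne_5460 (hG : ¬ IsMulCommutative G) : Nat.card G ≠ 5460 := by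
  classical
  intro hN
  have := Fact.mk (show Nat.Prime 13 by norm_num)
  have := Fact.mk (show Nat.Prime 7 by norm_num)
  have := Fact.mk Nat.prime_five
  obtain ⟨P, n, e, k, hP, -, hmem, hrel, hk, -, -⟩ :=
    exists_prime_option hG hN 13 420 (by norm_num) (by norm_num) (by norm_num)
  rw [show primeOptions 5460 13 420 = [(105, 2, 2), (105, 4, 1)] by decide +kernel] at hmem
  simp only [List.mem_cons, List.not_mem_nil, or_false, Prod.mk.injEq] at hmem
  rcases hmem with ⟨rfl, rfl, rfl⟩ | ⟨rfl, rfl, rfl⟩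
  · have hodd := odd_of_no_pair hG (by norm_num) hN P hP hrel (by norm_num) (M := 420)
      (fun H hH => by have := card_mul_le hG hN (i₀ := 13) (by decide) hH; omega)
      fun L hlen hL hσ hw hsum => by
        obtain ⟨a, rfl⟩ := List.length_eq_one_iff.mp hlen
        have ha := mem_of_signed (S := []) (fun s hs v hv h1 h2 => (pairs_5460 s hs v hv h1 h2).elim)
          (by decide +kernel) (hL a List.mem_cons_self)
        exact List.not_mem_nil ha
    rw [hk] at hodd
    exact (by decide : ¬ Odd (13 * 2)) hodd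
  obtain ⟨L, hlen, hL, hd, hsq, -⟩ := exists_degree_witness hG (by norm_num) P hP hrel (by norm_num)
  obtain ⟨a, b, c, rfl⟩ := List.length_eq_three.mp hlen
  simp only [List.sum_cons, List.sum_nil] at hd hsq
  rw [hN] at hL hd hsq
  have h12 := cands_5460 a (hL a (by simp)).1 b (hL b (by simp)).1 c (hL c (by simp)).1 hd hsq
  obtain ⟨χ, hχ⟩ := (hL a (by simp)).2
  rw [h12] at hχ
  -- the Sylow 7-subgroup
  obtain ⟨R, n', e', k', hR, -, hmem', -, hkR, hNR, -⟩ :=
    exists_prime_option hG hN 7 780 (by norm_num) (by norm_num) (by norm_num)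
  rw [show primeOptions 5460 7 780 = [(78, 2, 5), (260, 3, 1)] by decide +kernel] at hmem'
  simp only [List.mem_cons, List.not_mem_nil, or_false, Prod.mk.injEq] at hmem'
  rcases hmem' with ⟨rfl, rfl, rfl⟩ | ⟨rfl, rfl, rfl⟩
  · obtain ⟨Q, n'', e'', k'', hQ, -, hmem'', -, hkQ, -, -⟩ :=
      exists_prime_option hG hN 5 1092 (by norm_num) (by norm_num) (by norm_num)
    have h := dvd_centralizer_symm R hR Q hQ (by rw [hkR]; norm_num)
    rw [hkQ] at h
    have key : ∀ x ∈ primeOptions 5460 5 1092, ¬ 7 ∣ 5 * x.2.2 := by decide +kernel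
    exact key _ hmem'' h
  · obtain ⟨B, -, -, hBd, hres⟩ := degree_residue_of_selfCentral R hR (by rw [hN]; norm_num)
      (by omega) (by omega) (by norm_num) (by norm_num)
    rcases hres χ (by rw [hχ]; norm_num) with h | h | h
    · rcases hBd χ h with h' | h' <;> rw [hχ] at h' <;> norm_num at h'
    · rw [hχ] at h; norm_num at h
    · rw [hχ] at h; norm_num at h

end CfsgLib.Small
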