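import Cfsg.Agent.Lib.Small.InvolutionCongr
import Cfsg.Agent.Lib.Small.Count

/-!
# Tools for excluding simple groups of a given small order
-/

set_option autoImplicit false
set_option linter.unusedSectionVars false

open Subgroup
open scoped Nat

namespace CfsgLib.Small

variable {G : Type*} [Group G] [Finite G] [IsSimpleGroup G]

/-- A proper subgroup has index above eight once the order does not divide half of `7!` and is too
large for a subgroup of index eight. -/
theorem eight_lt_index (hG : ¬ IsMulCommutative G) (h7 : ¬ 2 * Nat.card G ∣ 7 !)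
    (h8 : 20160 < 5 * Nat.card G) (h8' : Nat.card G ≠ 20160) {H : Subgroup G} (hH : H ≠ ⊤) :
    8 < H.index := by
  by_contra hle
  rcases (not_lt.mp hle).lt_or_eq with h | h
  · exact h7 ((two_mul_card_dvd_factorial hG hH).trans (Nat.factorial_dvd_factorial (by omega)))
  · obtain ⟨f, hf⟩ := exists_embedding_alternating hG H hH
    have hA : Nat.card (alternatingGroup (Fin H.index)) = 20160 := by
      have : Nontrivial (Fin H.index) := Fin.nontrivial_iff_two_le.mpr (by omega)
      have h2 := two_mul_nat_card_alternatingGroup (α := Fin H.index)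
      rw [Nat.card_perm, Nat.card_fin, h, show (8 : ℕ) ! = 40320 by decide] at h2
      rw [h]
      omega
    have : IsSimpleGroup (alternatingGroup (Fin H.index)) :=
      alternatingGroup.isSimpleGroup (by simp [h])
    have hnab : ¬ IsMulCommutative (alternatingGroup (Fin H.index)) :=
      not_isMulCommutative_of_card (by rw [hA]; norm_num)
    have hrange : Nat.card f.range = Nat.card G :=
      (Nat.card_congr (MonoidHom.ofInjective hf).toEquiv).symm
    have hne : f.range ≠ ⊤ := by
      intro h'
      rw [h', card_top, hA] at hrange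
      exact h8' hrange.symm
    have h5 := five_le_index hnab hne
    have hm := card_mul_index f.range
    rw [hrange, hA] at hm
    have := Nat.mul_le_mul_left (Nat.card G) h5
    omega

/-- An upper bound for the order of a proper subgroup. -/
theorem card_mul_nine_le (hG : ¬ IsMulCommutative G) (h7 : ¬ 2 * Nat.card G ∣ 7 !)
    (h8 : 20160 < 5 * Nat.card G) (h8' : Nat.card G ≠ 20160) {H : Subgroup G} (hH : H ≠ ⊤) :
    9 * Nat.card H ≤ Nat.card G := by
  have h := eight_lt_index hG h7 h8 h8' hH
  rw [← card_mul_index H, mul_comm 9]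
  exact Nat.mul_le_mul_left _ h

theorem centralizer_singleton_ne_top (hG : ¬ IsMulCommutative G) {y : G} (hy : y ≠ 1) :
    centralizer ({y} : Set G) ≠ ⊤ := by
  intro h
  have hmem : y ∈ center G := by
    rw [mem_center_iff]
    intro g
    exact mem_centralizer_singleton_iff.mp (h ▸ mem_top g)
  rw [center_eq_bot hG] at hmem
  exact hy (mem_bot.mp hmem)

omit [IsSimpleGroup G] in
/-- An element centralizing a Sylow subgroup of prime order moves a multiple of `p` Sylow
subgroups, and fixes this one. -/
theorem support_of_centralizing {p : ℕ} [Fintype (Sylow p G)] [DecidableEq (Sylow p G)]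
    [hp : Fact p.Prime] (P : Sylow p G) (hP : Nat.card (P : Subgroup G) = p) {c : G}
    (hc : c ∈ centralizer ((P : Subgroup G) : Set G)) :
    p ∣ (MulAction.toPermHom G (Sylow p G) c).support.card ∧
      P ∉ (MulAction.toPermHom G (Sylow p G) c).support := by
  have hcyc : IsCyclic (P : Subgroup G) := isCyclic_of_prime_card hP
  obtain ⟨x, hx⟩ := hcyc.exists_generator
  have hgen : (P : Subgroup G) ≤ zpowers (x : G) := fun z hz => by
    obtain ⟨i, hi⟩ := hx ⟨z, hz⟩
    exact ⟨i, congrArg Subtype.val hi⟩
  have hxo : orderOf (x : G) = p := by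
    rw [Subgroup.orderOf_coe, orderOf_eq_card_of_forall_mem_zpowers hx, hP]
  set f := MulAction.toPermHom G (Sylow p G) with hf
  have hfixed : ∀ Q : Sylow p G, f (x : G) Q = Q → Q = P := by
    intro Q hQ
    have hxN : (x : G) ∈ normalizer ((Q : Subgroup G) : Set G) :=
      Sylow.smul_eq_iff_mem_normalizer.mp hQ
    have hle : (P : Subgroup G) ≤ (Q : Subgroup G) := by
      intro z hz
      have hzN : z ∈ (P : Subgroup G) ⊓ normalizer ((Q : Subgroup G) : Set G) :=
        ⟨hz, zpowers_le.mpr hxN (hgen hz)⟩
      exact ((P.2.inf_normalizer_sylow Q).le hzN).2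
    exact Sylow.ext (P.3 Q.2 hle)
  have hcomm : Commute (f c) (f (x : G)) :=
    Commute.map (mem_centralizer_iff.mp hc x x.2).symm f
  set S := (f c).support with hS
  have hinv : ∀ Q, f (x : G) Q ∈ S ↔ Q ∈ S := by
    intro Q
    rw [hS, Equiv.Perm.mem_support, Equiv.Perm.mem_support, ← Equiv.Perm.mul_apply, hcomm.eq,
      Equiv.Perm.mul_apply, (f (x : G)).injective.ne_iff]
  have hPS : P ∉ S := by
    rw [hS, Equiv.Perm.notMem_support]
    show c • P = P
    exact Sylow.smul_eq_iff_mem_normalizer.mpr (centralizer_le_normalizer _ hc)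
  have hdvd : p ∣ S.card := by
    by_contra hnd
    set σ : Equiv.Perm {Q // Q ∈ S} := (f (x : G)).subtypePerm (fun Q => hinv Q) with hσ
    have hσp : σ ^ p ^ 1 = 1 := by
      rw [pow_one, hσ, Equiv.Perm.subtypePerm_pow]
      apply Equiv.ext
      intro Q
      apply Subtype.ext
      show (f (x : G) ^ p) (Q : Sylow p G) = (Q : Sylow p G)
      rw [← map_pow, show (x : G) ^ p = 1 from orderOf_dvd_iff_pow_eq_one.mp (dvd_of_eq hxo),
        map_one]
      rfl
    obtain ⟨Q, hQ⟩ := Equiv.Perm.exists_fixed_point_of_prime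
      (by rwa [Fintype.card_coe]) hσp
    have hQ' := congrArg Subtype.val hQ
    rw [hσ, Equiv.Perm.subtypePerm_apply] at hQ'
    exact hPS (hfixed _ hQ' ▸ Q.2)
  exact ⟨hdvd, hPS⟩

/-- With at most `4p` Sylow `p`-subgroups, the centralizer of one of order `p` has odd order. -/
theorem odd_card_centralizer_of_few (hG : ¬ IsMulCommutative G) {p : ℕ} [hp : Fact p.Prime]
    (hodd : p ≠ 2) (P : Sylow p G) (hP : Nat.card (P : Subgroup G) = p)
    (hn : Nat.card (Sylow p G) ≤ 4 * p) :
    Odd (Nat.card (centralizer ((P : Subgroup G) : Set G))) := by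
  classical
  have : Fintype (Sylow p G) := Fintype.ofFinite _
  by_contra hev
  rw [Nat.not_odd_iff_even] at hev
  obtain ⟨t, ht⟩ := exists_prime_orderOf_dvd_card' (G := centralizer ((P : Subgroup G) : Set G)) 2
    (even_iff_two_dvd.mp hev)
  have hto : orderOf (t : G) = 2 := by rw [Subgroup.orderOf_coe, ht]
  obtain ⟨hdvd, hPS⟩ := support_of_centralizing P hP t.2
  set f := MulAction.toPermHom G (Sylow p G) with hf
  have hinj := toPermHom_sylow_injective hG (hP ▸ card_subgroup_dvd_card (P : Subgroup G))
  set S := (f (t : G)).support with hS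
  have h4 := involution_fixed_mod_four hG f (x := (t : G)) (by rw [← hto, pow_orderOf_eq_one])
  have h4p : 4 * p ∣ S.card := Nat.Coprime.mul_dvd_of_dvd_of_dvd
    (((Nat.coprime_primes Nat.prime_two hp.out).mpr (Ne.symm hodd)).pow_left 2) h4 hdvd
  have hlt : S.card < Nat.card (Sylow p G) := by
    rw [Nat.card_eq_fintype_card]
    exact Finset.card_lt_univ_of_notMem hPS
  have h0 : S.card = 0 := Nat.eq_zero_of_dvd_of_lt h4p (by omega)
  rw [hS, Finset.card_eq_zero, Equiv.Perm.support_eq_empty_iff, ← map_one f] at h0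
  rw [hinj h0, orderOf_one] at hto
  omega

omit [IsSimpleGroup G] in
theorem relIndex_of_card_mul {p : ℕ} (P : Sylow p G) {e : ℕ}
    (hce : Nat.card (centralizer ((P : Subgroup G) : Set G)) * e =
      Nat.card (normalizer ((P : Subgroup G) : Set G))) :
    (centralizer ((P : Subgroup G) : Set G)).relIndex
      (normalizer ((P : Subgroup G) : Set G)) = e := by
  have hle : centralizer ((P : Subgroup G) : Set G) ≤ normalizer ((P : Subgroup G) : Set G) :=
    centralizer_le_normalizer _
  have h := relIndex_mul_relIndex _ _ _ bot_le hle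
  rw [relIndex_bot_left, relIndex_bot_left, ← hce] at h
  exact Nat.eq_of_mul_eq_mul_left Nat.card_pos h

omit [IsSimpleGroup G] in
/-- When `|N(P) : C(P)| = p - 1` all non-trivial powers of a generator of `P` are conjugate
in `N(P)`. -/
theorem exists_conj_eq_pow_of_full {p : ℕ} [hp : Fact p.Prime] (P : Sylow p G)
    (hP : Nat.card (P : Subgroup G) = p)
    (hce : Nat.card (centralizer ((P : Subgroup G) : Set G)) * (p - 1) =
      Nat.card (normalizer ((P : Subgroup G) : Set G)))
    {u : G} (hu : u ∈ (P : Subgroup G)) {j : ℕ} (hj : j < p) (hj0 : j ≠ 0) :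
    ∃ w ∈ normalizer ((P : Subgroup G) : Set G), w * u * w⁻¹ = u ^ j := by
  have hcyc : IsCyclic (P : Subgroup G) := isCyclic_of_prime_card hP
  set ψ := (P : Subgroup G).normalizerMonoidHom with hψ
  have hk : ψ.ker.index = p - 1 := by
    rw [hψ, normalizerMonoidHom_ker]
    exact relIndex_of_card_mul P hce
  have hsurj : Function.Surjective ψ := by
    rw [← MonoidHom.range_eq_top]
    apply Subgroup.eq_top_of_card_eq
    rw [← index_ker, hk, hcyc.card_mulAut, hP, Nat.totient_prime hp.out]
  have hco : (Nat.card (P : Subgroup G)).Coprime j := by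
    rw [hP]
    exact (Nat.Prime.coprime_iff_not_dvd hp.out).mpr fun h =>
      absurd (Nat.le_of_dvd (Nat.pos_of_ne_zero hj0) h) (by omega)
  have := hcyc.isMulCommutative
  let α : MulAut (P : Subgroup G) :=
    { powCoprime hco with map_mul' := fun a b => (Commute.mul_pow (mul_comm' a b) j) }
  obtain ⟨w, hw⟩ := hsurj α
  refine ⟨w, w.2, ?_⟩
  exact congrArg Subtype.val (DFunLike.congr_fun hw ⟨u, hu⟩)

end CfsgLib.Small
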