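import Cfsg.Agent.Lib.Small.Orders6232
import Cfsg.Agent.Lib.Small.DihedralStrict
import Cfsg.Agent.Lib.Small.Order1512
import Cfsg.Agent.Lib.PGroups.Basic
import Cfsg.Agent.Lib.Perm.LinearIndexTwo
import Cfsg.Agent.S0496
import Cfsg.Agent.S0983
import Cfsg.Agent.S1010

/-!
# Orders of simple groups below 6000
-/

set_option autoImplicit false
set_option linter.unusedSectionVars false

open Subgroup Cfsg CfsgLib.Chars
open scoped Nat

namespace CfsgLib.Small.Below6000

open CfsgLib.Small

universe u

variable {G : Type u} [Group G] [Finite G] [IsSimpleGroup G]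

theorem four_dvd_and_small :
    ∀ i ∈ List.range 2548, (4 ∣ 1093 + i ∧ 1093 + i ∣ 30030 ^ 12 ∧
      (¬ 11 ∣ 1093 + i ∨ 1331 ≤ 1093 + i) ∧ (¬ 13 ∣ 1093 + i ∨ 2197 ≤ 1093 + i) ∧
      ([3, 5, 7, 11, 13].all fun q => !((1093 + i) ∣ (2 * q) ^ 12)) = true ∧
      ([(3, 5), (3, 7), (3, 11), (3, 13), (5, 7), (5, 11), (5, 13), (7, 11), (7, 13), (11, 13)].all
        fun pr => !((1093 + i) ∣ pr.1 * pr.2 * 2 ^ 11)) = true) →
    1093 + i ∈ [1176, 1200, 1260, 1400, 1440, 1452, 1500, 1512, 1540, 1584, 1620, 1680, 1764, 1800,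
      1848, 1960, 1980, 2016, 2100, 2156, 2160, 2200, 2268, 2340, 2352, 2376, 2400, 2420, 2520,
      2548, 2600, 2640, 2700, 2772, 2800, 2808, 2860, 2880, 2904, 2940, 3000, 3024, 3080, 3120,
      3168, 3240, 3276, 3300, 3360, 3380, 3388, 3432, 3500, 3528, 3564, 3600, 3640] := by
  decide +kernel

theorem sylow_numbers (hG : ¬ IsMulCommutative G) {N : ℕ} (hN : Nat.card G = N) (p a m : ℕ)
    (hp : p.Prime) (hNm : N = p ^ a * m) (hm : ¬ p ∣ m) (ha : a ≠ 0)
    (key : ∀ d ∈ Nat.divisors m, 1 < d → d % p = 1 → (d < 16 → 2 * N ∣ d !) → False) : False := by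
  haveI : Fact p.Prime := ⟨hp⟩
  exact false_of_sylow_numbers hG hN p a m hNm hm ha fun d hd h1 h2 h3 =>
    key d hd h1 h2 fun _ => h3

theorem options_nil (hG : ¬ IsMulCommutative G) {N : ℕ} (hN : Nat.card G = N) (p m : ℕ)
    (hp : p.Prime) (hNm : N = p * m) (hm : ¬ p ∣ m) (hodd : p ≠ 2)
    (key : primeOptions N p m = []) : False :=
  have : Fact p.Prime := ⟨hp⟩
  false_of_options_nil hG hN p m hNm hm hodd key

/-- No degree relation fits any of the options. -/
theorem options_relations (hG : ¬ IsMulCommutative G) {N : ℕ} (hN : Nat.card G = N) (p m : ℕ)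
    (hp : p.Prime) (hNm : N = p * m) (hm : ¬ p ∣ m) (hodd : p ≠ 2)
    (key : ∀ x ∈ primeOptions N p m, 2 * x.2.1 ≤ p - 1 ∧ relationExists N p (x.2.1 - 1) 1 = false) :
    False := by
  have : Fact p.Prime := ⟨hp⟩
  obtain ⟨P, n, e, k, hP, -, hmem, hrel, -⟩ := exists_prime_option hG hN p m hNm hm hodd
  exact false_of_no_relation hG hodd P hP hN hrel (key _ hmem).1 (key _ hmem).2

/-- Three primes: the Sylow subgroup of prime order is self-centralizing. -/
theorem self_central (hG : ¬ IsMulCommutative G) {N : ℕ} (hN : Nat.card G = N) (q r p a b : ℕ)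
    (hp : p.Prime) (hq : q.Prime) (hr : r.Prime) (hqp : q ≠ p) (hrp : r ≠ p)
    (hNm : N = q ^ a * r ^ b * p)
    (key : ∀ e ∈ List.range p, e ∣ p - 1 → 1 < e → ∀ d ∈ Nat.divisors (q ^ a * r ^ b),
      e * d = q ^ a * r ^ b → d % p = 1 → (d < 16 → 2 * N ∣ d !) → False) : False := by
  have : Fact p.Prime := ⟨hp⟩
  obtain ⟨P, e, -, -, he1, hediv, hen, hmod, hfac⟩ :=
    exists_index_three_prime (p := p) hG hq hr hqp hrp (hN.trans hNm)
  have hm0 : q ^ a * r ^ b ≠ 0 :=
    Nat.mul_ne_zero (pow_ne_zero _ hq.ne_zero) (pow_ne_zero _ hr.ne_zero)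
  refine key e (List.mem_range.2 ?_) hediv he1 _
    (Nat.mem_divisors.2 ⟨Dvd.intro_left e hen, hm0⟩) hen hmod fun _ => hN ▸ hfac
  have := Nat.le_of_dvd (by have := hp.two_le; omega) hediv
  have := hp.two_le
  omega

theorem sylow_killed (hG : ¬ IsMulCommutative G) :
    Nat.card G ∉ [1176, 1452, 1500, 1540, 1960, 2156, 2340, 2352, 2420, 2548, 2860, 2904, 3000,
      3380, 3388, 3500] := by
  intro h
  simp only [List.mem_cons, List.not_mem_nil, or_false] at h
  rcases h with h | h | h | h | h | h | h | h | h | h | h | h | h | h | h | h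
  · exact sylow_numbers hG h 7 2 24 (by norm_num) (by norm_num) (by norm_num) (by norm_num) (by decide +kernel)
  · exact sylow_numbers hG h 11 2 12 (by norm_num) (by norm_num) (by norm_num) (by norm_num) (by decide +kernel)
  · exact sylow_numbers hG h 5 3 12 (by norm_num) (by norm_num) (by norm_num) (by norm_num) (by decide +kernel)
  · exact sylow_numbers hG h 11 1 140 (by norm_num) (by norm_num) (by norm_num) (by norm_num) (by decide +kernel)
  · exact sylow_numbers hG h 7 2 40 (by norm_num) (by norm_num) (by norm_num) (by norm_num) (by decide +kernel)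
  · exact sylow_numbers hG h 11 1 196 (by norm_num) (by norm_num) (by norm_num) (by norm_num) (by decide +kernel)
  · exact sylow_numbers hG h 13 1 180 (by norm_num) (by norm_num) (by norm_num) (by norm_num) (by decide +kernel)
  · exact sylow_numbers hG h 7 2 48 (by norm_num) (by norm_num) (by norm_num) (by norm_num) (by decide +kernel)
  · exact sylow_numbers hG h 11 2 20 (by norm_num) (by norm_num) (by norm_num) (by norm_num) (by decide +kernel)
  · exact sylow_numbers hG h 7 2 52 (by norm_num) (by norm_num) (by norm_num) (by norm_num) (by decide +kernel)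
  · exact sylow_numbers hG h 11 1 260 (by norm_num) (by norm_num) (by norm_num) (by norm_num) (by decide +kernel)
  · exact sylow_numbers hG h 11 2 24 (by norm_num) (by norm_num) (by norm_num) (by norm_num) (by decide +kernel)
  · exact sylow_numbers hG h 5 3 24 (by norm_num) (by norm_num) (by norm_num) (by norm_num) (by decide +kernel)
  · exact sylow_numbers hG h 13 2 20 (by norm_num) (by norm_num) (by norm_num) (by norm_num) (by decide +kernel)
  · exact sylow_numbers hG h 11 2 28 (by norm_num) (by norm_num) (by norm_num) (by norm_num) (by decide +kernel)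
  · exact sylow_numbers hG h 5 3 28 (by norm_num) (by norm_num) (by norm_num) (by norm_num) (by decide +kernel)

theorem options_killed (hG : ¬ IsMulCommutative G) :
    Nat.card G ∉ [1260, 1584, 1848, 2376, 2600, 2640, 2772, 2808, 2940, 3080, 3276, 3300, 3564,
      3640] := by
  intro h
  simp only [List.mem_cons, List.not_mem_nil, or_false] at h
  rcases h with h | h | h | h | h | h | h | h | h | h | h | h | h | h
  · exact options_nil hG h 7 180 (by norm_num) (by norm_num) (by norm_num) (by norm_num) (by decide +kernel)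
  · exact options_nil hG h 11 144 (by norm_num) (by norm_num) (by norm_num) (by norm_num) (by decide +kernel)
  · exact options_nil hG h 7 264 (by norm_num) (by norm_num) (by norm_num) (by norm_num) (by decide +kernel)
  · exact options_nil hG h 11 216 (by norm_num) (by norm_num) (by norm_num) (by norm_num) (by decide +kernel)
  · exact options_nil hG h 13 200 (by norm_num) (by norm_num) (by norm_num) (by norm_num) (by decide +kernel)
  · exact options_nil hG h 11 240 (by norm_num) (by norm_num) (by norm_num) (by norm_num) (by decide +kernel)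
  · exact options_nil hG h 11 252 (by norm_num) (by norm_num) (by norm_num) (by norm_num) (by decide +kernel)
  · exact options_nil hG h 13 216 (by norm_num) (by norm_num) (by norm_num) (by norm_num) (by decide +kernel)
  · exact options_nil hG h 5 588 (by norm_num) (by norm_num) (by norm_num) (by norm_num) (by decide +kernel)
  · exact options_nil hG h 5 616 (by norm_num) (by norm_num) (by norm_num) (by norm_num) (by decide +kernel)
  · exact options_nil hG h 13 252 (by norm_num) (by norm_num) (by norm_num) (by norm_num) (by decide +kernel)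
  · exact options_nil hG h 11 300 (by norm_num) (by norm_num) (by norm_num) (by norm_num) (by decide +kernel)
  · exact options_nil hG h 11 324 (by norm_num) (by norm_num) (by norm_num) (by norm_num) (by decide +kernel)
  · exact options_nil hG h 13 280 (by norm_num) (by norm_num) (by norm_num) (by norm_num) (by decide +kernel)

theorem self_central_killed (hG : ¬ IsMulCommutative G) :
    Nat.card G ∉ [1200, 1400, 1440, 2016, 2800, 2880, 3024, 3240] := by
  intro h
  simp only [List.mem_cons, List.not_mem_nil, or_false] at h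
  rcases h with h | h | h | h | h | h | h | h
  · exact self_central hG h 2 5 3 4 2 (by norm_num) (by norm_num) (by norm_num) (by norm_num) (by norm_num) (by norm_num) (by decide +kernel)
  · exact self_central hG h 2 5 7 3 2 (by norm_num) (by norm_num) (by norm_num) (by norm_num) (by norm_num) (by norm_num) (by decide +kernel)
  · exact self_central hG h 2 3 5 5 2 (by norm_num) (by norm_num) (by norm_num) (by norm_num) (by norm_num) (by norm_num) (by decide +kernel)
  · exact self_central hG h 2 3 7 5 2 (by norm_num) (by norm_num) (by norm_num) (by norm_num) (by norm_num) (by norm_num) (by decide +kernel)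
  · exact self_central hG h 2 5 7 4 2 (by norm_num) (by norm_num) (by norm_num) (by norm_num) (by norm_num) (by norm_num) (by decide +kernel)
  · exact self_central hG h 2 3 5 6 2 (by norm_num) (by norm_num) (by norm_num) (by norm_num) (by norm_num) (by norm_num) (by decide +kernel)
  · exact self_central hG h 2 3 7 4 3 (by norm_num) (by norm_num) (by norm_num) (by norm_num) (by norm_num) (by norm_num) (by decide +kernel)
  · exact self_central hG h 2 3 5 3 4 (by norm_num) (by norm_num) (by norm_num) (by norm_num) (by norm_num) (by norm_num) (by decide +kernel)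

theorem relation_killed (hG : ¬ IsMulCommutative G) :
    Nat.card G ∉ [2200, 2268, 3120, 3168] := by
  intro h
  simp only [List.mem_cons, List.not_mem_nil, or_false] at h
  rcases h with h | h | h | h
  · exact options_relations hG h 11 200 (by norm_num) (by norm_num) (by norm_num) (by norm_num) (by decide +kernel)
  · exact options_relations hG h 7 324 (by norm_num) (by norm_num) (by norm_num) (by norm_num) (by decide +kernel)
  · exact options_relations hG h 13 240 (by norm_num) (by norm_num) (by norm_num) (by norm_num) (by decide +kernel)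
  · exact options_relations hG h 11 288 (by norm_num) (by norm_num) (by norm_num) (by norm_num) (by decide +kernel)

theorem card_ne_inter_orders (hG : ¬ IsMulCommutative G) :
    Nat.card G ≠ 1764 ∧ Nat.card G ≠ 3528 := by
  have := Fact.mk (show Nat.Prime 7 by norm_num)
  refine ⟨fun h => ?_, fun h => ?_⟩
  · exact card_ne_inter hG (p := 7) (a := 2) (m := 36) le_rfl h (by norm_num) (by norm_num)
      (by decide +kernel) (by decide +kernel)
  · exact card_ne_inter hG (p := 7) (a := 2) (m := 72) le_rfl h (by norm_num) (by norm_num)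
      (by decide +kernel) (by decide +kernel)

omit [IsSimpleGroup G] in
/-- A group of order 150 has a normal Sylow 5-subgroup. -/
theorem card_sylow_of_150 {C : Type u} [Group C] [Finite C] (h : Nat.card C = 150) :
    Nat.card (Sylow 5 C) ≤ 1 := by
  have := Fact.mk Nat.prime_five
  have := Fact.mk Nat.prime_three
  obtain ⟨S⟩ : Nonempty (Sylow 5 C) := inferInstance
  have hS : Nat.card (S : Subgroup C) = 5 ^ 2 :=
    card_sylow_eq 2 6 (by rw [h]; norm_num) (by norm_num) S
  have hn := card_sylow_dvd (p := 5) (G := C) 2 6 (by rw [h]; norm_num) (by norm_num)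
  have hmod := card_sylow_modEq_one 5 C
  have hn16 : Nat.card (Sylow 5 C) = 1 ∨ Nat.card (Sylow 5 C) = 6 := by
    have := Nat.le_of_dvd (by norm_num) hn
    unfold Nat.ModEq at hmod
    omega
  by_contra hlt
  have h6 : Nat.card (Sylow 5 C) = 6 := by omega
  -- the normalizer of a Sylow subgroup is abelian, so there is a normal complement
  have hNc : Nat.card (normalizer ((S : Subgroup C) : Set C)) = 25 := by
    have := card_normalizer_mul S
    rw [h6, h] at this
    omega
  have hSN : normalizer ((S : Subgroup C) : Set C) = (S : Subgroup C) :=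
    (eq_of_le_of_card_ge le_normalizer (by rw [hNc, hS]; norm_num)).symm
  have hcomm := IsPGroup.isMulCommutative_of_card_eq_prime_sq hS
  have hle : normalizer ((S : Subgroup C) : Set C) ≤ centralizer ((S : Subgroup C) : Set C) := by
    rw [hSN]; exact le_centralizer _
  have hcompl := MonoidHom.ker_transferSylow_isComplement' S hle
  set K := (MonoidHom.transferSylow S hle).ker with hK
  have hKc : Nat.card K = 6 := by
    have := hcompl.card_mul
    rw [hS, h] at this
    omega
  obtain ⟨R⟩ : Nonempty (Sylow 3 K) := inferInstance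
  have hR : Nat.card (R : Subgroup K) = 3 ^ 1 :=
    card_sylow_eq 1 2 (by rw [hKc]; norm_num) (by norm_num) R
  have hR1 : Nat.card (Sylow 3 K) = 1 := by
    have h1 := card_sylow_dvd (p := 3) (G := K) 1 2 (by rw [hKc]; norm_num) (by norm_num)
    have h2 := card_sylow_modEq_one 3 K
    have := Nat.le_of_dvd (by norm_num) h1
    unfold Nat.ModEq at h2
    omega
  have : Subsingleton (Sylow 3 K) := (Nat.card_eq_one_iff_unique.1 hR1).1
  have : (R : Subgroup K).Characteristic := R.characteristic_of_subsingleton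
  set T := (R : Subgroup K).map K.subtype with hT
  have hTn : T.Normal := ConjAct.normal_of_characteristic_of_normal
  have hTc : Nat.card T = 3 := by
    rw [hT, card_map_of_injective K.subtype_injective, hR, pow_one]
  have hcyc : IsCyclic T := isCyclic_of_prime_card hTc
  have hST : T ≤ centralizer ((S : Subgroup C) : Set C) := by
    intro r hr
    rw [mem_centralizer_iff]
    intro s hs
    set f : C →* MulAut T := MulAut.conjNormal with hfdef
    have hf : f s = 1 := by
      rw [← orderOf_eq_one_iff]
      have h1 : orderOf (f s) ∣ 2 := by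
        have := orderOf_dvd_natCard (f s)
        rwa [hcyc.card_mulAut, hTc, Nat.totient_prime Nat.prime_three] at this
      have h2 : orderOf (f s) ∣ 25 :=
        (orderOf_map_dvd f s).trans (by
          have := Subgroup.orderOf_dvd_natCard _ (show s ∈ (S : Subgroup C) from hs)
          rwa [hS] at this)
      exact Nat.eq_one_of_dvd_coprimes (by norm_num : Nat.Coprime 2 25) h1 h2
    have h3 := congrArg Subtype.val (DFunLike.congr_fun hf (⟨r, hr⟩ : T))
    rw [MulAut.conjNormal_apply] at h3
    exact mul_inv_eq_iff_eq_mul.mp h3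
  have h3 := card_dvd_of_le (hST.trans (centralizer_le_normalizer _))
  rw [hTc, hNc] at h3
  norm_num at h3

/-- Two Sylow 5-subgroups meet in an element `x` whose centralizer is too small. -/
theorem false_of_inter_five (hG : ¬ IsMulCommutative G) {N m : ℕ} (hN : Nat.card G = N)
    (hNm : N = 5 ^ 2 * m) (hm : ¬ 5 ∣ m) (hm0 : m ≠ 0)
    (key0 : ∀ d ∈ Nat.divisors m, 1 < d → d % 5 = 1 → (d < 16 → 2 * N ∣ d !) → d % 5 ^ 2 ≠ 1)
    (key : ∀ i ∈ Nat.divisors m, (i < 16 → 2 * N ∣ i !) → ∀ d ∈ Nat.divisors m,
      1 < d → d % 5 = 1 → i * d ∣ m →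
      (i = 16 ∨ i * 150 = N ∨ ((8 ≤ i) ∧ ¬ 5 ^ 3 ∣ i ! ∧ 2 * N < i ! ∧
        ∀ j ∈ Nat.divisors i, 1 < j → j < i → ¬ 2 * N ∣ j !))) : False := by
  have := Fact.mk Nat.prime_five
  have h : Nat.card G = 5 ^ 2 * m := hN.trans hNm
  have hd5 : 5 ∣ Nat.card G := by rw [h]; exact (dvd_pow_self 5 two_ne_zero).mul_right m
  obtain ⟨x, hxo, hd1, hdm, hdiv⟩ := exists_centralizer_of_inter h hm
    (key0 _ (Nat.mem_divisors.2 ⟨card_sylow_dvd 2 m h hm, hm0⟩)
      (one_lt_card_sylow hG hd5)
      (Eq.trans (card_sylow_modEq_one 5 G) (Nat.mod_eq_of_lt (by norm_num)))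
      fun _ => hN ▸ two_mul_card_dvd_factorial_sylow hG hd5)
  have hx1 : x ≠ 1 := fun h1 => by rw [h1, orderOf_one] at hxo; omega
  set C := centralizer ({x} : Set G) with hC
  rcases key _ (Nat.mem_divisors.mpr ⟨(dvd_mul_right _ _).trans hdiv, hm0⟩)
    (fun _ => hN ▸ two_mul_card_dvd_factorial hG (centralizer_singleton_ne_top hG hx1)) _
    (Nat.mem_divisors.mpr ⟨(dvd_mul_left _ _).trans hdiv, hm0⟩) hd1 hdm hdiv with h' | h' | h'
  · exact index_centralizer_ne_prime_pow hG hx1 2 4 Nat.prime_two (h'.trans (by norm_num))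
  · have hc := card_mul_index C
    rw [hN, ← h'] at hc
    have hCc : Nat.card C = 150 := by
      have := Subgroup.index_ne_zero_of_finite (H := C)
      rw [mul_comm] at hc
      exact Nat.eq_of_mul_eq_mul_left (Nat.pos_of_ne_zero this) hc
    have := card_sylow_of_150 hCc
    omega
  · obtain ⟨h8, hfull, hlt, hmin⟩ := h'
    exact index_ne_of_full_sylow hG (p := 5) (a := 2) (i := C.index)
      (by rw [h]; exact dvd_mul_right _ _) hfull (by omega) (by rw [hN]; exact hmin)
      (by rw [hN]; exact hlt) C rfl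

theorem inter_five_killed (hG : ¬ IsMulCommutative G) :
    Nat.card G ∉ [1800, 2100, 2400, 2700, 3600] := by
  intro h
  simp only [List.mem_cons, List.not_mem_nil, or_false] at h
  rcases h with h | h | h | h | h
  · exact false_of_inter_five hG h (m := 72) (by norm_num) (by norm_num) (by norm_num) (by decide +kernel) (by decide +kernel)
  · exact false_of_inter_five hG h (m := 84) (by norm_num) (by norm_num) (by norm_num) (by decide +kernel) (by decide +kernel)
  · exact false_of_inter_five hG h (m := 96) (by norm_num) (by norm_num) (by norm_num) (by decide +kernel) (by decide +kernel)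
  · exact false_of_inter_five hG h (m := 108) (by norm_num) (by norm_num) (by norm_num) (by decide +kernel) (by decide +kernel)
  · exact false_of_inter_five hG h (m := 144) (by norm_num) (by norm_num) (by norm_num) (by decide +kernel) (by decide +kernel)

theorem pairs_1980 : ∀ s ∈ signedCands 1980 11, ∀ v ∈ (List.range (2 * Nat.sqrt 1980 + 1)).map
    (fun i : ℕ => (i : ℤ) - Nat.sqrt 1980),
    (4 * (11 : ℕ) : ℤ) ∣ s - v → v.natAbs < s.natAbs →
      False := by
  decide +kernel

theorem pairs_3432 : ∀ s ∈ signedCands 3432 11, ∀ v ∈ (List.range (2 * Nat.sqrt 3432 + 1)).map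
    (fun i : ℕ => (i : ℤ) - Nat.sqrt 3432),
    (4 * (11 : ℕ) : ℤ) ∣ s - v → v.natAbs < s.natAbs →
      False := by
  decide +kernel

theorem pairs_3360 : ∀ s ∈ signedCands 3360 7, ∀ v ∈ (List.range (2 * Nat.sqrt 3360 + 1)).map
    (fun i : ℕ => (i : ℤ) - Nat.sqrt 3360),
    (4 * (7 : ℕ) : ℤ) ∣ s - v → v.natAbs < s.natAbs →
      ((1 + s).natAbs ∣ 3360 → (1 + v).natAbs < (1 + s).natAbs →
        (420 : ℤ) < 1 + v ^ 2 + 3 * (1 + v) ^ 2) := by
  decide +kernel

/-- With `e = 2` and an involution centralizing the Sylow subgroup some pair must fit. -/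
theorem false_of_pairs (hG : ¬ IsMulCommutative G) {N : ℕ} (hN : Nat.card G = N) (p m k M i₀ : ℕ)
    (hp : p.Prime) (hNm : N = p * m) (hm : ¬ p ∣ m) (h5 : 5 ≤ p) (hk : ¬ Odd (p * k))
    (hopt : ∀ x ∈ primeOptions N p m, x.2.1 = 2 ∧ x.2.2 = k)
    (hi : ∀ i < i₀, ¬ 2 * N ∣ i !) (hi0 : 0 < i₀) (hM : N ≤ i₀ * M)
    (key : ∀ a : ℤ × ℤ, a.1 ∈ signedCands N p → (4 * p : ℤ) ∣ a.1 - a.2 →
      a.2.natAbs < a.1.natAbs → (1 + a.1).natAbs ∣ N → (1 + a.2).natAbs < (1 + a.1).natAbs →
      1 + a.2 ^ 2 + (((p - 1) / 2 : ℕ) : ℤ) * (1 + a.2) ^ 2 ≤ (M : ℤ) → False) : False := by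
  have : Fact p.Prime := ⟨hp⟩
  obtain ⟨P, n, e, k', hP, -, hmem, hrel, hkc, -, -⟩ :=
    exists_prime_option hG hN p m hNm hm (by omega)
  obtain ⟨he, hk'⟩ := hopt _ hmem
  simp only at he hk'
  subst he hk'
  have hodd := odd_of_no_pair hG (by omega) hN P hP hrel (by omega) (M := M)
    (fun H hH => by
      have := card_mul_le hG hN hi hH
      exact Nat.le_of_mul_le_mul_left (this.trans hM) hi0)
    fun L hlen hL hσ hw hsum => by
      obtain ⟨a, rfl⟩ := List.length_eq_one_iff.mp hlen
      obtain ⟨h1, h2, h3⟩ := hL a List.mem_cons_self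
      simp only [List.map_cons, List.map_nil, List.sum_cons, List.sum_nil, add_zero] at hσ hw hsum
      exact key a h1 h2 h3 hσ hw hsum
  rw [hkc] at hodd
  exact hk hodd

theorem pairs_killed (hG : ¬ IsMulCommutative G) :
    Nat.card G ∉ [1980, 3360, 3432] := by
  intro h
  simp only [List.mem_cons, List.not_mem_nil, or_false] at h
  rcases h with h | h | h
  · refine false_of_pairs hG h 11 180 2 180 11 (by norm_num) (by norm_num) (by norm_num) (by norm_num)
      (by decide) (by decide +kernel) (by decide +kernel) (by norm_num) (by norm_num) ?_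
    intro a h1 h2 h3 h4 _ _
    have ha := mem_of_signed (S := []) (fun s hs v hv d1 d2 => ?_) (by decide +kernel) ⟨h1, h2, h3⟩
    · exact List.not_mem_nil ha
    · exact (pairs_1980 s hs v hv d1 d2).elim
  · refine false_of_pairs hG h 7 480 2 420 8 (by norm_num) (by norm_num) (by norm_num) (by norm_num)
      (by decide) (by decide +kernel) (by decide +kernel) (by norm_num) (by norm_num) ?_
    intro a h1 h2 h3 h4 h5 h6
    have hsmall : ∀ s ∈ signedCands 3360 7, s.natAbs ≤ Nat.sqrt 3360 := by decide +kernel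
    have := hsmall _ h1
    have h7 := pairs_3360 _ h1 a.2 (List.mem_map.2 ⟨(a.2 + Nat.sqrt 3360).toNat,
      List.mem_range.2 (by omega), by omega⟩) h2 h3 h4 h5
    norm_num at h6
    omega
  · refine false_of_pairs hG h 11 312 2 264 13 (by norm_num) (by norm_num) (by norm_num) (by norm_num)
      (by decide) (by decide +kernel) (by decide +kernel) (by norm_num) (by norm_num) ?_
    intro a h1 h2 h3 h4 _ _
    have ha := mem_of_signed (S := []) (fun s hs v hv d1 d2 => ?_) (by decide +kernel) ⟨h1, h2, h3⟩
    · exact List.not_mem_nil ha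
    · exact (pairs_3432 s hs v hv d1 d2).elim

theorem card_ne_1620 (hG : ¬ IsMulCommutative G) : Nat.card G ≠ 1620 := by
  intro h
  have := Fact.mk Nat.prime_five
  have := Fact.mk Nat.prime_two
  obtain ⟨P, e, hP, hrel, he1, hediv, hen, hmod, hfac⟩ := exists_index_three_prime (p := 5)
    (a := 2) (b := 4) hG Nat.prime_two Nat.prime_three (by norm_num) (by norm_num)
    (by rw [h]; norm_num)
  replace hen : e * Nat.card (Sylow 5 G) = 324 := hen
  have key : ∀ e ∈ List.range 5, e ∣ 4 → 1 < e → ∀ d ∈ Nat.divisors 324,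
      e * d = 324 → d % 5 = 1 → d = 81 ∧ e = 4 := by decide +kernel
  obtain ⟨-, he⟩ := key e (List.mem_range.2 (by have := Nat.le_of_dvd (by norm_num) hediv; omega))
    hediv he1 _ (Nat.mem_divisors.2 ⟨Dvd.intro_left e hen, by norm_num⟩) hen hmod
  obtain ⟨x, hx⟩ := (isCyclic_of_prime_card hP).exists_generator
  have hxo : orderOf (x : G) = 5 := by
    rw [Subgroup.orderOf_coe, orderOf_eq_card_of_forall_mem_zpowers hx, hP]
  have hfull := Ord1512.card_mul_relIndex_of_le
    (centralizer_le_normalizer ((P : Subgroup G) : Set G))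
  rw [hrel, he] at hfull
  obtain ⟨g, -, hg⟩ := exists_conj_eq_pow_of_full P hP (by simpa using hfull) x.2
    (j := 2) (by norm_num) (by norm_num)
  have hgk : ∀ k : ℕ, g ^ k * x * (g ^ k)⁻¹ = (x : G) ^ (2 ^ k) := by
    intro k
    induction k with
    | zero => simp
    | succ k ih =>
      rw [pow_succ' g, mul_inv_rev, show g * g ^ k * x * ((g ^ k)⁻¹ * g⁻¹) =
        g * (g ^ k * x * (g ^ k)⁻¹) * g⁻¹ by group, ih, ← conj_pow, hg, ← pow_mul, pow_succ]
      congr 1; ring
  have ho : 4 ∣ orderOf g := by
    have h1 := hgk (orderOf g)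
    rw [pow_orderOf_eq_one, one_mul, inv_one, mul_one, ← pow_mod_orderOf, hxo] at h1
    have h2 : 2 ^ orderOf g % 5 = 1 := by
      have := pow_injOn_Iio_orderOf (x := (x : G)) (show (1 : ℕ) ∈ Set.Iio (orderOf (x : G)) by
          rw [hxo]; norm_num)
        (show 2 ^ orderOf g % 5 ∈ Set.Iio (orderOf (x : G)) by
          rw [hxo]; exact Nat.mod_lt _ (by norm_num))
        (show (x : G) ^ 1 = (x : G) ^ (2 ^ orderOf g % 5) by rw [pow_one]; exact h1)
      exact this.symm
    have h3 : 2 ^ orderOf g % 5 = 2 ^ (orderOf g % 4) % 5 := by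
      conv_lhs => rw [← Nat.div_add_mod (orderOf g) 4, pow_add, pow_mul, Nat.mul_mod, Nat.pow_mod]
      norm_num
    rw [h3] at h2
    have := Nat.mod_lt (orderOf g) (show 4 > 0 by norm_num)
    refine Nat.dvd_of_mod_eq_zero ?_
    interval_cases hk : orderOf g % 4
    · rfl
    all_goals norm_num at h2
  set y := g ^ (orderOf g / 4) with hy
  have hyo : orderOf y = 4 := orderOf_pow_orderOf_div (orderOf_pos g).ne' ho
  obtain ⟨T, hT⟩ := (IsPGroup.of_card (p := 2) (n := 2)
    (by rw [Nat.card_zpowers, hyo]; norm_num : Nat.card (zpowers y) = 2 ^ 2)).exists_le_sylow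
  obtain ⟨hK, -⟩ := Agent.S0992.result hG (by rw [h]; decide) (by rw [h]; decide) T
  have hexp : Monoid.exponent (T : Subgroup G) = 2 := hK.exponent_two
  have h1 := Monoid.pow_exponent_eq_one (⟨y, hT (mem_zpowers y)⟩ : (T : Subgroup G))
  rw [hexp] at h1
  have h2 : y ^ 2 = 1 := by simpa using congrArg Subtype.val h1
  have := orderOf_dvd_of_pow_eq_one h2
  rw [hyo] at this
  norm_num at this

/-- Every Sylow `p`-subgroup is centralized by a Sylow `r`-subgroup that centralizes only one. -/
theorem card_ne_1680 (hG : ¬ IsMulCommutative G) : Nat.card G ≠ 1680 := by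
  classical
  intro hN
  have := Fact.mk Nat.prime_five
  have := Fact.mk Nat.prime_three
  obtain ⟨P, n, e, k, hP, hn, hmem, -, hk, -, -⟩ :=
    exists_prime_option hG hN 5 336 (by norm_num) (by norm_num) (by norm_num)
  rw [show primeOptions 1680 5 336 = [(21, 2, 8), (21, 4, 4), (56, 2, 3)] by decide +kernel] at hmem
  simp only [List.mem_cons, List.not_mem_nil, or_false, Prod.mk.injEq] at hmem
  have h21 := Agent.S1010.result (G := G)
  obtain ⟨rfl, rfl, rfl⟩ : n = 56 ∧ e = 2 ∧ k = 3 := by omega
  obtain ⟨R, n', e', k', hR, hn', hmem', -, hk', -, -⟩ :=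
    exists_prime_option hG hN 3 560 (by norm_num) (by norm_num) (by norm_num)
  have hPd : ∀ Q : Sylow 5 G, Nat.card (Q : Subgroup G) = 5 := fun Q => by
    rw [Q.card_eq_multiplicity, ← P.card_eq_multiplicity, hP]
  have hRd : ∀ Q : Sylow 3 G, Nat.card (Q : Subgroup G) = 3 := fun Q => by
    rw [Q.card_eq_multiplicity, ← R.card_eq_multiplicity, hR]
  have h5 := dvd_centralizer_symm P hP R hR (by rw [hk]; norm_num)
  rw [hk'] at h5
  have key : ∀ x ∈ primeOptions 1680 3 560, 5 ∣ 3 * x.2.2 → x.1 = 28 ∧ x.2.2 = 10 := by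
    decide +kernel
  obtain ⟨h28, h10⟩ := key _ hmem' h5
  simp only at h28 h10
  -- a Sylow 3-subgroup in each centralizer
  have hex : ∀ Q : Sylow 5 G, ∃ T : Sylow 3 G,
      (T : Subgroup G) ≤ centralizer ((Q : Subgroup G) : Set G) := by
    intro Q
    obtain ⟨c, hc⟩ := exists_prime_orderOf_dvd_card'
      (G := centralizer ((Q : Subgroup G) : Set G)) 3
      (by rw [card_centralizer_sylow_eq Q P, hk]; norm_num)
    obtain ⟨T, hT⟩ := (IsPGroup.of_card (p := 3) (n := 1)
      (by rw [Nat.card_zpowers, Subgroup.orderOf_coe, hc, pow_one] :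
        Nat.card (zpowers (c : G)) = 3 ^ 1)).exists_le_sylow
    refine ⟨T, ?_⟩
    rw [← eq_of_le_of_card_ge hT (by rw [Nat.card_zpowers, Subgroup.orderOf_coe, hc, hRd])]
    exact zpowers_le.2 c.2
  choose T hT using hex
  have hinj : Function.Injective T := by
    intro Q Q' hQQ
    set C := centralizer ((T Q : Subgroup G) : Set G) with hC
    have hle : ∀ Q₀ : Sylow 5 G, T Q₀ = T Q → (Q₀ : Subgroup G) ≤ C := fun Q₀ h0 x hx => by
      rw [hC, ← h0, mem_centralizer_iff]
      exact fun y hy => (mem_centralizer_iff.1 (hT Q₀ hy) x hx).symm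
    have h1 := hle Q rfl
    have h2 := hle Q' hQQ.symm
    have hCc : Nat.card C = 30 := by
      rw [hC, card_centralizer_sylow_eq (T Q) R, hk', h10]
    -- a single Sylow 5-subgroup in C
    have hn1 : Nat.card (Sylow 5 C) = 1 := by
      have hmul := card_normalizer_mul (Q.subtype h1)
      have hd := card_sylow_dvd (p := 5) (G := C) 1 6 (by rw [hCc]; norm_num) (by norm_num)
      have hmod : Nat.card (Sylow 5 C) % 5 = 1 :=
        Eq.trans (card_sylow_modEq_one 5 C) (Nat.mod_eq_of_lt (by norm_num))
      have hTC : (T Q : Subgroup G) ≤ C := by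
        have := (isCyclic_of_prime_card (hRd (T Q))).isMulCommutative
        exact le_centralizer _
      have h3 : 3 ∣ Nat.card (normalizer (((Q.subtype h1 : Sylow 5 C) : Subgroup C) : Set C)) := by
        rw [← hRd (T Q), ← Nat.card_congr (subgroupOfEquivOfLe hTC).toEquiv]
        refine card_dvd_of_le ((?_ : _ ≤ centralizer _).trans (centralizer_le_normalizer _))
        intro c hc
        rw [mem_centralizer_iff]
        intro q hq
        exact Subtype.ext (mem_centralizer_iff.1 (hT Q hc) q hq)
      rw [hCc] at hmul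
      obtain ⟨a, ha⟩ := h3
      rw [ha] at hmul
      have := Nat.le_of_dvd (by norm_num) hd
      interval_cases hb : Nat.card (Sylow 5 C) <;> omega
    have : Subsingleton (Sylow 5 C) := (Nat.card_eq_one_iff_unique.1 hn1).1
    have h3 : ((Q.subtype h1 : Sylow 5 C) : Subgroup C) = (Q'.subtype h2 : Sylow 5 C) :=
      congrArg Sylow.toSubgroup (Subsingleton.elim _ _)
    simp only [Sylow.coe_subtype] at h3
    exact Sylow.ext (subgroupOf_inj.1 h3 |> fun h4 => by
      rwa [inf_of_le_left h1, inf_of_le_left h2] at h4)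
  have := Nat.card_le_card_of_injective T hinj
  omega

theorem card_ne_2160 (hG : ¬ IsMulCommutative G) : Nat.card G ≠ 2160 := by
  intro h
  classical
  have := Fact.mk Nat.prime_five
  haveI := Fintype.ofFinite G
  obtain ⟨u, e, hu, hsq, hC, hN, he1, hed, n, hn1, hne⟩ :=
    setup_two_three (p := 5) hG (by norm_num) (a := 4) (b := 3) (by rw [h]; norm_num)
  rw [h] at hne
  obtain rfl : e = 2 := by
    have := Nat.le_of_dvd (by norm_num) hed
    interval_cases e <;> omega
  obtain ⟨d, f, a, ε, ha, hε, hmod, heq, hd, hf, hdN, hfN, hpd, hpf, hinv⟩ :=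
    dihedral_data_strict hG u hu hsq hC hN (by norm_num)
  rw [h, show (2160 : ℕ) = 432 * 5 from by norm_num] at hdN hfN
  have hcand := mem_dihedral_candidates (N := 432) (by norm_num) ha hε hmod heq hd hf
    hdN hfN hpd hpf
  rw [show ((Nat.divisors 432) ×ˢ (Nat.divisors 432)).filter
      (fun q : ℕ × ℕ => 1 < q.1 ∧ 1 < q.2 ∧
        ((q.1 % 5 = 1 ∧ q.2 = q.1 + 1) ∨ ((q.1 + 1) % 5 = 0 ∧ q.2 + 1 = q.1))) =
      {(4, 3), (9, 8)} from by decide +kernel] at hcand
  simp only [Finset.mem_insert, Finset.mem_singleton, Prod.mk.injEq] at hcand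
  have := Fact.mk Nat.prime_two
  obtain ⟨S⟩ : Nonempty (Sylow 2 G) := inferInstance
  have hS : Nat.card (S : Subgroup G) = 16 := by
    simpa using card_sylow_eq (p := 2) 4 135 (by rw [h]; norm_num) (by norm_num) S
  haveI : Nontrivial (S : Subgroup G) := Finite.one_lt_card_iff_nontrivial.mp (by rw [hS]; norm_num)
  haveI := S.2.center_nontrivial
  obtain ⟨⟨z, hzc⟩, hz⟩ := exists_prime_orderOf_dvd_card' (G := Subgroup.center (S : Subgroup G)) 2
    (by
      obtain ⟨k, hk, hcard⟩ := (IsPGroup.nontrivial_iff_card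
        (S.2.to_subgroup (Subgroup.center (S : Subgroup G)))).mp inferInstance
      rw [hcard]; exact dvd_pow_self 2 hk.ne')
  rw [Subgroup.orderOf_mk] at hz
  have hle : (S : Subgroup G) ≤ Subgroup.centralizer ({(z : G)} : Set G) := fun x hx =>
    Subgroup.mem_centralizer_singleton_iff.mpr
      (congrArg Subtype.val (Subgroup.mem_center_iff.mp hzc ⟨x, hx⟩))
  have hdvd := Subgroup.card_dvd_of_le hle
  rw [hS] at hdvd
  obtain ⟨w, hw0, hw, hc⟩ := hinv (z : G) (by rw [Subgroup.orderOf_coe]; exact hz)
  rw [h] at hc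
  obtain ⟨k, hk⟩ := hdvd
  rw [hk] at hc
  have hk' : k < 4 := by
    rcases hcand with ⟨rfl, rfl⟩ | ⟨rfl, rfl⟩ <;>
    · by_contra hcon
      push Not at hcon
      nlinarith [Nat.mul_le_mul hw.le hw.le, Nat.mul_le_mul hcon hcon]
  rcases hcand with ⟨rfl, rfl⟩ | ⟨rfl, rfl⟩ <;> interval_cases k <;> interval_cases w <;> omega

/-- The order of a non-abelian simple group of order below 6000. -/
theorem card_simple_lt_6000 (hG : ¬ IsMulCommutative G) (hlt : Nat.card G < 6000) :
    Nat.card G ∈ [60, 168, 360, 504, 660, 1092, 2448, 2520, 3420, 4080, 5616] := by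
  classical
  simp only [List.mem_cons, List.not_mem_nil, or_false]
  rcases le_or_gt (Nat.card G) 1092 with hle | hgt
  · rcases Agent.S0496.result hG hle with h | h | h | h | h | h <;> omega
  rcases lt_or_ge 3640 (Nat.card G) with hbig | hmid
  · rcases Agent.S0983.result hG hbig (by omega) with h | h | h | h <;> omega
  have hGc : ¬ IsCyclic G := fun hc => hG hc.isMulCommutative
  by_cases hp : ∃ p, p.Prime ∧ p ∣ Nat.card G ∧ 11 ≤ p ∧ Nat.card G < p ^ 3
  · obtain ⟨p, hp, hd, h11, h3⟩ := hp
    rcases card_of_large_prime hGc hp (by omega) hd h3 with hc | ⟨m, hpm, hc⟩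
    · have h20 : p ≤ 19 := by
        by_contra hlt
        push Not at hlt
        have h24 : 20 * (20 ^ 2 - 1) ≤ p * (p ^ 2 - 1) :=
          Nat.mul_le_mul hlt (Nat.sub_le_sub_right (Nat.pow_le_pow_left hlt 2) 1)
        omega
      interval_cases p <;> first | (norm_num at hp; done) | (norm_num at hc; omega)
    · exfalso
      have h4 : 4 ≤ m := by
        by_contra hlt
        have := Nat.pow_le_pow_right two_pos (show m ≤ 3 by omega)
        omega
      have h16 : 16 ≤ 2 ^ m := Nat.pow_le_pow_right two_pos h4 |>.trans' (by norm_num)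
      have : 16 * (16 ^ 2 - 1) ≤ 2 ^ m * ((2 ^ m) ^ 2 - 1) :=
        Nat.mul_le_mul h16 (Nat.sub_le_sub_right (Nat.pow_le_pow_left h16 2) 1)
      omega
  push Not at hp
  have hsmall : ∀ p, p.Prime → p ∣ Nat.card G → p ≤ 13 := fun p hp' hd => by
    by_contra h13
    push Not at h13
    have h16 : 16 ≤ p := by
      by_contra hlt
      interval_cases p <;> norm_num at hp'
    have := hp p hp' hd (by omega)
    have := Nat.pow_le_pow_left h16 3
    omega
  have heven : 2 ∣ Nat.card G := by
    by_contra h2'
    haveI : Group.IsSolvable G := CfsgLib.FT.isSolvable_of_odd (Nat.odd_iff.2 (by omega))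
    exact hG ⟨⟨fun x y => IsSimpleGroup.comm_iff_isSolvable.2 inferInstance x y⟩⟩
  have h4 := four_dvd_of_even hG (even_iff_two_dvd.2 heven)
  have hdiv : Nat.card G ∣ 30030 ^ 12 := by
    have hn := (Nat.card_pos (α := G)).ne'
    rw [← Nat.factorization_le_iff_dvd hn (pow_ne_zero _ (by norm_num))]
    intro p
    by_cases hp' : p.Prime ∧ p ∣ Nat.card G
    · have h13 := hsmall p hp'.1 hp'.2
      have h1 : 1 ≤ (Nat.factorization 30030) p := by
        refine (hp'.1.dvd_iff_one_le_factorization (by norm_num)).1 ?_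
        have := hp'.1.two_le
        have := hp'.1
        interval_cases p <;> norm_num at *
      rw [Nat.factorization_pow, Finsupp.smul_apply, smul_eq_mul]
      calc (Nat.card G).factorization p ≤ 12 := by
            have h2 : p ^ (Nat.card G).factorization p ≤ Nat.card G :=
              Nat.le_of_dvd (by omega) (Nat.ordProj_dvd _ p)
            have h3 : 2 ^ (Nat.card G).factorization p ≤ Nat.card G :=
              (Nat.pow_le_pow_left hp'.1.two_le _).trans h2
            exact Nat.lt_succ_iff.1 ((Nat.pow_lt_pow_iff_right (by norm_num : 1 < 2)).1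
              (h3.trans_lt (by omega : Nat.card G < 2 ^ 13)))
        _ = 12 * 1 := rfl
        _ ≤ _ := Nat.mul_le_mul_left 12 h1
    · rcases not_and_or.1 hp' with hp' | hp'
      · simp [Nat.factorization_eq_zero_of_not_prime _ hp']
      · simp [Nat.factorization_eq_zero_of_not_dvd hp']
  obtain ⟨i, hi⟩ : ∃ i, Nat.card G = 1093 + i := ⟨Nat.card G - 1093, by omega⟩
  have hmem := four_dvd_and_small i (List.mem_range.mpr (by omega))
    ⟨hi ▸ h4, hi ▸ hdiv, ?_, ?_, ?_, ?_⟩
  rotate_left
  · rw [← hi]
    by_cases hd : 11 ∣ Nat.card G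
    · have := hp 11 (by norm_num) hd le_rfl; right; omega
    · exact Or.inl hd
  · rw [← hi]
    by_cases hd : 13 ∣ Nat.card G
    · have := hp 13 (by norm_num) hd (by norm_num); right; omega
    · exact Or.inl hd
  · rw [List.all_eq_true]
    intro q hq
    rw [Bool.not_eq_true', decide_eq_false_iff_not, ← hi]
    refine not_dvd_two_primes hG Nat.prime_two ?_ 12
    simp only [List.mem_cons, List.not_mem_nil, or_false] at hq
    rcases hq with rfl | rfl | rfl | rfl | rfl <;> norm_num
  · rw [List.all_eq_true]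
    intro pr hpr
    rw [Bool.not_eq_true', decide_eq_false_iff_not, ← hi]
    intro hd
    simp only [List.mem_cons, List.not_mem_nil, or_false] at hpr
    have : Nat.card G = 60 ∨ Nat.card G = 168 := by
      rcases hpr with rfl | rfl | rfl | rfl | rfl | rfl | rfl | rfl | rfl | rfl <;>
      exact Agent.S0496.p_r_two_pow hG (by norm_num) (by norm_num) (by norm_num) (by norm_num)
        (by norm_num) hd
    omega
  rw [← hi] at hmem
  have := sylow_killed hG
  have := options_killed hG
  have := self_central_killed hG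
  have := relation_killed hG
  have := inter_five_killed hG
  have := pairs_killed hG
  obtain ⟨_, _⟩ := card_ne_inter_orders hG
  have := Ord1512.card_ne_1512 hG
  have := card_ne_1620 hG
  have := card_ne_1680 hG
  have := card_ne_2160 hG
  simp only [List.mem_cons, List.not_mem_nil, or_false, not_or, and_imp] at *
  casesm* _ ∧ _
  rcases hmem with h | h | h | h | h | h | h | h | h | h | h | h | h | h | h | h | h | h | h | h | h | h | h | h | h | h | h | h | h | h | h | h | h | h | h | h | h | h | h | h | h | h | h | h | h | h | h | h | h | h | h | h | h | h | h | h | h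
  all_goals first
    | contradiction
    | simp [h]

end CfsgLib.Small.Below6000
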