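import Cfsg.Agent.Lib.Small.KleinCentralizer
import Cfsg.Agent.Lib.Small.SelfCentralPrime
import Cfsg.Agent.Lib.Transfer.ThompsonTransfer
import Cfsg.Agent.Lib.Small.Order60

/-!
A simple group in which the centralizer of an involution has a normal four group as Sylow
subgroup is the alternating group of degree five: the principal block bounds the order by
eighteen centralizer orders, hence the index of the normalizer of the four group by five.
-/

set_option autoImplicit false

open Subgroup
open scoped commutatorElement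

namespace CfsgLib.Small.KleinNormal

/-- The degree arithmetic of the order formula. -/
theorem order_lt {g cc a b c : ℕ} {ε : ℤ} (hε : ε = 1 ∨ ε = -1) (ha : 1 < a) (hb : 1 < b)
    (hc : 1 < c) (ha4 : (4 : ℤ) ∣ (a : ℤ) - 1) (hb4 : (4 : ℤ) ∣ (b : ℤ) - ε)
    (hc4 : (4 : ℤ) ∣ (c : ℤ) + 1) (hcc : 0 < cc)
    (ho : (1 : ℤ) + (a + (ε * b - c)) = 0)
    (hord : (g : ℤ) * ((a + 1) * (b + ε) * (c - 1)) = 8 * cc * (a * b * c)) :
    g < 18 * cc := by
  have hcc' : (0 : ℤ) < cc := by exact_mod_cast hcc
  have hpos : (0 : ℤ) < a * b * c := by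
    have : 0 < a * b * c := Nat.mul_pos (Nat.mul_pos (by omega) (by omega)) (by omega)
    exact_mod_cast this
  suffices h : (g : ℤ) < 18 * cc by exact_mod_cast h
  by_contra hge
  push Not at hge
  rcases hε with rfl | rfl
  · have ha5 : (5 : ℤ) ≤ a := by omega
    have hb5 : (5 : ℤ) ≤ b := by omega
    have hc11 : (11 : ℤ) ≤ c := by omega
    have h1 : ((a : ℤ) * b) * (10 * c) ≤ ((a + 1) * (b + 1)) * (11 * (c - 1)) :=
      mul_le_mul (mul_le_mul (by omega) (by omega) (by positivity) (by omega)) (by omega)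
        (by positivity) (by positivity)
    have h2 : 18 * (cc : ℤ) * ((a + 1) * (b + 1) * (c - 1)) ≤
        g * ((a + 1) * (b + 1) * (c - 1)) :=
      mul_le_mul_of_nonneg_right hge (mul_nonneg (by positivity) (by omega))
    rw [hord] at h2
    have h3 := mul_le_mul_of_nonneg_left h1 (le_of_lt hcc')
    nlinarith [mul_pos hcc' hpos]
  · have hb3 : (3 : ℤ) ≤ b := by omega
    have hc3 : (3 : ℤ) ≤ c := by omega
    have h1 : (a : ℤ) * ((2 * b) * (2 * c)) ≤ (a + 1) * ((3 * (b - 1)) * (3 * (c - 1))) :=
      mul_le_mul (by omega) (mul_le_mul (by omega) (by omega) (by positivity) (by omega))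
        (by positivity) (by positivity)
    have h2 : 18 * (cc : ℤ) * ((a + 1) * (b + (-1)) * (c - 1)) ≤
        g * ((a + 1) * (b + (-1)) * (c - 1)) :=
      mul_le_mul_of_nonneg_right hge
        (mul_nonneg (mul_nonneg (by positivity) (by omega)) (by omega))
    rw [hord] at h2
    have hB : (a : ℤ) < a + 1 := by omega
    have h4 : (a : ℤ) * ((2 * b) * (2 * c)) < (a + 1) * ((3 * (b - 1)) * (3 * (c - 1))) :=
      lt_of_lt_of_le (mul_lt_mul_of_pos_right hB (by positivity))
        (mul_le_mul_of_nonneg_left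
          (mul_le_mul (by omega) (by omega) (by positivity) (by omega)) (by positivity))
    nlinarith [mul_lt_mul_of_pos_left h4 hcc']

variable {G : Type*} [Group G] [Finite G] [IsSimpleGroup G]

theorem equiv_alternating (x : G) (hx : orderOf x = 2) (V : Subgroup G)
    (hle : V ≤ centralizer ({x} : Set G)) (hK : IsKleinFour ↥V)
    (hodd : ¬ 2 ∣ V.relIndex (centralizer ({x} : Set G)))
    (hn : (V.subgroupOf (centralizer ({x} : Set G))).Normal) :
    Nonempty (G ≃* alternatingGroup (Fin 5)) := by
  classical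
  have := Fintype.ofFinite G
  have : Fact (Nat.Prime 2) := ⟨Nat.prime_two⟩
  set C := centralizer ({x} : Set G) with hC
  have hV4 : Nat.card V = 4 := hK.card_four
  have h4G : 4 ∣ Nat.card G := hV4 ▸ V.card_subgroup_dvd_card
  have hG : ¬ IsMulCommutative G := not_isMulCommutative_of_card (fun hp => by
    have := (Nat.dvd_prime hp).mp h4G
    rcases this with h | h
    · omega
    · rw [← h] at hp; norm_num at hp)
  have hVsq : ∀ v ∈ V, v * v = 1 := fun v hv =>
    congrArg Subtype.val (hK.mul_self (⟨v, hv⟩ : V))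
  -- the 2-elements of the centralizer lie in the four group
  have h2elt : ∀ g ∈ C, (∃ k, g ^ 2 ^ k = 1) → g ∈ V := by
    intro g hg ⟨k, hk⟩
    have h1 : orderOf (QuotientGroup.mk' (V.subgroupOf C) ⟨g, hg⟩) ∣ 2 ^ k :=
      orderOf_dvd_of_pow_eq_one (by
        rw [← map_pow]
        exact (QuotientGroup.eq_one_iff _).mpr
          (show g ^ 2 ^ k ∈ V by rw [hk]; exact one_mem V))
    have h2 : orderOf (QuotientGroup.mk' (V.subgroupOf C) ⟨g, hg⟩) ∣ V.relIndex C :=
      _root_.orderOf_dvd_natCard _
    have h3 : orderOf (QuotientGroup.mk' (V.subgroupOf C) ⟨g, hg⟩) = 1 :=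
      Nat.eq_one_of_dvd_coprimes
        (Nat.Coprime.pow_left k (Nat.prime_two.coprime_iff_not_dvd.mpr hodd)) h1 h2
    exact (QuotientGroup.eq_one_iff (⟨g, hg⟩ : C)).mp (orderOf_eq_one_iff.mp h3)
  have hxC : x ∈ C := mem_centralizer_singleton_iff.mpr rfl
  have hxV : x ∈ V := h2elt x hxC ⟨1, by rw [pow_one]; exact orderOf_dvd_iff_pow_eq_one.mp (by rw [hx])⟩
  -- the four group is a Sylow subgroup of the whole group
  obtain ⟨P, hVP⟩ := (IsPGroup.of_card (p := 2) (n := 2) (G := V)
    (by rw [hV4]; norm_num)).exists_le_sylow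
  have hPV : (P : Subgroup G) = V := by
    by_contra hne
    have hxP : x ∈ (P : Subgroup G) := hVP hxV
    have hna : commutator (P : Subgroup G) ≠ ⊥ := by
      intro h
      refine hne (le_antisymm (fun g hg => h2elt g (mem_centralizer_singleton_iff.mpr ?_) ?_) hVP)
      · have h2 : ⁅(⟨g, hg⟩ : (P : Subgroup G)), ⟨x, hxP⟩⁆ ∈ commutator (P : Subgroup G) := by
          rw [_root_.commutator_def]
          exact Subgroup.commutator_mem_commutator (mem_top _) (mem_top _)
        rw [h, Subgroup.mem_bot, commutatorElement_eq_one_iff_mul_comm] at h2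
        exact congrArg Subtype.val h2
      · obtain ⟨k, hk⟩ := P.2 ⟨g, hg⟩
        exact ⟨k, congrArg Subtype.val hk⟩
    obtain ⟨Q, hQi, hQav⟩ := exists_maximal_avoiding P.2 hna
    obtain ⟨M, hMn, hMi, -⟩ := Transfer.exists_index_two_of_not_conj_mem P
      (Q := Q.map (P : Subgroup G).subtype) (map_subtype_le Q) (by
        rw [relIndex, subgroupOf, comap_map_eq_self_of_injective (subtype_injective _)]
        exact hQi) hx (fun g hg => by
        obtain ⟨w, hw, hwg⟩ := hg
        have hwg' : (w : G) = g * x * g⁻¹ := hwg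
        refine hQav w ?_ ?_ hw
        · rw [← Subgroup.orderOf_coe, hwg', ← MulAut.conj_apply, MulEquiv.orderOf_eq, hx]
        · rw [← hV4]
          refine Nat.card_le_card_of_injective
            (fun a => ⟨g⁻¹ * ((a.1 : (P : Subgroup G)) : G) * g, h2elt _ ?_ ?_⟩) fun a b e => ?_
          · have ha : ((a.1 : (P : Subgroup G)) : G) * w = w * ((a.1 : (P : Subgroup G)) : G) :=
              congrArg Subtype.val (mem_centralizer_singleton_iff.1 a.2)
            rw [hwg'] at ha
            refine mem_centralizer_singleton_iff.mpr ?_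
            calc g⁻¹ * ((a.1 : (P : Subgroup G)) : G) * g * x
                = g⁻¹ * (((a.1 : (P : Subgroup G)) : G) * (g * x * g⁻¹)) * g := by group
              _ = x * (g⁻¹ * ((a.1 : (P : Subgroup G)) : G) * g) := by rw [ha]; group
          · obtain ⟨k, hk⟩ := P.2 a.1
            refine ⟨k, ?_⟩
            have := conj_pow (i := 2 ^ k) (a := g⁻¹) (b := ((a.1 : (P : Subgroup G)) : G))
            rw [inv_inv] at this
            rw [this, ← Subgroup.coe_pow, hk]
            simp
          · have e' : g⁻¹ * ((a.1 : (P : Subgroup G)) : G) * g =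
                g⁻¹ * ((b.1 : (P : Subgroup G)) : G) * g := congrArg Subtype.val e
            exact Subtype.ext (Subtype.ext (mul_left_cancel (mul_right_cancel e'))))
    rcases hMn.eq_bot_or_eq_top with h | h
    · rw [h, index_bot] at hMi; omega
    · rw [h, index_top] at hMi; omega
  have hPK : IsKleinFour (P : Subgroup G) := hPV ▸ hK
  have hP4 : Nat.card (P : Subgroup G) = 4 := hPK.card_four
  have hset : CfsgLib.CharApps.KleinSetup P := by
    refine ⟨hP4, fun N hN hidx => ?_⟩
    rcases hN.eq_bot_or_eq_top with h | h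
    · rw [h, index_bot] at hidx
      exact sylow_ne_top hG P (eq_top_of_card_eq _ (by rw [hP4, hidx]))
    · rw [h, index_top] at hidx; omega
  have hone : ∀ s t : G, orderOf s = 2 → orderOf t = 2 → IsConj s t := by
    have hto : ∀ s : G, orderOf s = 2 → ∃ u : (P : Subgroup G), u ≠ 1 ∧ IsConj s (u : G) := by
      intro s hs
      obtain ⟨R, hR⟩ := (IsPGroup.of_card (p := 2) (n := 1)
        (show Nat.card (zpowers s) = 2 ^ 1 by rw [Nat.card_zpowers, hs, pow_one])).exists_le_sylow
      obtain ⟨c, hc⟩ := MulAction.exists_smul_eq G R P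
      have hsP : c * s * c⁻¹ ∈ (P : Subgroup G) := by
        rw [← hc]
        exact Subgroup.smul_mem_pointwise_smul s (MulAut.conj c) _ (hR (mem_zpowers s))
      refine ⟨⟨_, hsP⟩, fun e => ?_, isConj_iff.2 ⟨c, rfl⟩⟩
      have : c * s * c⁻¹ = 1 := congrArg Subtype.val e
      rw [conj_eq_one_iff] at this
      rw [this, orderOf_one] at hs
      omega
    intro s t hs ht
    obtain ⟨u, hu, hsu⟩ := hto s hs
    obtain ⟨v, hv, htv⟩ := hto t ht
    exact hsu.trans ((hset.isConj u v hu hv).trans htv.symm)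
  -- the centralizer of `x` centralises the four group
  have hx1 : x ≠ 1 := fun e => by rw [e, orderOf_one] at hx; omega
  have hCV : C = centralizer ((P : Subgroup G) : Set G) := by
    refine le_antisymm (fun c hc => ?_) (centralizer_le (Set.singleton_subset_iff.mpr (hPV ▸ hxV)))
    have hcx : c * x = x * c := mem_centralizer_singleton_iff.mp hc
    rw [mem_centralizer_iff]
    intro y hy
    have hy' : y ∈ V := hPV ▸ hy
    by_cases hy1 : y = 1
    · simp [hy1]
    by_cases hyx : y = x
    · rw [hyx]; exact hcx.symm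
    have hVn : ∀ d ∈ C, ∀ v ∈ V, d * v * d⁻¹ ∈ V := fun d hd v hv =>
      hn.conj_mem ⟨v, hle hv⟩ hv ⟨d, hd⟩
    have hfour : ∀ v ∈ V, v = 1 ∨ v = x ∨ v = y ∨ v = x * y := by
      intro v hv
      by_contra hcon
      push Not at hcon
      have hxy : x * y ∈ V := mul_mem hxV hy'
      have hne : x * y ≠ 1 := fun e => hyx (by
        rw [← inv_eq_of_mul_eq_one_right e, inv_eq_of_mul_eq_one_right (hVsq x hxV)])
      have := Fintype.ofFinite V
      have h5 : ({1, ⟨x, hxV⟩, ⟨y, hy'⟩, ⟨x * y, hxy⟩, ⟨v, hv⟩} : Finset V).card ≤ 4 := by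
        rw [← hV4, Nat.card_eq_fintype_card]; exact Finset.card_le_univ _
      rw [Finset.card_insert_of_notMem (by
          simp only [Finset.mem_insert, Finset.mem_singleton, Subtype.ext_iff, OneMemClass.coe_one,
            not_or]
          exact ⟨hx1.symm, Ne.symm hy1, hne.symm, hcon.1.symm⟩),
        Finset.card_insert_of_notMem (by
          simp only [Finset.mem_insert, Finset.mem_singleton, Subtype.ext_iff, not_or]
          exact ⟨fun e => hyx e.symm, fun e => hy1 (left_eq_mul.mp e), hcon.2.1.symm⟩),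
        Finset.card_insert_of_notMem (by
          simp only [Finset.mem_insert, Finset.mem_singleton, Subtype.ext_iff, not_or]
          exact ⟨fun e => hx1 (right_eq_mul.mp e), hcon.2.2.1.symm⟩),
        Finset.card_pair (by
          simp only [ne_eq, Subtype.ext_iff]
          exact hcon.2.2.2.symm)] at h5
      omega
    have hsq2 : c ^ 2 * y = y * c ^ 2 := by
      have key : c * y * c⁻¹ = y ∨ c * y * c⁻¹ = x * y := by
        rcases hfour _ (hVn c hc y hy') with h | h | h | h
        · exact absurd (conj_eq_one_iff.mp h) hy1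
        · exfalso
          apply hyx
          calc y = c⁻¹ * (c * y * c⁻¹) * c := by group
            _ = c⁻¹ * (c * x) := by rw [h, hcx]; group
            _ = x := by group
        · exact Or.inl h
        · exact Or.inr h
      rcases key with h | h
      · exact ((show Commute c y from mul_inv_eq_iff_eq_mul.mp h).pow_left 2).eq
      · refine mul_inv_eq_iff_eq_mul.mp ?_
        calc c ^ 2 * y * (c ^ 2)⁻¹ = c * (c * y * c⁻¹) * c⁻¹ := by simp [pow_two, mul_assoc]
          _ = c * (x * y) * c⁻¹ := by rw [h]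
          _ = (c * x * c⁻¹) * (c * y * c⁻¹) := by simp [mul_assoc]
          _ = x * (x * y) := by rw [h, hcx, mul_inv_cancel_right]
          _ = y := by rw [← mul_assoc, hVsq x hxV, one_mul]
    obtain ⟨k, m, hm, hkm⟩ := Nat.exists_eq_two_pow_mul_odd (orderOf_pos c).ne'
    have hcm : c ^ m ∈ V := h2elt _ (pow_mem hc m) ⟨k, by
      rw [← pow_mul, mul_comm, ← hkm, pow_orderOf_eq_one]⟩
    obtain ⟨j, hj⟩ := hm
    have hcy : Commute (c ^ m) y :=
      congrArg Subtype.val ((hset.comm ⟨_, hPV.symm ▸ hcm⟩ ⟨y, hy⟩))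
    have h2 : Commute ((c ^ 2) ^ j)⁻¹ y := ((show Commute (c ^ 2) y from hsq2).pow_left j).inv_left
    have hc' : c = ((c ^ 2) ^ j)⁻¹ * c ^ m := by
      rw [hj, ← pow_mul, pow_succ c (2 * j), inv_mul_cancel_left]
    rw [hc']
    exact (h2.mul_left hcy).eq.symm
  -- the order bound
  obtain ⟨M, hM⟩ := CfsgLib.CharApps.exists_pModular (p := 2)
  have : M.IsPrime := hM.2.1.isPrime
  obtain ⟨T⟩ := CfsgLib.Blocks.exists_kleinData hM P hPK hone hx
  let K : CfsgLib.CharApps.KleinBlock M P x :=
    { χ₁ := T.X, χ₂ := T.Y, χ₃ := T.Z, ε₁ := 1, ε₂ := T.ε, ε₃ := -1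
      setup := hset, mem := hPV.symm ▸ hxV, two := hx
      block := fun χ => by rw [T.block]; simp
      ne₁ := T.X_ne, ne₂ := T.Y_ne, ne₃ := T.Z_ne, ne₁₂ := T.XY, ne₁₃ := T.XZ, ne₂₃ := T.YZ
      pm₁ := Or.inl rfl, pm₂ := T.ε_cases, pm₃ := Or.inr rfl
      val₁ := by rw [T.valX]; simp
      val₂ := T.valY
      val₃ := by rw [T.valZ]; simp }
  obtain ⟨s, -, hs, hord⟩ := K.order_identity hM
  rw [← hC, ← hCV] at hs
  obtain rfl : s = 1 := Nat.eq_of_mul_eq_mul_right (Nat.card_pos (α := C)) (by rw [hs, one_mul])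
  have horth := K.orth hM
  rw [← hC] at hord
  have hlt : Nat.card G < 18 * Nat.card C := by
    refine order_lt (a := Cfsg.charDegree (T.X : G → ℂ)) (b := Cfsg.charDegree (T.Y : G → ℂ))
      (c := Cfsg.charDegree (T.Z : G → ℂ)) T.ε_cases (one_lt_charDegree hG T.X_ne)
      (one_lt_charDegree hG T.Y_ne) (one_lt_charDegree hG T.Z_ne) T.modX T.modY T.modZ Nat.card_pos
      ?_ ?_
    · change (1 : ℤ) + (1 * _ + (T.ε * _ + -1 * _)) = 0 at horth
      rw [one_mul, neg_one_mul, ← sub_eq_add_neg] at horth
      exact horth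
    · change (Nat.card G : ℤ) * ((_ + 1) * (_ + T.ε) * (_ + -1)) = _ at hord
      rw [Nat.cast_one, one_pow, mul_one, ← sub_eq_add_neg] at hord
      exact hord
  -- the normalizer has small index
  set N := normalizer ((P : Subgroup G) : Set G) with hN
  have hCN : C ≤ N := hCV ▸ centralizer_le_normalizer _
  obtain ⟨n, hnN, hnC⟩ := hset.exists_normalizer_notMem
  rw [← hCV] at hnC
  have hne1 : C.relIndex N ≠ 1 := fun e => hnC ((relIndex_eq_one.mp e) hnN)
  have hrel : C.relIndex N * Nat.card C = Nat.card N := by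
    rw [mul_comm, relIndex, ← Nat.card_congr (subgroupOfEquivOfLe hCN).toEquiv, card_mul_index]
  have hodd2 : ¬ 2 ∣ C.relIndex N := by
    intro h2
    refine P.not_dvd_index (dvd_trans ?_ (index_dvd_of_le (hPV.symm ▸ hle : (P : Subgroup G) ≤ C)))
    exact (dvd_mul_right_iff_true h2 (relIndex_mul_index hCN))
  have h3 : 3 * Nat.card C ≤ Nat.card N := by
    rw [← hrel]
    refine Nat.mul_le_mul_right _ ?_
    have h0 : C.relIndex N ≠ 0 := by
      intro e; rw [e, zero_mul] at hrel; exact Nat.card_pos.ne hrel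
    omega
  have hNtop : N ≠ ⊤ := sylow_normalizer_ne_top hG ((show 2 ∣ 4 by norm_num).trans h4G) P
  have hidx : N.index ≤ 5 := by
    by_contra h6
    push Not at h6
    have hmul := N.card_mul_index
    nlinarith
  have hd := two_mul_card_dvd_factorial hG hNtop
  have hd60 : Nat.card G ∣ 60 := by
    have h2 := hd.trans (Nat.factorial_dvd_factorial hidx)
    rw [show Nat.factorial 5 = 2 * 60 from rfl] at h2
    exact Nat.dvd_of_mul_dvd_mul_left two_pos h2
  have h60 : Nat.card G = 60 := by
    obtain ⟨u, hu⟩ := h4G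
    rw [hu] at hd60
    have hu15 : u ∣ 15 := by
      have : 4 * u ∣ 4 * 15 := hd60
      exact Nat.dvd_of_mul_dvd_mul_left (by norm_num) this
    have := Nat.le_of_dvd (by norm_num) hu15
    interval_cases u <;> norm_num at hu15
    · exact absurd (eq_top_of_card_eq _ (hP4.trans hu.symm)) (sylow_ne_top hG P)
    · exact absurd (by omega) (ne_twelve hG)
    · exfalso
      have : Fact (Nat.Prime 5) := ⟨by norm_num⟩
      have h1 := one_lt_card_sylow hG (p := 5) (by omega)
      have hd5 := card_sylow_dvd (p := 5) (G := G) 1 4 (by rw [hu]; norm_num) (by norm_num)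
      have hm5 : Nat.card (Sylow 5 G) % 5 = 1 := card_sylow_modEq_one 5 G
      have := Nat.le_of_dvd (by norm_num) hd5
      omega
    · omega
  exact equiv_alternating_five h60
where
  dvd_mul_right_iff_true {a b c : ℕ} (h : 2 ∣ a) (e : a * b = c) : 2 ∣ c := e ▸ h.trans (dvd_mul_right a b)

end CfsgLib.Small.KleinNormal
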