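import Cfsg.Agent.Lib.CharApps.PrimeClassBound
import Cfsg.Agent.Lib.Chars.TwoConjugates
import Cfsg.Prelude.Def_DegreeGraph
import Mathlib.GroupTheory.Perm.Centralizer
import Mathlib.GroupTheory.SpecificGroups.Alternating

/-!
# A prime with a small centralizer divides a degree when there are many classes
-/

set_option autoImplicit false
set_option linter.style.haveILetI false

open Cfsg CfsgLib.Chars CfsgLib.CharApps Subgroup
open scoped ComplexConjugate

namespace CfsgLib.Small

universe u

/-- If `x` of odd prime order `q` is self-centralizing, all its powers are conjugate to `x` or its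
inverse, and there are more than `q` classes, then `q` divides some degree. -/
theorem mem_degreePrimes_of_classes {G : Type u} [Group G] [Finite G] {q : ℕ} [hq : Fact q.Prime]
    (hq2 : q ≠ 2) {x : G} (hx : orderOf x = q)
    (hC : Nat.card (centralizer ({x} : Set G)) = q)
    (hconj : ∀ j < q, j ≠ 0 → IsConj (x ^ j) x ∨ IsConj (x ^ j) x⁻¹)
    (hk : q < Nat.card (ConjClasses G)) : q ∈ degreePrimes G := by
  classical
  haveI := Fintype.ofFinite G
  haveI := irrFintype G
  by_contra hnot
  choose S n hS hn hSq hnq hle using fun χ : IrrCharacter G => exists_trace_norm χ hq2 hx hconj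
  have hpos : ∀ χ : IrrCharacter G, 1 ≤ n χ := by
    intro χ
    have h0 : 0 ≤ n χ := by nlinarith [hle χ, sq_nonneg (S χ)]
    rcases h0.lt_or_eq with h | h
    · omega
    exfalso
    have hd := hnq χ
    rw [← h, zero_sub, dvd_neg] at hd
    refine hnot ⟨hq.out, charDegree (χ : G → ℂ), ⟨χ, rfl⟩, ?_⟩
    exact_mod_cast (Nat.prime_iff_prime_int.1 hq.out).dvd_of_dvd_pow hd
  have hsum : ∑ χ : IrrCharacter G, n χ = q := by
    have h1 := sum_normSq (G := G) x
    rw [hC] at h1
    have h2 : ∀ χ : IrrCharacter G, Complex.normSq ((χ : G → ℂ) x) = ((n χ : ℤ) : ℝ) := by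
      intro χ
      have h3 := (hn χ).trans (Complex.mul_conj _)
      rw [← Complex.ofReal_intCast] at h3
      exact (Complex.ofReal_inj.1 h3).symm
    rw [Finset.sum_congr rfl (fun χ _ => h2 χ)] at h1
    exact_mod_cast h1
  have h3 : (Fintype.card (IrrCharacter G) : ℤ) ≤ q := by
    rw [← hsum]
    calc (Fintype.card (IrrCharacter G) : ℤ) = ∑ _χ : IrrCharacter G, (1 : ℤ) := by simp
      _ ≤ _ := Finset.sum_le_sum fun χ _ => hpos χ
  have h4 := card_irr_eq_card_classes (G := G)
  rw [Nat.card_eq_fintype_card] at h4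
  omega

namespace A7V

abbrev A := alternatingGroup (Fin 7)

/-- An element from the images of the seven points. -/
def mkA (f g : Fin 7 → Fin 7) (h1 : ∀ i, g (f i) = i) (h2 : ∀ i, f (g i) = i)
    (h : Equiv.Perm.sign (⟨f, g, h1, h2⟩ : Equiv.Perm (Fin 7)) = 1) : A :=
  ⟨⟨f, g, h1, h2⟩, Equiv.Perm.mem_alternatingGroup.2 h⟩

def five : A := mkA ![1, 2, 3, 4, 0, 5, 6] ![4, 0, 1, 2, 3, 5, 6] (by decide) (by decide) (by decide +kernel)
def seven : A := mkA ![1, 2, 3, 4, 5, 6, 0] ![6, 0, 1, 2, 3, 4, 5] (by decide) (by decide) (by decide +kernel)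
def dblFive : A := mkA ![0, 2, 4, 1, 3, 6, 5] ![0, 3, 1, 4, 2, 6, 5] (by decide) (by decide) (by decide +kernel)
def dblSeven : A := mkA ![0, 2, 4, 6, 1, 3, 5] ![0, 4, 1, 5, 2, 6, 3] (by decide) (by decide) (by decide +kernel)

/-- Representatives of eight classes. -/
def reps : Fin 8 → A := ![1,
  mkA ![1, 0, 3, 2, 4, 5, 6] ![1, 0, 3, 2, 4, 5, 6] (by decide) (by decide) (by decide +kernel),
  mkA ![1, 2, 0, 3, 4, 5, 6] ![2, 0, 1, 3, 4, 5, 6] (by decide) (by decide) (by decide +kernel),
  mkA ![1, 2, 0, 4, 5, 3, 6] ![2, 0, 1, 5, 3, 4, 6] (by decide) (by decide) (by decide +kernel),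
  mkA ![1, 2, 0, 4, 3, 6, 5] ![2, 0, 1, 4, 3, 6, 5] (by decide) (by decide) (by decide +kernel),
  mkA ![1, 2, 3, 0, 5, 4, 6] ![3, 0, 1, 2, 5, 4, 6] (by decide) (by decide) (by decide +kernel),
  five, seven]

/-- The numbers of fixed points of the first three powers. -/
def fixes (a : A) : ℕ × ℕ × ℕ :=
  ((Finset.univ.filter fun x => (a : Equiv.Perm (Fin 7)) x = x).card,
   (Finset.univ.filter fun x => ((a ^ 2 : A) : Equiv.Perm (Fin 7)) x = x).card,
   (Finset.univ.filter fun x => ((a ^ 3 : A) : Equiv.Perm (Fin 7)) x = x).card)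

theorem card_fix_conj (b a : Equiv.Perm (Fin 7)) :
    (Finset.univ.filter fun x => (b * a * b⁻¹) x = x).card =
      (Finset.univ.filter fun x => a x = x).card := by
  refine Finset.card_equiv b⁻¹ fun x => ?_
  rw [Finset.mem_filter, Finset.mem_filter]
  simp only [Finset.mem_univ, true_and, Equiv.Perm.mul_apply, Equiv.Perm.inv_def]
  exact (Equiv.eq_symm_apply b).symm

theorem fixes_conj (b a : A) : fixes (b * a * b⁻¹) = fixes a := by
  simp only [fixes, conj_pow, Subgroup.coe_mul, InvMemClass.coe_inv, card_fix_conj]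

theorem eight_le_classes : 8 ≤ Nat.card (ConjClasses A) := by
  have hinj : Function.Injective fun i => ConjClasses.mk (reps i) := by
    intro i j hij
    obtain ⟨b, hb⟩ := isConj_iff.1 (ConjClasses.mk_eq_mk_iff_isConj.1 hij)
    have h := fixes_conj b (reps i)
    rw [hb] at h
    have key : ∀ i j, fixes (reps j) = fixes (reps i) → i = j := by decide +kernel
    exact key i j h
  simpa using Nat.card_le_card_of_injective _ hinj

theorem orderOf_five : orderOf five = 5 := by
  have := Fact.mk Nat.prime_five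
  exact orderOf_eq_prime (by decide +kernel) (by decide +kernel)

theorem orderOf_seven : orderOf seven = 7 := by
  have := Fact.mk (show Nat.Prime 7 by norm_num)
  exact orderOf_eq_prime (by decide +kernel) (by decide +kernel)

theorem card_centralizer_seven : Nat.card (centralizer ({seven} : Set A)) = 7 := by
  refine le_antisymm ?_ ?_
  · have h : Nat.card (centralizer ({(seven : Equiv.Perm (Fin 7))} : Set (Equiv.Perm (Fin 7)))) = 7 := by
      rw [Equiv.Perm.nat_card_centralizer]
      rw [show (seven : Equiv.Perm (Fin 7)).cycleType = {7} by decide +kernel]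
      rfl
    refine le_of_le_of_eq ?_ h
    refine Nat.card_le_card_of_injective
      (fun c : centralizer ({seven} : Set A) => (⟨((c : A) : Equiv.Perm (Fin 7)),
        mem_centralizer_singleton_iff.2
          (congrArg Subtype.val (mem_centralizer_singleton_iff.1 c.2))⟩ :
        centralizer ({(seven : Equiv.Perm (Fin 7))} : Set (Equiv.Perm (Fin 7))))) ?_
    intro a b hab
    exact Subtype.ext (Subtype.ext (congrArg (fun w : centralizer
      ({(seven : Equiv.Perm (Fin 7))} : Set (Equiv.Perm (Fin 7))) => (w : Equiv.Perm (Fin 7))) hab))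
  · refine Nat.le_of_dvd Nat.card_pos ?_
    have := Subgroup.orderOf_dvd_natCard (centralizer ({seven} : Set A))
      (x := seven) (mem_centralizer_singleton_iff.2 rfl)
    rwa [orderOf_seven] at this

theorem card_centralizer_five : Nat.card (centralizer ({five} : Set A)) = 5 := by
  have h : Nat.card (centralizer ({(five : Equiv.Perm (Fin 7))} : Set (Equiv.Perm (Fin 7)))) = 10 := by
    rw [Equiv.Perm.nat_card_centralizer]
    rw [show (five : Equiv.Perm (Fin 7)).cycleType = {5} by decide +kernel]
    rfl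
  set D := centralizer ({(five : Equiv.Perm (Fin 7))} : Set (Equiv.Perm (Fin 7))) with hD
  set M := (centralizer ({five} : Set A)).map (alternatingGroup (Fin 7)).subtype with hM
  have hMD : M ≤ D := by
    rintro _ ⟨c, hc, rfl⟩
    exact mem_centralizer_singleton_iff.2
      (congrArg Subtype.val (mem_centralizer_singleton_iff.1 hc))
  have hMc : Nat.card M = Nat.card (centralizer ({five} : Set A)) :=
    card_map_of_injective (alternatingGroup (Fin 7)).subtype_injective
  have hne : M ≠ D := fun h0 => by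
    have hs : Equiv.swap (5 : Fin 7) 6 ∈ D :=
      mem_centralizer_singleton_iff.2 (by decide +kernel)
    rw [← h0] at hs
    obtain ⟨c, -, hc⟩ := hs
    have hs2 : Equiv.swap (5 : Fin 7) 6 ∈ alternatingGroup (Fin 7) := hc ▸ c.2
    rw [Equiv.Perm.mem_alternatingGroup, Equiv.Perm.sign_swap (by decide)] at hs2
    exact absurd hs2 (by decide)
  have hlt : Nat.card M < 10 := by
    rw [← h]
    exact lt_of_le_of_ne (Nat.le_of_dvd Nat.card_pos (card_dvd_of_le hMD))
      fun h0 => hne (eq_of_le_of_card_ge hMD h0.ge)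
  have hd := h ▸ card_dvd_of_le hMD
  have h5 := Subgroup.orderOf_dvd_natCard (centralizer ({five} : Set A))
    (x := five) (mem_centralizer_singleton_iff.2 rfl)
  rw [orderOf_five] at h5
  rw [hMc] at hlt hd
  have := Nat.card_pos (α := centralizer ({five} : Set A))
  omega

theorem isConj_five : ∀ j < 5, j ≠ 0 → IsConj (five ^ j) five ∨ IsConj (five ^ j) five⁻¹ := by
  have key : ∀ j < 5, j ≠ 0 → ∃ i < 4, dblFive ^ i * five ^ j * (dblFive ^ i)⁻¹ = five := by
    decide +kernel
  intro j hj hj0
  obtain ⟨i, -, hi⟩ := key j hj hj0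
  exact Or.inl (isConj_iff.2 ⟨_, hi⟩)

theorem isConj_seven : ∀ j < 7, j ≠ 0 → IsConj (seven ^ j) seven ∨ IsConj (seven ^ j) seven⁻¹ := by
  have key : ∀ j < 7, j ≠ 0 → ∃ i < 3, dblSeven ^ i * seven ^ j * (dblSeven ^ i)⁻¹ = seven ∨
      dblSeven ^ i * seven ^ j * (dblSeven ^ i)⁻¹ = seven⁻¹ := by
    decide +kernel
  intro j hj hj0
  obtain ⟨i, -, hi | hi⟩ := key j hj hj0
  · exact Or.inl (isConj_iff.2 ⟨_, hi⟩)
  · exact Or.inr (isConj_iff.2 ⟨_, hi⟩)

theorem five_mem_degreePrimes : 5 ∈ degreePrimes A :=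
  haveI : Fact (Nat.Prime 5) := ⟨Nat.prime_five⟩
  mem_degreePrimes_of_classes (by norm_num) orderOf_five card_centralizer_five isConj_five
    (lt_of_lt_of_le (by norm_num) eight_le_classes)

theorem seven_mem_degreePrimes : 7 ∈ degreePrimes A :=
  haveI : Fact (Nat.Prime 7) := ⟨by norm_num⟩
  mem_degreePrimes_of_classes (by norm_num) orderOf_seven card_centralizer_seven isConj_seven
    (lt_of_lt_of_le (by norm_num) eight_le_classes)

end A7V

end CfsgLib.Small
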