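import Cfsg.Agent.Lib.Small.JankoTwoUnique

/-!
A group of Hall–Janko type is generated by the centralisers of `z` and of a conjugate of `z` in `Q`.
-/

set_option autoImplicit false
set_option linter.unusedSectionVars false

namespace CfsgLib.Small.JTwoType

open Subgroup

namespace Setup

variable {G : Type*} [Group G] [Finite G] (S : Setup G)

theorem card_stab_le (y : G) (hy : ¬ y * S.z = S.z * y) :
    ∀ U : Subgroup S.Q, (∀ q ∈ U, ((q : S.C) : G) * y = y * ((q : S.C) : G)) →
      Nat.card U ∣ 4 := by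
  intro U hU
  have hz : S.zQ ∉ U := fun h => hy (hU _ h).symm
  have hsq : ∀ q ∈ U, q ^ 2 = 1 := fun q hq => by
    rcases S.es.sq_eq q with e | e
    · exact e
    · exact absurd (e ▸ pow_mem hq 2) hz
  have hinj : Function.Injective (fun p : U × Bool =>
      (⟨if p.2 then (p.1 : S.Q) * S.zQ else p.1, by
        split
        · rw [S.es.sq_mul_z]; exact hsq _ p.1.2
        · exact hsq _ p.1.2⟩ : {q : S.Q // q ^ 2 = 1})) := by
    rintro ⟨⟨a, ha⟩, s⟩ ⟨⟨b, hb⟩, t⟩ h
    have h' := congrArg Subtype.val h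
    cases s <;> cases t <;>
      simp only [Bool.false_eq_true, if_false, if_true] at h'
    · exact Prod.ext (Subtype.ext h') rfl
    · exact absurd (show S.zQ ∈ U by
        rw [show S.zQ = b⁻¹ * a by rw [h', inv_mul_cancel_left]]
        exact mul_mem (inv_mem hb) ha) hz
    · exact absurd (show S.zQ ∈ U by
        rw [show S.zQ = a⁻¹ * b by rw [← h', inv_mul_cancel_left]]
        exact mul_mem (inv_mem ha) hb) hz
    · exact Prod.ext (Subtype.ext (mul_right_cancel h')) rfl
  have h2 := Nat.card_le_card_of_injective _ hinj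
  rw [Nat.card_prod, S.card_sq_one, show Nat.card Bool = 2 by simp] at h2
  have h32 : Nat.card U ∣ 2 ^ 5 := by
    rw [show (2 : ℕ) ^ 5 = Nat.card S.Q by rw [S.card]; norm_num]
    exact card_subgroup_dvd_card U
  obtain ⟨k, hk, he⟩ := (Nat.dvd_prime_pow Nat.prime_two).1 h32
  rw [he] at h2 ⊢
  rw [show (4 : ℕ) = 2 ^ 2 from rfl]
  refine pow_dvd_pow 2 ?_
  by_contra h
  have : (2 : ℕ) ^ 3 ≤ 2 ^ k := Nat.pow_le_pow_right (by norm_num) (by omega)
  omega

/-- A subgroup containing the centraliser of `z` and that of a conjugate of `z` in `Q` other than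
`z` is the whole group. -/
theorem eq_top_of_le (M : Subgroup G) (hC : S.C ≤ M) (g : G) (hg : g * S.z * g⁻¹ ∈ S.C)
    (hgQ : (⟨g * S.z * g⁻¹, hg⟩ : S.C) ∈ S.Q) (hgne : g * S.z * g⁻¹ ≠ S.z)
    (hCg : ∀ c ∈ S.C, g * c * g⁻¹ ∈ M) : M = ⊤ := by
  classical
  have hzM : S.z ∈ M := hC ((S.mem_C _).2 rfl)
  set u : G := g * S.z * g⁻¹ with hu
  let uQ : S.Q := ⟨⟨u, hg⟩, hgQ⟩
  have huz : u * S.z = S.z * u := (S.mem_C _).1 hg
  have hnc : ∀ q : S.Q, ((q : S.C) : G) ≠ 1 → ((q : S.C) : G) ≠ S.z → q ∉ center S.Q := by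
    intro q h1 h2 h
    rcases (S.es.center_iff _).1 h with e | e
    · exact h1 (congrArg (fun q : S.Q => ((q : S.C) : G)) e)
    · exact h2 (congrArg (fun q : S.Q => ((q : S.C) : G)) e)
  have hu1 : u ≠ 1 := fun e => S.z_ne_one (conj_eq_one_iff.1 (hu ▸ e))
  have hflip : ∀ q : S.Q, q ∉ center S.Q → ∃ p : S.Q,
      ((p : S.C) : G) * ((q : S.C) : G) * ((p : S.C) : G)⁻¹ = ((q : S.C) : G) * S.z := by
    intro q hq
    obtain ⟨p, hp⟩ : ∃ p : S.Q, p * q ≠ q * p := by
      by_contra hall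
      push Not at hall
      exact hq (mem_center_iff.2 hall)
    have he : p * q = q * p * S.zQ := (S.es.comm_eq p q).resolve_left hp
    refine ⟨p, mul_inv_eq_iff_eq_mul.2 ?_⟩
    have he' : p * q = q * S.zQ * p := by
      rw [he, mul_assoc q, S.es.mul_comm_z p, ← mul_assoc]
    exact congrArg (fun y : S.Q => ((y : S.C) : G)) he'
  -- an element of `M` moving `z` to `u`
  obtain ⟨a, ha⟩ := hflip uQ (hnc uQ hu1 hgne)
  set z' : G := g⁻¹ * S.z * g with hz'
  have hzg : z' * S.z = S.z * z' := by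
    calc z' * S.z = g⁻¹ * (S.z * (g * S.z * g⁻¹)) * g := by rw [hz']; group
      _ = g⁻¹ * ((g * S.z * g⁻¹) * S.z) * g := by rw [← hu, huz]
      _ = S.z * z' := by rw [hz']; group
  have hz'C : z' ∈ S.C := (S.mem_C _).2 hzg
  have hz'Q : (⟨z', hz'C⟩ : S.C) ∈ S.Q :=
    S.mem_Q_of_conj (isConj_iff.2 ⟨g⁻¹, by rw [inv_inv]⟩)
  have hz'ne : z' ≠ S.z := fun e => hgne (by
    calc u = g * z' * g⁻¹ := by rw [hu, e]
      _ = S.z := by rw [hz']; group)
  obtain ⟨q, hq⟩ := hflip ⟨⟨z', hz'C⟩, hz'Q⟩ (hnc _ (fun e => S.z_ne_one (by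
    calc S.z = g * z' * g⁻¹ := by rw [hz']; group
      _ = 1 := by rw [show z' = 1 from e, mul_one, mul_inv_cancel])) hz'ne)
  simp only at hq ha
  let a' : G := ((a : S.C) : G)
  let q' : G := g * ((q : S.C) : G) * g⁻¹
  have hm : a' * q' ∈ M := mul_mem (hC (a : S.C).2) (hCg _ (q : S.C).2)
  have hmu : a' * q' * S.z * (a' * q')⁻¹ = u := by
    have h1 : q' * S.z * q'⁻¹ = S.z * u := by
      calc q' * S.z * q'⁻¹ = g * (((q : S.C) : G) * z' * ((q : S.C) : G)⁻¹) * g⁻¹ := by
            simp only [q', hz']; group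
        _ = g * (z' * S.z) * g⁻¹ := by rw [hq]
        _ = S.z * u := by rw [hz', hu]; group
    have h2 : a' * S.z * a'⁻¹ = S.z := by
      rw [(S.mem_C _).1 (a : S.C).2, mul_inv_cancel_right]
    calc a' * q' * S.z * (a' * q')⁻¹ = a' * (q' * S.z * q'⁻¹) * a'⁻¹ := by group
      _ = (a' * S.z * a'⁻¹) * (a' * u * a'⁻¹) := by rw [h1]; group
      _ = S.z * (u * S.z) := by rw [h2, ha]
      _ = u := by rw [huz, ← mul_assoc, ← sq, S.z_sq, one_mul]
  -- the conjugates of `z` under `M`
  let zM : M := ⟨S.z, hzM⟩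
  have hk : Nat.card {y : M // IsConj zM y} * Nat.card S.C = Nat.card M := by
    rw [← CfsgLib.Involutions.card_conjugates_mul zM]
    congr 1
    refine Nat.card_congr ⟨fun c => ⟨⟨c, hC c.2⟩, mem_centralizer_singleton_iff.2
        (Subtype.ext ((S.mem_C _).1 c.2))⟩,
      fun c => ⟨(c.1 : G), (S.mem_C _).2
        (congrArg Subtype.val (mem_centralizer_singleton_iff.1 c.2))⟩,
      fun _ => rfl, fun _ => rfl⟩
  have hin : Nat.card {y : M // IsConj zM y ∧ (y : G) ∈ S.C} = 11 := by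
    rw [← S.card_conj_inside]
    refine Nat.card_congr (Equiv.ofBijective (fun y => ⟨(y.1 : G),
      M.subtype.map_isConj y.2.1, y.2.2⟩) ⟨fun y y' h => Subtype.ext (Subtype.ext
        (congrArg (fun y : {y : G // IsConj S.z y ∧ y ∈ S.C} => y.1) h)), fun y => ?_⟩)
    obtain ⟨y, hy, hyC⟩ := y
    have hyQ := S.mem_Q_of_conj (x := ⟨y, hyC⟩) hy
    refine ⟨⟨⟨y, hC hyC⟩, ?_, hyC⟩, rfl⟩
    by_cases hyz : y = S.z
    · subst hyz
      exact IsConj.refl _
    · obtain ⟨c, hc⟩ := S.noncentral_conj uQ ⟨⟨y, hyC⟩, hyQ⟩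
        (Subtype.ext (Subtype.ext (JTwoOrder.sq_of_isConj S.ord (isConj_iff.2 ⟨g, rfl⟩))))
        (hnc uQ hu1 hgne) (Subtype.ext (Subtype.ext (JTwoOrder.sq_of_isConj S.ord hy)))
        (hnc _ (JTwoOrder.not_isConj_one S.ord hy) hyz)
      have hc' : (c : G) * u * (c : G)⁻¹ = y := by
        have h := congrArg (fun q : S.Q => ((q : S.C) : G)) hc
        simp only [S.cn_apply] at h
        exact h
      refine isConj_iff.2 ⟨⟨_, mul_mem (hC c.2) hm⟩, Subtype.ext ?_⟩
      show (c : G) * (a' * q') * S.z * ((c : G) * (a' * q'))⁻¹ = y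
      rw [← hc', ← hmu]
      group
  -- those outside fall into orbits of `Q` of size divisible by eight
  let α := {y : M // IsConj zM y ∧ (y : G) ∉ S.C}
  have hout : 8 ∣ Nat.card α := by
    let act : S.Q →* MulAut M :=
      (MulAut.conj (G := M)).comp ((Subgroup.inclusion hC).comp S.Q.subtype)
    have hmem : ∀ (q : S.Q) (y : α), IsConj zM (act q y.1) ∧ ((act q y.1 : M) : G) ∉ S.C := by
      intro q y
      refine ⟨y.2.1.trans (isConj_iff.2 ⟨_, rfl⟩), fun h => y.2.2 ?_⟩
      have h' : ((q : S.C) : G) * ((y.1 : M) : G) * ((q : S.C) : G)⁻¹ ∈ S.C := h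
      have := mul_mem (mul_mem (inv_mem (q : S.C).2) h') (q : S.C).2
      simpa [mul_assoc] using this
    letI : MulAction S.Q α :=
      { smul := fun q y => ⟨act q y.1, hmem q y⟩
        one_smul := fun y => Subtype.ext (by
          show act 1 y.1 = y.1
          rw [map_one]; rfl)
        mul_smul := fun p q y => Subtype.ext (by
          show act (p * q) y.1 = act p (act q y.1)
          rw [map_mul]; rfl) }
    haveI : Fintype α := Fintype.ofFinite α
    have horb : ∀ y : α, 8 ∣ Nat.card (MulAction.orbit S.Q y) := by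
      intro y
      have h1 := Subgroup.card_eq_card_quotient_mul_card_subgroup (MulAction.stabilizer S.Q y)
      rw [← Nat.card_congr (MulAction.orbitEquivQuotientStabilizer S.Q y), S.card] at h1
      have h2 := S.card_stab_le ((y.1 : M) : G) (fun e => y.2.2 ((S.mem_C _).2 e))
        (MulAction.stabilizer S.Q y) fun q hq => by
          have h := congrArg (fun y : α => ((y.1 : M) : G)) (MulAction.mem_stabilizer_iff.1 hq)
          have h' : ((q : S.C) : G) * ((y.1 : M) : G) * ((q : S.C) : G)⁻¹ = ((y.1 : M) : G) := h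
          exact mul_inv_eq_iff_eq_mul.1 h'
      obtain ⟨m, hm⟩ := h2
      refine Dvd.intro m ?_
      have h0 : 0 < Nat.card (MulAction.stabilizer S.Q y) := Nat.card_pos
      refine Nat.eq_of_mul_eq_mul_right h0 ?_
      rw [← h1, mul_assoc, mul_comm m, ← hm]
      all_goals norm_num
    rw [Nat.card_congr (MulAction.selfEquivSigmaOrbits S.Q α), Nat.card_sigma]
    exact Finset.dvd_sum fun ω _ => horb _
  have hsum : Nat.card {y : M // IsConj zM y} = 11 + Nat.card α := by
    rw [← hin, ← Nat.card_sum]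
    exact Nat.card_congr (((Equiv.subtypeSubtypeEquivSubtypeInter (fun y : M => IsConj zM y)
      (fun y => (y : G) ∈ S.C)).symm.sumCongr
        (Equiv.subtypeSubtypeEquivSubtypeInter (fun y : M => IsConj zM y)
          (fun y => (y : G) ∉ S.C)).symm).trans
      (Equiv.sumCompl fun y : {y : M // IsConj zM y} => ((y.1 : M) : G) ∈ S.C)).symm
  obtain ⟨m, hm⟩ := hout
  have hMdvd : Nat.card M ∣ Nat.card G := card_subgroup_dvd_card M
  rw [S.card_group, ← hk, hsum, hm, S.card_C] at hMdvd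
  have hm315 : 11 + 8 * m ∣ 315 :=
    Nat.dvd_of_mul_dvd_mul_right (by norm_num : 0 < 1920) (by norm_num; exact hMdvd)
  have hm38 : m = 3 ∨ m = 38 := by
    have hle := Nat.le_of_dvd (by norm_num) hm315
    have hall : ∀ m : Fin 39, 11 + 8 * m.val ∣ 315 → m.val = 3 ∨ m.val = 38 := by decide
    exact hall ⟨m, by omega⟩ hm315
  have hidx := M.card_mul_index
  rw [S.card_group, ← hk, hsum, hm, S.card_C] at hidx
  rcases hm38 with rfl | rfl
  · -- index nine
    exfalso
    have h9 : M.index = 9 := by omega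
    obtain ⟨K⟩ := S.exists_coord
    obtain ⟨e⟩ := K.isoJ2
    haveI := CfsgLib.J2.j2_simple
    haveI : Nontrivial G := e.toEquiv.nontrivial
    haveI : IsSimpleGroup G := IsSimpleGroup.isSimpleGroup_of_surjective e.symm.toMonoidHom e.symm.surjective
    rcases (Subgroup.normalCore_normal M).eq_bot_or_eq_top with hc | hc
    · rw [normalCore_eq_ker] at hc
      have h := Nat.card_le_card_of_injective _
        ((MonoidHom.ker_eq_bot_iff (MulAction.toPermHom G (G ⧸ M))).1 hc)
      rw [Nat.card_perm, ← Subgroup.index_eq_card, h9, S.card_group] at h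
      norm_num [Nat.factorial] at h
    · have : M = ⊤ := top_le_iff.1 (hc ▸ M.normalCore_le)
      rw [this, Subgroup.index_top] at h9
      norm_num at h9
  · exact Subgroup.index_eq_one.1 (by omega)

end Setup

end CfsgLib.Small.JTwoType
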