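import Cfsg.Agent.Lib.Fusion.MetacyclicAbelian
import Cfsg.Agent.Lib.PGroups.Basic
import Cfsg.Agent.Lib.PLocal.Constrained
import Cfsg.Agent.Lib.Base.Cores
import Cfsg.Agent.Lib.Recog.AutToGL

/-!
A `p`-constrained group with trivial `p'`-core acts faithfully, modulo its `p`-core, on the
Frattini quotient of the `p`-core.
-/

set_option autoImplicit false

namespace CfsgLib.Small

open Cfsg
open scoped commutatorElement

variable {X : Type*} [Group X] [Finite X] {p : ℕ} [hp : Fact p.Prime]

/-- The centralizer of the `p`-core lies in it. -/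
theorem centralizer_pCore_le (hc : IsPConstrained p X) (hO : pPrimeCore p X = ⊥) :
    Subgroup.centralizer (pCore p X : Set X) ≤ pCore p X := by
  have he := CfsgLib.PLocal.pPrimePCore_eq_pCore (p := p) hO
  obtain ⟨P⟩ := (inferInstance : Nonempty (Sylow p ↥(pPrimePCore p X)))
  have hQ : IsPGroup p ↥(pPrimePCore p X) := by
    rw [he]; exact CfsgLib.Base.isPGroup_pCore p X
  have hP : (P : Subgroup ↥(pPrimePCore p X)) = ⊤ :=
    (P.3 (Q := ⊤) (IsPGroup.of_equiv hQ Subgroup.topEquiv.symm) le_top).symm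
  have h := hc P
  rw [hP, ← MonoidHom.range_eq_map, Subgroup.range_subtype, he] at h
  exact h

/-- Conjugation on the Frattini quotient of the `p`-core. -/
noncomputable def coreFrattiniHom (p : ℕ) [Fact p.Prime] (X : Type*) [Group X] [Finite X] :
    X →* MulAut (↥(pCore p X) ⧸ frattini ↥(pCore p X)) :=
  haveI : (pCore p X).Normal := inferInstance
  CfsgLib.Fusion.MetacyclicAbelian.frattiniAction.comp MulAut.conjNormal

theorem coreFrattiniHom_mk (g : X) (x : ↥(pCore p X)) :
    coreFrattiniHom p X g (x : ↥(pCore p X) ⧸ frattini ↥(pCore p X)) =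
      ((MulAut.conjNormal g x : ↥(pCore p X)) : ↥(pCore p X) ⧸ frattini ↥(pCore p X)) :=
  CfsgLib.PGroups.MetacyclicTwoAut.quotAut_mk _ _ _

theorem ker_coreFrattiniHom (hc : IsPConstrained p X) (hO : pPrimeCore p X = ⊥) :
    (coreFrattiniHom p X).ker = pCore p X := by
  have hQ := CfsgLib.Base.isPGroup_pCore p X
  apply le_antisymm
  · apply CfsgLib.Base.le_pCore
    rintro ⟨g, hg⟩
    obtain ⟨k, m, hm, hkm⟩ := Nat.exists_eq_pow_mul_and_not_dvd (orderOf_pos g).ne' p hp.out.ne_one
    refine ⟨k, Subtype.ext ?_⟩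
    show g ^ p ^ k = 1
    set h := g ^ p ^ k with hh
    have hord : (orderOf h).Coprime p := by
      have h1 : orderOf h ∣ m := by
        rw [orderOf_dvd_iff_pow_eq_one, hh, ← pow_mul, ← hkm, pow_orderOf_eq_one]
      exact (((Nat.Prime.coprime_iff_not_dvd hp.out).2 hm).symm).coprime_dvd_left h1
    have hker : coreFrattiniHom p X h = 1 := by
      rw [hh, map_pow, MonoidHom.mem_ker.1 hg, one_pow]
    have hcop : (Nat.card (Subgroup.zpowers (MulAut.conjNormal h : MulAut ↥(pCore p X)))).Coprime p := by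
      rw [Nat.card_zpowers]
      exact hord.coprime_dvd_left (orderOf_map_dvd _ h)
    have h1 : (MulAut.conjNormal h : MulAut ↥(pCore p X)) = 1 :=
      CfsgLib.Fusion.MetacyclicAbelian.eq_one_of_action hQ _ hcop
        (Subgroup.mem_zpowers _) hker
    have h2 : h ∈ pCore p X := centralizer_pCore_le hc hO (by
      rw [Subgroup.mem_centralizer_iff]
      intro x hx
      have h3 := congrArg Subtype.val (DFunLike.congr_fun h1 ⟨x, hx⟩)
      rw [MulAut.conjNormal_apply] at h3
      calc x * h = (h * x * h⁻¹) * h := by rw [h3]; rfl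
        _ = h * x := by group)
    have h4 : orderOf h ∣ 1 := by
      obtain ⟨n, hn⟩ := hQ ⟨h, h2⟩
      have : orderOf h ∣ p ^ n := orderOf_dvd_of_pow_eq_one (by simpa using congrArg Subtype.val hn)
      exact (hord.pow_right n).eq_one_of_dvd this ▸ dvd_rfl
    exact orderOf_eq_one_iff.1 (Nat.dvd_one.1 h4)
  · intro g hg
    rw [MonoidHom.mem_ker]
    refine MulEquiv.ext fun v => ?_
    induction v using QuotientGroup.induction_on with
    | H x =>
      rw [coreFrattiniHom_mk]
      show _ = (x : ↥(pCore p X) ⧸ frattini ↥(pCore p X))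
      rw [QuotientGroup.eq]
      have : (MulAut.conjNormal g x)⁻¹ * x = ⁅(⟨g, hg⟩ : ↥(pCore p X)), x⁻¹⁆ :=
        Subtype.ext (by simp [MulAut.conjNormal_apply, commutatorElement_def, mul_assoc])
      rw [this]
      exact CfsgLib.PGroups.commutator_le_frattini hQ
        (Subgroup.commutator_mem_commutator (Subgroup.mem_top _) (Subgroup.mem_top _))

/-- Automorphisms of an elementary abelian group of order `p ^ e` act faithfully on a space of
dimension `d ≥ e`. -/
theorem exists_mulAut_embedding_GL {A : Type*} [Group A] [Finite A] (hcomm : ∀ a b : A, a * b = b * a)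
    (hexp : ∀ a : A, a ^ p = 1) {e d : ℕ} (he : Nat.card A = p ^ e) (hed : e ≤ d) :
    ∃ f : MulAut A →* GL (Fin d) (ZMod p), Function.Injective f := by
  let _ : CommGroup A := { ‹Group A› with mul_comm := hcomm }
  let B := Multiplicative (Fin (d - e) → ZMod p)
  have hcard : Nat.card (A × B) = p ^ d := by
    rw [Nat.card_prod, he, show Nat.card B = p ^ (d - e) by simp [B],
      ← pow_add, Nat.add_sub_cancel' hed]
  have hexpB : ∀ x : A × B, x ^ p = 1 := by
    intro x
    refine Prod.ext (hexp x.1) (Multiplicative.toAdd.injective ?_)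
    funext i
    show p • (x.2.toAdd i) = 0
    simp
  obtain ⟨ψ, hψ⟩ := CfsgLib.Recog.exists_injective_mulAut_to_GL hexpB hcard
  let pad : MulAut A →* MulAut (A × B) :=
    { toFun := fun α => MulEquiv.prodCongr α (MulEquiv.refl B)
      map_one' := MulEquiv.ext fun _ => rfl
      map_mul' := fun _ _ => MulEquiv.ext fun _ => rfl }
  have hpad : Function.Injective pad := fun α β h => MulEquiv.ext fun a =>
    congrArg Prod.fst (DFunLike.congr_fun h (a, 1))
  exact ⟨ψ.comp pad, hψ.comp hpad⟩

/-- If the `p`-core has sectional `p`-rank at most `d`, then the quotient by it embeds in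
`GL d p`. -/
theorem exists_embedding_GL {d : ℕ} (hc : IsPConstrained p X) (hO : pPrimeCore p X = ⊥)
    (hd : SectionalPRankLE p d ↥(pCore p X)) :
    ∃ f : X ⧸ pCore p X →* GL (Fin d) (ZMod p), Function.Injective f := by
  have hQ := CfsgLib.Base.isPGroup_pCore p X
  set A := ↥(pCore p X) ⧸ frattini ↥(pCore p X)
  have hcomm : ∀ a b : A, a * b = b * a := by
    intro a b
    induction a using QuotientGroup.induction_on with
    | H x =>
      induction b using QuotientGroup.induction_on with
      | H y =>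
        rw [← QuotientGroup.mk_mul, ← QuotientGroup.mk_mul, QuotientGroup.eq]
        have : (x * y)⁻¹ * (y * x) = ⁅y⁻¹, x⁻¹⁆ := by simp [commutatorElement_def, mul_assoc]
        rw [this]
        exact CfsgLib.PGroups.commutator_le_frattini hQ
          (Subgroup.commutator_mem_commutator (Subgroup.mem_top _) (Subgroup.mem_top _))
  have hexp : ∀ a : A, a ^ p = 1 := by
    intro a
    induction a using QuotientGroup.induction_on with
    | H x =>
      rw [← QuotientGroup.mk_pow, QuotientGroup.eq_one_iff]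
      exact CfsgLib.PGroups.pow_mem_frattini hQ x
  obtain ⟨e, he⟩ := IsPGroup.iff_card.1 (hQ.to_quotient (frattini ↥(pCore p X)))
  have hed : e ≤ d := by
    set N := (frattini ↥(pCore p X)).comap
      ((Subgroup.topEquiv : _ ≃* ↥(pCore p X)).toMonoidHom) with hN
    let e0 : ↥(⊤ : Subgroup ↥(pCore p X)) ⧸ N ≃* A :=
      QuotientGroup.congr _ _ Subgroup.topEquiv
        (Subgroup.map_comap_eq_self_of_surjective Subgroup.topEquiv.surjective _)
    have h1 : IsMulCommutative (⊤ : Subgroup (↥(⊤ : Subgroup ↥(pCore p X)) ⧸ N)) :=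
      ⟨⟨fun a b => Subtype.ext (e0.injective (by
        rw [Subgroup.coe_mul, Subgroup.coe_mul, map_mul, map_mul]; exact hcomm _ _))⟩⟩
    have h2 : ∀ a ∈ (⊤ : Subgroup (↥(⊤ : Subgroup ↥(pCore p X)) ⧸ N)), a ^ p = 1 :=
      fun a _ => e0.injective (by rw [map_pow, map_one]; exact hexp _)
    have h := hd ⊤ N ⊤ h1 h2
    rw [Nat.card_congr Subgroup.topEquiv.toEquiv, Nat.card_congr e0.toEquiv, he] at h
    exact (Nat.pow_le_pow_iff_right hp.out.one_lt).1 h
  obtain ⟨ψ, hψ⟩ := exists_mulAut_embedding_GL hcomm hexp he hed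
  let Φ : X →* GL (Fin d) (ZMod p) := ψ.comp (coreFrattiniHom p X)
  have hΦ : Φ.ker = pCore p X := by
    ext g
    have h : g ∈ (coreFrattiniHom p X).ker ↔ g ∈ pCore p X := by rw [ker_coreFrattiniHom hc hO]
    rw [← h, MonoidHom.mem_ker, MonoidHom.mem_ker]
    exact map_eq_one_iff ψ hψ
  refine ⟨QuotientGroup.lift (pCore p X) Φ hΦ.ge, ?_⟩
  rw [← MonoidHom.ker_eq_bot_iff, QuotientGroup.ker_lift, hΦ, QuotientGroup.map_mk'_self]

end CfsgLib.Small
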