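import Cfsg.Agent.Lib.Small.SixOnSixteenPerm
import Cfsg.Agent.Lib.Small.FrattiniEmbed
import Cfsg.Agent.Lib.Classical.PSLSimple

/-!
A 2-constrained group of sectional 2-rank at most 4 with trivial odd core has no subgroup
isomorphic to the symmetric group of degree 6 in its quotient by the 2-core.
-/

set_option autoImplicit false
set_option linter.style.haveILetI false

open Cfsg
open scoped commutatorElement

namespace CfsgLib.Small.SixOnSixteen

/-- The sectional rank bound passes to quotients. -/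
theorem sectionalPRankLE_of_surjective {X : Type*} [Group X] {Y : Type*} [Group Y] {p k : ℕ}
    (f : X →* Y) (hf : Function.Surjective f) (h : SectionalPRankLE p k X) :
    SectionalPRankLE p k Y := by
  intro H N _ A hA hAp
  have hmem : ∀ x : H.comap f, f x ∈ H := fun x => x.2
  let g : H.comap f →* H ⧸ N :=
    (QuotientGroup.mk' N).comp ((f.comp (H.comap f).subtype).codRestrict H hmem)
  have hg : Function.Surjective g := by
    intro q
    obtain ⟨⟨y, hy⟩, rfl⟩ := QuotientGroup.mk'_surjective N q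
    obtain ⟨x, rfl⟩ := hf y
    exact ⟨⟨x, hy⟩, rfl⟩
  let e : H.comap f ⧸ g.ker ≃* H ⧸ N := QuotientGroup.quotientKerEquivOfSurjective g hg
  haveI := hA
  have hc : ∀ a ∈ A, ∀ b ∈ A, a * b = b * a := fun a ha b hb =>
    congrArg Subtype.val (hA.is_comm.comm ⟨a, ha⟩ ⟨b, hb⟩)
  have hcard : Nat.card (A.map e.symm.toMonoidHom) ≤ p ^ k := h _ g.ker (A.map e.symm.toMonoidHom)
    ⟨⟨by
      rintro ⟨_, a, ha, rfl⟩ ⟨_, b, hb, rfl⟩
      exact Subtype.ext (by
        show e.symm a * e.symm b = e.symm b * e.symm a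
        rw [← map_mul, ← map_mul, hc a ha b hb])⟩⟩
    (by
      rintro _ ⟨a, ha, rfl⟩
      rw [← map_pow, hAp a ha, map_one])
  rwa [← Nat.card_congr (A.equivMapOfInjective e.symm.toMonoidHom e.symm.injective).toEquiv]
    at hcard

/-- No symmetric group of degree 6 above the 2-core in sectional rank at most 4. -/
theorem no_perm_six {X : Type*} [Group X] [Finite X] (hc : IsPConstrained 2 X)
    (hO : oddCore X = ⊥) (hX : SectionalPRankLE 2 4 X)
    (h4 : SectionalPRankLE 2 4 ↥(pCore 2 X))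
    (ι : Equiv.Perm (Fin 6) →* X ⧸ pCore 2 X) (hι : Function.Injective ι) : False := by
  classical
  have hQ := CfsgLib.Base.isPGroup_pCore 2 X
  set Q := pCore 2 X with hQdef
  set F : Subgroup X := (frattini ↥Q).map Q.subtype with hF
  haveI : F.Normal := by rw [hF]; infer_instance
  have hFQ : F ≤ Q := Subgroup.map_subtype_le _
  set K : Subgroup (X ⧸ F) := Q.map (QuotientGroup.mk' F) with hK
  have hmk : ∀ x : ↥Q, x ∈ frattini ↥Q → ((x : X) : X ⧸ F) = 1 := fun x hx =>
    (QuotientGroup.eq_one_iff _).2 ⟨x, hx, rfl⟩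
  have hcom : ∀ a ∈ K, ∀ b ∈ K, a * b = b * a := by
    rintro _ ⟨x, hx, rfl⟩ _ ⟨y, hy, rfl⟩
    rw [← map_mul, ← map_mul, QuotientGroup.mk'_apply, QuotientGroup.mk'_apply, QuotientGroup.eq]
    refine ⟨(⟨x, hx⟩ * ⟨y, hy⟩)⁻¹ * (⟨y, hy⟩ * ⟨x, hx⟩), ?_, rfl⟩
    have : ((⟨x, hx⟩ : ↥Q) * ⟨y, hy⟩)⁻¹ * (⟨y, hy⟩ * ⟨x, hx⟩) =
        ⁅(⟨y, hy⟩ : ↥Q)⁻¹, (⟨x, hx⟩ : ↥Q)⁻¹⁆ := by
      rw [commutatorElement_def]; group
    rw [SetLike.mem_coe, this]
    exact CfsgLib.PGroups.commutator_le_frattini hQ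
      (Subgroup.commutator_mem_commutator (Subgroup.mem_top _) (Subgroup.mem_top _))
  haveI : IsMulCommutative K := CfsgLib.Base.isMulCommutative_subgroup_iff.2 hcom
  have hexp : ∀ v : K, v * v = 1 := by
    rintro ⟨_, x, hx, rfl⟩
    apply Subtype.ext
    show QuotientGroup.mk' F x * QuotientGroup.mk' F x = 1
    rw [← map_mul]
    have := hmk _ (CfsgLib.PGroups.pow_mem_frattini hQ ⟨x, hx⟩)
    rwa [SubmonoidClass.coe_pow, pow_two] at this
  haveI : K.Normal := Subgroup.Normal.map inferInstance _ (QuotientGroup.mk'_surjective F)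
  let E : (X ⧸ F) ⧸ K ≃* X ⧸ Q := QuotientGroup.quotientQuotientEquivQuotient F Q hFQ
  set ι' : Equiv.Perm (Fin 6) →* (X ⧸ F) ⧸ K := E.symm.toMonoidHom.comp ι with hι'
  have hι'i : Function.Injective ι' := E.symm.injective.comp hι
  have hker : ∀ g : X, quotientAct K ((g : X ⧸ F) : (X ⧸ F) ⧸ K) = 1 → g ∈ Q := by
    intro g hg
    have hk : coreFrattiniHom 2 X g = 1 := by
      refine MulEquiv.ext fun v => ?_
      induction v using QuotientGroup.induction_on with
      | H x =>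
        rw [coreFrattiniHom_mk]
        show _ = (x : ↥(pCore 2 X) ⧸ frattini ↥(pCore 2 X))
        rw [QuotientGroup.eq]
        have h := congrArg Subtype.val (DFunLike.congr_fun hg
          ⟨((x : X) : X ⧸ F), x, x.2, rfl⟩)
        rw [quotientAct_mk] at h
        have h' : ((g * x * g⁻¹ : X) : X ⧸ F) = ((x : X) : X ⧸ F) := h
        rw [QuotientGroup.eq] at h'
        obtain ⟨z, hz, hze⟩ := h'
        have he : (MulAut.conjNormal g x)⁻¹ * x = z := Subtype.ext (by
          rw [Subgroup.coe_mul, InvMemClass.coe_inv, MulAut.conjNormal_apply]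
          exact hze.symm)
        rw [he]
        exact hz
    exact (ker_coreFrattiniHom (p := 2) hc hO).le (MonoidHom.mem_ker.2 hk)
  have hρ : Function.Injective ((quotientAct K).comp ι') := by
    rw [← MonoidHom.ker_eq_bot_iff, Subgroup.eq_bot_iff_forall]
    intro σ hσ
    obtain ⟨y, hy⟩ := QuotientGroup.mk_surjective (ι' σ)
    obtain ⟨g, rfl⟩ := QuotientGroup.mk_surjective y
    rw [MonoidHom.mem_ker, MonoidHom.comp_apply, ← hy] at hσ
    apply hι'i
    rw [map_one, ← hy, QuotientGroup.eq_one_iff]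
    exact ⟨g, hker g hσ, rfl⟩
  obtain ⟨e, he⟩ := IsPGroup.iff_card.1 ((hQ.map (QuotientGroup.mk' F)) : IsPGroup 2 K)
  have he4 : e ≤ 4 := by
    let p0 : ↥(⊤ : Subgroup ↥Q) →* K :=
      (((QuotientGroup.mk' F).comp Q.subtype).codRestrict K fun x =>
        Subgroup.mem_map_of_mem (QuotientGroup.mk' F) x.2).comp
        (⊤ : Subgroup ↥Q).subtype
    have hp0 : Function.Surjective p0 := by
      rintro ⟨_, x, hx, rfl⟩
      exact ⟨⟨⟨x, hx⟩, Subgroup.mem_top _⟩, rfl⟩
    let e0 := QuotientGroup.quotientKerEquivOfSurjective p0 hp0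
    have h1 : IsMulCommutative (⊤ : Subgroup (↥(⊤ : Subgroup ↥Q) ⧸ p0.ker)) :=
      ⟨⟨fun a b => Subtype.ext (e0.injective (by
        rw [Subgroup.coe_mul, Subgroup.coe_mul, map_mul, map_mul]
        exact Subtype.ext (hcom _ (e0 a.1).2 _ (e0 b.1).2)))⟩⟩
    have h2 : ∀ a ∈ (⊤ : Subgroup (↥(⊤ : Subgroup ↥Q) ⧸ p0.ker)), a ^ 2 = 1 :=
      fun a _ => e0.injective (by rw [map_pow, map_one, pow_two]; exact hexp _)
    have h := h4 ⊤ p0.ker ⊤ h1 h2
    rw [Nat.card_congr Subgroup.topEquiv.toEquiv, Nat.card_congr e0.toEquiv, he] at h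
    exact (Nat.pow_le_pow_iff_right (by norm_num)).1 h
  have hcard : Nat.card K = 16 := by
    have he3 : ¬ e ≤ 3 := by
      intro h3
      haveI : Fact (Nat.Prime 2) := ⟨Nat.prime_two⟩
      obtain ⟨ψ, hψ⟩ := exists_mulAut_embedding_GL (A := ↥K) (p := 2)
        (fun a b => Subtype.ext (hcom _ a.2 _ b.2)) (fun a => by rw [pow_two]; exact hexp a) he h3
      have hd := Subgroup.card_dvd_of_injective (ψ.comp ((quotientAct K).comp ι')) (hψ.comp hρ)
      rw [Nat.card_perm, Nat.card_fin, CfsgLib.Classical.card_GL_fin, Nat.card_zmod] at hd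
      revert hd
      decide
    rw [he, show e = 4 by omega]; rfl
  exact not_sectionalPRankLE_perm_six K hexp hcard ι' hι'i hρ
    (sectionalPRankLE_of_surjective (QuotientGroup.mk' F) (QuotientGroup.mk'_surjective F) hX)

end CfsgLib.Small.SixOnSixteen
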