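import Cfsg.Prelude.Def_DegreeGraph
import Cfsg.Agent.S4774
import Cfsg.Agent.S0998
import Cfsg.Agent.Lib.Base.MinimalNormal
import Cfsg.Agent.Lib.Perm.Zass.Complement
import Cfsg.Agent.Lib.CharsMore.ItoDegree
import Cfsg.Agent.Lib.CharsMore.CoherenceDescent
import Cfsg.Agent.Lib.Chars.Product
import Cfsg.Agent.Lib.CharApps.SLTwoDegrees
import Cfsg.Agent.Lib.CharsMore.DegreesPSL.Recognise
import Cfsg.Agent.Lib.Classical.Order
import Cfsg.Agent.Lib.Small.Order360

/-!
# Groups with the order and the degree graph of a small simple group are simple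

The orders are those of the simple groups of order below 6000; the list is a hypothesis.
-/

set_option autoImplicit false
set_option linter.unusedSectionVars false
set_option linter.style.haveILetI false

open Subgroup
open scoped Pointwise commutatorElement

namespace CfsgLib.Small.DegGraph

open Cfsg

universe u

/-- The orders of the simple groups below 6000. -/
def orders : List ℕ := [60, 168, 360, 504, 660, 1092, 2448, 2520, 3420, 4080, 5616]

/-- The classification of the small simple orders, as a hypothesis. -/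
def Sieve : Prop :=
  ∀ (T : Type u) [Group T] [Finite T] [IsSimpleGroup T], ¬ IsMulCommutative T →
    Nat.card T < 6000 → Nat.card T ∈ orders

/-! ### Fixed points of automorphisms of prime order -/

/-- The fixed subgroup of an automorphism. -/
def fix {X : Type*} [Group X] (φ : MulAut X) : Subgroup X where
  carrier := {x | φ x = x}
  one_mem' := map_one φ
  mul_mem' := fun {a b} (ha : φ a = a) (hb : φ b = b) => show φ (a * b) = a * b by rw [map_mul, ha, hb]
  inv_mem' := fun {a} (ha : φ a = a) => show φ a⁻¹ = a⁻¹ by rw [map_inv, ha]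

theorem mem_fix {X : Type*} [Group X] {φ : MulAut X} {x : X} : x ∈ fix φ ↔ φ x = x := Iff.rfl

theorem isPGroup_zpowers {X : Type*} [Group X] {r : ℕ} {x : X} (hx : x ^ r = 1) :
    IsPGroup r ↥(zpowers x) := by
  rintro ⟨y, k, rfl⟩
  refine ⟨1, Subtype.ext ?_⟩
  show (x ^ k) ^ r ^ 1 = 1
  rw [pow_one, ← zpow_natCast, ← zpow_mul, mul_comm, zpow_mul, zpow_natCast, hx, one_zpow]

theorem card_fix_modEq {X : Type*} [Group X] [Finite X] {r : ℕ} [Fact r.Prime] {φ : MulAut X}
    (hφ : φ ^ r = 1) : Nat.card X ≡ Nat.card ↥(fix φ) [MOD r] := by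
  have h := (isPGroup_zpowers hφ).card_modEq_card_fixedPoints X
  have e : Nat.card (MulAction.fixedPoints ↥(zpowers φ) X) = Nat.card ↥(fix φ) := by
    refine Nat.card_congr (Equiv.setCongr ?_)
    ext x
    constructor
    · intro hx
      exact hx ⟨φ, mem_zpowers φ⟩
    · intro hx z
      obtain ⟨z, n, rfl⟩ := z
      have hmem : φ ∈ MulAction.stabilizer (MulAut X) x := hx
      exact zpow_mem hmem n
  rwa [e] at h

/-- An automorphism of prime order of a `q`-group is trivial unless some `q ^ i` is `1` mod it. -/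
theorem fix_eq_top {X : Type*} [Group X] [Finite X] {r q a : ℕ} [hr : Fact r.Prime] (hq : q.Prime)
    (hqr : q ≠ r) (hX : Nat.card X = q ^ a) (hno : ∀ i < a, q ^ (i + 1) % r ≠ 1)
    {φ : MulAut X} (hφ : φ ^ r = 1) : fix φ = ⊤ := by
  obtain ⟨i, hia, hi⟩ := (Nat.dvd_prime_pow hq).1 (hX ▸ card_subgroup_dvd_card (fix φ))
  rcases hia.lt_or_eq with hlt | heq
  · exfalso
    obtain ⟨j, rfl⟩ := Nat.exists_eq_add_of_lt hlt
    have h := card_fix_modEq hφ
    rw [hX, hi, show q ^ (i + j + 1) = q ^ i * q ^ (j + 1) by rw [← pow_add]; ring_nf] at h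
    have h' : q ^ (j + 1) ≡ 1 [MOD r] := by
      refine Nat.ModEq.cancel_left_of_coprime (c := q ^ i) ?_ (by rwa [mul_one])
      exact ((Nat.coprime_primes hr.out hq).2 hqr.symm).pow_right i
    exact hno j (by omega) (by rw [h', Nat.mod_eq_of_lt hr.out.one_lt])
  · exact eq_top_of_card_eq _ (by rw [hi, heq, hX])

/-- The fixed subgroup contains a Sylow subgroup in that situation. -/
theorem pow_dvd_fix {T : Type*} [Group T] [Finite T] {r : ℕ} [hr : Fact r.Prime]
    (hrT : ¬ r ∣ Nat.card T) {φ : MulAut T} (hφ : φ ^ r = 1) {q a : ℕ} (hq : q.Prime) (hqr : q ≠ r)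
    (ha : Nat.card T = q ^ a * (Nat.card T / q ^ a)) (ha' : ¬ q ∣ Nat.card T / q ^ a)
    (hno : ∀ i < a, q ^ (i + 1) % r ≠ 1) : q ^ a ∣ Nat.card ↥(fix φ) := by
  haveI := Fact.mk hq
  have hn : ¬ r ∣ Nat.card (Sylow q T) := fun h => by
    obtain ⟨Q⟩ := (inferInstance : Nonempty (Sylow q T))
    rw [Q.card_eq_index_normalizer] at h
    exact hrT (h.trans (Subgroup.index_dvd_card _))
  obtain ⟨Q, hQ⟩ := (isPGroup_zpowers hφ).nonempty_fixed_point_of_prime_not_dvd_card
    (Sylow q T) hn
  have hcard : Nat.card ↥(Q : Subgroup T) = q ^ a := card_sylow_eq a _ ha ha' Q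
  have hmap : (Q : Subgroup T).map (φ : T ≃* T).toMonoidHom = Q := by
    have h := hQ ⟨φ, mem_zpowers φ⟩
    exact congrArg Sylow.toSubgroup h
  let ψ : MulAut ↥(Q : Subgroup T) :=
    ((φ : T ≃* T).subgroupMap (Q : Subgroup T)).trans (MulEquiv.subgroupCongr hmap)
  have hψn : ∀ (n : ℕ) (x : ↥(Q : Subgroup T)), (((ψ ^ n) x : ↥(Q : Subgroup T)) : T) = (φ ^ n) x := by
    intro n
    induction n with
    | zero => intro x; rfl
    | succ n ih =>
      intro x
      rw [pow_succ', pow_succ', MulAut.mul_apply, MulAut.mul_apply, ← ih x]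
      rfl
  have hψ : ψ ^ r = 1 := MulEquiv.ext fun x => Subtype.ext (by rw [hψn r x, hφ]; rfl)
  have htop := fix_eq_top hq hqr hcard hno hψ
  have hle : (Q : Subgroup T) ≤ fix φ := fun x hx => by
    have h : ψ ⟨x, hx⟩ = ⟨x, hx⟩ := mem_fix.1 (htop ▸ mem_top (⟨x, hx⟩ : ↥(Q : Subgroup T)))
    exact congrArg Subtype.val h
  exact hcard ▸ card_dvd_of_le hle

/-! ### Degrees -/

theorem not_degreePrime {G : Type u} [Group G] [Finite G] {q : ℕ} (hq : q.Prime) (A : Subgroup G)
    [A.Normal] (hA : ∀ a ∈ A, ∀ b ∈ A, a * b = b * a) (hidx : ¬ q ∣ A.index) :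
    q ∉ degreePrimes G := by
  haveI := Fintype.ofFinite G
  haveI := Fintype.ofFinite A
  rintro ⟨-, d, ⟨χ, rfl⟩, hd⟩
  obtain ⟨k, hk, hk'⟩ := CharsMore.ito_degree_dvd A hA χ.2
  rw [CharApps.deg_eq, Nat.cast_inj] at hk
  exact hidx ((hk ▸ hd).trans hk')

theorem not_degreePrime_of_card {G : Type u} [Group G] [Finite G] {q a : ℕ} (hq : q.Prime)
    (A : Subgroup G) [A.Normal] (hA : ∀ x ∈ A, ∀ y ∈ A, x * y = y * x)
    (hcard : Nat.card ↥A = q ^ a) (hfull : ¬ q ^ (a + 1) ∣ Nat.card G) : q ∉ degreePrimes G := by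
  refine not_degreePrime hq A hA fun h => hfull ?_
  rw [← A.card_mul_index, hcard, pow_succ]
  exact Nat.mul_dvd_mul_left _ h

theorem not_degreePrime_of_sylow {G : Type u} [Group G] [Finite G] {r : ℕ} [hr : Fact r.Prime]
    (hG : r ∣ Nat.card G) (hr2 : ¬ r ^ 2 ∣ Nat.card G) (P : Sylow r G) (hP : (P : Subgroup G).Normal) :
    r ∉ degreePrimes G := by
  haveI := hP
  obtain ⟨m, hm⟩ := hG
  have hm' : ¬ r ∣ m := fun h => hr2 (by rw [hm, pow_two]; exact Nat.mul_dvd_mul_left r h)
  have hc : Nat.card ↥(P : Subgroup G) = r ^ 1 := card_sylow_eq 1 m (by rw [pow_one, hm]) hm' P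
  refine not_degreePrime_of_card hr.out (P : Subgroup G) (fun x hx y hy => ?_) hc hr2
  haveI : IsCyclic ↥(P : Subgroup G) := isCyclic_of_prime_card (p := r) (by rw [hc, pow_one])
  exact congrArg Subtype.val (IsCyclic.commGroup.mul_comm (⟨x, hx⟩ : ↥(P : Subgroup G)) ⟨y, hy⟩)

/-! ### The solvable case -/

/-- In a solvable group with a Sylow subgroup of prime order `r` which is not normal, some Sylow
subgroup for the only prime power which is `1` mod `r` is normal and abelian. -/
theorem exists_normal_abelian {r q₀ a N : ℕ} [hr : Fact r.Prime]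
    (hq₀ : q₀.Prime) (hfull : ¬ q₀ ^ (a + 1) ∣ N)
    (hpp : ∀ q i : ℕ, q.Prime → q ≠ r → 1 ≤ i → q ^ i ∣ N → q ^ i % r = 1 → q = q₀ ∧ i = a) :
    ∀ (n : ℕ) (X : Type u) [Group X] [Finite X] [Group.IsSolvable X], Nat.card X ≤ n →
      Nat.card X ∣ N → ∀ R : Sylow r X, Nat.card ↥(R : Subgroup X) = r → ¬ (R : Subgroup X).Normal →
      ∃ A : Subgroup X, A.Normal ∧ (∀ x ∈ A, ∀ y ∈ A, x * y = y * x) ∧ Nat.card ↥A = q₀ ^ a ∧
        ¬ (R : Subgroup X) ≤ centralizer (A : Set X) := by
  intro n
  induction n with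
  | zero => intro X _ _ _ hn; exact absurd hn (by have := Nat.card_pos (α := X); omega)
  | succ n ih =>
    intro X _ _ _ hn hN R hR hRn
    haveI : Nontrivial X := by
      by_contra h
      rw [not_nontrivial_iff_subsingleton] at h
      exact hRn (Subgroup.Normal.mk fun x hx g => by rw [Subsingleton.elim (g * x * g⁻¹) x]; exact hx)
    obtain ⟨M, hM⟩ := CfsgLib.Base.exists_isMinimalNormal (G := X)
    haveI := hM.normal
    obtain ⟨q, hq, hMc, -, hMq⟩ := hM.exists_prime inferInstance
    have hMcomm : ∀ x ∈ M, ∀ y ∈ M, x * y = y * x := fun x hx y hy =>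
      congrArg Subtype.val (hMc.is_comm.comm (⟨x, hx⟩ : ↥M) ⟨y, hy⟩)
    haveI := Fact.mk hq
    obtain ⟨i, hi⟩ := (IsPGroup.iff_card).1 hMq
    have hi1 : 1 ≤ i := by
      rcases Nat.eq_zero_or_pos i with h | h
      · exact absurd (M.eq_bot_of_card_eq (by rw [hi, h, pow_zero])) hM.ne_bot
      · exact h
    by_cases hqr : q = r
    · subst hqr
      obtain ⟨P, hP⟩ := hMq.exists_le_sylow
      obtain ⟨g, rfl⟩ := MulAction.exists_smul_eq X R P
      have h1 : Nat.card ↥((g • R : Sylow q X) : Subgroup X) = q :=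
        (Nat.card_congr (Sylow.equiv (g • R : Sylow q X) R).toEquiv).trans hR
      have h2 : M = ((g • R : Sylow q X) : Subgroup X) := by
        refine eq_of_le_of_card_ge hP ?_
        rw [h1, hi]
        exact Nat.le_self_pow (by omega) q
      refine absurd ?_ hRn
      have hR' : (g • R : Sylow q X) = R := by
        have hn' : ((g • R : Sylow q X) : Subgroup X).Normal := h2 ▸ hM.normal
        exact (Sylow.unique_of_normal _ hn').uniq R ▸ ((Sylow.unique_of_normal _ hn').uniq _)
      rw [← hR', ← h2]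
      exact hM.normal
    by_cases hC : (R : Subgroup X) ≤ centralizer (M : Set X)
    · -- the centralised case
      have hMne : 1 < Nat.card ↥M := by
        rw [hi]; exact Nat.one_lt_pow (by omega) hq.one_lt
      have hlt : Nat.card (X ⧸ M) < Nat.card X := by
        have := M.card_eq_card_quotient_mul_card_subgroup
        have hpos := Nat.card_pos (α := X ⧸ M)
        nlinarith
      let π := QuotientGroup.mk' M
      have hπ : Function.Surjective π := QuotientGroup.mk'_surjective M
      let R' : Sylow r (X ⧸ M) := R.mapSurjective hπ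
      have hR'c : ((R' : Sylow r (X ⧸ M)) : Subgroup (X ⧸ M)) = (R : Subgroup X).map π := rfl
      have hinj : ∀ x ∈ (R : Subgroup X), x ∈ M → x = 1 := fun x hx hxM => by
        have h1 := orderOf_dvd_natCard (⟨x, hx⟩ : ↥(R : Subgroup X))
        have h2 := orderOf_dvd_natCard (⟨x, hxM⟩ : ↥M)
        rw [orderOf_mk, hR] at h1
        rw [orderOf_mk, hi] at h2
        have hco : Nat.Coprime r (q ^ i) := ((Nat.coprime_primes hr.out hq).2 (Ne.symm hqr)).pow_right i
        exact orderOf_eq_one_iff.1 (Nat.eq_one_of_dvd_coprimes hco h1 h2)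
      have hR' : Nat.card ↥(R' : Subgroup (X ⧸ M)) = r := by
        rw [hR'c]
        refine Eq.trans ?_ hR
        refine (Nat.card_congr (Equiv.ofBijective
          (fun x : ↥(R : Subgroup X) => (⟨π x, mem_map_of_mem π x.2⟩ : ↥((R : Subgroup X).map π)))
          ⟨fun x y h => ?_, fun ⟨y, hy⟩ => ?_⟩)).symm
        · have h' : (x : X)⁻¹ * y ∈ M := QuotientGroup.eq.1 (congrArg Subtype.val h)
          exact Subtype.ext (inv_mul_eq_one.1 (hinj _ (mul_mem (inv_mem x.2) y.2) h'))
        · obtain ⟨x, hx, rfl⟩ := hy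
          exact ⟨⟨x, hx⟩, rfl⟩
      have hR'n : ¬ (R' : Subgroup (X ⧸ M)).Normal := by
        intro hn'
        refine hRn ⟨fun x hx g => ?_⟩
        obtain ⟨y, hy, hy'⟩ : π (g * x * g⁻¹) ∈ (R : Subgroup X).map π := by
          rw [map_mul, map_mul, map_inv]
          exact hn'.conj_mem _ (mem_map_of_mem π hx) _
        set m := y⁻¹ * (g * x * g⁻¹) with hm
        have hmM : m ∈ M := QuotientGroup.eq.1 hy'
        have hyx : g * x * g⁻¹ = y * m := by rw [hm, mul_inv_cancel_left]
        have hym : Commute y m := (mem_centralizer_iff.1 (hC hy) m hmM).symm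
        have hxr : x ^ r = 1 := by
          have := pow_card_eq_one' (x := (⟨x, hx⟩ : ↥(R : Subgroup X)))
          rw [hR] at this
          exact congrArg Subtype.val this
        have hyr : y ^ r = 1 := by
          have := pow_card_eq_one' (x := (⟨y, hy⟩ : ↥(R : Subgroup X)))
          rw [hR] at this
          exact congrArg Subtype.val this
        have hmr : m ^ r = 1 := by
          have h1 : (g * x * g⁻¹) ^ r = 1 := by rw [conj_pow, hxr, mul_one, mul_inv_cancel]
          rwa [hyx, hym.mul_pow, hyr, one_mul] at h1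
        have hmq : m ^ (q ^ i) = 1 := by
          have := pow_card_eq_one' (x := (⟨m, hmM⟩ : ↥M))
          rw [hi] at this
          exact congrArg Subtype.val this
        have hco : Nat.Coprime r (q ^ i) := ((Nat.coprime_primes hr.out hq).2 (Ne.symm hqr)).pow_right i
        have hm1 := pow_gcd_eq_one.2 ⟨hmr, hmq⟩
        rw [hco, pow_one] at hm1
        rw [hyx, hm1, mul_one]
        exact hy
      obtain ⟨A', hA'n, hA'c, hA'card, hA'R⟩ := ih (X ⧸ M) (by omega)
        ((M.card_quotient_dvd_card).trans hN) R' hR' hR'n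
      haveI := hA'n
      set Y : Subgroup X := A'.comap π with hY
      haveI hYn : Y.Normal := hA'n.comap π
      have hcY : Nat.card ↥Y = q₀ ^ a * q ^ i := by
        have h1 : Y.index = A'.index := A'.index_comap_of_surjective hπ
        have h2 := Y.card_mul_index
        have h3 := A'.card_mul_index
        have h4 := M.card_eq_card_quotient_mul_card_subgroup
        rw [h1, h4, ← h3, hA'card, hi] at h2
        exact Nat.eq_of_mul_eq_mul_right (Nat.pos_of_ne_zero index_ne_zero_of_finite)
          (by rw [h2]; ring)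
      have hq0 : q ≠ q₀ := by
        intro e
        subst e
        refine hfull ((Dvd.dvd.trans ?_ (card_subgroup_dvd_card Y)).trans hN)
        rw [hcY, ← pow_add]
        exact pow_dvd_pow _ (by omega)
      haveI := Fact.mk hq₀
      -- the automorphism of the quotient given by a generator
      have hRne : (R : Subgroup X) ≠ ⊥ := fun e => by
        rw [e, card_bot] at hR
        exact hr.out.one_lt.ne hR
      obtain ⟨x, hx, hxA⟩ : ∃ x ∈ (R : Subgroup X), π x ∉ centralizer (A' : Set (X ⧸ M)) := by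
        by_contra! h
        refine hA'R ?_
        rw [hR'c, map_le_iff_le_comap]
        exact h
      let φ : MulAut ↥A' := MulAut.conjNormal (π x)
      have hφ : φ ^ r = 1 := by
        have hxr : x ^ r = 1 := by
          have := pow_card_eq_one' (x := (⟨x, hx⟩ : ↥(R : Subgroup X)))
          rw [hR] at this
          exact congrArg Subtype.val this
        show (MulAut.conjNormal (π x)) ^ r = 1
        rw [← map_pow, ← map_pow, hxr, map_one, map_one]
      have hq0r : q₀ ≠ r := by
        intro e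
        subst e
        rcases Nat.eq_zero_or_pos a with h0 | h0
        · subst h0
          have : A' = ⊥ := A'.eq_bot_of_card_eq (by rw [hA'card, pow_zero])
          apply hxA
          rw [mem_centralizer_iff]
          intro y hy
          rw [this, SetLike.mem_coe, mem_bot] at hy
          subst hy
          simp
        · have h1 := card_subgroup_dvd_card Y
          have h2 : q₀ ^ (a + 1) ∣ N := by
            refine Dvd.dvd.trans ?_ hN
            have h4 := card_subgroup_dvd_card A'
            rw [hA'card] at h4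
            have h5 : q₀ ^ a * q₀ ∣ Nat.card X := by
              rw [M.card_eq_card_quotient_mul_card_subgroup]
              have h6 : ¬ q₀ ∣ Nat.card ↥M := by
                rw [hi]
                exact fun h => hq0 ((Nat.prime_dvd_prime_iff_eq hq₀ hq).1 (hq₀.dvd_of_dvd_pow h)).symm
              by_contra hh
              exact hh (Dvd.dvd.mul_right (by
                have hle : Nat.card ↥(R' : Subgroup (X ⧸ M)) = q₀ := hR'
                have h7 : A' ≤ (R' : Subgroup (X ⧸ M)) := by
                  obtain ⟨P, hP⟩ := (IsPGroup.of_card hA'card).exists_le_sylow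
                  obtain ⟨g, rfl⟩ := MulAction.exists_smul_eq (X ⧸ M) R' P
                  intro z hz
                  have hz' : g * z * g⁻¹ ∈ A' := hA'n.conj_mem z hz g
                  have := hP hz'
                  rw [Sylow.coe_subgroup_smul, Subgroup.mem_pointwise_smul_iff_inv_smul_mem] at this
                  simpa [MulAut.smul_def, mul_assoc] using this
                have h8 : A' = (R' : Subgroup (X ⧸ M)) := eq_of_le_of_card_ge h7 (by
                  rw [hle, hA'card]; exact Nat.le_self_pow (by omega) q₀)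
                exact absurd (h8 ▸ hA'n) hR'n) _)
            rwa [pow_succ]
          exact hfull h2
      -- no fixed points
      have hfix : fix φ = ⊥ := by
        obtain ⟨j, hja, hj⟩ := (Nat.dvd_prime_pow hq₀).1 (hA'card ▸ card_subgroup_dvd_card (fix φ))
        rcases Nat.eq_zero_or_pos j with h0 | h0
        · exact eq_bot_of_card_eq _ (by rw [hj, h0, pow_zero])
        exfalso
        rcases hja.lt_or_eq with hlt' | heq
        · obtain ⟨k, hk⟩ := Nat.exists_eq_add_of_lt hlt'
          have h := card_fix_modEq hφ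
          rw [hA'card, hj, hk, show q₀ ^ (j + k + 1) = q₀ ^ j * q₀ ^ (k + 1) by rw [← pow_add]; ring_nf] at h
          have h' : q₀ ^ (k + 1) ≡ 1 [MOD r] := by
            refine Nat.ModEq.cancel_left_of_coprime (c := q₀ ^ j) ?_ (by rwa [mul_one])
            exact ((Nat.coprime_primes hr.out hq₀).2 (Ne.symm hq0r)).pow_right j
          have hdv : q₀ ^ (k + 1) ∣ N :=
            ((pow_dvd_pow q₀ (show k + 1 ≤ a by omega)).trans
              ((hA'card ▸ card_subgroup_dvd_card A').trans M.card_quotient_dvd_card)).trans hN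
          have := (hpp q₀ (k + 1) hq₀ hq0r (by omega) hdv
            (by rw [h', Nat.mod_eq_of_lt hr.out.one_lt])).2
          omega
        · apply hxA
          rw [mem_centralizer_iff]
          intro y hy
          have htop : fix φ = ⊤ := eq_top_of_card_eq _ (by rw [hj, heq, hA'card])
          have h1 : φ ⟨y, hy⟩ = ⟨y, hy⟩ := mem_fix.1 (htop ▸ mem_top (⟨y, hy⟩ : ↥A'))
          have h2 : π x * y * (π x)⁻¹ = y := congrArg Subtype.val h1
          exact (mul_inv_eq_iff_eq_mul.1 h2).symm
      -- so the centraliser covers the quotient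
      have hmem : ∀ z : ↥A', ∃ y ∈ Y ⊓ centralizer (M : Set X), π y = z := by
        have hinjd : Function.Injective (fun z : ↥A' => z * (φ z)⁻¹) := by
          intro z w h
          have h' : w⁻¹ * z ∈ fix φ := by
            rw [mem_fix, map_mul, map_inv]
            calc (φ w)⁻¹ * φ z = w⁻¹ * (w * (φ w)⁻¹) * φ z := by group
              _ = w⁻¹ * (z * (φ z)⁻¹) * φ z := by rw [← (show z * (φ z)⁻¹ = w * (φ w)⁻¹ from h)]
              _ = w⁻¹ * z := by group
          rw [hfix, mem_bot, inv_mul_eq_one] at h'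
          exact h'.symm
        intro z
        obtain ⟨w, rfl⟩ := (Finite.injective_iff_surjective.1 hinjd) z
        obtain ⟨y, hy⟩ := hπ (w : X ⧸ M)
        have hyY : y ∈ Y := by rw [hY, mem_comap, hy]; exact w.2
        refine ⟨y * (x * y * x⁻¹)⁻¹, Subgroup.mem_inf.2 ⟨mul_mem hyY (inv_mem (hYn.conj_mem _ hyY x)), ?_⟩, ?_⟩
        · rw [show y * (x * y * x⁻¹)⁻¹ = (y * x * y⁻¹) * x⁻¹ by group]
          exact mul_mem ((inferInstance : (centralizer (M : Set X)).Normal).conj_mem x (hC hx) y)
            (inv_mem (hC hx))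
        · rw [map_mul, map_inv, map_mul, map_mul, map_inv, hy]
          show (w : X ⧸ M) * (π x * (w : X ⧸ M) * (π x)⁻¹)⁻¹ = ((w * (φ w)⁻¹ : ↥A') : X ⧸ M)
          rw [Subgroup.coe_mul, Subgroup.coe_inv]
          rfl
      have hYM : ∀ y ∈ Y, y ∈ centralizer (M : Set X) := by
        intro y hy
        obtain ⟨z, ⟨-, hzC⟩, hz⟩ := hmem ⟨π y, hy⟩
        have h1 : z⁻¹ * y ∈ M := QuotientGroup.eq.1 hz
        have h2 : z⁻¹ * y ∈ centralizer (M : Set X) :=
          mem_centralizer_iff.2 fun m hm => hMcomm m hm _ h1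
        simpa using mul_mem hzC h2
      obtain ⟨Q⟩ := (inferInstance : Nonempty (Sylow q₀ ↥Y))
      have hQc : Nat.card ↥(Q : Subgroup ↥Y) = q₀ ^ a :=
        card_sylow_eq a (q ^ i) hcY
          (fun h => hq0 ((Nat.prime_dvd_prime_iff_eq hq₀ hq).1 (hq₀.dvd_of_dvd_pow h)).symm) Q
      set B : Subgroup X := (Q : Subgroup ↥Y).map Y.subtype with hB
      have hBc : Nat.card ↥B = q₀ ^ a := by rw [hB, card_map_of_injective Y.subtype_injective, hQc]
      have hBY : B ≤ Y := map_subtype_le _
      have hBM : ∀ z ∈ B, z ∈ M → z = 1 := fun z hz hzM => by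
        have h1 := orderOf_dvd_natCard (⟨z, hz⟩ : ↥B)
        have h2 := orderOf_dvd_natCard (⟨z, hzM⟩ : ↥M)
        rw [orderOf_mk, hBc] at h1
        rw [orderOf_mk, hi] at h2
        exact orderOf_eq_one_iff.1 (Nat.eq_one_of_dvd_coprimes
          (((Nat.coprime_primes hq₀ hq).2 (Ne.symm hq0)).pow a i) h1 h2)
      -- every element of the preimage is a product
      have hprod : ∀ y ∈ Y, ∃ b ∈ B, b⁻¹ * y ∈ M := by
        let f : ↥B → ↥A' := fun b => ⟨π b, hBY b.2⟩
        have hf : Function.Injective f := fun b c h => by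
          have h' : (b : X)⁻¹ * c ∈ M := QuotientGroup.eq.1 (congrArg Subtype.val h)
          exact Subtype.ext (inv_mul_eq_one.1 (hBM _ (mul_mem (inv_mem b.2) c.2) h'))
        have hfs : Function.Surjective f :=
          (hf.bijective_of_nat_card_le (by rw [hBc, hA'card])).2
        intro y hy
        obtain ⟨b, hb⟩ := hfs ⟨π y, hy⟩
        exact ⟨b, b.2, QuotientGroup.eq.1 (congrArg Subtype.val hb)⟩
      have hQn : (Q : Subgroup ↥Y).Normal := by
        refine ⟨fun z hz g => ?_⟩
        obtain ⟨b, hb, hbM⟩ := hprod g g.2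
        obtain ⟨b', hb', rfl⟩ := hb
        set m := (b' : X)⁻¹ * (g : X) with hm
        have e : ((g * z * g⁻¹ : ↥Y) : X) = ((b' * z * b'⁻¹ : ↥Y) : X) := by
          have hzm : m * (z : X) = (z : X) * m := mem_centralizer_iff.1 (hYM _ z.2) m hbM
          show (g : X) * z * (g : X)⁻¹ = (b' : X) * z * (b' : X)⁻¹
          rw [show (g : X) = (b' : X) * m by rw [hm, mul_inv_cancel_left]]
          calc (b' : X) * m * z * ((b' : X) * m)⁻¹ = b' * (m * z) * m⁻¹ * (b' : X)⁻¹ := by group
            _ = b' * z * (b' : X)⁻¹ := by rw [hzm]; group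
        rw [Subtype.ext e]
        exact mul_mem (mul_mem hb' hz) (inv_mem hb')
      haveI hQchar : (Q : Subgroup ↥Y).Characteristic := Q.characteristic_of_normal hQn
      haveI hBn : B.Normal := ConjAct.normal_of_characteristic_of_normal
      refine ⟨B, hBn, fun z hz w hw => ?_, hBc, ?_⟩
      · set c := z * w * (w * z)⁻¹ with hc
        have hcM : c ∈ M := by
          refine (QuotientGroup.eq_one_iff c).1 ?_
          show π c = 1
          rw [hc, map_mul, map_inv, map_mul, map_mul, hA'c _ (hBY hz) _ (hBY hw), mul_inv_cancel]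
        exact mul_inv_eq_one.1 (hBM _ (mul_mem (mul_mem hz hw) (inv_mem (mul_mem hw hz))) hcM)
      · intro hle
        apply hxA
        rw [mem_centralizer_iff]
        intro y hy
        obtain ⟨y', hy'⟩ := hπ y
        obtain ⟨b, hb, hbM⟩ := hprod y' (show π y' ∈ A' by rw [hy']; exact hy)
        rw [show y = π b from hy'.symm.trans (QuotientGroup.eq.2 hbM).symm, ← map_mul, ← map_mul,
          mem_centralizer_iff.1 (hle hx) b hb]
    · -- the full prime power case
      obtain ⟨x, hx, hxM⟩ := SetLike.not_le_iff_exists.1 hC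
      let φ : MulAut ↥M := MulAut.conjNormal x
      have hxr : x ^ r = 1 := by
        have := pow_card_eq_one' (x := (⟨x, hx⟩ : ↥(R : Subgroup X)))
        rw [hR] at this
        exact congrArg Subtype.val this
      have hφ : φ ^ r = 1 := by
        show (MulAut.conjNormal x) ^ r = 1
        rw [← map_pow, hxr, map_one]
      have hex : ∃ j < i, q ^ (j + 1) % r = 1 := by
        by_contra! h
        have htop := fix_eq_top hq hqr hi h hφ
        refine hxM (mem_centralizer_iff.2 fun y hy => ?_)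
        have h1 : φ ⟨y, hy⟩ = ⟨y, hy⟩ := mem_fix.1 (htop ▸ mem_top (⟨y, hy⟩ : ↥M))
        exact (mul_inv_eq_iff_eq_mul.1 (congrArg Subtype.val h1)).symm
      obtain ⟨j, hj, hjr⟩ := hex
      have hiN : q ^ i ∣ N := (hi ▸ card_subgroup_dvd_card M).trans hN
      obtain ⟨e1, e2⟩ := hpp q (j + 1) hq hqr (by omega)
        ((pow_dvd_pow q (by omega)).trans hiN) hjr
      subst e1
      have hia : i = a := by
        by_contra hne
        exact hfull ((pow_dvd_pow q (by omega)).trans hiN)
      exact ⟨M, hM.normal, hMcomm, by rw [hi, hia], hC⟩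

/-! ### Insoluble groups -/

/-- A maximal normal subgroup of a perfect normal subgroup. -/
theorem exists_section {G : Type u} [Group G] [Finite G] (hns : ¬ Group.IsSolvable G) :
    ∃ (D : Subgroup G) (_ : D.Normal) (K : Subgroup ↥D) (_ : K.Normal),
      IsSimpleGroup (↥D ⧸ K) ∧ ¬ IsMulCommutative (↥D ⧸ K) ∧ commutator ↥D = ⊤ := by
  obtain ⟨D, hDn, hDne, hperf⟩ := CfsgLib.Perm.Zass.exists_perfect_normal hns
  haveI : Nontrivial ↥D := (Subgroup.nontrivial_iff_ne_bot D).2 hDne
  obtain ⟨K, ⟨hKn, hKne⟩, hmax⟩ := (Set.toFinite {K : Subgroup ↥D | K.Normal ∧ K ≠ ⊤}).exists_maximal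
    ⟨⊥, inferInstance, bot_ne_top⟩
  haveI : K.Normal := hKn
  haveI hQ : Nontrivial (↥D ⧸ K) := QuotientGroup.nontrivial_iff.2 hKne
  refine ⟨D, hDn, K, hKn, ⟨fun L hL => ?_⟩, fun hc => ?_, hperf⟩
  · by_cases hLt : L.comap (QuotientGroup.mk' K) = ⊤
    · right
      rw [← comap_top (QuotientGroup.mk' K)] at hLt
      exact comap_injective (QuotientGroup.mk'_surjective K) hLt
    · left
      have hle : K ≤ L.comap (QuotientGroup.mk' K) := fun x hx => by
        rw [mem_comap, show QuotientGroup.mk' K x = 1 from (QuotientGroup.eq_one_iff x).2 hx]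
        exact one_mem L
      have := le_antisymm (hmax ⟨hL.comap _, hLt⟩ hle) hle
      apply comap_injective (QuotientGroup.mk'_surjective K)
      rw [MonoidHom.comap_bot, QuotientGroup.ker_mk', this]
  · obtain ⟨x, hx⟩ := exists_ne (1 : ↥D ⧸ K)
    obtain ⟨y, rfl⟩ := QuotientGroup.mk'_surjective K x
    apply hx
    have hy : y ∈ commutator ↥D := hperf ▸ mem_top y
    have hle : commutator ↥D ≤ K := by
      rw [commutator_def, commutator_le]
      intro a _ b _
      rw [← QuotientGroup.eq_one_iff]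
      show QuotientGroup.mk' K ⁅a, b⁆ = 1
      rw [map_commutatorElement, commutatorElement_eq_one_iff_mul_comm]
      exact hc.is_comm.comm _ _
    exact (QuotientGroup.eq_one_iff y).2 (hle hy)

theorem exists_order_dvd (hsieve : Sieve.{u}) {X : Type u} [Group X] [Finite X]
    (hX : Nat.card X < 6000) (hns : ¬ Group.IsSolvable X) : ∃ t ∈ orders, t ∣ Nat.card X := by
  obtain ⟨D, hDn, K, hKn, hT, hna, hperf⟩ := exists_section hns
  haveI := hKn
  haveI := hT
  have hd : Nat.card (↥D ⧸ K) ∣ Nat.card X := (K.card_quotient_dvd_card).trans (card_subgroup_dvd_card D)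
  exact ⟨_, hsieve _ hna ((Nat.le_of_dvd Nat.card_pos hd).trans_lt hX), hd⟩

theorem isSolvable_of_lt (hsieve : Sieve.{u}) {X : Type u} [Group X] [Finite X]
    (hX : Nat.card X < 60) : Group.IsSolvable X := by
  by_contra h
  obtain ⟨t, ht, hd⟩ := exists_order_dvd hsieve (by omega) h
  have h1 := Nat.le_of_dvd Nat.card_pos hd
  have h2 : ∀ t ∈ orders, 60 ≤ t := by decide
  have := h2 t ht
  omega

/-- The automorphism of the section given by an element of the group. -/
noncomputable def secAut {G : Type u} [Group G] {D : Subgroup G} [D.Normal] {K : Subgroup ↥D} [K.Normal]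
    (hK : ∀ g : G, K.map (MulAut.conjNormal g : ↥D ≃* ↥D).toMonoidHom = K) :
    G →* MulAut (↥D ⧸ K) where
  toFun g := QuotientGroup.congr K K (MulAut.conjNormal g) (hK g)
  map_one' := MulEquiv.ext fun x => by
    obtain ⟨y, rfl⟩ := QuotientGroup.mk_surjective x
    show ((MulAut.conjNormal (1 : G) y : ↥D) : ↥D ⧸ K) = _
    rw [map_one]; rfl
  map_mul' g h := MulEquiv.ext fun x => by
    obtain ⟨y, rfl⟩ := QuotientGroup.mk_surjective x
    show ((MulAut.conjNormal (g * h) y : ↥D) : ↥D ⧸ K) = ((MulAut.conjNormal g (MulAut.conjNormal h y) : ↥D) : ↥D ⧸ K)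
    rw [map_mul]; rfl

theorem secAut_mk {G : Type u} [Group G] {D : Subgroup G} [D.Normal] {K : Subgroup ↥D} [K.Normal]
    (hK : ∀ g : G, K.map (MulAut.conjNormal g : ↥D ≃* ↥D).toMonoidHom = K) (g : G) (y : ↥D) :
    secAut hK g (y : ↥D ⧸ K) = ((MulAut.conjNormal g y : ↥D) : ↥D ⧸ K) := rfl

/-- A simple section acted on by the group, with a small kernel. -/
structure Section (G : Type u) [Group G] where
  D : Subgroup G
  normalD : D.Normal
  perfect : commutator ↥D = ⊤
  T : Type u
  [grp : Group T]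
  θ : G →* MulAut T
  simple : IsSimpleGroup T
  nonabelian : ¬ IsMulCommutative T
  π : ↥D →* T
  surj : Function.Surjective π
  act : ∀ (g : G) (d : ↥D), θ g (π d) = π ⟨g * d * g⁻¹, normalD.conj_mem _ d.2 g⟩

attribute [instance] Section.grp Section.normalD Section.simple

theorem center_eq_bot {T : Type*} [Group T] [IsSimpleGroup T] (hna : ¬ IsMulCommutative T) :
    center T = ⊥ :=
  (IsSimpleGroup.eq_bot_or_eq_top_of_normal (center T) inferInstance).resolve_right fun h =>
    hna ⟨⟨fun a b => mem_center_iff.1 (h ▸ mem_top b) a⟩⟩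

theorem exists_action (hsieve : Sieve.{u}) {G : Type u} [Group G] [Finite G]
    (hcard : Nat.card G < 6000) (hns : ¬ Group.IsSolvable G)
    (hk : ∀ t ∈ orders, t ∣ Nat.card G → ∀ s ∈ orders, ¬ s ∣ Nat.card G / t) :
    ∃ (S : Section G), Finite S.T ∧ Nat.card S.T ∈ orders ∧ Nat.card S.T ∣ Nat.card G := by
  obtain ⟨D, hDn, K, hKn, hT, hna, hperf⟩ := exists_section hns
  haveI := hKn
  haveI := hT
  have hd : Nat.card (↥D ⧸ K) ∣ Nat.card G := (K.card_quotient_dvd_card).trans (card_subgroup_dvd_card D)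
  have ht : Nat.card (↥D ⧸ K) ∈ orders :=
    hsieve _ hna ((Nat.le_of_dvd Nat.card_pos hd).trans_lt hcard)
  have hKs : Group.IsSolvable ↥K := by
    by_contra h
    have hdK : Nat.card (↥D ⧸ K) * Nat.card ↥K ∣ Nat.card G := by
      rw [← K.card_eq_card_quotient_mul_card_subgroup]
      exact card_subgroup_dvd_card D
    have hlt : Nat.card ↥K < 6000 :=
      (Nat.le_of_dvd Nat.card_pos ((dvd_mul_left _ _).trans hdK)).trans_lt hcard
    obtain ⟨s, hs, hsK⟩ := exists_order_dvd hsieve hlt h
    exact hk _ ht hd s hs (hsK.trans (Nat.dvd_div_of_mul_dvd hdK))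
  have hKinv : ∀ g : G, K.map (MulAut.conjNormal g : ↥D ≃* ↥D).toMonoidHom = K := by
    intro g
    have hle : ∀ g : G, K.map (MulAut.conjNormal g : ↥D ≃* ↥D).toMonoidHom ≤ K := by
      intro g
      let f := (MulAut.conjNormal g : ↥D ≃* ↥D).toMonoidHom
      haveI : (K.map f).Normal := hKn.map f (MulAut.conjNormal g : ↥D ≃* ↥D).surjective
      haveI hn : ((K.map f).map (QuotientGroup.mk' K)).Normal :=
        Subgroup.Normal.map inferInstance _ (QuotientGroup.mk'_surjective K)
      rcases IsSimpleGroup.eq_bot_or_eq_top_of_normal _ hn with h | h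
      · rwa [Subgroup.map_eq_bot_iff, QuotientGroup.ker_mk'] at h
      · exfalso
        let e : ↥K →* ↥D ⧸ K := ((QuotientGroup.mk' K).comp f).comp K.subtype
        have he : Function.Surjective e := by
          intro x
          have hx : x ∈ (K.map f).map (QuotientGroup.mk' K) := h ▸ mem_top x
          obtain ⟨_, ⟨y, hy, rfl⟩, rfl⟩ := hx
          exact ⟨⟨y, hy⟩, rfl⟩
        haveI := hKs
        have hs : Group.IsSolvable (↥D ⧸ K) := Group.isSolvable_of_surjective he
        exact hna ⟨⟨IsSimpleGroup.comm_iff_isSolvable.2 hs⟩⟩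
    exact eq_of_le_of_card_ge (hle g)
      (Nat.card_congr (K.equivMapOfInjective (MulAut.conjNormal g : ↥D ≃* ↥D).toMonoidHom
        (MulAut.conjNormal g : ↥D ≃* ↥D).injective).toEquiv).le
  refine ⟨⟨D, hDn, hperf, ↥D ⧸ K, secAut hKinv, hT, hna, QuotientGroup.mk' K,
    QuotientGroup.mk'_surjective K, fun g d => ?_⟩, (inferInstance : Finite (↥D ⧸ K)), ht, hd⟩
  show secAut hKinv g (d : ↥D ⧸ K) = _
  rw [secAut_mk]
  rfl

namespace Section

variable {G : Type u} [Group G] [Finite G] (S : Section G) [Finite S.T]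

theorem act_D (d : ↥S.D) : S.θ (d : G) = MulAut.conj (S.π d) := MulEquiv.ext fun x => by
  obtain ⟨e, rfl⟩ := S.surj x
  rw [S.act, MulAut.conj_apply, ← map_inv, ← map_mul, ← map_mul]
  rfl

theorem π_eq_one {d : ↥S.D} (h : S.θ (d : G) = 1) : S.π d = 1 := by
  rw [act_D] at h
  rw [← Subgroup.mem_bot, ← center_eq_bot S.nonabelian, mem_center_iff]
  intro y
  have := DFunLike.congr_fun h y
  rw [MulAut.conj_apply, MulAut.one_apply] at this
  exact (mul_inv_eq_iff_eq_mul.1 this).symm

theorem card_mul_dvd : Nat.card S.T * Nat.card ↥S.θ.ker ∣ Nat.card G := by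
  have hconj : Function.Injective (MulAut.conj : S.T →* MulAut S.T) := by
    rw [← MonoidHom.ker_eq_bot_iff, eq_bot_iff]
    intro z hz
    rw [← center_eq_bot S.nonabelian, mem_center_iff]
    intro y
    have := DFunLike.congr_fun (MonoidHom.mem_ker.1 hz) y
    rw [MulAut.conj_apply, MulAut.one_apply] at this
    exact (mul_inv_eq_iff_eq_mul.1 this).symm
  have hle : (MulAut.conj : S.T →* MulAut S.T).range ≤ S.θ.range := by
    rintro _ ⟨x, rfl⟩
    obtain ⟨d, rfl⟩ := S.surj x
    exact ⟨d, act_D S d⟩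
  have h1 : Nat.card S.T ∣ Nat.card ↥S.θ.range := by
    rw [Nat.card_congr (MonoidHom.ofInjective hconj).toEquiv]
    exact card_dvd_of_le hle
  rw [← S.θ.ker.card_mul_index, Subgroup.index_ker, mul_comm]
  exact Nat.mul_dvd_mul_left _ h1

/-- When every element of order `r` acts trivially, the Sylow subgroup is normal. -/
theorem not_degreePrime_of_trivial {r : ℕ} [hr : Fact r.Prime] (hG : r ∣ Nat.card G)
    (hr2 : ¬ r ^ 2 ∣ Nat.card G) (h : ∀ x : G, x ^ r = 1 → S.θ x = 1)
    (hd : ∀ d ∈ (Nat.card G / Nat.card S.T / r).divisors, d % r = 1 → d = 1) :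
    r ∉ degreePrimes G := by
  obtain ⟨m, hm⟩ := hG
  have hm' : ¬ r ∣ m := fun h' => hr2 (by rw [hm, pow_two]; exact Nat.mul_dvd_mul_left r h')
  have hle : ∀ P : Sylow r G, (P : Subgroup G) ≤ S.θ.ker := by
    intro P x hx
    have hc : Nat.card ↥(P : Subgroup G) = r ^ 1 := card_sylow_eq 1 m (by rw [pow_one, hm]) hm' P
    refine MonoidHom.mem_ker.2 (h x ?_)
    have := pow_card_eq_one' (x := (⟨x, hx⟩ : ↥(P : Subgroup G)))
    rw [hc, pow_one] at this
    exact congrArg Subtype.val this
  obtain ⟨P⟩ := (inferInstance : Nonempty (Sylow r G))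
  have hPc : Nat.card ↥(P : Subgroup G) = r ^ 1 := card_sylow_eq 1 m (by rw [pow_one, hm]) hm' P
  have hdiv : Nat.card ↥S.θ.ker ∣ Nat.card G / Nat.card S.T := Nat.dvd_div_of_mul_dvd (card_mul_dvd S)
  obtain ⟨c, hc⟩ : r ∣ Nat.card ↥S.θ.ker := by
    have := card_dvd_of_le (hle P); rwa [hPc, pow_one] at this
  have hc' : ¬ r ∣ c := fun h' => hr2 ((show r ^ 2 ∣ Nat.card ↥S.θ.ker by
    rw [hc, pow_two]; exact Nat.mul_dvd_mul_left r h').trans (card_subgroup_dvd_card _))
  have hne : Nat.card G / Nat.card S.T ≠ 0 := by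
    intro h0
    have := card_mul_dvd S
    have h2 : Nat.card S.T ≤ Nat.card G :=
      Nat.le_of_dvd Nat.card_pos ((dvd_mul_right _ _).trans this)
    exact absurd (Nat.div_eq_zero_iff.1 h0) (by have := Nat.card_pos (α := S.T); omega)
  have h1 : Nat.card (Sylow r ↥S.θ.ker) = 1 := by
    refine hd _ (Nat.mem_divisors.2 ⟨?_, ?_⟩) ?_
    · refine (card_sylow_dvd 1 c (by rw [pow_one, hc]) hc').trans ?_
      rw [hc] at hdiv
      exact Nat.dvd_div_of_mul_dvd hdiv
    · intro h0
      rw [hc] at hdiv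
      obtain ⟨e, he⟩ := hdiv
      rw [he, mul_assoc, Nat.mul_div_cancel_left _ hr.out.pos] at h0
      exact hne (by rw [he, mul_assoc, h0, mul_zero])
    · exact Eq.trans (card_sylow_modEq_one r _) (Nat.mod_eq_of_lt hr.out.one_lt)
  haveI := (Nat.card_eq_one_iff_unique.1 h1).1
  haveI : Subsingleton (Sylow r G) := ⟨fun P Q =>
    Sylow.subtype_injective (hP := hle P) (hQ := hle Q) (Subsingleton.elim _ _)⟩
  refine not_degreePrime_of_sylow ⟨m, hm⟩ hr2 P ?_
  exact normalizer_eq_top_iff.1 (index_eq_one.1 ((Sylow.card_eq_index_normalizer P).symm.trans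
    (Nat.card_eq_one_iff_unique.2 ⟨inferInstance, ⟨P⟩⟩)))

/-- The coprime case. -/
theorem outer_case {r s a b : ℕ} [hr : Fact r.Prime] (hs : s.Prime) (hs2 : ¬ s ∣ 6) (hr6 : ¬ r ∣ 6)
    (hrs : s ≠ r) (ht : Nat.card S.T = 2 ^ a * 3 ^ b * s) (ha : ∀ i < a, 2 ^ (i + 1) % r ≠ 1)
    (hb : ∀ i < b, 3 ^ (i + 1) % r ≠ 1) (hsr : s % r ≠ 1) {x : G} (hx : x ^ r = 1) :
    S.θ x = 1 := by
  have hφ : (S.θ x) ^ r = 1 := by rw [← map_pow, hx, map_one]
  have h2s : ¬ 2 ∣ s := fun h => hs2 (by rw [← (Nat.prime_dvd_prime_iff_eq Nat.prime_two hs).1 h]; norm_num)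
  have h3s : ¬ 3 ∣ s := fun h => hs2 (by rw [← (Nat.prime_dvd_prime_iff_eq Nat.prime_three hs).1 h]; norm_num)
  have hr2 : r ≠ 2 := fun h => hr6 (h ▸ by norm_num)
  have hr3 : r ≠ 3 := fun h => hr6 (h ▸ by norm_num)
  have hrT : ¬ r ∣ Nat.card S.T := by
    rw [ht]
    intro h
    rcases hr.out.dvd_mul.1 h with h | h
    · rcases hr.out.dvd_mul.1 h with h | h
      · exact hr2 ((Nat.prime_dvd_prime_iff_eq hr.out Nat.prime_two).1 (hr.out.dvd_of_dvd_pow h))
      · exact hr3 ((Nat.prime_dvd_prime_iff_eq hr.out Nat.prime_three).1 (hr.out.dvd_of_dvd_pow h))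
    · exact hrs ((Nat.prime_dvd_prime_iff_eq hr.out hs).1 h).symm
  have hd2 : Nat.card S.T / 2 ^ a = 3 ^ b * s := by
    rw [ht, mul_assoc, Nat.mul_div_cancel_left _ (by positivity)]
  have hd3 : Nat.card S.T / 3 ^ b = 2 ^ a * s := by
    rw [ht, mul_comm (2 ^ a) (3 ^ b), mul_assoc, Nat.mul_div_cancel_left _ (by positivity)]
  have hds : Nat.card S.T / s ^ 1 = 2 ^ a * 3 ^ b := by
    rw [ht, pow_one, Nat.mul_div_cancel _ hs.pos]
  have e2 := pow_dvd_fix hrT hφ Nat.prime_two (Ne.symm hr2) (a := a)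
    (by rw [hd2, ht, mul_assoc]) (by
      rw [hd2]; intro h
      rcases Nat.prime_two.dvd_mul.1 h with h | h
      · exact absurd (Nat.prime_two.dvd_of_dvd_pow h) (by norm_num)
      · exact h2s h) ha
  have e3 := pow_dvd_fix hrT hφ Nat.prime_three (Ne.symm hr3) (a := b)
    (by rw [hd3, ht]; ring) (by
      rw [hd3]; intro h
      rcases Nat.prime_three.dvd_mul.1 h with h | h
      · exact absurd (Nat.prime_three.dvd_of_dvd_pow h) (by norm_num)
      · exact h3s h) hb
  have es := pow_dvd_fix hrT hφ hs hrs (a := 1)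
    (by rw [hds, ht, pow_one]; ring) (by
      rw [hds]; intro h
      rcases hs.dvd_mul.1 h with h | h
      · exact hs2 ((hs.dvd_of_dvd_pow h).trans (by norm_num))
      · exact hs2 ((hs.dvd_of_dvd_pow h).trans (by norm_num)))
    (fun i hi => by obtain rfl : i = 0 := by omega
                    simpa using hsr)
  have hall : Nat.card S.T ∣ Nat.card ↥(fix (S.θ x)) := by
    rw [ht]
    refine Nat.Coprime.mul_dvd_of_dvd_of_dvd ?_
      (Nat.Coprime.mul_dvd_of_dvd_of_dvd (Nat.Coprime.pow a b (by norm_num)) e2 e3) (by rwa [pow_one] at es)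
    refine Nat.Coprime.mul_left (Nat.Coprime.pow_left a ?_) (Nat.Coprime.pow_left b ?_)
    · exact (Nat.prime_two.coprime_iff_not_dvd).2 h2s
    · exact (Nat.prime_three.coprime_iff_not_dvd).2 h3s
  have htop : fix (S.θ x) = ⊤ :=
    eq_top_of_le_card _ (Nat.le_of_dvd Nat.card_pos hall)
  exact MulEquiv.ext fun y => mem_fix.1 (htop ▸ mem_top y)

/-- An automorphism of order seven of a simple group of order 360 is trivial. -/
theorem outer_case_360 (ht : Nat.card S.T = 360) {x : G} (hx : x ^ 7 = 1) : S.θ x = 1 := by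
  haveI : Fact (Nat.Prime 7) := ⟨by norm_num⟩
  have hφ : (S.θ x) ^ 7 = 1 := by rw [← map_pow, hx, map_one]
  have h7 : ¬ 7 ∣ Nat.card S.T := by rw [ht]; norm_num
  have e3 := pow_dvd_fix h7 hφ Nat.prime_three (by norm_num) (a := 2) (by rw [ht]; norm_num) (by rw [ht]; norm_num)
    (by decide)
  have e5 := pow_dvd_fix h7 hφ (q := 5) (by norm_num) (by norm_num) (a := 1) (by rw [ht]; norm_num) (by rw [ht]; norm_num)
    (by decide)
  by_contra hne
  have hF : fix (S.θ x) ≠ ⊤ := fun h => hne (MulEquiv.ext fun y => mem_fix.1 (h ▸ mem_top y))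
  set F := fix (S.θ x)
  have h45 : 45 ∣ Nat.card ↥F := Nat.Coprime.mul_dvd_of_dvd_of_dvd (m := 9) (n := 5) (by norm_num) e3 e5
  have hi := six_le_index_of_card_360 ht hF
  obtain ⟨k, hk⟩ := h45
  have hci := F.card_mul_index
  rw [hk, ht, mul_assoc] at hci
  have hF45 : Nat.card ↥F = 45 := by
    have h8 : k * F.index = 8 := by omega
    have hk8 : k ∣ 8 := ⟨_, h8.symm⟩
    have := Nat.le_of_dvd (by norm_num) hk8
    interval_cases k
    · omega
    · omega
    all_goals omega
  haveI : Fact (Nat.Prime 5) := ⟨by norm_num⟩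
  obtain ⟨P⟩ := (inferInstance : Nonempty (Sylow 5 ↥F))
  have hPc : Nat.card ↥(P : Subgroup ↥F) = 5 ^ 1 := card_sylow_eq 1 9 (by rw [hF45]; norm_num) (by norm_num) P
  have hn : Nat.card (Sylow 5 ↥F) = 1 := by
    have h1 := card_sylow_dvd (G := ↥F) (p := 5) 1 9 (by rw [hF45]; norm_num) (by norm_num)
    have h2 : Nat.card (Sylow 5 ↥F) % 5 = 1 := card_sylow_modEq_one 5 _
    have := Nat.le_of_dvd (by norm_num) h1
    interval_cases (Nat.card (Sylow 5 ↥F)) <;> omega
  haveI := (Nat.card_eq_one_iff_unique.1 hn).1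
  have hPn : (P : Subgroup ↥F).Normal :=
    normalizer_eq_top_iff.1 (index_eq_one.1 ((Sylow.card_eq_index_normalizer P).symm.trans hn))
  set B := (P : Subgroup ↥F).map F.subtype with hB
  have hBc : Nat.card ↥B = 5 ^ 1 := by rw [hB, card_map_of_injective F.subtype_injective, hPc]
  obtain ⟨P', hP'⟩ := (IsPGroup.of_card hBc).exists_le_sylow
  have hP'c : Nat.card ↥(P' : Subgroup S.T) = 5 ^ 1 :=
    card_sylow_eq 1 72 (by rw [ht]; norm_num) (by norm_num) P'
  have hBP : B = (P' : Subgroup S.T) := eq_of_le_of_card_ge hP' (by rw [hBc, hP'c])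
  have hFN : F ≤ normalizer ((P' : Subgroup S.T) : Set S.T) := by
    rw [← hBP, hB]
    intro y hy
    rw [mem_normalizer_iff]
    intro z
    constructor
    · rintro ⟨w, hw, rfl⟩
      exact ⟨⟨y, hy⟩ * w * ⟨y, hy⟩⁻¹, hPn.conj_mem _ hw _, rfl⟩
    · rintro ⟨w, hw, hwz⟩
      refine ⟨⟨y, hy⟩⁻¹ * w * ⟨y, hy⟩, (by
        have h' := hPn.conj_mem _ hw (⟨y, hy⟩⁻¹ : ↥F)
        rwa [inv_inv] at h'), ?_⟩
      show y⁻¹ * (w : S.T) * y = z
      rw [show (w : S.T) = y * z * y⁻¹ from hwz]; group
  have hdvd := index_dvd_of_le hFN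
  replace hdvd : Nat.card (Sylow 5 S.T) ∣ F.index :=
    (dvd_of_eq (Sylow.card_eq_index_normalizer P')).trans hdvd
  have hidx : F.index = 8 := by
    have := F.card_mul_index; rw [hF45, ht] at this; omega
  rw [hidx] at hdvd
  have h2 : Nat.card (Sylow 5 S.T) % 5 = 1 := card_sylow_modEq_one 5 _
  have h3 := one_lt_card_sylow (p := 5) S.nonabelian (by rw [ht]; norm_num)
  have := Nat.le_of_dvd (by norm_num) hdvd
  interval_cases (Nat.card (Sylow 5 S.T)) <;> omega

end Section

/-! ### The automorphisms of a group with `r + 1` Sylow subgroups of order `r` -/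

section FewSylow

variable {T : Type u} [Group T] [Finite T] [IsSimpleGroup T] {r : ℕ} [hr : Fact r.Prime]

theorem aut_eq_one (hna : ¬ IsMulCommutative T) (hrT : r ∣ Nat.card T) {φ : MulAut T}
    (h : ∀ Q : Sylow r T, φ • Q = Q) : φ = 1 := by
  obtain ⟨P⟩ := (inferInstance : Nonempty (Sylow r T))
  have hinj := toPermHom_sylow_injective hna hrT
  refine MulEquiv.ext fun t => ?_
  show φ t = t
  refine hinj (Equiv.ext fun Q => ?_)
  show φ t • Q = t • Q
  have h1 : φ • (t • Q) = φ t • (φ • Q) := by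
    refine Sylow.ext ?_
    rw [Sylow.pointwise_smul_def, Sylow.coe_subgroup_smul, Sylow.coe_subgroup_smul,
      Sylow.pointwise_smul_def, smul_smul, smul_smul]
    congr 1
    refine MulEquiv.ext fun y => ?_
    simp [MulAut.mul_apply, map_mul, map_inv]
  rw [h (t • Q), h Q] at h1
  exact h1.symm

/-- The bound on the automorphisms. -/
theorem card_aut_le (hna : ¬ IsMulCommutative T) (hrT : r ∣ Nat.card T) (hr2 : ¬ r ^ 2 ∣ Nat.card T)
    (hn : Nat.card (Sylow r T) = r + 1) (A : Subgroup (MulAut T)) (P : Sylow r T) :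
    Nat.card ↥A ≤ (r + 1) * (r * (r - 1)) ∧
      (Nat.card ↥A = (r + 1) * (r * (r - 1)) → ∀ k : ℕ, ¬ r ∣ k → ∃ φ ∈ A, ∀ x ∈ (P : Subgroup T), φ x = x ^ k) := by
  classical
  obtain ⟨m, hm⟩ := hrT
  have hm' : ¬ r ∣ m := fun h' => hr2 (by rw [hm, pow_two]; exact Nat.mul_dvd_mul_left r h')
  have hc : ∀ Q : Sylow r T, Nat.card ↥(Q : Subgroup T) = r := fun Q => by
    simpa using card_sylow_eq 1 m (by rw [pow_one, hm]) hm' Q
  have horb : Nat.card (MulAction.orbit ↥A P) ≤ r + 1 :=
    hn ▸ Nat.card_le_card_of_injective _ Subtype.val_injective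
  set St := MulAction.stabilizer ↥A P with hSt
  have hmap : ∀ φ : ↥St, (P : Subgroup T).map (((φ : ↥A) : MulAut T) : T ≃* T).toMonoidHom = P :=
    fun φ => congrArg Sylow.toSubgroup φ.2
  let res : ↥St →* MulAut ↥(P : Subgroup T) :=
    { toFun := fun φ => ((((φ : ↥A) : MulAut T) : T ≃* T).subgroupMap (P : Subgroup T)).trans
        (MulEquiv.subgroupCongr (hmap φ))
      map_one' := MulEquiv.ext fun x => Subtype.ext rfl
      map_mul' := fun φ ψ => MulEquiv.ext fun x => Subtype.ext rfl }
  haveI : IsCyclic ↥(P : Subgroup T) := isCyclic_of_prime_card (hc P)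
  have haut : Nat.card (MulAut ↥(P : Subgroup T)) = r - 1 := by
    rw [IsCyclic.card_mulAut, hc P, Nat.totient_prime hr.out]
  have hker : Nat.card ↥res.ker ≤ r := by
    obtain ⟨Q₀, hQ₀⟩ : ∃ Q : Sylow r T, Q ≠ P := by
      by_contra! hh
      haveI : Subsingleton (Sylow r T) := ⟨fun a b => (hh a).trans (hh b).symm⟩
      have := Nat.card_eq_one_iff_unique.2 ⟨(inferInstance : Subsingleton (Sylow r T)), ⟨P⟩⟩
      have := hr.out.pos
      omega
    have hne : ∀ φ : ↥res.ker, (((φ : ↥St) : ↥A) : MulAut T) • Q₀ ≠ P := fun φ e => hQ₀ (by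
      have h1 : (((φ : ↥St) : ↥A) : MulAut T) • P = P := (φ : ↥St).2
      exact smul_left_cancel _ (e.trans h1.symm))
    have hsub : Nat.card {Q : Sylow r T // Q ≠ P} = r := by
      haveI := Fintype.ofFinite (Sylow r T)
      rw [Nat.card_eq_fintype_card, Fintype.card_subtype_compl, Fintype.card_subtype_eq,
        ← Nat.card_eq_fintype_card, hn, Nat.add_sub_cancel]
    refine le_of_le_of_eq ?_ hsub
    refine Nat.card_le_card_of_injective
      (fun φ : ↥res.ker => (⟨(((φ : ↥St) : ↥A) : MulAut T) • Q₀, hne φ⟩ : {Q : Sylow r T // Q ≠ P})) ?_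
    intro φ ψ h
    have h' : (((φ : ↥St) : ↥A) : MulAut T) • Q₀ = (((ψ : ↥St) : ↥A) : MulAut T) • Q₀ :=
      congrArg Subtype.val h
    set δ : MulAut T := ((((ψ⁻¹ * φ : ↥res.ker) : ↥St) : ↥A) : MulAut T) with hδ
    have hδQ : δ • Q₀ = Q₀ := by
      rw [hδ]; push_cast
      rw [mul_smul, h', inv_smul_smul]
    have hδx : ∀ x ∈ (P : Subgroup T), δ x = x := fun x hx => by
      have := DFunLike.congr_fun (MonoidHom.mem_ker.1 (ψ⁻¹ * φ).2) (⟨x, hx⟩ : ↥(P : Subgroup T))
      exact congrArg Subtype.val this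
    have hδP : δ • P = P := ((ψ⁻¹ * φ : ↥res.ker) : ↥St).2
    -- the subgroup `P` is transitive on the other Sylow subgroups
    obtain ⟨⟨x, hxP⟩, hx⟩ := exists_prime_orderOf_dvd_card' (G := ↥(P : Subgroup T)) r (by rw [hc P])
    rw [orderOf_mk] at hx
    have horbit : ∀ Q : Sylow r T, Q ≠ P → ∃ y ∈ (P : Subgroup T), y • Q₀ = Q := by
      intro Q hQ
      have hinjo : Function.Injective (fun y : ↥(P : Subgroup T) =>
          (⟨(y : T) • Q₀, fun e => hQ₀ (smul_left_cancel (y : T) (e.trans
            (Sylow.smul_eq_iff_mem_normalizer.2 (le_normalizer y.2)).symm))⟩ : {Q : Sylow r T // Q ≠ P})) := by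
        intro y z hyz
        have h1 : ((z : T)⁻¹ * y) • Q₀ = Q₀ := by
          have e : (y : T) • Q₀ = (z : T) • Q₀ := congrArg Subtype.val hyz
          rw [mul_smul, e, inv_smul_smul]
        have h2 : (z : T)⁻¹ * y ∈ normalizer ((Q₀ : Subgroup T) : Set T) :=
          Sylow.smul_eq_iff_mem_normalizer.1 h1
        have h3 : (z : T)⁻¹ * y ∈ (P : Subgroup T) ⊓ normalizer ((Q₀ : Subgroup T) : Set T) :=
          Subgroup.mem_inf.2 ⟨mul_mem (inv_mem z.2) y.2, h2⟩
        replace h3 : (z : T)⁻¹ * y ∈ (P : Subgroup T) ⊓ (Q₀ : Subgroup T) :=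
          (le_of_eq (P.2.inf_normalizer_sylow Q₀)) h3
        by_contra hne'
        have h4 : (z : T)⁻¹ * y ≠ 1 := fun e => hne' (Subtype.ext (inv_mul_eq_one.1 e).symm)
        have h5 : (P : Subgroup T) ⊓ (Q₀ : Subgroup T) = (P : Subgroup T) := by
          rcases (hr.out.eq_one_or_self_of_dvd _ (hc P ▸ card_dvd_of_le
            (inf_le_left : (P : Subgroup T) ⊓ (Q₀ : Subgroup T) ≤ P))) with e | e
          · exact absurd (Subgroup.mem_bot.1 ((Subgroup.eq_bot_of_card_eq _ e) ▸ h3)) h4
          · exact eq_of_le_of_card_ge inf_le_left (by rw [e, hc P])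
        exact hQ₀ (Sylow.ext (eq_of_le_of_card_ge (inf_eq_left.1 h5) (by rw [hc P, hc Q₀])).symm)
      obtain ⟨y, hy⟩ := (hinjo.bijective_of_nat_card_le (by rw [hsub, hc P])).2 ⟨Q, hQ⟩
      exact ⟨y, y.2, congrArg Subtype.val hy⟩
    have hδ1 : δ = 1 := by
      refine aut_eq_one hna (hm ▸ dvd_mul_right r m) fun Q => ?_
      by_cases hQ : Q = P
      · rw [hQ]; exact hδP
      obtain ⟨y, hy, rfl⟩ := horbit Q hQ
      refine Sylow.ext ?_
      rw [Sylow.pointwise_smul_def, Sylow.coe_subgroup_smul, smul_smul,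
        show δ * MulAut.conj y = MulAut.conj y * δ from MulEquiv.ext fun z => by
          simp [MulAut.mul_apply, map_mul, map_inv, hδx y hy],
        ← smul_smul]
      congr 1
      exact congrArg Sylow.toSubgroup hδQ
    have : ψ⁻¹ * φ = 1 := Subtype.ext (Subtype.ext (Subtype.ext hδ1))
    exact (inv_mul_eq_one.1 this).symm
  have hrange : Nat.card ↥res.range ≤ r - 1 := haut ▸ card_le_card_group _
  have e1 : Nat.card ↥A = Nat.card (MulAction.orbit ↥A P) * (Nat.card ↥res.ker * Nat.card ↥res.range) := by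
    rw [← Subgroup.index_ker res, res.ker.card_mul_index, ← Nat.card_prod,
      Nat.card_congr (MulAction.orbitProdStabilizerEquivGroup ↥A P)]
  refine ⟨e1 ▸ Nat.mul_le_mul horb (Nat.mul_le_mul hker hrange), fun heq k hk => ?_⟩
  have hsur : Nat.card ↥res.range = r - 1 := by
    by_contra hne
    have hlt : Nat.card ↥res.range < r - 1 := lt_of_le_of_ne hrange hne
    have h1 : Nat.card ↥A ≤ (r + 1) * (r * Nat.card ↥res.range) :=
      e1 ▸ Nat.mul_le_mul horb (Nat.mul_le_mul_right _ hker)
    have h2 : (r + 1) * (r * Nat.card ↥res.range) < (r + 1) * (r * (r - 1)) :=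
      Nat.mul_lt_mul_of_pos_left (Nat.mul_lt_mul_of_pos_left hlt hr.out.pos) (Nat.succ_pos r)
    omega
  let pw : MulAut ↥(P : Subgroup T) :=
    letI : CommGroup ↥(P : Subgroup T) := IsCyclic.commGroup
    MulEquiv.ofBijective (powMonoidHom k) (powCoprime (G := ↥(P : Subgroup T)) (n := k) (by
      rw [hc P]; exact (hr.out.coprime_iff_not_dvd).2 hk)).bijective
  obtain ⟨φ, hφ⟩ : pw ∈ res.range := by
    rw [eq_top_of_card_eq res.range (by rw [hsur, haut])]; exact mem_top _
  refine ⟨((φ : ↥A) : MulAut T), (φ : ↥A).2, fun x hx => ?_⟩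
  exact congrArg Subtype.val (DFunLike.congr_fun hφ ⟨x, hx⟩)

end FewSylow

/-! ### Degree three for the simple group of order 60, and six above it -/

theorem exists_degree_three {T : Type u} [Group T] [Finite T] [IsSimpleGroup T] (hT : Nat.card T = 60) :
    ∃ θ : IrrCharacter T, charDegree (θ : T → ℂ) = 3 := by
  classical
  by_contra h
  simp only [not_exists] at h
  letI := Chars.irrFintype T
  have hna : ¬ IsMulCommutative T := not_isMulCommutative_of_card (by rw [hT]; norm_num)
  have hlin : ∀ χ : IrrCharacter T, charDegree (χ : T → ℂ) = 1 → χ = Chars.principal T := by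
    intro χ hχ
    obtain ⟨lam, hlam⟩ := Chars.exists_hom_of_degree_one (Chars.isCharacter_of_irr χ.2)
      (by rw [CharApps.deg_eq, hχ, Nat.cast_one])
    refine Subtype.ext (funext fun g => ?_)
    have hk : lam.ker = ⊤ := (IsSimpleGroup.eq_bot_or_eq_top_of_normal lam.ker inferInstance).resolve_left
      fun hb => hna ⟨⟨fun a b => (MonoidHom.ker_eq_bot_iff lam).1 hb (by rw [map_mul, map_mul, mul_comm])⟩⟩
    rw [hlam, Chars.principal_apply]
    show ((lam g : ℂˣ) : ℂ) = 1
    rw [MonoidHom.mem_ker.1 (hk ▸ mem_top g)]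
    rfl
  have hd : ∀ χ : IrrCharacter T, charDegree (χ : T → ℂ) ∈ ({1, 2, 4, 5, 6} : Finset ℕ) := by
    intro χ
    have h1 := CharsMore.DegreesPSL.deg_dvd χ
    have h2 := CharsMore.DegreesPSL.deg_sq_le χ
    rw [hT] at h1 h2
    have h3 : charDegree (χ : T → ℂ) ≤ 7 := by nlinarith
    have h4 := h χ
    have h0 := CharApps.deg_pos χ
    simp only [Finset.mem_insert, Finset.mem_singleton]
    interval_cases hh : charDegree (χ : T → ℂ) <;> omega
  have hsum := CharsMore.DegreesPSL.sum_sq (G := T)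
  rw [hT, ← Finset.sum_fiberwise_of_maps_to (g := fun χ : IrrCharacter T => charDegree (χ : T → ℂ))
    (t := {1, 2, 4, 5, 6}) (fun χ _ => hd χ)] at hsum
  have hfib : ∀ d : ℕ, ∑ χ ∈ Finset.univ.filter (fun χ : IrrCharacter T => charDegree (χ : T → ℂ) = d),
      charDegree (χ : T → ℂ) ^ 2 =
      (Finset.univ.filter fun χ : IrrCharacter T => charDegree (χ : T → ℂ) = d).card * d ^ 2 := fun d => by
    rw [Finset.sum_congr rfl (g := fun _ => d ^ 2) fun χ hχ => by rw [(Finset.mem_filter.1 hχ).2]]
    rw [Finset.sum_const, smul_eq_mul]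
  have hone : (Finset.univ.filter fun χ : IrrCharacter T => charDegree (χ : T → ℂ) = 1).card = 1 := by
    refine Finset.card_eq_one.2 ⟨Chars.principal T, Finset.eq_singleton_iff_unique_mem.2
      ⟨Finset.mem_filter.2 ⟨Finset.mem_univ _, ?_⟩, fun χ hχ => hlin χ (Finset.mem_filter.1 hχ).2⟩⟩
    have := CharApps.deg_eq (Chars.principal T)
    rw [Chars.principal_apply] at this
    exact_mod_cast this.symm
  simp only [hfib] at hsum
  rw [Finset.sum_insert (by decide), Finset.sum_insert (by decide), Finset.sum_insert (by decide),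
    Finset.sum_insert (by decide),
    Finset.sum_singleton, hone] at hsum
  norm_num at hsum
  omega

/-- A character of degree three is not constant on the nontrivial powers of an element of order five. -/
theorem not_rational_of_degree_three {T : Type u} [Group T] [Finite T] {θ : IrrCharacter T}
    (hθ : charDegree (θ : T → ℂ) = 3) {x : T} (hx : orderOf x = 5)
    (hv : ∀ y ∈ zpowers x, y ≠ 1 → (θ : T → ℂ) y = (θ : T → ℂ) x) : (θ : T → ℂ) x = (θ : T → ℂ) 1 := by
  classical
  haveI := Fintype.ofFinite T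
  set P := zpowers x
  haveI := Fintype.ofFinite ↥P
  have hP : Nat.card ↥P = 5 := by rw [Nat.card_zpowers, hx]
  set v := (θ : T → ℂ) x
  have h1 : (θ : T → ℂ) 1 = 3 := by rw [CharApps.deg_eq, hθ]; norm_num
  have hres := Chars.isCharacter_restrict P (Chars.isCharacter_of_irr θ.2)
  have hsum : ∀ f : ↥P → ℂ, ∑ y : ↥P, (θ : T → ℂ) y * f y = v * ∑ y : ↥P, f y + (3 - v) * f 1 := by
    intro f
    rw [← Finset.add_sum_erase Finset.univ (fun y : ↥P => (θ : T → ℂ) y * f y) (Finset.mem_univ 1),
      ← Finset.add_sum_erase Finset.univ f (Finset.mem_univ 1)]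
    rw [show (θ : T → ℂ) ((1 : ↥P) : T) * f 1 = 3 * f 1 by rw [OneMemClass.coe_one, h1]]
    rw [Finset.sum_congr rfl (g := fun y => v * f y) fun y hy => by
      rw [hv y y.2 fun e => (Finset.mem_erase.1 hy).1 (Subtype.ext e)], ← Finset.mul_sum]
    ring
  have hm := CharsMore.inner_eq_multNat hres (Chars.isCharacter_of_irr (Chars.principal ↥P).2)
  set m := CharsMore.multNat (fun y : ↥P => (θ : T → ℂ) y) (Chars.principal ↥P : ↥P → ℂ)
  rw [Chars.inner_def, hP, hsum] at hm
  simp only [Chars.principal_apply, map_one, mul_one, Finset.sum_const, Finset.card_univ,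
    ← Nat.card_eq_fintype_card, hP, nsmul_eq_mul] at hm
  obtain ⟨lam, hlam⟩ : ∃ lam : IrrCharacter ↥P, lam ≠ Chars.principal ↥P := by
    by_contra! hh
    have hgen : (⟨x, mem_zpowers x⟩ : ↥P) = 1 := CharApps.eq_one_of_forall_ker fun χ => by
      rw [hh χ, Chars.principal_apply, Chars.principal_apply]
    have : x = 1 := congrArg Subtype.val hgen
    rw [this, orderOf_one] at hx
    norm_num at hx
  have hl1 : (lam : ↥P → ℂ) 1 = 1 := Chars.irr_abelian_degree
    (fun a b => Subtype.ext (by
      obtain ⟨i, hi⟩ := a.2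
      obtain ⟨j, hj⟩ := b.2
      simp only [Subgroup.coe_mul, ← hi, ← hj]
      exact (Commute.refl x).zpow_zpow i j)) lam.2
  have hl0 : ∑ y : ↥P, (starRingEnd ℂ) ((lam : ↥P → ℂ) y) = 0 := by
    have := Chars.inner_irr_ne (G := ↥P) (χ := Chars.principal ↥P) (ψ := lam) (Ne.symm hlam)
    rw [Chars.inner_def, hP] at this
    simpa [Chars.principal_apply] using this
  have hk := CharsMore.inner_eq_multNat hres (Chars.isCharacter_of_irr lam.2)
  set k := CharsMore.multNat (fun y : ↥P => (θ : T → ℂ) y) (lam : ↥P → ℂ)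
  rw [Chars.inner_def, hP, hsum, hl0, hl1, map_one, mul_zero, zero_add, mul_one] at hk
  push_cast at hm hk
  have e : (m : ℂ) + 4 * (k : ℂ) = 3 := by rw [← hm, ← hk]; ring
  have e' : m + 4 * k = 3 := by exact_mod_cast e
  have hk0 : k = 0 := by omega
  rw [hk0, Nat.cast_zero] at hk
  rw [h1]
  linear_combination (-5 : ℂ) * hk

/-! ### Assembly -/

theorem central_sq_le {G : Type u} [Group G] [Finite G] {C : Subgroup G} (hC : C ≤ center G)
    (χ : IrrCharacter G) : charDegree (χ : G → ℂ) ^ 2 ≤ C.index := by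
  haveI := Fintype.ofFinite G
  exact CharsMore.degree_sq_le_index χ.2 C fun z hz =>
    CharsMore.norm_eq_of_commutes_mod_ker χ.2 fun c => by
      rw [← mem_center_iff.1 (hC hz) c, mul_inv_cancel_right, mul_inv_cancel]

/-- A group of order six has few automorphisms. -/
theorem card_mulAut_of_card_six {C : Type u} [Group C] [Finite C] (hC : Nat.card C = 6) :
    Nat.card (MulAut C) ≤ 36 := by
  haveI : Fact (Nat.Prime 3) := ⟨Nat.prime_three⟩
  haveI : Fact (Nat.Prime 2) := ⟨Nat.prime_two⟩
  obtain ⟨a, ha⟩ := exists_prime_orderOf_dvd_card' (G := C) 3 (by rw [hC]; norm_num)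
  obtain ⟨b, hb⟩ := exists_prime_orderOf_dvd_card' (G := C) 2 (by rw [hC]; norm_num)
  have ha' : a ∈ closure ({a, b} : Set C) := subset_closure (Set.mem_insert _ _)
  have hb' : b ∈ closure ({a, b} : Set C) := subset_closure (Set.mem_insert_of_mem _ rfl)
  have hgen : closure ({a, b} : Set C) = ⊤ := by
    refine eq_top_of_le_card _ ?_
    have h3 := orderOf_dvd_natCard (⟨a, ha'⟩ : ↥(closure ({a, b} : Set C)))
    have h2 := orderOf_dvd_natCard (⟨b, hb'⟩ : ↥(closure ({a, b} : Set C)))
    rw [orderOf_mk, ha] at h3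
    rw [orderOf_mk, hb] at h2
    rw [hC]
    exact Nat.le_of_dvd Nat.card_pos (Nat.Coprime.mul_dvd_of_dvd_of_dvd (by norm_num) h3 h2)
  have hle : Nat.card (MulAut C) ≤ Nat.card (C × C) := by
    refine Nat.card_le_card_of_injective (fun φ : MulAut C => (φ a, φ b)) fun φ ψ h => ?_
    have heq : φ.toMonoidHom = ψ.toMonoidHom := MonoidHom.eq_of_eqOn_dense hgen (by
      rintro z (rfl | rfl)
      · exact congrArg Prod.fst h
      · exact congrArg Prod.snd h)
    exact MulEquiv.ext fun z => DFunLike.congr_fun heq z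
  rw [Nat.card_prod, hC] at hle
  omega

/-- A perfect group maps trivially into a soluble group. -/
theorem eq_one_of_perfect {X : Type*} {Y : Type*} [Group X] [Group Y] [Group.IsSolvable Y]
    (hX : commutator X = ⊤) (f : X →* Y) (e : X) : f e = 1 := by
  by_contra hne
  haveI : Nontrivial ↥f.range :=
    ⟨⟨⟨f e, e, rfl⟩, 1, fun h => hne (congrArg Subtype.val h)⟩⟩
  refine (Group.IsSolvable.commutator_lt_top_of_nontrivial ↥f.range).ne ?_
  rw [eq_top_iff]
  intro z _
  obtain ⟨e', rfl⟩ := f.rangeRestrict_surjective z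
  have he' : e' ∈ commutator X := hX ▸ mem_top e'
  have h' := mem_map_of_mem f.rangeRestrict he'
  rw [commutator_def, map_commutator] at h'
  rw [commutator_def]
  exact commutator_mono le_top le_top h'

theorem adj_two_three_of_six {G : Type u} [Group G] {d : ℕ} (hd : d ∈ charDegrees G) (h6 : 6 ∣ d) :
    (degreeGraph G).Adj 2 3 :=
  ⟨by norm_num, Nat.prime_two, Nat.prime_three, d, hd, by simpa using h6⟩

namespace Section

variable {G : Type u} [Group G] [Finite G] (S : Section G) [Finite S.T]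

theorem card_range_mul : Nat.card ↥S.θ.range * Nat.card ↥S.θ.ker = Nat.card G := by
  rw [← Subgroup.index_ker, mul_comm, Subgroup.card_mul_index]

theorem case_504 (hG : Nat.card G = 504) (ht : Nat.card S.T = 168) : (degreeGraph G).Adj 2 3 := by
  haveI : Fact (Nat.Prime 7) := ⟨by norm_num⟩
  have hn : Nat.card (Sylow 7 S.T) = 7 + 1 := by
    have h1 := card_sylow_dvd (G := S.T) (p := 7) 1 24 (by rw [ht]; norm_num) (by norm_num)
    have h2 : Nat.card (Sylow 7 S.T) % 7 = 1 := card_sylow_modEq_one 7 _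
    have h3 := one_lt_card_sylow (p := 7) S.nonabelian (by rw [ht]; norm_num)
    have := Nat.le_of_dvd (by norm_num) h1
    interval_cases (Nat.card (Sylow 7 S.T)) <;> omega
  obtain ⟨P⟩ := (inferInstance : Nonempty (Sylow 7 S.T))
  have hA := (card_aut_le S.nonabelian (r := 7) (by rw [ht]; norm_num) (by rw [ht]; norm_num) hn
    S.θ.range P).1
  have hmul := card_range_mul S
  rw [hG] at hmul
  have hd : Nat.card ↥S.θ.ker ∣ 3 := by
    have := Nat.dvd_div_of_mul_dvd (card_mul_dvd S)
    rwa [hG, ht] at this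
  have hrg : Nat.card ↥S.θ.range = 168 := by
    rcases (Nat.dvd_prime Nat.prime_three).1 hd with e | e <;> rw [e] at hmul <;> omega
  have hsurj : Function.Surjective (S.θ.rangeRestrict.comp S.D.subtype) := by
    have hconj : Function.Injective (fun y : S.T => (⟨MulAut.conj y, by
        obtain ⟨d, rfl⟩ := S.surj y
        exact ⟨d, act_D S d⟩⟩ : ↥S.θ.range)) := by
      intro y z hyz
      have h1 : MulAut.conj y = MulAut.conj z := congrArg Subtype.val hyz
      obtain ⟨d, hd⟩ := S.surj (z⁻¹ * y)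
      have h2 : S.θ (d : G) = 1 := by rw [act_D, hd, map_mul, map_inv, h1, inv_mul_cancel]
      have h3 := π_eq_one S h2
      rw [hd, inv_mul_eq_one] at h3
      exact h3.symm
    intro w
    obtain ⟨y, hy⟩ := (hconj.bijective_of_nat_card_le (by rw [hrg, ht])).2 w
    obtain ⟨d, rfl⟩ := S.surj y
    exact ⟨d, by rw [← hy]; exact Subtype.ext (act_D S d)⟩
  let e : ↥S.θ.range ≃* S.T := (MulEquiv.ofBijective
    ((MulAut.conj : S.T →* MulAut S.T).codRestrict S.θ.range fun y => by
      obtain ⟨d, rfl⟩ := S.surj y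
      exact ⟨d, act_D S d⟩)
    ⟨fun y z hyz => by
        obtain ⟨d, hd⟩ := S.surj (z⁻¹ * y)
        have h2 : S.θ (d : G) = 1 := by
          rw [act_D, hd, map_mul, map_inv]
          rw [show MulAut.conj y = MulAut.conj z from congrArg Subtype.val hyz, inv_mul_cancel]
        have h3 := π_eq_one S h2
        rw [hd, inv_mul_eq_one] at h3
        exact h3.symm,
      fun w => by
        obtain ⟨d, rfl⟩ := hsurj w
        exact ⟨S.π d, Subtype.ext (act_D S d).symm⟩⟩).symm
  obtain ⟨F, _, _, hF, ⟨i⟩⟩ : ∃ (F : Type) (_ : Field F) (_ : Fintype F), Fintype.card F = 7 ∧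
      Nonempty (S.T ≃* Matrix.ProjectiveSpecialLinearGroup (Fin 2) F) := by
    rcases Cfsg.Agent.S0998.result (fun hc => S.nonabelian
        (@IsCyclic.isMulCommutative _ _ hc)) 3 2 7 3 Nat.prime_three Nat.prime_two (by norm_num) (by norm_num) (by norm_num)
        (by norm_num) (by rw [ht]; norm_num) with ⟨F, iF, iT, hF, ⟨i⟩⟩ | h
    · exfalso
      have := Nat.card_congr i.toEquiv
      rw [ht, CfsgLib.Classical.card_PSL_fin 2 (by norm_num), CfsgLib.Classical.card_SL_fin',
        Nat.card_eq_fintype_card, hF] at this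
      simp [Finset.prod_range_succ] at this
    · exact h
  haveI : CharP F 7 := charP_of_card_eq_prime hF
  have hdeg : ∃ d ∈ charDegrees S.T, 6 ∣ d := by
    obtain ⟨-, -, -, d, hd, hd6⟩ := ((Cfsg.Agent.S4774.result F 7 (by norm_num) 7 hF (by norm_num)
      (Or.inl ⟨i⟩)).2 2 3).2 ⟨by norm_num, Nat.prime_two, Nat.prime_three, by norm_num, by norm_num,
        Or.inl rfl⟩
    exact ⟨d, hd, by simpa using hd6⟩
  obtain ⟨d, ⟨χ, hχ⟩, h6⟩ := hdeg
  refine adj_two_three_of_six (d := d) ⟨⟨fun g => (χ : S.T → ℂ) (e (S.θ.rangeRestrict g)),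
    Chars.isIrrCharacter_comp ((e.toMonoidHom).comp S.θ.rangeRestrict)
      (e.surjective.comp S.θ.rangeRestrict_surjective) χ.2⟩, ?_⟩ h6
  rw [← hχ]
  exact congrArg (fun z : ℂ => ⌊z.re⌋₊) (by simp)

theorem case_360 (hsieve : Sieve.{u}) (hG : Nat.card G = 360) (ht : Nat.card S.T = 60) :
    (degreeGraph G).Adj 2 3 ∨ ¬ (degreeGraph G).Adj 2 5 := by
  classical
  haveI : Fact (Nat.Prime 5) := ⟨by norm_num⟩
  haveI := Fintype.ofFinite G
  have hn : Nat.card (Sylow 5 S.T) = 5 + 1 := by
    have h1 := card_sylow_dvd (G := S.T) (p := 5) 1 12 (by rw [ht]; norm_num) (by norm_num)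
    have h2 : Nat.card (Sylow 5 S.T) % 5 = 1 := card_sylow_modEq_one 5 _
    have h3 := one_lt_card_sylow (p := 5) S.nonabelian (by rw [ht]; norm_num)
    have := Nat.le_of_dvd (by norm_num) h1
    interval_cases (Nat.card (Sylow 5 S.T)) <;> omega
  obtain ⟨P⟩ := (inferInstance : Nonempty (Sylow 5 S.T))
  have hA := card_aut_le S.nonabelian (r := 5) (by rw [ht]; norm_num) (by rw [ht]; norm_num) hn
    S.θ.range P
  have hmul := card_range_mul S
  rw [hG] at hmul
  set C := S.θ.ker with hCdef
  have hd : Nat.card ↥C ∣ 6 := by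
    have := Nat.dvd_div_of_mul_dvd (card_mul_dvd S)
    rwa [hG, ht] at this
  have hC36 : Nat.card ↥C = 3 ∨ Nat.card ↥C = 6 := by
    have h1 := hA.1
    have := Nat.le_of_dvd (by norm_num) hd
    interval_cases hh : Nat.card ↥C <;> omega
  -- a character of degree three or six of the section
  obtain ⟨θ₀, hθ₀⟩ := exists_degree_three ht
  rcases hC36 with hC | hC
  · -- fused pair
    left
    have hrg : Nat.card ↥S.θ.range = 120 := by rw [hC] at hmul; omega
    obtain ⟨φ, ⟨g, rfl⟩, hg⟩ := hA.2 hrg 2 (by norm_num)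
    haveI := Fintype.ofFinite ↥S.D
    set θ : ↥S.D → ℂ := fun d => (θ₀ : S.T → ℂ) (S.π d) with hθdef
    have hθ : IsIrrCharacter ↥S.D θ := Chars.isIrrCharacter_comp S.π S.surj θ₀.2
    have hθ1 : θ 1 = 3 := by
      show (θ₀ : S.T → ℂ) (S.π 1) = 3
      rw [map_one, CharApps.deg_eq, hθ₀]; norm_num
    obtain ⟨⟨x, hxP⟩, hx⟩ := exists_prime_orderOf_dvd_card' (G := ↥(P : Subgroup S.T)) 5 (by
      rw [card_sylow_eq 1 12 (by rw [ht]; norm_num) (by norm_num) P]; norm_num)
    rw [orderOf_mk] at hx
    have hIg : g ∉ CharsMore.inertia S.D θ := by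
      intro hI
      have hstep : ∀ y : S.T, (θ₀ : S.T → ℂ) (S.θ g y) = (θ₀ : S.T → ℂ) y := by
        intro y
        obtain ⟨d, rfl⟩ := S.surj y
        rw [S.act]
        exact (CharsMore.mem_inertia S.D).1 hI d
      have h2 : ∀ n : ℕ, (θ₀ : S.T → ℂ) (x ^ (2 ^ n)) = (θ₀ : S.T → ℂ) x := by
        intro n
        induction n with
        | zero => simp
        | succ n ih =>
          rw [← ih, pow_succ, pow_mul, ← hg _ (pow_mem hxP _), hstep]
      have hconst : ∀ y ∈ zpowers x, y ≠ 1 → (θ₀ : S.T → ℂ) y = (θ₀ : S.T → ℂ) x := by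
        intro y hy hy1
        rw [mem_zpowers_iff_mem_range_orderOf, hx] at hy
        obtain ⟨i, hi, rfl⟩ := Finset.mem_image.1 hy
        rw [Finset.mem_range] at hi
        have hx5 : x ^ 5 = 1 := hx ▸ pow_orderOf_eq_one x
        interval_cases i
        · simp at hy1
        · simp
        · simpa using h2 1
        · have e : x ^ 2 ^ 3 = x ^ 3 := by
            rw [show (2 : ℕ) ^ 3 = 5 + 3 by norm_num, pow_add, hx5, one_mul]
          rw [← e]; exact h2 3
        · have e : x ^ 2 ^ 2 = x ^ 4 := by norm_num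
          rw [← e]; exact h2 2
      have hk := not_rational_of_degree_three hθ₀ hx hconst
      have hne : CharApps.charKer θ₀ = ⊥ := by
        rcases IsSimpleGroup.eq_bot_or_eq_top_of_normal _ (CharApps.charKer_normal θ₀) with h | h
        · exact h
        · exfalso
          haveI := Fintype.ofFinite S.T
          have hsum := Chars.inner_irr_self θ₀
          have hall : ∀ y : S.T, (θ₀ : S.T → ℂ) y = 3 := fun y => by
            rw [CharApps.mem_charKer.1 (h ▸ mem_top y), CharApps.deg_eq, hθ₀]; norm_num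
          rw [Chars.inner_def] at hsum
          simp [hall, Finset.card_univ, ← Nat.card_eq_fintype_card, ht] at hsum
          rw [map_ofNat] at hsum
          norm_num at hsum
      have h1 : x ∈ CharApps.charKer θ₀ := CharApps.mem_charKer.2 hk
      rw [hne, mem_bot] at h1
      rw [h1, orderOf_one] at hx
      norm_num at hx
    obtain ⟨χ, hχ⟩ := CharsMore.exists_over S.D hθ
    have hdeg := CharsMore.clifford_degree S.D χ.2 hθ hχ
    rw [CharsMore.inner_eq_multNat (Chars.isCharacter_restrict _ (Chars.isCharacter_of_irr χ.2))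
      (Chars.isCharacter_of_irr hθ), CharApps.deg_eq, hθ1] at hdeg
    norm_cast at hdeg
    set I := CharsMore.inertia S.D θ with hI
    have hDI : S.D ≤ I :=
      CharsMore.le_inertia S.D (Chars.isClassFunction_of_isCharacter (Chars.isCharacter_of_irr hθ))
    have hCI : C ≤ I := fun z hz => (CharsMore.mem_inertia S.D).2 fun d => by
      show (θ₀ : S.T → ℂ) (S.π _) = (θ₀ : S.T → ℂ) (S.π d)
      have hz1 : S.θ z = 1 := MonoidHom.mem_ker.1 hz
      have := S.act z d
      rw [hz1, MulAut.one_apply] at this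
      exact congrArg _ this.symm
    have hIimg : 60 ∣ Nat.card ↥(I.map S.θ) := by
      rw [← ht]
      have hconj : Function.Injective (fun y : S.T => (⟨MulAut.conj y, by
          obtain ⟨d, rfl⟩ := S.surj y
          exact ⟨d, hDI d.2, act_D S d⟩⟩ : ↥(I.map S.θ))) := by
        intro y z hyz
        have h1 : MulAut.conj y = MulAut.conj z := congrArg Subtype.val hyz
        obtain ⟨d, hd⟩ := S.surj (z⁻¹ * y)
        have h2 : S.θ (d : G) = 1 := by rw [act_D, hd, map_mul, map_inv, h1, inv_mul_cancel]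
        have h3 := π_eq_one S h2
        rw [hd, inv_mul_eq_one] at h3
        exact h3.symm
      have hle : (MulAut.conj : S.T →* MulAut S.T).range ≤ I.map S.θ := by
        rintro _ ⟨y, rfl⟩
        obtain ⟨d, rfl⟩ := S.surj y
        exact ⟨d, hDI d.2, act_D S d⟩
      have hinj : Function.Injective (MulAut.conj : S.T →* MulAut S.T) := fun y z h =>
        hconj (Subtype.ext h)
      rw [Nat.card_congr (MonoidHom.ofInjective hinj).toEquiv]
      exact card_dvd_of_le hle
    have hI180 : 180 ∣ Nat.card ↥I := by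
      let f := S.θ.subgroupMap I
      have hk : Nat.card ↥f.ker = 3 := by
        rw [← hC]
        refine Nat.card_congr
          { toFun := fun z => ⟨((z : ↥I) : G), MonoidHom.mem_ker.2 (congrArg Subtype.val (MonoidHom.mem_ker.1 z.2))⟩
            invFun := fun z => ⟨⟨z, hCI z.2⟩, MonoidHom.mem_ker.2 (Subtype.ext (MonoidHom.mem_ker.1 z.2))⟩
            left_inv := fun z => rfl
            right_inv := fun z => rfl }
      rw [← f.ker.card_mul_index, Subgroup.index_ker, MonoidHom.range_eq_top.2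
        (S.θ.subgroupMap_surjective I), card_top, hk]
      exact (Nat.mul_dvd_mul_left 3 hIimg : 3 * 60 ∣ _)
    have hne : I ≠ ⊤ := fun h => hIg (h ▸ mem_top g)
    have hidx : I.index = 2 := by
      obtain ⟨k, hk⟩ := hI180
      have h1 := I.card_mul_index
      rw [hk, hG, mul_assoc] at h1
      have h2 : k * I.index = 2 := by omega
      have h3 := two_le_index hne
      have : k ∣ 2 := ⟨_, h2.symm⟩
      have := Nat.le_of_dvd (by norm_num) this
      interval_cases k <;> omega
    rw [hidx] at hdeg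
    exact adj_two_three_of_six (d := charDegree (χ : G → ℂ)) ⟨χ, rfl⟩ ⟨_, by rw [hdeg]; ring⟩
  · -- the product with the kernel
    have hCD : ∀ g : G, ∃ c ∈ C, ∃ d ∈ S.D, g = c * d := by
      intro g
      have hrg : Nat.card ↥S.θ.range = 60 := by rw [hC] at hmul; omega
      have hconj : Function.Injective (fun y : S.T => (⟨MulAut.conj y, by
          obtain ⟨d, rfl⟩ := S.surj y
          exact ⟨d, act_D S d⟩⟩ : ↥S.θ.range)) := by
        intro y z hyz
        have h1 : MulAut.conj y = MulAut.conj z := congrArg Subtype.val hyz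
        obtain ⟨d, hd⟩ := S.surj (z⁻¹ * y)
        have h2 : S.θ (d : G) = 1 := by rw [act_D, hd, map_mul, map_inv, h1, inv_mul_cancel]
        have h3 := π_eq_one S h2
        rw [hd, inv_mul_eq_one] at h3
        exact h3.symm
      obtain ⟨y, hy⟩ := (hconj.bijective_of_nat_card_le (by rw [hrg, ht])).2 ⟨S.θ g, g, rfl⟩
      obtain ⟨d, rfl⟩ := S.surj y
      refine ⟨g * (d : G)⁻¹, MonoidHom.mem_ker.2 ?_, d, d.2, by group⟩
      rw [map_mul, map_inv, act_D]
      rw [show S.θ g = MulAut.conj (S.π d) from (congrArg Subtype.val hy).symm, mul_inv_cancel]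
    haveI hCn : C.Normal := S.θ.normal_ker
    have hDC : ∀ d ∈ S.D, ∀ c ∈ C, d * c = c * d := by
      let f : ↥S.D →* MulAut ↥C := MulAut.conjNormal.comp S.D.subtype
      haveI hsol : Group.IsSolvable (MulAut ↥C) :=
        isSolvable_of_lt hsieve ((card_mulAut_of_card_six hC).trans_lt (by norm_num))
      have hperf : ∀ e : ↥S.D, f e = 1 := eq_one_of_perfect S.perfect f
      intro d hd c hc
      have h' : d * c * d⁻¹ = c :=
        congrArg Subtype.val (DFunLike.congr_fun (hperf ⟨d, hd⟩) (⟨c, hc⟩ : ↥C))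
      exact mul_inv_eq_iff_eq_mul.1 h' 
    by_cases hab : ∀ a ∈ C, ∀ b ∈ C, a * b = b * a
    · -- central
      right
      rintro ⟨-, -, -, d, ⟨χ, rfl⟩, h10⟩
      have hcen : C ≤ center G := by
        intro c hc
        rw [mem_center_iff]
        intro g
        obtain ⟨c', hc', d, hd, rfl⟩ := hCD g
        rw [mul_assoc, hDC d hd c hc, ← mul_assoc, hab c' hc' c hc, mul_assoc]
      have hle := central_sq_le hcen χ
      have hidx : C.index = 60 := by
        have := C.card_mul_index; rw [hC, hG] at this; omega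
      rw [hidx] at hle
      have h0 := CharApps.deg_pos χ
      have := Nat.le_of_dvd h0 h10
      nlinarith
    · left
      -- a direct product
      have hcenC : ∀ z ∈ C, (∀ c ∈ C, z * c = c * z) → z = 1 := by
        intro z hz hzc
        by_contra hz1
        apply hab
        have hzZ : (⟨z, hz⟩ : ↥C) ∈ center ↥C :=
          mem_center_iff.2 fun c => Subtype.ext (hzc c c.2).symm
        have hne : center ↥C ≠ ⊥ := fun h => by
          rw [h, mem_bot] at hzZ
          exact hz1 (congrArg Subtype.val hzZ)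
        have hdvd := card_subgroup_dvd_card (center ↥C)
        rw [hC] at hdvd
        have hmul' := (center ↥C).card_mul_index
        rw [hC] at hmul'
        haveI : IsCyclic (↥C ⧸ center ↥C) := by
          have hcz : 1 < Nat.card ↥(center ↥C) := one_lt_card_iff_ne_bot _ |>.2 hne
          have hle' := Nat.le_of_dvd (by norm_num) hdvd
          interval_cases hh : Nat.card ↥(center ↥C)
          · exact isCyclic_of_prime_card (p := 3) (hp := ⟨Nat.prime_three⟩) (by
              show (center ↥C).index = 3; omega)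
          · exact isCyclic_of_prime_card (p := 2) (hp := ⟨Nat.prime_two⟩) (by
              show (center ↥C).index = 2; omega)
          · omega
          · omega
          · haveI : Subsingleton (↥C ⧸ center ↥C) := (Nat.card_eq_one_iff_unique.1 (by
              show (center ↥C).index = 1; omega)).1
            infer_instance
        intro a ha b hb
        exact congrArg Subtype.val (commutative_of_cyclic_center_quotient (QuotientGroup.mk' (center ↥C))
          (by rw [QuotientGroup.ker_mk']) (⟨a, ha⟩ : ↥C) ⟨b, hb⟩)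
      let Φ : ↥S.D × ↥C →* G :=
        { toFun := fun p => (p.1 : G) * p.2
          map_one' := by simp
          map_mul' := fun p q => by
            simp only [Prod.fst_mul, Prod.snd_mul, Subgroup.coe_mul]
            rw [mul_assoc, ← mul_assoc (q.1 : G), hDC _ q.1.2 _ p.2.2, mul_assoc, mul_assoc] }
      have hbij : Function.Bijective Φ := by
        constructor
        · intro p q h
          have h' : (p.1 : G) * p.2 = (q.1 : G) * q.2 := h
          have h1 : (q.1 : G)⁻¹ * p.1 = (q.2 : G) * (p.2 : G)⁻¹ := by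
            rw [eq_mul_inv_iff_mul_eq, mul_assoc, h', inv_mul_cancel_left]
          have hmem : (q.1 : G)⁻¹ * p.1 ∈ C := h1 ▸ mul_mem q.2.2 (inv_mem p.2.2)
          have hmemD : (q.1 : G)⁻¹ * p.1 ∈ S.D := mul_mem (inv_mem q.1.2) p.1.2
          have h2 := hcenC _ hmem fun c hc => hDC _ hmemD c hc
          have h3 : q.1 = p.1 := Subtype.ext (inv_mul_eq_one.1 h2)
          refine Prod.ext h3.symm (Subtype.ext ?_)
          rw [h3] at h'
          exact mul_left_cancel h'
        · intro g
          obtain ⟨c, hc, d, hd, rfl⟩ := hCD g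
          exact ⟨(⟨d, hd⟩, ⟨c, hc⟩), hDC d hd c hc⟩
      obtain ⟨ψ, hψ⟩ : ∃ ψ : IrrCharacter ↥C, charDegree (ψ : ↥C → ℂ) = 2 := by
        by_contra! hh
        apply hab
        have hlin : ∀ ψ : IrrCharacter ↥C, charDegree (ψ : ↥C → ℂ) = 1 := by
          intro ψ
          have h1 := CharsMore.DegreesPSL.deg_sq_le ψ
          rw [hC] at h1
          have h2 := hh ψ
          have h3 := CharApps.deg_pos ψ
          have : charDegree (ψ : ↥C → ℂ) < 3 := by nlinarith
          omega
        intro a ha b hb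
        have hone : ⁅(⟨a, ha⟩ : ↥C), (⟨b, hb⟩ : ↥C)⁆ = 1 := CharApps.eq_one_of_forall_ker fun ψ => by
          obtain ⟨lam, hlam⟩ := Chars.exists_hom_of_degree_one (Chars.isCharacter_of_irr ψ.2)
            (by rw [CharApps.deg_eq, hlin ψ, Nat.cast_one])
          rw [hlam]
          beta_reduce
          rw [map_commutatorElement, map_one, commutatorElement_eq_one_iff_mul_comm.2 (mul_comm _ _)]
        exact congrArg Subtype.val (commutatorElement_eq_one_iff_mul_comm.1 hone)
      let e : G ≃* ↥S.D × ↥C := (MulEquiv.ofBijective Φ hbij).symm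
      have hirr := Chars.isIrrCharacter_comp e.toMonoidHom e.surjective
        (Chars.isIrrCharacter_prod (Chars.isIrrCharacter_comp S.π S.surj θ₀.2) ψ.2)
      refine adj_two_three_of_six (d := 6) ⟨⟨_, hirr⟩, ?_⟩ dvd_rfl
      show ⌊((θ₀ : S.T → ℂ) (S.π (e 1).1) * (ψ : ↥C → ℂ) (e 1).2).re⌋₊ = 6
      rw [map_one, Prod.fst_one, Prod.snd_one, map_one, CharApps.deg_eq, CharApps.deg_eq, hθ₀, hψ]
      norm_num

end Section

/-- The solvable case cannot happen. -/
theorem false_of_solvable {r q₀ a N : ℕ} [hr : Fact r.Prime] (hq₀ : q₀.Prime)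
    (hfull : ¬ q₀ ^ (a + 1) ∣ N) (hrN : r ∣ N) (hr2 : ¬ r ^ 2 ∣ N)
    (hchk : ∀ d ∈ N.divisors, d % r = 1 → d = 1 ∨ d = q₀ ^ a ∨
      ∃ e ∈ d.divisors, 1 < e ∧ e < d ∧ Nat.gcd e (d / e) = 1)
    {G : Type u} [Group G] [Finite G] [Group.IsSolvable G] (hG : Nat.card G = N)
    (hrp : r ∈ degreePrimes G) (hqp : 1 ≤ a → q₀ ∈ degreePrimes G) : False := by
  have hN0 : N ≠ 0 := hG ▸ Nat.card_pos.ne'
  obtain ⟨R⟩ := (inferInstance : Nonempty (Sylow r G))
  obtain ⟨m, hm⟩ := hrN
  have hm' : ¬ r ∣ m := fun h => hr2 (by rw [hm, pow_two]; exact Nat.mul_dvd_mul_left r h)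
  have hR : Nat.card ↥(R : Subgroup G) = r := by
    simpa using card_sylow_eq 1 m (by rw [pow_one, hG, hm]) hm' R
  have hRn : ¬ (R : Subgroup G).Normal := fun h =>
    not_degreePrime_of_sylow (hG ▸ ⟨m, hm⟩) (hG ▸ hr2) R h hrp
  have hpp : ∀ q i : ℕ, q.Prime → q ≠ r → 1 ≤ i → q ^ i ∣ N → q ^ i % r = 1 → q = q₀ ∧ i = a := by
    intro q i hq _ hi hd hmod
    rcases hchk _ (Nat.mem_divisors.2 ⟨hd, hN0⟩) hmod with h | h | ⟨e, he, he1, he2, hg⟩
    · exact absurd h (Nat.one_lt_pow (by omega) hq.one_lt).ne'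
    · rcases Nat.eq_zero_or_pos a with h0 | h0
      · rw [h0, pow_zero] at h
        exact absurd h (Nat.one_lt_pow (by omega) hq.one_lt).ne'
      · have e1 : q = q₀ := (Nat.prime_dvd_prime_iff_eq hq hq₀).1
          (hq.dvd_of_dvd_pow (h ▸ dvd_pow_self q (by omega)))
        subst e1
        exact ⟨rfl, Nat.pow_right_injective hq.two_le h⟩
    · exfalso
      obtain ⟨j, hj, rfl⟩ := (Nat.dvd_prime_pow hq).1 (Nat.dvd_of_mem_divisors he)
      rw [Nat.pow_div hj hq.pos] at hg
      have hj0 : 1 ≤ j := by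
        rcases Nat.eq_zero_or_pos j with h0 | h0
        · rw [h0, pow_zero] at he1; omega
        · exact h0
      have hji : j < i := (Nat.pow_lt_pow_iff_right hq.one_lt).1 he2
      have := Nat.dvd_gcd (dvd_pow_self q (show j ≠ 0 by omega)) (dvd_pow_self q (show i - j ≠ 0 by omega))
      rw [hg, Nat.dvd_one] at this
      exact hq.one_lt.ne' this
  obtain ⟨A, hA, hAc, hAcard, hAR⟩ :=
    exists_normal_abelian hq₀ hfull hpp (Nat.card G) G le_rfl (dvd_of_eq hG) R hR hRn
  haveI := hA
  rcases Nat.eq_zero_or_pos a with h0 | h0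
  · apply hAR
    intro x _
    rw [mem_centralizer_iff]
    intro y hy
    rw [A.eq_bot_of_card_eq (by rw [hAcard, h0, pow_zero]), SetLike.mem_coe, mem_bot] at hy
    rw [hy, one_mul, mul_one]
  · exact not_degreePrime_of_card hq₀ A hAc hAcard (hG ▸ hfull) (hqp h0)

/-- The reduction. -/
theorem isSimpleGroup_of_degreeGraph (hsieve : Sieve.{u}) {G : Type u} [Group G] [Finite G] {N : ℕ}
    (hN : N ∈ orders) (hcard : Nat.card G = N)
    (hp : ∀ r : ℕ, r.Prime → r ∣ N → (N = 5616 → r ≠ 2) → (N = 2520 → 5 ≤ r) → r ∈ degreePrimes G)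
    (h360 : N = 360 → ¬ (degreeGraph G).Adj 2 3 ∧ (degreeGraph G).Adj 2 5)
    (h504 : N = 504 → ¬ (degreeGraph G).Adj 2 3) :
    IsSimpleGroup G ∧ ¬ IsMulCommutative G := by
  have hlt : Nat.card G < 6000 := by
    have : ∀ N ∈ orders, N < 6000 := by decide
    rw [hcard]; exact this N hN
  by_cases hs : Group.IsSolvable G
  · exfalso
    haveI := hs
    simp only [orders, List.mem_cons, List.not_mem_nil, or_false] at hN
    haveI : Fact (Nat.Prime 5) := ⟨by norm_num⟩
    haveI : Fact (Nat.Prime 7) := ⟨by norm_num⟩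
    haveI : Fact (Nat.Prime 11) := ⟨by norm_num⟩
    haveI : Fact (Nat.Prime 13) := ⟨by norm_num⟩
    haveI : Fact (Nat.Prime 17) := ⟨by norm_num⟩
    haveI : Fact (Nat.Prime 19) := ⟨by norm_num⟩
    rcases hN with rfl | rfl | rfl | rfl | rfl | rfl | rfl | rfl | rfl | rfl | rfl
    · exact false_of_solvable (r := 5) (q₀ := 7) (a := 0) (by norm_num) (by norm_num) (by norm_num) (by norm_num) (by decide +kernel) hcard
        (hp 5 (by norm_num) (by norm_num) (by norm_num) (by norm_num)) (fun h => absurd h (by norm_num))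
    · exact false_of_solvable (r := 7) (q₀ := 2) (a := 3) (by norm_num) (by norm_num) (by norm_num) (by norm_num) (by decide +kernel) hcard
        (hp 7 (by norm_num) (by norm_num) (by norm_num) (by norm_num)) (fun _ => hp 2 (by norm_num) (by norm_num) (by norm_num) (by norm_num))
    · exact false_of_solvable (r := 5) (q₀ := 7) (a := 0) (by norm_num) (by norm_num) (by norm_num) (by norm_num) (by decide +kernel) hcard
        (hp 5 (by norm_num) (by norm_num) (by norm_num) (by norm_num)) (fun h => absurd h (by norm_num))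
    · exact false_of_solvable (r := 7) (q₀ := 2) (a := 3) (by norm_num) (by norm_num) (by norm_num) (by norm_num) (by decide +kernel) hcard
        (hp 7 (by norm_num) (by norm_num) (by norm_num) (by norm_num)) (fun _ => hp 2 (by norm_num) (by norm_num) (by norm_num) (by norm_num))
    · exact false_of_solvable (r := 11) (q₀ := 7) (a := 0) (by norm_num) (by norm_num) (by norm_num) (by norm_num) (by decide +kernel) hcard
        (hp 11 (by norm_num) (by norm_num) (by norm_num) (by norm_num)) (fun h => absurd h (by norm_num))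
    · exact false_of_solvable (r := 13) (q₀ := 5) (a := 0) (by norm_num) (by norm_num) (by norm_num) (by norm_num) (by decide +kernel) hcard
        (hp 13 (by norm_num) (by norm_num) (by norm_num) (by norm_num)) (fun h => absurd h (by norm_num))
    · exact false_of_solvable (r := 17) (q₀ := 7) (a := 0) (by norm_num) (by norm_num) (by norm_num) (by norm_num) (by decide +kernel) hcard
        (hp 17 (by norm_num) (by norm_num) (by norm_num) (by norm_num)) (fun h => absurd h (by norm_num))
    · exact false_of_solvable (r := 5) (q₀ := 11) (a := 0) (by norm_num) (by norm_num) (by norm_num) (by norm_num) (by decide +kernel) hcard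
        (hp 5 (by norm_num) (by norm_num) (by norm_num) (by norm_num)) (fun h => absurd h (by norm_num))
    · exact false_of_solvable (r := 19) (q₀ := 7) (a := 0) (by norm_num) (by norm_num) (by norm_num) (by norm_num) (by decide +kernel) hcard
        (hp 19 (by norm_num) (by norm_num) (by norm_num) (by norm_num)) (fun h => absurd h (by norm_num))
    · exact false_of_solvable (r := 17) (q₀ := 7) (a := 0) (by norm_num) (by norm_num) (by norm_num) (by norm_num) (by decide +kernel) hcard
        (hp 17 (by norm_num) (by norm_num) (by norm_num) (by norm_num)) (fun h => absurd h (by norm_num))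
    · exact false_of_solvable (r := 13) (q₀ := 3) (a := 3) (by norm_num) (by norm_num) (by norm_num) (by norm_num) (by decide +kernel) hcard
        (hp 13 (by norm_num) (by norm_num) (by norm_num) (by norm_num)) (fun _ => hp 3 (by norm_num) (by norm_num) (by norm_num) (by norm_num))
  obtain ⟨S, hfin, ht, htd⟩ := exists_action hsieve hlt hs (by
    have key : ∀ M ∈ orders, ∀ t ∈ orders, t ∣ M → ∀ s ∈ orders, ¬ s ∣ M / t := by decide +kernel
    rw [hcard]
    exact key N hN)
  haveI := hfin
  rw [hcard] at htd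
  by_cases heq : Nat.card S.T = N
  · have h1 : Nat.card ↥S.D ∣ N := hcard ▸ card_subgroup_dvd_card S.D
    have h2 : Nat.card S.T ∣ Nat.card ↥S.D := Subgroup.card_dvd_of_surjective S.π S.surj
    have hD : S.D = ⊤ := eq_top_of_card_eq _ (by
      rw [hcard]; exact Nat.dvd_antisymm h1 (heq ▸ h2))
    have hπ : Function.Injective S.π := by
      refine (S.surj.bijective_of_nat_card_le ?_).1
      rw [heq]; exact Nat.le_of_dvd (by rw [← hcard]; exact Nat.card_pos) h1
    let e : G ≃* S.T := ((MulEquiv.subgroupCongr hD).trans Subgroup.topEquiv).symm.trans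
      (MulEquiv.ofBijective S.π ⟨hπ, S.surj⟩)
    haveI : Nontrivial G := e.toEquiv.nontrivial
    exact ⟨IsSimpleGroup.isSimpleGroup_of_surjective e.symm.toMonoidHom e.symm.surjective,
      fun h => S.nonabelian ⟨⟨fun a b => e.symm.injective (by
        rw [map_mul, map_mul]; exact h.is_comm.comm _ _)⟩⟩⟩
  exfalso
  have key : ∀ M ∈ orders, ∀ t ∈ orders, t ∣ M → t ≠ M → (M, t) ∈ [(360, 60), (504, 168),
      (660, 60), (3420, 60), (4080, 60), (2520, 60), (2520, 168), (2520, 360), (2520, 504)] := by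
    decide +kernel
  have hmem := key N hN _ ht htd heq
  haveI : Fact (Nat.Prime 5) := ⟨by norm_num⟩
  haveI : Fact (Nat.Prime 7) := ⟨by norm_num⟩
  haveI : Fact (Nat.Prime 11) := ⟨by norm_num⟩
  haveI : Fact (Nat.Prime 17) := ⟨by norm_num⟩
  haveI : Fact (Nat.Prime 19) := ⟨by norm_num⟩
  simp only [List.mem_cons, List.not_mem_nil, or_false, Prod.mk.injEq] at hmem
  rcases hmem with ⟨rfl, h⟩ | ⟨rfl, h⟩ | ⟨rfl, h⟩ | ⟨rfl, h⟩ | ⟨rfl, h⟩ | ⟨rfl, h⟩ | ⟨rfl, h⟩ |
    ⟨rfl, h⟩ | ⟨rfl, h⟩
  · exact (S.case_360 hsieve hcard h).elim (h360 rfl).1 (fun h' => h' (h360 rfl).2)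
  · exact h504 rfl (S.case_504 hcard h)
  · exact S.not_degreePrime_of_trivial (r := 11) (by rw [hcard]; norm_num) (by rw [hcard]; norm_num)
      (fun x hx => S.outer_case (s := 5) (a := 2) (b := 1) (by norm_num) (by norm_num) (by norm_num) (by norm_num) (by rw [h]; norm_num) (by decide) (by decide) (by norm_num) hx)
      (by rw [hcard, h]; decide +kernel) (hp 11 (by norm_num) (by norm_num) (by norm_num) (by norm_num))
  · exact S.not_degreePrime_of_trivial (r := 19) (by rw [hcard]; norm_num) (by rw [hcard]; norm_num)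
      (fun x hx => S.outer_case (s := 5) (a := 2) (b := 1) (by norm_num) (by norm_num) (by norm_num) (by norm_num) (by rw [h]; norm_num) (by decide) (by decide) (by norm_num) hx)
      (by rw [hcard, h]; decide +kernel) (hp 19 (by norm_num) (by norm_num) (by norm_num) (by norm_num))
  · exact S.not_degreePrime_of_trivial (r := 17) (by rw [hcard]; norm_num) (by rw [hcard]; norm_num)
      (fun x hx => S.outer_case (s := 5) (a := 2) (b := 1) (by norm_num) (by norm_num) (by norm_num) (by norm_num) (by rw [h]; norm_num) (by decide) (by decide) (by norm_num) hx)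
      (by rw [hcard, h]; decide +kernel) (hp 17 (by norm_num) (by norm_num) (by norm_num) (by norm_num))
  · exact S.not_degreePrime_of_trivial (r := 7) (by rw [hcard]; norm_num) (by rw [hcard]; norm_num)
      (fun x hx => S.outer_case (s := 5) (a := 2) (b := 1) (by norm_num) (by norm_num) (by norm_num) (by norm_num) (by rw [h]; norm_num) (by decide) (by decide) (by norm_num) hx)
      (by rw [hcard, h]; decide +kernel) (hp 7 (by norm_num) (by norm_num) (by norm_num) (by norm_num))
  · exact S.not_degreePrime_of_trivial (r := 5) (by rw [hcard]; norm_num) (by rw [hcard]; norm_num)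
      (fun x hx => S.outer_case (s := 7) (a := 3) (b := 1) (by norm_num) (by norm_num) (by norm_num) (by norm_num) (by rw [h]; norm_num) (by decide) (by decide) (by norm_num) hx)
      (by rw [hcard, h]; decide +kernel) (hp 5 (by norm_num) (by norm_num) (by norm_num) (by norm_num))
  · exact S.not_degreePrime_of_trivial (r := 7) (by rw [hcard]; norm_num) (by rw [hcard]; norm_num)
      (fun x hx => S.outer_case_360 h hx)
      (by rw [hcard, h]; decide +kernel) (hp 7 (by norm_num) (by norm_num) (by norm_num) (by norm_num))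
  · exact S.not_degreePrime_of_trivial (r := 5) (by rw [hcard]; norm_num) (by rw [hcard]; norm_num)
      (fun x hx => S.outer_case (s := 7) (a := 3) (b := 2) (by norm_num) (by norm_num) (by norm_num) (by norm_num) (by rw [h]; norm_num) (by decide) (by decide) (by norm_num) hx)
      (by rw [hcard, h]; decide +kernel) (hp 5 (by norm_num) (by norm_num) (by norm_num) (by norm_num))

end CfsgLib.Small.DegGraph
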