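import Cfsg.Agent.Lib.Small.A7Vertices
import Cfsg.Agent.Lib.CharApps.SLTwoDegrees
import Cfsg.Agent.S4774
import Cfsg.Agent.S4812
import Cfsg.Agent.S0984

/-!
# Degree graphs of the simple groups of order below 6000
-/

set_option autoImplicit false
set_option linter.style.haveILetI false

open Cfsg

namespace CfsgLib.Small.GraphTargets

theorem degreePrimes_congr {G H : Type*} [Group G] [Group H] (e : G ≃* H) :
    degreePrimes G = degreePrimes H := by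
  ext r
  simp only [degreePrimes, SLTwoDegrees.charDegrees_mulEquiv e]

theorem degreeGraph_congr {G H : Type*} [Group G] [Group H] (e : G ≃* H) :
    degreeGraph G = degreeGraph H := by
  ext r s
  simp only [degreeGraph, SLTwoDegrees.charDegrees_mulEquiv e]

variable {S : Type*} [Group S] [Finite S]

theorem lin_odd {F : Type*} [Field F] [Fintype F] {t q : ℕ} [Fact t.Prime] [CharP F t] (ht : t ≠ 2)
    (hq : Fintype.card F = q) (h5 : 5 < q) {N : ℕ} (hN : 2 * N = q * (q ^ 2 - 1))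
    (e : Nonempty (S ≃* Matrix.ProjectiveSpecialLinearGroup (Fin 2) F)) :
    (∀ r : ℕ, r.Prime → r ∣ N → r ∈ degreePrimes S) ∧
      ∀ r s : ℕ, (degreeGraph S).Adj r s ↔ (r ≠ s ∧ r.Prime ∧ s.Prime ∧ r ∣ q ^ 2 - 1 ∧
        s ∣ q ^ 2 - 1 ∧ (r = 2 ∨ s = 2 ∨ (r ∣ q + 1 ∧ s ∣ q + 1) ∨ (r ∣ q - 1 ∧ s ∣ q - 1))) := by
  obtain ⟨h1, h2⟩ := Agent.S4774.result F t ht q hq h5 (S := S) (Or.inl e)
  exact ⟨fun r hr hd => by rw [h1]; exact ⟨hr, hN ▸ hd.mul_left 2⟩, h2⟩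

theorem lin_even {F : Type*} [Field F] [Fintype F] [CharP F 2] {q : ℕ}
    (hq : Fintype.card F = q) (h4 : 4 ≤ q) {N : ℕ} (hN : N = q * (q ^ 2 - 1))
    (e : Nonempty (S ≃* Matrix.ProjectiveSpecialLinearGroup (Fin 2) F)) :
    (∀ r : ℕ, r.Prime → r ∣ N → r ∈ degreePrimes S) ∧
      ∀ r s : ℕ, (degreeGraph S).Adj r s ↔ (r ≠ s ∧ r.Prime ∧ s.Prime ∧
        ((r ∣ q + 1 ∧ s ∣ q + 1) ∨ (r ∣ q - 1 ∧ s ∣ q - 1))) := by
  obtain ⟨h1, h2⟩ := Agent.S4812.result F q hq h4 (S := S) (Or.inl e)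
  exact ⟨fun r hr hd => by rw [h1]; exact ⟨hr, hN ▸ hd⟩, h2⟩

/-- The vertices 5 and 7 of a simple group of order 2520. -/
theorem of_card_2520 [IsSimpleGroup S] (h : Nat.card S = 2520) {r : ℕ} (hr : r.Prime)
    (hd : r ∣ 2520) (h5 : 5 ≤ r) : r ∈ degreePrimes S := by
  obtain ⟨e⟩ := Agent.S0984.result (G := S) h
  rw [degreePrimes_congr e]
  rw [show 2520 = 2 ^ 3 * 3 ^ 2 * 5 * 7 by norm_num] at hd
  rcases hr.dvd_mul.1 hd with hd | hd
  rcases hr.dvd_mul.1 hd with hd | hd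
  rcases hr.dvd_mul.1 hd with hd | hd
  · have := (Nat.prime_dvd_prime_iff_eq hr Nat.prime_two).1 (hr.dvd_of_dvd_pow hd); omega
  · have := (Nat.prime_dvd_prime_iff_eq hr Nat.prime_three).1 (hr.dvd_of_dvd_pow hd); omega
  · rw [(Nat.prime_dvd_prime_iff_eq hr Nat.prime_five).1 hd]
    exact A7V.five_mem_degreePrimes
  · rw [(Nat.prime_dvd_prime_iff_eq hr (by norm_num : Nat.Prime 7)).1 hd]
    exact A7V.seven_mem_degreePrimes

end CfsgLib.Small.GraphTargets
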