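import Cfsg.Agent.Lib.Small.FoursFixed

/-!
The classification of 2-groups with a central four group of fixed points: elementary abelian of
order 16, homocyclic of rank 2, or non-abelian of order 64.
-/

set_option autoImplicit false
set_option linter.unusedSectionVars false
set_option maxHeartbeats 800000

open scoped commutatorElement

namespace CfsgLib.Small.FoursFixed

universe u

open CfsgLib.Small

/-- The three possible outcomes. -/
def Shape (T : Type*) [Group T] (ρ : MulAut T) : Prop :=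
  ((∀ x y : T, x * y = y * x) ∧ Nat.card T = 16 ∧ ∀ x : T, x * x = 1) ∨
    (∃ s : T, Subgroup.closure ({s, ρ s} : Set T) = ⊤ ∧ ∃ n : ℕ, 1 ≤ n ∧
      Nonempty (T ≃* Multiplicative (ZMod (2 ^ n)) × Multiplicative (ZMod (2 ^ n)))) ∨
    (Nat.card T = 64 ∧ ¬ IsMulCommutative T)

variable {T : Type*} [Group T] [Finite T] {V : Subgroup T} {τ ρ : MulAut T}

theorem top_of_map {N : Subgroup T} [N.Normal] {K : Subgroup T} (hN : N ≤ K)
    (h : K.map (QuotientGroup.mk' N) = ⊤) : K = ⊤ := by
  rw [← top_le_iff]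
  intro x _
  obtain ⟨k, hk, e⟩ := (h ▸ Subgroup.mem_top (QuotientGroup.mk' N x) :
    QuotientGroup.mk' N x ∈ K.map (QuotientGroup.mk' N))
  have := mul_mem hk (hN (QuotientGroup.eq.1 e))
  rwa [mul_inv_cancel_left] at this

theorem map_eq_of_cube (D : Dat V τ ρ) : V.map (ρ : T →* T) = V := by
  refine le_antisymm ?_ fun v hv => ⟨ρ (ρ v), D.mapsTo (D.mapsTo hv), D.cube v⟩
  rintro _ ⟨v, hv, rfl⟩
  exact D.mapsTo hv

theorem map_eq_tau (D : Dat V τ ρ) : V.map (τ : T →* T) = V := by
  refine le_antisymm ?_ fun v hv => ⟨v, hv, (D.fix v).2 hv⟩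
  rintro _ ⟨v, hv, rfl⟩
  show τ v ∈ V
  rw [(D.fix v).2 hv]; exact hv

/-- The quotient modulo the four group has the same shape of data. -/
theorem quot_dat (D : Dat V τ ρ) [V.Normal] {a : T} (ha : a ∈ D.up) (haV : a ∉ V) :
    Dat (D.up.map (QuotientGroup.mk' V)) (QuotientGroup.congr V V τ (map_eq_tau D))
      (QuotientGroup.congr V V ρ (map_eq_of_cube D)) := by
  set π := QuotientGroup.mk' V
  set τq := QuotientGroup.congr V V τ (map_eq_tau D)
  set ρq := QuotientGroup.congr V V ρ (map_eq_of_cube D)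
  have hfix : ∀ q, τq q = q ↔ q ∈ D.up.map π := by
    intro q
    induction q using QuotientGroup.induction_on with
    | H x =>
      constructor
      · intro h
        have h' : ((τ x : T) : T ⧸ V) = (x : T ⧸ V) := h
        exact ⟨x, QuotientGroup.eq.1 h'.symm, rfl⟩
      · rintro ⟨y, hy, e⟩
        have hx : x ∈ D.up := by
          have := mul_mem hy (D.le_up (QuotientGroup.eq.1 e))
          rwa [mul_inv_cancel_left] at this
        exact (QuotientGroup.eq.2 hx).symm
  refine ⟨D.pg.to_quotient V, ?_, ?_, ?_, ?_, ?_, ?_, hfix, ?_⟩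
  · -- central
    haveI := Fact.mk Nat.prime_two
    have hne : V ≠ ⊤ := fun h => haV (h ▸ Subgroup.mem_top a)
    haveI : Nontrivial (T ⧸ V) := QuotientGroup.nontrivial_iff.2 hne
    haveI := (D.pg.to_quotient V).center_nontrivial
    have hτZ : ∀ q ∈ Subgroup.center (T ⧸ V), τq q ∈ Subgroup.center (T ⧸ V) := fun q hq => by
      rw [← Subgroup.centerCharacteristic.fixed τq, Subgroup.mem_comap] at hq
      exact hq
    have htt : ∀ q, τq (τq q) = q := fun q => by
      induction q using QuotientGroup.induction_on with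
      | H x => exact congrArg QuotientGroup.mk (D.tt x)
    let τ' : MulAut (Subgroup.center (T ⧸ V)) :=
      { toFun := fun x => ⟨τq x, hτZ _ x.2⟩
        invFun := fun x => ⟨τq x, hτZ _ x.2⟩
        left_inv := fun x => Subtype.ext (htt _)
        right_inv := fun x => Subtype.ext (htt _)
        map_mul' := fun x y => Subtype.ext (map_mul τq _ _) }
    obtain ⟨⟨c, hc⟩, hc1, hcf⟩ := exists_fixed ((D.pg.to_quotient V).to_subgroup _) τ'
      fun x => Subtype.ext (htt _)
    obtain ⟨b, hb, rfl⟩ := (hfix c).1 (congrArg Subtype.val hcf)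
    have hbV : b ∉ V := fun h => hc1 (Subtype.ext ((QuotientGroup.eq_one_iff b).2 h))
    have hle : D.up ≤ (Subgroup.center (T ⧸ V)).comap π := D.up_cases hb hbV
      (fun x hx => by
        have h := hx
        rw [Subgroup.mem_comap, ← Subgroup.centerCharacteristic.fixed ρq, Subgroup.mem_comap] at h
        exact h) hc (fun v hv => by
        rw [Subgroup.mem_comap, show π v = 1 from (QuotientGroup.eq_one_iff v).2 hv]; exact one_mem _)
    rintro _ ⟨u, hu, rfl⟩ q
    exact Subgroup.mem_center_iff.1 (hle hu) q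
  · rintro _ ⟨u, hu, rfl⟩
    rw [← map_mul]
    exact (QuotientGroup.eq_one_iff _).2 (D.up_sq hu)
  · let g : D.up →* T ⧸ V := π.comp D.up.subtype
    have hr : g.range = D.up.map π := by rw [MonoidHom.range_comp, Subgroup.range_subtype]
    have hk : g.ker = V.subgroupOf D.up := by
      rw [← MonoidHom.comap_ker, QuotientGroup.ker_mk']; rfl
    have h := Subgroup.card_mul_index g.ker
    rw [Subgroup.index_ker, hr, hk, Nat.card_congr (Subgroup.subgroupOfEquivOfLe D.le_up).toEquiv,
      D.card, D.card_up ha haV] at h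
    omega
  · intro q
    induction q using QuotientGroup.induction_on with
    | H x => exact congrArg QuotientGroup.mk (D.tt x)
  · intro q
    induction q using QuotientGroup.induction_on with
    | H x => exact congrArg QuotientGroup.mk (D.cube x)
  · intro q
    induction q using QuotientGroup.induction_on with
    | H x => exact congrArg QuotientGroup.mk (D.comm x)
  · rintro _ ⟨x, hx, rfl⟩ h
    have h' : ((ρ x : T) : T ⧸ V) = (x : T ⧸ V) := h
    have hv := QuotientGroup.eq.1 h'.symm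
    refine (QuotientGroup.eq_one_iff x).2 (Dat.d_ker (D := D) (x := ⟨x, hx⟩) |>.1 (Subtype.ext ?_))
    refine D.fixV _ (D.d ⟨x, hx⟩).2 ?_
    rw [← D.d_map]
    have he : (⟨ρ x, D.up_invariant hx⟩ : D.up) = ⟨x, hx⟩ * ⟨_, D.le_up hv⟩ :=
      Subtype.ext (mul_inv_cancel_left x (ρ x)).symm
    rw [he, map_mul, (Dat.d_ker (D := D)).2 (show ((⟨_, D.le_up hv⟩ : D.up) : T) ∈ V from hv), mul_one]

/-- The quotient cannot be non-abelian of order 64. -/
theorem quot_ne_64 (D : Dat V τ ρ) [V.Normal] {a : T} (ha : a ∈ D.up) (haV : a ∉ V)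
    (h64 : Nat.card (T ⧸ V) = 64) (hna : ¬ IsMulCommutative (T ⧸ V)) : False := by
  have Dq := quot_dat D ha haV
  set π := QuotientGroup.mk' V
  set ρq := QuotientGroup.congr V V ρ (map_eq_of_cube D)
  have H : Order64Three.Hyp ρq := ⟨h64, hna, Dq.cube, Dq.fpf⟩
  have hcenter : D.up.map π = Subgroup.center (T ⧸ V) :=
    Subgroup.eq_of_le_of_card_ge (fun q hq => Subgroup.mem_center_iff.2 (Dq.central q hq))
      (by rw [Order64Three.card_center H, Dq.card])
  haveI hUc : IsMulCommutative D.up := D.up_comm ha haV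
  have hu_comm : ∀ u ∈ D.up, ∀ w ∈ D.up, u * w = w * u := fun u hu w hw =>
    congrArg Subtype.val (IsMulCommutative.is_comm.comm (⟨u, hu⟩ : D.up) ⟨w, hw⟩)
  have hmemU : ∀ x : T, π x ∈ Subgroup.center (T ⧸ V) → x ∈ D.up := fun x hx => by
    rw [← hcenter] at hx
    obtain ⟨y, hy, e⟩ := hx
    have := mul_mem hy (D.le_up (QuotientGroup.eq.1 e))
    rwa [mul_inv_cancel_left] at this
  have hcmU : ∀ x y : T, ⁅x, y⁆ ∈ D.up := fun x y => hmemU _ (by
    rw [map_commutatorElement]; exact (Order64Three.central H).1 _ _)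
  have hsqU : ∀ x : T, x * x ∈ D.up := fun x => hmemU _ (by
    rw [map_mul]; exact (Order64Three.central H).2 _)
  -- commutators of the preimage with everything lie in `V`
  have hgV : ∀ u ∈ D.up, ∀ x, ⁅u, x⁆ ∈ V := fun u hu x => by
    rw [← QuotientGroup.eq_one_iff]
    show π ⁅u, x⁆ = 1
    rw [map_commutatorElement, commutatorElement_eq_one_iff_mul_comm]
    exact (Dq.central _ ⟨u, hu, rfl⟩ _).symm
  have hvc : ∀ v ∈ V, ∀ x, x * v = v * x := D.central
  have hswap : ∀ x y : T, x * y = ⁅x, y⁆ * (y * x) := fun x y => by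
    rw [commutatorElement_def]; group
  have hswap' : ∀ x y : T, y * x = ⁅x, y⁆⁻¹ * (x * y) := fun x y => by
    rw [commutatorElement_def]; group
  have hR : ∀ u ∈ D.up, ∀ x, ⁅u, ρ x⁆ = ⁅ρ u, x⁆ := by
    intro u hu x
    set e := ⁅u, ρ x⁆
    set c := ⁅ρ u, x⁆
    have he := hgV u hu (ρ x)
    have hc := hgV _ (D.up_invariant hu) x
    have h := D.comm_rho (u * x)
    rw [map_mul] at h
    have l1 : u * x * (ρ u * ρ x) = c⁻¹ * (u * ρ u * (x * ρ x)) := by
      calc u * x * (ρ u * ρ x) = u * (x * ρ u) * ρ x := by group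
        _ = u * (c⁻¹ * (ρ u * x)) * ρ x := by rw [← hswap' (ρ u) x]
        _ = (u * c⁻¹) * (ρ u * (x * ρ x)) := by group
        _ = _ := by rw [hvc _ (inv_mem hc) u]; simp only [mul_assoc, c]
    have l2 : ρ u * ρ x * (u * x) = e⁻¹ * (u * ρ u * (x * ρ x)) := by
      calc ρ u * ρ x * (u * x) = ρ u * (ρ x * u) * x := by group
        _ = ρ u * (e⁻¹ * (u * ρ x)) * x := by rw [← hswap' u (ρ x)]
        _ = (ρ u * e⁻¹) * (u * (ρ x * x)) := by group
        _ = _ := by
          rw [hvc _ (inv_mem he) (ρ u), ← D.comm_rho x, D.comm_rho u]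
          simp only [mul_assoc, e]
    rw [l1, l2] at h
    exact (inv_injective (mul_right_cancel h)).symm
  have hg_mul : ∀ u ∈ D.up, ∀ w ∈ D.up, ∀ x, ⁅u * w, x⁆ = ⁅w, x⁆ * ⁅u, x⁆ := fun u _ w hw x => by
    calc ⁅u * w, x⁆ = u * ⁅w, x⁆ * u⁻¹ * ⁅u, x⁆ := by simp only [commutatorElement_def]; group
      _ = _ := by rw [hvc _ (hgV w hw x) u, mul_inv_cancel_right]
  -- the preimage commutes with one of two elements with commutator outside `V`
  have key : ∀ s t : T, ⁅t, s⁆ ∉ V → ∀ u ∈ D.up, u * s = s * u := by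
    intro s t hX
    set X := ⁅t, s⁆ with hXdef
    have hXU : X ∈ D.up := hcmU t s
    have one : ∀ s t : T, ⁅⁅t, s⁆, s⁆ = 1 := by
      intro s t
      set X := ⁅t, s⁆ with hXdef
      set Y := ⁅t, ρ s⁆ with hYdef
      have hXU : X ∈ D.up := hcmU t s
      have hYU : Y ∈ D.up := hcmU t (ρ s)
      have h1 : t * s * t⁻¹ = X * s := by rw [hXdef, commutatorElement_def]; group
      have h2 : t * ρ s * t⁻¹ = Y * ρ s := by rw [hYdef, commutatorElement_def]; group
      have h3 : (X * s) * (Y * ρ s) = (Y * ρ s) * (X * s) := by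
        rw [← h1, ← h2]
        calc t * s * t⁻¹ * (t * ρ s * t⁻¹) = t * (s * ρ s) * t⁻¹ := by group
          _ = _ := by rw [D.comm_rho]; group
      have l1 : (X * s) * (Y * ρ s) = ⁅Y, s⁆⁻¹ * (X * Y * (s * ρ s)) := by
        calc (X * s) * (Y * ρ s) = X * (⁅Y, s⁆⁻¹ * (Y * s)) * ρ s := by rw [← hswap' Y s]; group
          _ = (X * ⁅Y, s⁆⁻¹) * (Y * (s * ρ s)) := by group
          _ = _ := by rw [hvc _ (inv_mem (hgV Y hYU s)) X]; simp only [mul_assoc]
      have l2 : (Y * ρ s) * (X * s) = ⁅X, ρ s⁆⁻¹ * (X * Y * (s * ρ s)) := by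
        calc (Y * ρ s) * (X * s) = Y * (⁅X, ρ s⁆⁻¹ * (X * ρ s)) * s := by rw [← hswap' X (ρ s)]; group
          _ = (Y * ⁅X, ρ s⁆⁻¹) * (X * (ρ s * s)) := by group
          _ = _ := by
            rw [hvc _ (inv_mem (hgV X hXU (ρ s))) Y, ← D.comm_rho s, hu_comm X hXU Y hYU]
            simp only [mul_assoc]
      rw [l1, l2] at h3
      have h4 : ⁅Y, s⁆ = ⁅ρ X, s⁆ := (inv_injective (mul_right_cancel h3)).trans (hR X hXU s)
      have hY : (ρ (ρ X))⁻¹ * Y ∈ V := by
        refine QuotientGroup.eq.1 ?_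
        have h := ((Order64Three.c_table H (π t) (π s)).2.1).symm
        rw [← map_commutatorElement π t s] at h
        rw [hYdef]
        refine h.trans ?_
        exact (map_commutatorElement π t (ρ s)).symm
      have h5 : ⁅Y, s⁆ = ⁅ρ (ρ X), s⁆ := by
        have hrr := D.up_invariant (D.up_invariant hXU)
        conv_lhs => rw [← mul_inv_cancel_left (ρ (ρ X)) Y,
          hg_mul _ hrr _ (D.le_up hY) s]
        rw [commutatorElement_eq_one_iff_mul_comm.2 (hvc _ hY s).symm, one_mul]
      have h6 : ⁅ρ X * ρ (ρ X), s⁆ = 1 := by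
        rw [hg_mul _ (D.up_invariant hXU) _ (D.up_invariant (D.up_invariant hXU)), ← h5, h4]
        exact D.exp2 _ (hgV _ (D.up_invariant hXU) s)
      have hn : ρ X * ρ (ρ X) = X⁻¹ := eq_inv_of_mul_eq_one_right (by rw [← mul_assoc]; exact D.norm X)
      rw [hn] at h6
      rw [commutatorElement_eq_one_iff_mul_comm] at h6 ⊢
      have hcm : Commute X⁻¹ s := h6
      exact (Commute.inv_left_iff.1 hcm).eq
    have hX2 : ⁅ρ X, s⁆ = 1 := by
      have h1 := one (ρ s) t
      have hY : (ρ (ρ X))⁻¹ * ⁅t, ρ s⁆ ∈ V := by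
        refine QuotientGroup.eq.1 ?_
        have h := ((Order64Three.c_table H (π t) (π s)).2.1).symm
        rw [← map_commutatorElement π t s] at h
        exact h.trans (map_commutatorElement π t (ρ s)).symm
      rw [← mul_inv_cancel_left (ρ (ρ X)) ⁅t, ρ s⁆,
        hg_mul _ (D.up_invariant (D.up_invariant hXU)) _ (D.le_up hY),
        commutatorElement_eq_one_iff_mul_comm.2 (hvc _ hY (ρ s)).symm, one_mul,
        ← map_commutatorElement] at h1
      exact ρ.injective (h1.trans (map_one ρ).symm)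
    intro u hu
    set K := Subgroup.closure ((V : Set T) ∪ {X, ρ X})
    have hXK : X ∈ K := Subgroup.subset_closure (Or.inr (Set.mem_insert _ _))
    have hrXK : ρ X ∈ K := Subgroup.subset_closure (Or.inr (Set.mem_insert_of_mem _ rfl))
    have hinv : ∀ h ∈ K, ρ h ∈ K := by
      suffices h : K ≤ K.comap ρ.toMonoidHom from fun x hx => h hx
      refine (Subgroup.closure_le _).2 ?_
      rintro x (hx | rfl | rfl)
      · exact Subgroup.subset_closure (Or.inl (D.mapsTo hx))
      · exact hrXK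
      · show ρ (ρ X) ∈ K
        rw [eq_inv_of_mul_eq_one_right (D.norm X)]; exact inv_mem (mul_mem hXK hrXK)
    have hcent : K ≤ Subgroup.centralizer ({s} : Set T) := by
      refine (Subgroup.closure_le _).2 ?_
      rintro x (hx | rfl | rfl) <;> rw [SetLike.mem_coe, Subgroup.mem_centralizer_singleton_iff]
      · first | exact (hvc _ hx s).symm | exact hvc _ hx s
      · exact commutatorElement_eq_one_iff_mul_comm.1 (one s t)
      · exact commutatorElement_eq_one_iff_mul_comm.1 hX2
    exact Subgroup.mem_centralizer_singleton_iff.1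
      (hcent (D.up_cases hXU hX hinv hXK (fun v hv => Subgroup.subset_closure (Or.inl hv)) hu))
  -- two elements with commutator outside `V`
  obtain ⟨sq, tq, hst⟩ : ∃ sq tq : T ⧸ V, (⁅sq, tq⁆ : T ⧸ V) ≠ 1 := by
    by_contra hall
    push Not at hall
    exact hna ⟨⟨fun x y => commutatorElement_eq_one_iff_mul_comm.1 (hall x y)⟩⟩
  obtain ⟨s, rfl⟩ := QuotientGroup.mk'_surjective V sq
  obtain ⟨t, rfl⟩ := QuotientGroup.mk'_surjective V tq
  have hX : ⁅t, s⁆ ∉ V := fun h => hst (by
    rw [Order64Three.c_symm H, ← map_commutatorElement]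
    exact (QuotientGroup.eq_one_iff _).2 h)
  have hX' : ⁅s, t⁆ ∉ V := fun h => hX (by rw [← commutatorElement_inv]; exact inv_mem h)
  have hrX : ∀ x, x ∉ V → ρ x ∉ V := fun x hx h => hx (by
    have := D.mapsTo (D.mapsTo h); rwa [D.cube] at this)
  set gens : Set T := {s, ρ s, t, ρ t} with hgens
  have hgen : Subgroup.closure ((D.up : Set T) ∪ gens) = ⊤ := by
    refine top_of_map (N := V) (fun v hv => Subgroup.subset_closure (Or.inl (D.le_up hv))) ?_
    rw [eq_top_iff, ← Order64Three.gens_top H hst, Subgroup.closure_le]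
    rintro x (rfl | rfl | rfl | rfl)
    · exact ⟨s, Subgroup.subset_closure (Or.inr (by simp [hgens])), rfl⟩
    · exact ⟨ρ s, Subgroup.subset_closure (Or.inr (by simp [hgens])), rfl⟩
    · exact ⟨t, Subgroup.subset_closure (Or.inr (by simp [hgens])), rfl⟩
    · exact ⟨ρ t, Subgroup.subset_closure (Or.inr (by simp [hgens])), rfl⟩
  have hcen : ∀ u ∈ D.up, ∀ x, x * u = u * x := by
    intro u hu x
    have hle : Subgroup.closure ((D.up : Set T) ∪ gens) ≤ Subgroup.centralizer ({u} : Set T) := by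
      refine (Subgroup.closure_le _).2 ?_
      rintro x (hx | rfl | rfl | rfl | rfl) <;> rw [SetLike.mem_coe, Subgroup.mem_centralizer_singleton_iff]
      · exact hu_comm x hx u hu
      · exact (key _ t hX u hu).symm
      · exact (key _ (ρ t) (by rw [← map_commutatorElement]; exact hrX _ hX) u hu).symm
      · exact (key _ s hX' u hu).symm
      · exact (key _ (ρ s) (by rw [← map_commutatorElement]; exact hrX _ hX') u hu).symm
    rw [hgen] at hle
    exact Subgroup.mem_centralizer_singleton_iff.1 (hle (Subgroup.mem_top x))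
  have c_left : ∀ x y z : T, ⁅x * y, z⁆ = ⁅x, z⁆ * ⁅y, z⁆ := fun x y z => by
    calc ⁅x * y, z⁆ = x * ⁅y, z⁆ * x⁻¹ * ⁅x, z⁆ := by simp only [commutatorElement_def]; group
      _ = ⁅y, z⁆ * ⁅x, z⁆ := by rw [hcen _ (hcmU y z) x, mul_inv_cancel_right]
      _ = _ := hu_comm _ (hcmU y z) _ (hcmU x z)
  have c_right : ∀ x y z : T, ⁅z, x * y⁆ = ⁅z, x⁆ * ⁅z, y⁆ := fun x y z => by
    rw [← commutatorElement_inv (x * y) z, c_left, mul_inv_rev, commutatorElement_inv,
      commutatorElement_inv]
    exact hu_comm _ (hcmU z y) _ (hcmU z x)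
  have c_one : ∀ u ∈ D.up, ∀ x : T, ⁅u, x⁆ = 1 := fun u hu x =>
    commutatorElement_eq_one_iff_mul_comm.2 (hcen u hu x).symm
  have c_rho : ∀ x y : T, ⁅x, ρ y⁆ = ⁅ρ x, y⁆ := fun x y => by
    have h : ⁅x * y, ρ (x * y)⁆ = 1 := commutatorElement_eq_one_iff_mul_comm.2 (D.comm_rho _)
    have hx : ⁅x, ρ x⁆ = 1 := commutatorElement_eq_one_iff_mul_comm.2 (D.comm_rho _)
    have hy : ⁅y, ρ y⁆ = 1 := commutatorElement_eq_one_iff_mul_comm.2 (D.comm_rho _)
    rw [map_mul, c_left, c_right, c_right, hx, hy, one_mul, mul_one] at h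
    rw [eq_inv_of_mul_eq_one_left h, commutatorElement_inv]
  have c_rho' : ∀ x y : T, ⁅ρ x, y⁆ = ρ (ρ ⁅x, y⁆) := fun x y => by
    rw [map_commutatorElement, map_commutatorElement, c_rho, c_rho, D.cube]
  set X := ⁅t, s⁆ with hXdef
  have hXU : X ∈ D.up := hcmU t s
  have hX2 : X * X = 1 := by
    rw [hXdef, ← c_left]
    exact c_one _ (hsqU t) s
  have hinvX : ρ X * ρ X = 1 := by rw [← map_mul, hX2, map_one]
  set C := Subgroup.closure ({X, ρ X} : Set T)
  have hXC : X ∈ C := Subgroup.subset_closure (Set.mem_insert _ _)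
  have hrXC : ρ X ∈ C := Subgroup.subset_closure (Set.mem_insert_of_mem _ rfl)
  have hrrXC : ρ (ρ X) ∈ C := by
    rw [eq_inv_of_mul_eq_one_right (D.norm X)]; exact inv_mem (mul_mem hXC hrXC)
  have hCρ : ∀ h ∈ C, ρ h ∈ C := by
    suffices h : C ≤ C.comap ρ.toMonoidHom from fun x hx => h hx
    refine (Subgroup.closure_le _).2 ?_
    rintro x (rfl | rfl)
    · exact hrXC
    · exact hrrXC
  have hC4 : Nat.card C ≤ 4 := by
    have k0 : Nat.card (Subgroup.closure ({ρ X} : Set T)) ≤ 2 := by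
      have h := Order64Three.card_closure_insert (∅ : Set T) (ρ X) (by rw [hinvX]; exact one_mem _)
        (fun x hx => absurd hx (Set.notMem_empty x))
      rw [insert_empty_eq, Subgroup.closure_empty, Subgroup.card_bot] at h
      exact h
    refine (Order64Three.card_closure_insert _ X (by rw [hX2]; exact one_mem _) ?_).trans (by omega)
    rintro x rfl
    rw [hcen X hXU (ρ X) |>.symm, mul_inv_cancel_right]
    exact Subgroup.subset_closure rfl
  have hall : ∀ x y : T, ⁅x, y⁆ ∈ C := by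
    have hM : ∀ y : T, (∀ x ∈ gens, ⁅x, y⁆ ∈ C) → ∀ x : T, ⁅x, y⁆ ∈ C := by
      intro y hy x
      let M : Subgroup T :=
        { carrier := {x | ⁅x, y⁆ ∈ C}
          one_mem' := by
            show ⁅(1 : T), y⁆ ∈ C
            rw [commutatorElement_one_left]; exact one_mem _
          mul_mem' := fun {p q} hp hq => by
            show ⁅p * q, y⁆ ∈ C
            rw [c_left]; exact mul_mem hp hq
          inv_mem' := fun {p} hp => by
            show ⁅p⁻¹, y⁆ ∈ C
            have h := c_left p⁻¹ p y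
            rw [inv_mul_cancel, commutatorElement_one_left] at h
            rw [eq_inv_of_mul_eq_one_left h.symm]
            exact inv_mem hp }
      have hle : Subgroup.closure ((D.up : Set T) ∪ gens) ≤ M := by
        refine (Subgroup.closure_le _).2 ?_
        rintro z (hz | hz)
        · show ⁅z, y⁆ ∈ C
          rw [c_one z hz y]; exact one_mem _
        · exact hy z hz
      rw [hgen] at hle
      exact hle (Subgroup.mem_top x)
    have hsym : ∀ p q : T, ⁅p, q⁆ ∈ C → ⁅q, p⁆ ∈ C := fun p q h => by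
      rw [← commutatorElement_inv]; exact inv_mem h
    have hts : ∀ p ∈ gens, ∀ q ∈ gens, ⁅p, q⁆ ∈ C := by
      have e0 : ∀ p : T, ⁅p, p⁆ ∈ C := fun p => by rw [commutatorElement_self]; exact one_mem _
      have e1 : ∀ p : T, ⁅p, ρ p⁆ ∈ C := fun p => by
        rw [commutatorElement_eq_one_iff_mul_comm.2 (D.comm_rho p)]; exact one_mem _
      have f1 : ⁅ρ t, s⁆ ∈ C := by rw [c_rho', ← hXdef]; exact hrrXC
      have f2 : ⁅t, ρ s⁆ ∈ C := by rw [c_rho]; exact f1
      have f3 : ⁅ρ t, ρ s⁆ ∈ C := by rw [← map_commutatorElement, ← hXdef]; exact hrXC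
      rintro p (rfl | rfl | rfl | rfl) q (rfl | rfl | rfl | rfl)
      exacts [e0 _, e1 _, hsym _ _ hXC, hsym _ _ f1, hsym _ _ (e1 _), e0 _, hsym _ _ f2,
        hsym _ _ f3, hXC, f2, e0 _, e1 _, f1, f3, hsym _ _ (e1 _), e0 _]
    intro x y
    refine hM y (fun p hp => hsym _ _ (hM p (fun q hq => hts q hq p hp) y)) x
  have hXV : X⁻¹ * τ X ∈ V := hXU
  have hXC' : X⁻¹ * τ X ∈ C := mul_mem (inv_mem hXC) (by rw [hXdef, map_commutatorElement]; exact hall _ _)
  rcases eq_or_ne (X⁻¹ * τ X) 1 with h | h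
  · exact hX ((D.fix X).1 (inv_mul_eq_one.1 h).symm)
  · have hle := D.le_of_invariant hCρ hXV hXC' h
    exact hX ((Subgroup.eq_of_le_of_card_ge hle (by rw [D.card]; exact hC4)).ge hXC)

theorem classify : ∀ (N : ℕ) (T : Type u) [Group T] [Finite T] (V : Subgroup T) (τ ρ : MulAut T),
    Nat.card T ≤ N → Dat V τ ρ → Shape T ρ := by
  intro N
  induction N using Nat.strong_induction_on with
  | _ N ih =>
  intro T _ _ V τ ρ hN D
  by_cases hab : ∀ x y : T, x * y = y * x
  · rcases D.abelian_case hab with ⟨h1, h2⟩ | h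
    · exact Or.inl ⟨hab, h1, h2⟩
    · exact Or.inr (Or.inl h)
  have hVtop : V ≠ ⊤ := fun h => hab fun x y => D.central y (h ▸ Subgroup.mem_top y) x
  obtain ⟨a, ha, haV⟩ := D.exists_mem_up hVtop
  haveI : V.Normal := D.normalV
  have hcard := Subgroup.card_eq_card_quotient_mul_card_subgroup V
  rw [D.card] at hcard
  have hlt : Nat.card (T ⧸ V) < N := by
    have : 0 < Nat.card (T ⧸ V) := Nat.card_pos
    omega
  rcases ih _ hlt (T ⧸ V) _ _ _ le_rfl (quot_dat D ha haV) with ⟨-, h16, -⟩ | ⟨s, hs, -⟩ | ⟨h64, hna⟩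
  · refine Or.inr (Or.inr ⟨by omega, fun h => hab fun x y => h.is_comm.comm x y⟩)
  · exfalso
    induction s using QuotientGroup.induction_on with
    | H s =>
      set K := Subgroup.closure ((V : Set T) ∪ {s, ρ s}) with hK
      have hKtop : K = ⊤ := by
        refine top_of_map (N := V) (fun v hv => Subgroup.subset_closure (Or.inl hv)) ?_
        rw [eq_top_iff, ← hs, Subgroup.closure_le]
        rintro x (rfl | rfl)
        · exact ⟨s, Subgroup.subset_closure (Or.inr (Set.mem_insert _ _)), rfl⟩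
        · exact ⟨ρ s, Subgroup.subset_closure (Or.inr (Set.mem_insert_of_mem _ rfl)), rfl⟩
      haveI : IsMulCommutative K := Subgroup.isMulCommutative_closure (by
        rintro x (hx | rfl | rfl) y (hy | rfl | rfl) <;>
        first
        | exact D.central _ hy _
        | exact (D.central _ hx _).symm
        | rfl
        | exact D.comm_rho _
        | exact (D.comm_rho _).symm)
      refine hab fun x y => ?_
      exact congrArg Subtype.val (IsMulCommutative.is_comm.comm
        (⟨x, hKtop ▸ Subgroup.mem_top x⟩ : K) ⟨y, hKtop ▸ Subgroup.mem_top y⟩)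
  · exact (quot_ne_64 D ha haV h64 hna).elim

end CfsgLib.Small.FoursFixed
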