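import Cfsg.Agent.Lib.Small.JankoTwoNormalForm

/-!
# Coordinates in a group of Hall–Janko type: `C(z)` as the model, the icosahedral subgroup as `A₅`
-/

set_option autoImplicit false
set_option linter.unusedSectionVars false
set_option maxRecDepth 100000

namespace CfsgLib.Small.JTwoType

open Subgroup
open JTwoModel (QW qmul qone qz qgen qact Mdl mmul mprod z0 u0 f0)

/-- the odd permutation swapping the two choices of `u` -/
def flipPerm : Equiv.Perm (Fin 5) := Equiv.swap 0 2 * Equiv.swap 2 1 * Equiv.swap 1 3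

theorem flip_facts : MulAut.conjNormal flipPerm z0 = z0 ∧ MulAut.conjNormal flipPerm u0 = u0 * z0 ∧
    MulAut.conjNormal flipPerm (f0 ^ 3) = f0 := by
  refine ⟨Subtype.ext ?_, Subtype.ext ?_, Subtype.ext ?_⟩ <;>
    rw [MulAut.conjNormal_apply] <;> decide +kernel

/-- Everything needed to compare with the model. -/
structure Coord {G : Type*} [Group G] [Finite G] (S : Setup G) where
  /-- the frame -/
  Fr : Frame S
  /-- the central data -/
  X : Fr.Central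
  /-- the icosahedral coordinates -/
  e : X.K ≃* alternatingGroup (Fin 5)
  hz : S.z ∈ X.K
  e_z : e ⟨S.z, hz⟩ = z0
  /-- the chosen conjugate of `z` in `Q` -/
  u : G
  hu : u ∈ X.K
  e_u : e ⟨u, hu⟩ = u0
  u_eq : u = Fr.four.u ∨ u = Fr.four.u * S.z
  /-- the complement in `C(z)` -/
  D : Labels S (e.symm f0 : G) u
  four : D.uu 4 = D.uu 0 * D.uu 1 * D.uu 2 * D.uu 3

variable {G : Type*} [Group G] [Finite G] {S : Setup G}

theorem u_facts {Fr : Frame S} {u : G} (hu : u = Fr.four.u ∨ u = Fr.four.u * S.z) :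
    IsConj S.z u ∧ u * S.z = S.z * u ∧ u ≠ S.z := by
  rcases hu with rfl | rfl
  · exact ⟨Fr.four.u_conj, Fr.four.z_comm.symm, Fr.four.uz_ne.2.2.2.symm⟩
  · exact ⟨Fr.conj_z_of_E (Or.inr (Or.inr (Or.inr rfl))) Fr.four.uz_ne.1,
      (show Commute (Fr.four.u * S.z) S.z from
        (show Commute Fr.four.u S.z from Fr.four.z_comm.symm).mul_left (Commute.refl _)).eq,
      Fr.four.uz_ne.2.1⟩

theorem flip_eq {Fr : Frame S} {u : G} (hu : u = Fr.four.u ∨ u = Fr.four.u * S.z) :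
    u * S.z = Fr.four.u ∨ u * S.z = Fr.four.u * S.z := by
  rcases hu with rfl | rfl
  · exact Or.inr rfl
  · left
    rw [mul_assoc, ← sq, S.z_sq, mul_one]

theorem symm_trans_pow {A B : Type*} [Group A] [Group B] (e : A ≃* B) (θ : MulAut B) (a b : B)
    (h : θ (b ^ 3) = a) : (e.trans θ).symm a = e.symm b ^ 3 := by
  rw [← map_pow, MulEquiv.symm_apply_eq, MulEquiv.trans_apply, MulEquiv.apply_symm_apply]
  exact h.symm

theorem Setup.exists_coord (S : Setup G) : Nonempty (Coord S) := by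
  obtain ⟨Fr⟩ := S.exists_frame
  obtain ⟨X⟩ := Fr.exists_central
  obtain ⟨e, hz, hez, u, heu, hu⟩ := Frame.Central.exists_iso X
  obtain ⟨hzf, hf5, hf1, hz2, -⟩ := a5_inv_f0
  have hfo : orderOf ((e.symm f0 : X.K) : G) = 5 := by
    haveI : Fact (Nat.Prime 5) := ⟨by norm_num⟩
    rw [Subgroup.orderOf_coe, MulEquiv.orderOf_eq, orderOf_eq_prime_iff]
    exact ⟨hf5, hf1⟩
  have hzf' : S.z * ((e.symm f0 : X.K) : G) * S.z⁻¹ = ((e.symm f0 : X.K) : G)⁻¹ := by
    have h : e.symm (z0 * f0 * z0⁻¹) = e.symm f0⁻¹ := by rw [hzf]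
    rw [map_mul, map_mul, map_inv, map_inv, ← hez, MulEquiv.symm_apply_apply] at h
    exact congrArg Subtype.val h
  obtain ⟨D⟩ := X.exists_labels (e.symm f0).2 hfo hzf' u.2 hu
  obtain ⟨huz, huC, hune⟩ := u_facts hu
  rcases D.four_cases huz huC hune with h4 | h4
  · exact ⟨⟨Fr, X, e, hz, hez, u, u.2, heu, hu, D, h4⟩⟩
  obtain ⟨s1, s2, s3⟩ := flip_facts
  let e' : X.K ≃* alternatingGroup (Fin 5) := e.trans (MulAut.conjNormal flipPerm)
  have hf' : ((e'.symm f0 : X.K) : G) = ((e.symm f0 : X.K) : G) ^ 3 := by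
    rw [symm_trans_pow e (MulAut.conjNormal flipPerm) f0 f0 s3, SubgroupClass.coe_pow]
  let D' := D.flip (f' := ((e'.symm f0 : X.K) : G)) fun x hx => by
    rw [hf']
    exact ((show Commute x _ from hx).pow_right 3).eq
  refine ⟨⟨Fr, X, e', hz, ?_, (u : G) * S.z, mul_mem u.2 hz, ?_, flip_eq hu, D', ?_⟩⟩
  · show MulAut.conjNormal flipPerm (e _) = z0
    rw [hez, s1]
  · show MulAut.conjNormal flipPerm (e _) = u0
    rw [show (⟨(u : G) * S.z, mul_mem u.2 hz⟩ : X.K) = u * ⟨S.z, hz⟩ from rfl, map_mul, heu, hez,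
      map_mul, s1, s2, mul_assoc, ← sq, hz2, mul_one]
  · show D.uu 4 * S.z = D.uu 0 * S.z * (D.uu 1 * S.z) * (D.uu 2 * S.z) * (D.uu 3 * S.z)
    have hz' : ∀ i x, S.z * (D.uu i * x) = D.uu i * (S.z * x) := fun i x => by
      rw [← mul_assoc, ← D.mem_C huz huC hune, mul_assoc]
    have hzz : S.z * S.z = 1 := (sq _).symm.trans S.z_sq
    have hzz' : ∀ x, S.z * (S.z * x) = x := fun x => by rw [← mul_assoc, hzz, one_mul]
    have hz'' : ∀ i, S.z * D.uu i = D.uu i * S.z := fun i => (D.mem_C huz huC hune i).symm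
    rw [h4]
    simp only [mul_assoc, hz', hz'', hzz, hzz', mul_one]

namespace Coord

variable (K : Coord S)

theorem huz : IsConj S.z K.u := (u_facts K.u_eq).1
theorem huC : K.u * S.z = S.z * K.u := (u_facts K.u_eq).2.1
theorem hune : K.u ≠ S.z := (u_facts K.u_eq).2.2

theorem fiveRel : FiveRel K.D.uu S.z where
  zz := (sq _).symm.trans S.z_sq
  sq i := by
    obtain ⟨q, hq, hq2, -⟩ := K.D.mem_Q K.huz K.huC K.hune i.castSucc
    rw [← hq]
    exact (sq _).symm.trans (congrArg (fun x : S.Q => ((x : S.C) : G)) hq2)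
  zc i := (K.D.mem_C K.huz K.huC K.hune _).symm
  anti i j hij := K.D.comm_z K.huz K.huC K.hune _ _ fun h => hij (Fin.castSucc_injective _ h)
  four := K.four

/-- the map from the model -/
def Φ (x : Mdl) : G := qev K.D.uu S.z x.1 * K.D.κ x.2

theorem κ_z (π : alternatingGroup (Fin 5)) : K.D.κ π * S.z * (K.D.κ π)⁻¹ = S.z :=
  mul_inv_eq_iff_eq_mul.2 ((S.mem_C _).1 (K.D.κ_C π))

theorem Φ_mul (x y : Mdl) : K.Φ (mmul x y) = K.Φ x * K.Φ y := by
  simp only [Φ, mmul]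
  rw [qev_mul K.fiveRel, qev_act K.fiveRel (K.D.uu_conj x.2) (K.κ_z x.2), map_mul]
  simp [mul_assoc]

theorem Φ_one : K.Φ (qone, 1) = 1 := by simp [Φ, qev_qone K.fiveRel]

theorem Φ_prod : ∀ l : List Mdl, K.Φ (mprod l) = (l.map K.Φ).prod
  | [] => K.Φ_one
  | x :: l => by rw [List.map_cons, List.prod_cons, ← Φ_prod l, ← Φ_mul]; rfl

theorem Φ_q (q : QW) : K.Φ (q, 1) = qev K.D.uu S.z q := by simp [Φ]

theorem Φ_κ (π : alternatingGroup (Fin 5)) : K.Φ (qone, π) = K.D.κ π := by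
  simp [Φ, qev_qone K.fiveRel]

theorem Φ_z : K.Φ (qz, 1) = S.z := by rw [Φ_q]; simp [qev, qz, bpow]

theorem Φ_gen (i : Fin 5) : K.Φ (qgen i, 1) = K.D.uu i := by rw [Φ_q, qev_qgen K.fiveRel]

theorem uu_mem (i : Fin 5) : K.D.uu i ∈ Four.QG S := by
  obtain ⟨q, hq, -⟩ := K.D.mem_Q K.huz K.huC K.hune i
  exact hq ▸ mem_map_of_mem _ q.2

theorem qev_mem (a : QW) : qev K.D.uu S.z a ∈ Four.QG S := by
  obtain ⟨a0, a1, a2, a3, az⟩ := a
  have hb : ∀ (b : Bool) (x : G), x ∈ Four.QG S → bpow b x ∈ Four.QG S := fun b x hx => by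
    cases b
    · exact one_mem _
    · exact hx
  exact mul_mem (mul_mem (mul_mem (mul_mem (hb _ _ (K.uu_mem _)) (hb _ _ (K.uu_mem _)))
    (hb _ _ (K.uu_mem _))) (hb _ _ (K.uu_mem _))) (hb _ _ (mem_map_of_mem _ S.zC_mem))

theorem κ_inter {π : alternatingGroup (Fin 5)} (h : K.D.κ π ∈ Four.QG S) : π = 1 := by
  haveI : IsSimpleGroup (alternatingGroup (Fin 5)) := alternatingGroup.isSimpleGroup (by simp)
  let N := (Four.QG S).comap K.D.κ
  have hN : N.Normal := ⟨fun n hn g => by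
    show K.D.κ (g * n * g⁻¹) ∈ Four.QG S
    rw [map_mul, map_mul, map_inv]
    exact Four.QG_conj hn (K.D.κ_C g)⟩
  rcases hN.eq_bot_or_eq_top with he | he
  · exact mem_bot.1 (he ▸ (h : π ∈ N))
  · exfalso
    have hf : K.D.κ f0 ∈ Four.QG S := (he ▸ mem_top f0 : f0 ∈ N)
    have h4 : K.D.κ f0 ^ 4 = 1 := by
      rw [show 4 = 2 * 2 from rfl, pow_mul]
      rcases Four.QG_sq hf with h | h <;> rw [← sq] at h <;> rw [h]
      · exact one_pow 2
      · exact S.z_sq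
    have h5 : K.D.κ f0 ^ 5 = 1 := by rw [← map_pow, a5_inv_f0.2.1, map_one]
    rw [pow_succ, h4, one_mul] at h5
    exact a5_inv_f0.2.2.1 ((map_eq_one_iff _ K.D.κ_inj).1 h5)

theorem Φ_injective : Function.Injective K.Φ := by
  rintro ⟨q, π⟩ ⟨q', π'⟩ h
  have h' : qev K.D.uu S.z q * K.D.κ π = qev K.D.uu S.z q' * K.D.κ π' := h
  have h1 : K.D.κ (π * π'⁻¹) = (qev K.D.uu S.z q)⁻¹ * qev K.D.uu S.z q' := by
    rw [map_mul, map_inv, eq_inv_mul_iff_mul_eq, ← mul_assoc, h', mul_inv_cancel_right]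
  have hπ : π = π' :=
    mul_inv_eq_one.1 (K.κ_inter (h1 ▸ mul_mem (inv_mem (K.qev_mem _)) (K.qev_mem _)))
  subst hπ
  rw [qev_injective K.fiveRel S.z_ne_one (mul_right_cancel h')]

theorem Φ_mem (x : Mdl) : K.Φ x ∈ S.C := by
  obtain ⟨y, -, hy⟩ := K.qev_mem x.1
  exact mul_mem (hy ▸ y.2) (K.D.κ_C _)

theorem Φ_surj {c : G} (hc : c ∈ S.C) : ∃ x, K.Φ x = c := by
  have hb : Function.Bijective fun x => (⟨K.Φ x, K.Φ_mem x⟩ : S.C) := by
    refine (Nat.bijective_iff_injective_and_card _).2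
      ⟨fun a b h => K.Φ_injective (congrArg Subtype.val h :), ?_⟩
    rw [S.card_C, Nat.card_prod, nat_card_alternatingGroup, Nat.card_fin,
      Nat.card_eq_fintype_card]
    rfl
  obtain ⟨x, hx⟩ := hb.2 ⟨c, hc⟩
  exact ⟨x, congrArg Subtype.val hx⟩

end Coord

end CfsgLib.Small.JTwoType
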