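import Mathlib
import Cfsg.Agent.Lib.Small.JankoTwoCert

/-!
# A model of `2^{1+4}.A₅` and the relations holding in it
-/

set_option autoImplicit false
set_option maxRecDepth 100000
set_option synthInstance.maxSize 100000
set_option synthInstance.maxHeartbeats 400000
set_option maxHeartbeats 0

namespace CfsgLib.Small.JTwoModel

open Equiv

/-- five bits: the exponents of `u₀ u₁ u₂ u₃ z` -/
abbrev QW := Bool × Bool × Bool × Bool × Bool

/-- the product in the normal form -/
def qmul : QW → QW → QW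
  | (a0, a1, a2, a3, az), (b0, b1, b2, b3, bz) =>
    (a0 ^^ b0, a1 ^^ b1, a2 ^^ b2, a3 ^^ b3,
      az ^^ bz ^^ (a1 && b0) ^^ (a2 && (b0 ^^ b1)) ^^ (a3 && ((b0 ^^ b1) ^^ b2)))

/-- the unit -/
def qone : QW := (false, false, false, false, false)

/-- the central involution -/
def qz : QW := (false, false, false, false, true)

/-- the five involutions -/
def qgen : Fin 5 → QW :=
  ![(true, false, false, false, false), (false, true, false, false, false),
    (false, false, true, false, false), (false, false, false, true, false),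
    (true, true, true, true, false)]

/-- a power with a Boolean exponent -/
def qpow (b : Bool) (x : QW) : QW := if b then x else qone

/-- rename the five involutions -/
def qact (π : Perm (Fin 5)) : QW → QW
  | (a0, a1, a2, a3, az) =>
    qmul (qmul (qmul (qmul (qpow a0 (qgen (π 0))) (qpow a1 (qgen (π 1)))) (qpow a2 (qgen (π 2))))
      (qpow a3 (qgen (π 3)))) (qpow az qz)

theorem qmul_decomp : ∀ a b : QW, qmul a b = qmul (qmul (qmul (qmul (qmul a
    (qpow b.1 (qgen 0))) (qpow b.2.1 (qgen 1))) (qpow b.2.2.1 (qgen 2)))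
      (qpow b.2.2.2.1 (qgen 3))) (qpow b.2.2.2.2 qz) := by
  decide +kernel

theorem qone_mul : ∀ a : QW, qmul qone a = a ∧ qmul a qone = a := by decide +kernel

theorem qinv_exists : ∀ a : QW, ∃ b : QW, qmul a b = qone := by decide +kernel

theorem noncentral : ∀ a : QW, a = qone ∨ a = qz ∨
    ∃ k : Fin 5, qmul a (qgen k) = qmul (qmul (qgen k) a) qz := by
  decide +kernel

/-- the model -/
abbrev Mdl := QW × alternatingGroup (Fin 5)

/-- the product of the model -/
def mmul (x y : Mdl) : Mdl := (qmul x.1 (qact x.2.1 y.1), x.2 * y.2)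

/-- product of a word -/
def mprod : List Mdl → Mdl
  | [] => (qone, 1)
  | x :: l => mmul x (mprod l)

/-- `(1 3)(2 4)` -/
def r0 : alternatingGroup (Fin 5) := ⟨swap 1 3 * swap 2 4, Equiv.Perm.mem_alternatingGroup.2 (by decide)⟩
/-- `(2 3 4)` -/
def a0 : alternatingGroup (Fin 5) := ⟨swap 2 3 * swap 3 4, Equiv.Perm.mem_alternatingGroup.2 (by decide)⟩
/-- `(0 1 2 3 4)` -/
def c0 : alternatingGroup (Fin 5) := ⟨swap 0 1 * swap 1 2 * swap 2 3 * swap 3 4, Equiv.Perm.mem_alternatingGroup.2 (by decide)⟩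
/-- `(0 1)(2 3)` -/
def z0 : alternatingGroup (Fin 5) := ⟨swap 0 1 * swap 2 3, Equiv.Perm.mem_alternatingGroup.2 (by decide)⟩
/-- `(0 2)(1 3)` -/
def u0 : alternatingGroup (Fin 5) := ⟨swap 0 2 * swap 1 3, Equiv.Perm.mem_alternatingGroup.2 (by decide)⟩
/-- `(1 2 3)` -/
def n0 : alternatingGroup (Fin 5) := ⟨swap 1 2 * swap 2 3, Equiv.Perm.mem_alternatingGroup.2 (by decide)⟩
/-- `(0 4 1 3 2)` -/
def f0 : alternatingGroup (Fin 5) := ⟨swap 0 4 * swap 4 1 * swap 1 3 * swap 3 2, Equiv.Perm.mem_alternatingGroup.2 (by decide)⟩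
/-- `f₀ u₀` -/
def g0 : alternatingGroup (Fin 5) := f0 * u0

/-- `z` -/
def mZ : Mdl := (qz, 1)
/-- `u` -/
def mU : Mdl := (qgen 0, 1)
/-- `r` -/
def mR : Mdl := (qone, r0)
/-- `a` -/
def mA : Mdl := (qone, a0)
/-- `c` -/
def mC : Mdl := (qone, c0)
/-- `u₁ u₂` -/
def mH : Mdl := (qmul (qgen 1) (qgen 2), 1)
/-- the image of `u₁ u₂` under the element cycling `z, u, uz` -/
def mX : Mdl := ((false, true, false, true, false), ⟨swap 1 4 * swap 2 3, Equiv.Perm.mem_alternatingGroup.2 (by decide)⟩)

/-- `h (a h a²) (a² h a)` -/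
def mTriple (x : Mdl) : Mdl := mprod [x, mA, x, mA, mA, mA, mA, x, mA]

theorem mH_facts : mmul mR mH = mmul (mmul (mmul mU mZ) mH) mR ∧ mmul mH mH = mZ ∧
    mTriple mH = mmul mU mZ ∧ mmul mH mU = mmul mU mH ∧ mmul mH mZ = mmul mZ mH := by
  decide +kernel

theorem pin : ∀ x : Mdl, mmul x mU = mmul mU x → mmul x x = mU →
    mmul mR x = mmul (mmul mZ x) mR → mTriple x = mZ → x = mX := by
  decide +kernel

/-- the value of a letter in the model, for the letters `r a c u z` -/
def mLetter : ℕ × Bool → Mdl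
  | (0, _) => mR
  | (1, true) => mA
  | (1, false) => mmul mA mA
  | (2, true) => mC
  | (2, false) => mprod [mC, mC, mC, mC]
  | (3, _) => mU
  | _ => mZ

theorem letters_ok : mmul mR mR = (qone, 1) ∧ mmul (mmul mA mA) mA = (qone, 1) ∧
    mmul (mprod [mC, mC, mC, mC]) mC = (qone, 1) ∧ mmul mU mU = (qone, 1) ∧
    mmul mZ mZ = (qone, 1) := by
  decide +kernel

/-- the value of a letter in `A₅`, for the letters `u z n f g` -/
def kLetter : ℕ × Bool → alternatingGroup (Fin 5)
  | (g, b) =>
    let x := if g = 3 then u0 else if g = 4 then z0 else if g = 5 then n0 else if g = 6 then f0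
      else g0
    if b then x else x⁻¹

/-- relations inside the centraliser -/
def cRels : List ℕ := [0, 1, 3, 4, 5, 6, 12, 13]

/-- relations inside the icosahedral group -/
def kRels : List ℕ := [11, 14, 15, 16, 17, 18, 19]

theorem cRels_ok : ∀ i ∈ cRels, (∀ l ∈ JTwoCert.rels.getD i [], l.1 < 5) ∧
    mprod ((JTwoCert.rels.getD i []).map mLetter) = (qone, 1) := by
  decide +kernel

theorem kRels_ok : ∀ i ∈ kRels, (∀ l ∈ JTwoCert.rels.getD i [], 3 ≤ l.1 ∧ l.1 < 8) ∧
    ((JTwoCert.rels.getD i []).map kLetter).prod = 1 := by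
  decide +kernel

/-- the elements of `A₅` as words in three of them -/
def spans (p q s : alternatingGroup (Fin 5)) : ℕ → List (alternatingGroup (Fin 5))
  | 0 => [1]
  | n + 1 => (spans p q s n).flatMap fun w => [w, w * p, w * q, w * s]

end CfsgLib.Small.JTwoModel
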