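import Cfsg.Agent.Lib.Small.JankoTwoFiveClasses
import Cfsg.Agent.Lib.Small.JankoTwoModel

/-!
# The complement `A₅` of `Q` in `C(z)` attached to an element of order five of the icosahedral
subgroup, and the five conjugates of `u` it permutes
-/

set_option autoImplicit false
set_option linter.unusedSectionVars false
set_option maxRecDepth 100000

namespace CfsgLib.Small.JTwoType

open Subgroup
open JTwoModel (z0 u0 f0)

theorem a5_flip : ∀ y : alternatingGroup (Fin 5), y * z0 = z0 * y → y ^ 2 = 1 → y ≠ 1 → y ≠ z0 →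
    y = u0 ∨ y = u0 * z0 := by
  decide +kernel

theorem a5_inv_f0 : z0 * f0 * z0⁻¹ = f0⁻¹ ∧ f0 ^ 5 = 1 ∧ f0 ≠ 1 ∧ z0 ^ 2 = 1 ∧ z0 ≠ 1 ∧
    u0 ^ 2 = 1 ∧ u0 ≠ 1 ∧ u0 ≠ z0 ∧ u0 * z0 = z0 * u0 := by
  decide +kernel

theorem fin_five_transitive : ∀ i : Fin 5, ∃ π : alternatingGroup (Fin 5), π.1 0 = i := by
  decide +kernel

/-- The complement and the five involutions. -/
structure Labels {G : Type*} [Group G] (S : Setup G) (f u : G) where
  κ : alternatingGroup (Fin 5) →* G
  κ_inj : Function.Injective κ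
  κ_C : ∀ π, κ π ∈ S.C
  κ_f : ∀ π, κ π * f = f * κ π
  uu : Fin 5 → G
  uu_zero : uu 0 = u
  uu_conj : ∀ π i, κ π * uu i * (κ π)⁻¹ = uu (π.1 i)
  uu_inj : Function.Injective uu

namespace Frame

variable {G : Type*} [Group G] [Finite G] {S : Setup G} {Fr : Frame S} (X : Fr.Central)

/-- An identification of the icosahedral subgroup sending `z` to `(0 1)(2 3)` and `u` to
`(0 2)(1 3)` or to its product with `z`. -/
theorem Central.exists_iso : ∃ e : X.K ≃* alternatingGroup (Fin 5), ∃ hz : S.z ∈ X.K,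
    e ⟨S.z, hz⟩ = z0 ∧ ∃ u : X.K, e u = u0 ∧
      ((u : G) = Fr.four.u ∨ (u : G) = Fr.four.u * S.z) := by
  obtain ⟨e₁⟩ := X.iso
  have hz : S.z ∈ X.K := X.E_le Fr.four.z_mem_E
  have huK : Fr.four.u ∈ X.K := X.E_le Fr.four.u_mem_E
  let zK : X.K := ⟨S.z, hz⟩
  let uK : X.K := ⟨Fr.four.u, huK⟩
  have hz2 : zK ^ 2 = 1 := Subtype.ext S.z_sq
  have hz1 : zK ≠ 1 := fun h => S.z_ne_one (congrArg Subtype.val h)
  obtain ⟨v, hv⟩ := a5_conj_invol (e₁ zK) z0 (by rw [← map_pow, hz2, map_one])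
    (fun h => hz1 ((map_eq_one_iff e₁ e₁.injective).1 h)) a5_inv_f0.2.2.2.1 a5_inv_f0.2.2.2.2.1
  let e : X.K ≃* alternatingGroup (Fin 5) := e₁.trans (MulAut.conj v)
  have hez : e zK = z0 := hv
  have hu2 : uK ^ 2 = 1 := Subtype.ext ((sq _).trans Fr.four.u_sq)
  have hcomm : uK * zK = zK * uK := Subtype.ext Fr.four.z_comm.symm
  rcases a5_flip (e uK) (by rw [← hez, ← map_mul, ← map_mul, hcomm])
    (by rw [← map_pow, hu2, map_one])
    (fun h => Fr.four.u_ne_one (congrArg Subtype.val ((map_eq_one_iff e e.injective).1 h)))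
    (fun h => Fr.four.uz_ne.2.2.2 (congrArg Subtype.val (e.injective (hez.trans h.symm)))) with h | h
  · exact ⟨e, hz, hez, uK, h, Or.inl rfl⟩
  · refine ⟨e, hz, hez, uK * zK, ?_, Or.inr rfl⟩
    rw [map_mul, h, hez, mul_assoc, ← sq, a5_inv_f0.2.2.2.1, mul_one]

/-- `C(z) ∩ C(f)` and the orbit of `u` under it. -/
theorem Central.exists_labels {f : G} (hf : f ∈ X.K) (hfo : orderOf f = 5)
    (hzf : S.z * f * S.z⁻¹ = f⁻¹) {u : G} (huK : u ∈ X.K)
    (hu : u = Fr.four.u ∨ u = Fr.four.u * S.z) : Nonempty (Labels S f u) := by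
  classical
  obtain ⟨π, hπ, hker, hcard⟩ := X.five_quot hf hfo
  let M := centralizer ({f} : Set G)
  let L : Subgroup G := S.C ⊓ M
  have hf5 : f ^ 5 = 1 := by rw [← hfo, pow_orderOf_eq_one]
  have hzzf : ∀ y ∈ zpowers f, S.z * y * S.z⁻¹ = y⁻¹ := by
    intro y hy
    obtain ⟨k, rfl⟩ := mem_zpowers_iff.1 hy
    rw [← conj_zpow, hzf, inv_zpow]
  have hone : ∀ y ∈ zpowers f, y * S.z = S.z * y → y = 1 := by
    intro y hy hyz
    have h := hzzf y hy
    rw [← hyz, mul_inv_cancel_right] at h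
    have h5 : y ^ 5 = 1 := by
      obtain ⟨k, rfl⟩ := mem_zpowers_iff.1 hy
      rw [← zpow_natCast, ← zpow_mul, mul_comm, zpow_mul, zpow_natCast, hf5, one_zpow]
    calc y = y ^ 5 * ((y * y) * (y * y))⁻¹ := by group
      _ = 1 := by rw [h5, show y * y = 1 from (congrArg (y * ·) h).trans (mul_inv_cancel y)]; simp
  let ρ : L →* alternatingGroup (Fin 5) := π.comp (Subgroup.inclusion inf_le_right)
  have hρi : Function.Injective ρ := by
    rw [← MonoidHom.ker_eq_bot_iff, eq_bot_iff]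
    intro y hy
    exact mem_bot.2 (Subtype.ext (hone _ ((hker _).1 hy) ((S.mem_C _).1 (mem_inf.1 y.2).1)))
  -- the inverting involution centralises the quotient
  have hRf : ∀ r ∈ Fr.R, r * f = f * r := fun r hr => X.R_comm r hr f hf
  have hcf : Fr.c * f = f * Fr.c := X.c_K hf
  have hRz : ∀ r ∈ Fr.R, r * S.z = S.z * r :=
    fun r hr => X.R_comm r hr _ (X.E_le Fr.four.z_mem_E)
  have hzM : ∀ y ∈ M, S.z * y * S.z⁻¹ ∈ M := by
    intro y hy
    refine mem_centralizer_singleton_iff.2 ?_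
    have h := congrArg (MulAut.conj S.z) (mem_centralizer_singleton_iff.1 hy)
    rw [map_mul, map_mul, MulAut.conj_apply, MulAut.conj_apply, hzf] at h
    simpa using ((show Commute (S.z * y * S.z⁻¹) f⁻¹ from h).inv_right).eq
  let zc : M →* M :=
    { toFun := fun y => ⟨S.z * y * S.z⁻¹, hzM y y.2⟩
      map_one' := Subtype.ext (by simp)
      map_mul' := fun x y => Subtype.ext (by simp [mul_assoc]) }
  have hθ : ∀ y : M, π (zc y) = π y := by
    have hkerz : π.ker ≤ (π.comp zc).ker := by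
      intro y hy
      show π (zc y) = 1
      refine (hker _).2 ?_
      show S.z * (y : G) * S.z⁻¹ ∈ zpowers f
      rw [hzzf _ ((hker _).1 hy)]
      exact inv_mem ((hker _).1 hy)
    let θ : alternatingGroup (Fin 5) →* alternatingGroup (Fin 5) :=
      π.liftOfSurjective hπ ⟨π.comp zc, hkerz⟩
    have hθ' : ∀ y, θ (π y) = π (zc y) := fun y =>
      π.liftOfRightInverse_comp_apply _ (Function.rightInverse_surjInv hπ) ⟨_, hkerz⟩ y
    have hθθ : ∀ a, θ (θ a) = a := by
      intro a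
      obtain ⟨y, rfl⟩ := hπ a
      rw [hθ', hθ']
      congr 1
      exact Subtype.ext (by
        show S.z * (S.z * (y : G) * S.z⁻¹) * S.z⁻¹ = y
        rw [inv_eq_of_mul_eq_one_right Four.z_mul_z]
        simp only [← mul_assoc, Four.z_mul_z, one_mul]
        simp only [mul_assoc, Four.z_mul_z, mul_one])
    let θ' : MulAut (alternatingGroup (Fin 5)) :=
      MonoidHom.toMulEquiv θ θ (MonoidHom.ext hθθ) (MonoidHom.ext hθθ)
    let tM : M := ⟨(Fr.t : G), mem_centralizer_singleton_iff.2 (hRf _ Fr.t_mem_R)⟩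
    let cM : M := ⟨Fr.c, mem_centralizer_singleton_iff.2 hcf⟩
    have hfix : ∀ (y : M), (y : G) * S.z = S.z * y → θ' (π y) = π y := fun y hy => by
      show θ (π y) = π y
      rw [hθ']
      congr 1
      exact Subtype.ext (mul_inv_eq_iff_eq_mul.2 hy.symm)
    haveI : Fact (Nat.Prime 2) := ⟨Nat.prime_two⟩
    haveI : Fact (Nat.Prime 3) := ⟨Nat.prime_three⟩
    have h1 : π tM ^ 2 = 1 := by
      rw [← map_pow, show tM ^ 2 = 1 from Subtype.ext Fr.t_sq', map_one]
    have hnot : ∀ y : M, (y : G) ≠ 1 → (y : G) * S.z = S.z * y → π y ≠ 1 := fun y hy1 hyz h =>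
      hy1 (hone _ ((hker y).1 h) hyz)
    have h2 : π cM ^ 3 = 1 := by
      rw [← map_pow, show cM ^ 3 = 1 from Subtype.ext Fr.c_cube, map_one]
    have hab : (π tM * π cM) ^ 3 = 1 := by
      have hct : Fr.c * (Fr.t : G) * Fr.c⁻¹ ≠ Fr.t := Fr.c_not_H
      obtain ⟨-, hfix0⟩ := three_cycle Fr.card_R (fun r hr => Fr.R_sq hr) Fr.t_mem_R Fr.t_ne_one
        Fr.c_cube (fun r hr => Fr.c_R hr) hct
      have hs := Fr.c_R Fr.t_mem_R
      have hs' := Fr.c_R hs
      have hcomm : ∀ a ∈ Fr.R, ∀ b ∈ Fr.R, a * b = b * a := fun a ha b hb => by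
        have hi : ∀ x ∈ Fr.R, x⁻¹ = x := fun x hx =>
          inv_eq_of_mul_eq_one_right ((sq x).symm.trans (Fr.R_sq hx))
        rw [← hi _ (mul_mem ha hb), mul_inv_rev, hi a ha, hi b hb]
      set P := (Fr.t : G) * (Fr.c * Fr.t * Fr.c⁻¹) * (Fr.c * (Fr.c * Fr.t * Fr.c⁻¹) * Fr.c⁻¹)
        with hP
      have h3 : Fr.c * (Fr.c * (Fr.c * Fr.t * Fr.c⁻¹) * Fr.c⁻¹) * Fr.c⁻¹ = Fr.t := by
        calc _ = Fr.c ^ 3 * Fr.t * (Fr.c ^ 3)⁻¹ := by
              simp only [pow_succ, pow_zero, one_mul, mul_inv_rev, mul_assoc]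
          _ = _ := by rw [Fr.c_cube, one_mul, inv_one, mul_one]
      have hP1 : P = 1 := by
        refine hfix0 P (mul_mem (mul_mem Fr.t_mem_R hs) hs') ?_
        rw [hP, ← MulAut.conj_apply, map_mul, map_mul]
        simp only [MulAut.conj_apply]
        rw [h3]
        have h4 := hcomm _ (mul_mem hs hs') _ Fr.t_mem_R
        simp only [mul_assoc] at h4 ⊢
        exact h4
      rw [← map_mul, ← map_pow]
      refine (hker _).2 ?_
      show ((Fr.t : G) * Fr.c) ^ 3 ∈ zpowers f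
      have he : ((Fr.t : G) * Fr.c) ^ 3 = P * Fr.c ^ 3 := by simp [hP, pow_succ, mul_assoc]
      rw [he, hP1, Fr.c_cube, one_mul]
      exact one_mem _
    have hid : θ' = 1 := aut_eq_one (MulEquiv.refl _) θ' (a := π tM) (b := π cM)
      h1 (hnot tM Fr.t_ne_one (hRz _ Fr.t_mem_R)) h2 (hnot cM Fr.c_ne Fr.c_z) hab
      (hfix tM (hRz _ Fr.t_mem_R)) (hfix cM Fr.c_z)
    intro y
    rw [← hθ' y]
    exact DFunLike.congr_fun hid (π y)
  have hρs : Function.Surjective ρ := by
    intro a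
    obtain ⟨y, rfl⟩ := hπ a
    have hd : S.z * (y : G) * S.z⁻¹ * (y : G)⁻¹ ∈ zpowers f := by
      have : π (zc y * y⁻¹) = 1 := by rw [map_mul, hθ, map_inv, mul_inv_cancel]
      exact (hker _).1 this
    obtain ⟨k, hk⟩ := mem_zpowers_iff.1 hd
    have hyf : Commute (y : G) f := mem_centralizer_singleton_iff.1 y.2
    have hv : (y : G) * f ^ (3 * k) ∈ S.C := by
      refine (S.mem_C _).2 (mul_inv_eq_iff_eq_mul.1 ?_).symm
      have h3 : S.z * (f ^ (3 * k)) * S.z⁻¹ = f ^ (-(3 * k)) := by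
        rw [← conj_zpow, hzf, inv_zpow, zpow_neg]
      have hy' : S.z * (y : G) * S.z⁻¹ = f ^ k * (y : G) := by
        rw [hk, inv_mul_cancel_right]
      calc S.z * ((y : G) * f ^ (3 * k)) * S.z⁻¹
          = (S.z * (y : G) * S.z⁻¹) * (S.z * f ^ (3 * k) * S.z⁻¹) := by simp [mul_assoc]
        _ = (y : G) * f ^ k * f ^ (-(3 * k)) := by rw [hy', h3, (hyf.zpow_right k).eq]
        _ = (y : G) * f ^ (3 * k) * (f ^ (5 * -k)) := by
          rw [mul_assoc, mul_assoc, ← zpow_add, ← zpow_add]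
          congr 2
          ring
        _ = _ := by
          rw [show (5 : ℤ) * -k = ((5 : ℕ) : ℤ) * -k from rfl, zpow_mul f ((5 : ℕ) : ℤ), zpow_natCast,
            hf5, one_zpow, mul_one]
    have hm : (y : G) * f ^ (3 * k) ∈ M :=
      mul_mem y.2 (zpow_mem (mem_centralizer_singleton_iff.2 rfl) _)
    refine ⟨⟨_, mem_inf.2 ⟨hv, hm⟩⟩, ?_⟩
    show π ⟨(y : G) * f ^ (3 * k), hm⟩ = π y
    rw [show (⟨(y : G) * f ^ (3 * k), hm⟩ : M) = y * ⟨f ^ (3 * k), zpow_mem
      (mem_centralizer_singleton_iff.2 rfl) _⟩ from rfl, map_mul,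
      (hker ⟨f ^ (3 * k), _⟩).2 ⟨3 * k, rfl⟩, mul_one]
  let ρe : L ≃* alternatingGroup (Fin 5) := MulEquiv.ofBijective ρ ⟨hρi, hρs⟩
  have hL : Nat.card L = 60 := by
    rw [Nat.card_congr ρe.toEquiv, nat_card_alternatingGroup, Nat.card_fin]; rfl
  haveI : IsSimpleGroup L := ρe.isSimpleGroup
  -- the stabiliser of `u`
  have huC : u * S.z = S.z * u := by
    rcases hu with rfl | rfl
    · exact Fr.four.z_comm.symm
    · exact (show Commute (Fr.four.u * S.z) S.z from
        (show Commute Fr.four.u S.z from Fr.four.z_comm.symm).mul_left (Commute.refl _)).eq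
  let St : Subgroup L := (centralizer ({u} : Set G)).subgroupOf L
  have hcu : Fr.c * u = u * Fr.c := by
    have h1 : Commute Fr.c Fr.four.u := Fr.c_u
    rcases hu with rfl | rfl
    · exact h1
    · exact h1.mul_right Fr.c_z
  have hcL : Fr.c ∈ L := mem_inf.2 ⟨(S.mem_C _).2 Fr.c_z, mem_centralizer_singleton_iff.2 hcf⟩
  have h12 : 12 ∣ Nat.card St := by
    refine Nat.Coprime.mul_dvd_of_dvd_of_dvd (m := 4) (n := 3) (by norm_num) ?_ ?_
    · have hle : Fr.R ≤ L ⊓ centralizer ({u} : Set G) := fun r hr => mem_inf.2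
        ⟨mem_inf.2 ⟨(S.mem_C _).2 (hRz r hr), mem_centralizer_singleton_iff.2 (hRf r hr)⟩,
          mem_centralizer_singleton_iff.2 (X.R_comm r hr u huK)⟩
      rw [← Fr.card_R]
      refine (Subgroup.card_dvd_of_le hle).trans (dvd_of_eq ?_)
      rw [show St = (L ⊓ centralizer ({u} : Set G)).subgroupOf L from
        (inf_subgroupOf_left _ _).symm, Nat.card_congr (subgroupOfEquivOfLe inf_le_left).toEquiv]
    · haveI : Fact (Nat.Prime 3) := ⟨Nat.prime_three⟩
      let cS : St := ⟨⟨Fr.c, hcL⟩, mem_centralizer_singleton_iff.2 hcu⟩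
      have : orderOf cS = 3 := orderOf_eq_prime (Subtype.ext (Subtype.ext Fr.c_cube))
        fun h => Fr.c_ne (congrArg (fun y : St => ((y : L) : G)) h)
      exact this ▸ orderOf_dvd_natCard cS
  have huconj : IsConj S.z u := by
    rcases hu with rfl | rfl
    · exact Fr.four.u_conj
    · exact (Fr.conj_z_of_E (Or.inr (Or.inr (Or.inr rfl))) Fr.four.uz_ne.1)
  have hune : u ≠ S.z := by
    rcases hu with rfl | rfl
    · exact Fr.four.uz_ne.2.2.2.symm
    · exact Fr.four.uz_ne.2.1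
  let uC : S.C := ⟨u, (S.mem_C u).2 huC⟩
  let uQ : S.Q := ⟨uC, S.mem_Q_of_conj huconj⟩
  have huQc : uQ ∉ center S.Q := fun h => by
    rcases (S.es.center_iff _).1 h with he | he
    · exact JTwoOrder.not_isConj_one S.ord huconj (congrArg (fun q : S.Q => ((q : S.C) : G)) he)
    · exact hune (congrArg (fun q : S.Q => ((q : S.C) : G)) he)
  have hSt : St ≠ ⊤ := by
    intro htop
    obtain ⟨b, hb5, hb1⟩ := a5_exists_five
    obtain ⟨g, rfl⟩ := hρs b
    have hg5 : g ^ 5 = 1 := hρi (by rw [map_pow, hb5, map_one])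
    have hg1 : g ≠ 1 := fun h => hb1 (by rw [h, map_one])
    let gC : S.C := ⟨(g : G), (mem_inf.1 g.2).1⟩
    have hgC5 : gC ^ 5 = 1 := Subtype.ext (congrArg (fun y : L => (y : G)) hg5 :)
    have hgQ : S.proj gC ≠ 1 := fun h => by
      have hq : (⟨gC, (S.proj_eq_one _).1 h⟩ : S.Q) ^ 5 = 1 := Subtype.ext hgC5
      rw [pow_succ, S.pow_four, one_mul] at hq
      exact hg1 (Subtype.ext (congrArg (fun q : S.Q => ((q : S.C) : G)) hq :))
    refine huQc (S.fix_five hgC5 hgQ uQ (Subtype.ext ?_))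
    rw [S.cn_apply]
    exact mul_inv_eq_iff_eq_mul.2 (Subtype.ext (mem_centralizer_singleton_iff.1
      (show g ∈ St from htop ▸ mem_top g)))
  have hmul : Nat.card St * St.index = 60 := hL ▸ St.card_mul_index
  have hα0 : (MulAction.toPermHom L (L ⧸ St)).ker = ⊥ := by
    refine (MonoidHom.normal_ker _).eq_bot_or_eq_top.resolve_right fun h => hSt ?_
    rw [eq_top_iff]
    intro x _
    have hx : MulAction.toPermHom L (L ⧸ St) x = 1 := MonoidHom.mem_ker.1 (by rw [h]; exact mem_top x)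
    have := congrArg (fun σ : Equiv.Perm (L ⧸ St) => σ ((1 : L) : L ⧸ St)) hx
    simpa [QuotientGroup.eq] using this
  have hindex : St.index = 5 := by
    have h60 := Nat.card_le_card_of_injective _ ((MonoidHom.ker_eq_bot_iff _).1 hα0)
    rw [hL, Nat.card_perm, show Nat.card (L ⧸ St) = St.index from rfl] at h60
    obtain ⟨m, hm⟩ := h12
    rw [hm] at hmul
    have : St.index ∣ 5 := ⟨m, by nlinarith⟩
    rcases (Nat.dvd_prime (by norm_num)).1 this with h | h
    · rw [h] at h60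
      norm_num at h60
    · exact h
  obtain ⟨e'⟩ : Nonempty (L ⧸ St ≃ Fin 5) :=
    ⟨Finite.equivFinOfCardEq (show Nat.card (L ⧸ St) = 5 from hindex)⟩
  let e5 : L ⧸ St ≃ Fin 5 := e'.trans (Equiv.swap (e' ((1 : L) : L ⧸ St)) 0)
  have he0 : e5 ((1 : L) : L ⧸ St) = 0 := by simp [e5]
  let α : L →* Equiv.Perm (Fin 5) :=
    e5.permCongrHom.toMonoidHom.comp (MulAction.toPermHom L (L ⧸ St))
  have hαi : Function.Injective α :=
    e5.permCongrHom.injective.comp ((MonoidHom.ker_eq_bot_iff _).1 hα0)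
  have hrange : α.range = alternatingGroup (Fin 5) := by
    refine Equiv.Perm.eq_alternatingGroup_of_index_eq_two ?_
    have h := α.range.card_mul_index
    rw [Nat.card_congr (MonoidHom.ofInjective hαi).toEquiv.symm, hL, Nat.card_perm,
      Nat.card_fin, show Nat.factorial 5 = 60 * 2 from rfl] at h
    exact Nat.eq_of_mul_eq_mul_left (by norm_num) h
  let αe : L ≃* alternatingGroup (Fin 5) :=
    (MonoidHom.ofInjective hαi).trans (MulEquiv.subgroupCongr hrange)
  have hαe : ∀ x, ((αe x : alternatingGroup (Fin 5)) : Equiv.Perm (Fin 5)) = α x := fun x => rfl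
  let κ : alternatingGroup (Fin 5) →* G := L.subtype.comp αe.symm.toMonoidHom
  have hwd : ∀ a b : L, (a : L ⧸ St) = b →
      (a : G) * u * (a : G)⁻¹ = (b : G) * u * (b : G)⁻¹ := by
    intro a b h
    have h' : ((a⁻¹ * b : L) : G) * u = u * ((a⁻¹ * b : L) : G) :=
      mem_centralizer_singleton_iff.1 (mem_subgroupOf.1 ((QuotientGroup.eq (s := St)).1 h))
    rw [coe_mul, coe_inv] at h'
    calc (a : G) * u * (a : G)⁻¹ = (a : G) * (u * ((a : G)⁻¹ * b)) * (b : G)⁻¹ := by group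
      _ = _ := by rw [← h']; group
  let uu : Fin 5 → G := fun i =>
    ((e5.symm i).out : G) * u * ((e5.symm i).out : G)⁻¹
  have huu : ∀ a : L, (a : G) * u * (a : G)⁻¹ = uu (e5 a) := fun a =>
    hwd a _ (by rw [QuotientGroup.out_eq', Equiv.symm_apply_apply])
  refine ⟨{ κ := κ
            κ_inj := Subtype.val_injective.comp αe.symm.injective
            κ_C := fun p => (mem_inf.1 (αe.symm p).2).1
            κ_f := fun p => mem_centralizer_singleton_iff.1 (mem_inf.1 (αe.symm p).2).2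
            uu := uu
            uu_zero := ?_
            uu_conj := ?_
            uu_inj := ?_ }⟩
  · have h := huu 1
    rw [he0, coe_one, one_mul, inv_one, mul_one] at h
    exact h.symm
  · intro p i
    have hp : α (αe.symm p) = p.1 := by rw [← hαe, MulEquiv.apply_symm_apply]
    have hi : p.1 i = e5 ((αe.symm p * (e5.symm i).out : L) : L ⧸ St) := by
      conv_lhs => rw [← hp]
      show e5 (αe.symm p • e5.symm i) = _
      congr 1
      conv_lhs => rw [← QuotientGroup.out_eq' (e5.symm i)]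
      rfl
    rw [hi, ← huu, coe_mul]
    simp [κ, uu, mul_assoc]
  · intro i j h
    apply e5.symm.injective
    rw [← QuotientGroup.out_eq' (e5.symm i), ← QuotientGroup.out_eq' (e5.symm j), QuotientGroup.eq]
    refine mem_centralizer_singleton_iff.2 ?_
    show ((e5.symm i).out⁻¹ * (e5.symm j).out : L) * u = u * ((e5.symm i).out⁻¹ * (e5.symm j).out : L)
    rw [coe_mul, coe_inv]
    have h' : ((e5.symm i).out : G) * u * ((e5.symm i).out : G)⁻¹ =
      ((e5.symm j).out : G) * u * ((e5.symm j).out : G)⁻¹ := h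
    calc _ = ((e5.symm i).out : G)⁻¹ *
          (((e5.symm j).out : G) * u * ((e5.symm j).out : G)⁻¹) * (e5.symm j).out := by group
      _ = _ := by rw [← h']; group

end Frame

end CfsgLib.Small.JTwoType
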