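import Mathlib
import Cfsg.Prelude.Def_Classical
import Cfsg.Prelude.Def_Local
import Cfsg.Agent.Lib.Small.JankoTwoLocal
import Cfsg.Agent.Lib.Components.FStar
import Cfsg.Agent.Lib.Geometry.SmallOrth

/-!
# The hypotheses of Hall–Janko type in the form used here
-/

set_option autoImplicit false

namespace CfsgLib.Small.JTwoType

open Subgroup

theorem omega_minus_iso_alt : Nonempty
    (Cfsg.Omega (ZMod 2) (Cfsg.quadFormMinus 1 (ZMod 2) 1 1) ≃* alternatingGroup (Fin 5)) := by
  obtain ⟨e⟩ := CfsgLib.Geometry.SmallOrth.perm5_equiv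
  refine ⟨((commutator _).equivMapOfInjective e.toMonoidHom e.injective).trans
    (MulEquiv.subgroupCongr ?_)⟩
  rw [commutator_def, Subgroup.map_commutator,
    Subgroup.map_top_of_surjective _ e.surjective, ← commutator_def,
    alternatingGroup.commutator_perm_eq (by simp)]

/-- The setup from the hypotheses as stated. -/
theorem exists_setup {G : Type*} [Group G] [Finite G] (z : G) (hz : orderOf z = 2)
    (Q : Subgroup (centralizer ({z} : Set G))) [Q.Normal]
    (hF : Cfsg.generalizedFittingSubgroup (centralizer ({z} : Set G)) = Q)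
    (hQ : Cfsg.IsExtraspecial 2 Q) (hcard : Nat.card Q = 2 ^ 5)
    (e : (centralizer ({z} : Set G)) ⧸ Q ≃* Cfsg.Omega (ZMod 2) (Cfsg.quadFormMinus 1 (ZMod 2) 1 1))
    (hnwc : ∃ g : G, (∃ hq : g * z * g⁻¹ ∈ centralizer ({z} : Set G),
      (⟨g * z * g⁻¹, hq⟩ : centralizer ({z} : Set G)) ∈ Q) ∧ g * z * g⁻¹ ≠ z)
    (hcl : ∃ x y : G, orderOf x = 2 ∧ orderOf y = 2 ∧ ¬ IsConj x y) :
    ∃ S : Setup G, S.z = z := by
  obtain ⟨e'⟩ := omega_minus_iso_alt
  let f := e.trans e'
  refine ⟨{ z := z, ord := hz, Q := Q, extra := hQ, card := hcard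
            cent := ?_
            proj := f.toMonoidHom.comp (QuotientGroup.mk' Q)
            proj_surj := f.surjective.comp (QuotientGroup.mk'_surjective Q)
            proj_ker := ?_
            weak := hnwc, two := hcl }, rfl⟩
  · have h := CfsgLib.Components.centralizer_fstar_le (G := centralizer ({z} : Set G))
    rwa [hF] at h
  · ext x
    show f (QuotientGroup.mk' Q x) = 1 ↔ x ∈ Q
    rw [map_eq_one_iff f f.injective]
    exact QuotientGroup.eq_one_iff x

end CfsgLib.Small.JTwoType
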