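import Mathlib
import Cfsg.Agent.Lib.Small.JankoTwoThree

/-!
# Hall–Janko type: `|C(c)| = 1080`
-/

set_option autoImplicit false
set_option linter.unusedSectionVars false

namespace CfsgLib.Small.JTwoType

open Subgroup
open scoped Pointwise

namespace Frame

variable {G : Type*} [Group G] [Finite G] {S : Setup G} {Fr : Frame S} (X : Fr.Central)

theorem eight_dvd_c : 8 ∣ Nat.card (centralizer ({Fr.c} : Set G)) := by
  classical
  let cC : S.C := ⟨Fr.c, (S.mem_C _).2 Fr.c_z⟩
  have hc3 : cC ^ 3 = 1 := Subtype.ext Fr.c_cube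
  have hc1 : cC ≠ 1 := fun h => Fr.c_ne (congrArg Subtype.val h)
  rcases three_fix_card hc3 hc1 with h | h
  · exfalso
    have hz : S.cn cC S.zQ = S.zQ := S.es.map_z _
    have hu : S.cn cC Fr.four.uQ = Fr.four.uQ := Subtype.ext (by
      rw [S.cn_apply]
      exact Subtype.ext (mul_inv_eq_iff_eq_mul.2 Fr.c_u))
    have h3 : Nat.card ({1, S.zQ, Fr.four.uQ} : Finset S.Q) ≤ 2 := by
      rw [← h]
      exact Nat.card_le_card_of_injective (fun q => ⟨q.1, by
          have := q.2
          simp only [Finset.mem_insert, Finset.mem_singleton] at this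
          rcases this with e | e | e <;> rw [e]
          exacts [map_one _, hz, hu]⟩)
        fun a b e => Subtype.ext (congrArg Subtype.val e :)
    rw [Nat.card_eq_finsetCard, Finset.card_insert_of_notMem, Finset.card_pair] at h3
    · omega
    · intro e
      exact Fr.four.uQ_nc (e ▸ mem_center_iff.2 fun q => Subtype.ext (S.zC_comm q))
    · simp only [Finset.mem_insert, Finset.mem_singleton, not_or]
      refine ⟨fun e => S.z_ne_one ?_, fun e => Fr.four.u_ne_one ?_⟩
      · exact (congrArg (fun q : S.Q => ((q : S.C) : G)) e).symm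
      · exact (congrArg (fun q : S.Q => ((q : S.C) : G)) e).symm
  · let F : Subgroup S.Q := (S.cn cC).toMonoidHom.eqLocus (MonoidHom.id S.Q)
    have hF : Nat.card F = 8 := h
    let ι : S.Q →* G := S.C.subtype.comp S.Q.subtype
    have hι : Function.Injective ι := S.C.subtype_injective.comp S.Q.subtype_injective
    rw [← hF, ← Subgroup.card_map_of_injective hι]
    refine Subgroup.card_dvd_of_le ?_
    rintro _ ⟨q, hq, rfl⟩
    refine mem_centralizer_singleton_iff.2 ?_
    have hq' : S.cn cC q = q := hq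
    have h' : cC * (q : S.C) * cC⁻¹ = (q : S.C) :=
      (S.cn_apply cC q).symm.trans (congrArg Subtype.val hq')
    exact (congrArg Subtype.val (mul_inv_eq_iff_eq_mul.1 h')).symm

include X in
theorem Central.card_180 : 180 ∣ Nat.card (centralizer ({Fr.c} : Set G)) := by
  obtain ⟨e⟩ := X.iso
  have hdisj : zpowers Fr.c ⊓ X.K = ⊥ := by
    rw [eq_bot_iff]
    rintro y ⟨hy, hyK⟩
    have h := a5_center (e ⟨y, hyK⟩) fun b => by
      obtain ⟨k, rfl⟩ := e.surjective b
      rw [← map_mul, ← map_mul]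
      obtain ⟨n, rfl⟩ := mem_zpowers_iff.1 hy
      exact congrArg e (Subtype.ext ((show Commute Fr.c (k : G) from X.c_K k.2).zpow_left n).eq)
    rw [map_eq_one_iff e e.injective] at h
    exact mem_bot.2 (congrArg Subtype.val h)
  have hnorm : X.K ≤ normalizer ((zpowers Fr.c : Subgroup G) : Set G) := by
    intro k hk
    rw [mem_normalizer_iff]
    intro y
    have hc : Commute k Fr.c := (show Commute Fr.c k from X.c_K hk).symm
    constructor
    · intro hy
      obtain ⟨n, rfl⟩ := mem_zpowers_iff.1 hy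
      rw [(hc.zpow_right n).eq, mul_inv_cancel_right]
      exact zpow_mem (mem_zpowers _) n
    · intro hy
      obtain ⟨n, hn⟩ := mem_zpowers_iff.1 hy
      refine mem_zpowers_iff.2 ⟨n, ?_⟩
      apply (MulAut.conj k).injective
      show k * Fr.c ^ n * k⁻¹ = k * y * k⁻¹
      rw [(hc.zpow_right n).eq, mul_inv_cancel_right, hn]
  have h180 : Nat.card ↥(zpowers Fr.c ⊔ X.K) = 180 := by
    rw [CfsgLib.Small.card_sup_of_normalizes hnorm hdisj, Nat.card_zpowers, c_order,
      X.card_K]
  rw [← h180]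
  exact Subgroup.card_dvd_of_le (sup_le (zpowers_le.2 (mem_centralizer_singleton_iff.2 rfl))
    fun k hk => mem_centralizer_singleton_iff.2 (X.c_K hk).symm)

include X in
theorem Central.not_sixteen : ¬ 16 ∣ Nat.card (centralizer ({Fr.c} : Set G)) := by
  classical
  intro h16
  haveI : Fact (Nat.Prime 2) := ⟨Nat.prime_two⟩
  obtain ⟨U, hU⟩ := Sylow.exists_subgroup_card_pow_prime 2 (n := 4)
    (show 2 ^ 4 ∣ Nat.card (centralizer ({Fr.c} : Set G)) from h16)
  let U' : Subgroup G := U.map (centralizer ({Fr.c} : Set G)).subtype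
  have hU' : Nat.card U' = 16 := by
    rw [Subgroup.card_map_of_injective (Subgroup.subtype_injective _), hU]
    norm_num
  have hUc : ∀ u ∈ U', u * Fr.c = Fr.c * u := by
    rintro _ ⟨u, -, rfl⟩
    exact mem_centralizer_singleton_iff.1 u.2
  have hUp : IsPGroup 2 U' := IsPGroup.of_card (n := 4) hU'
  haveI : Nontrivial U' := Finite.one_lt_card_iff_nontrivial.1 (by omega)
  haveI : Nontrivial (center U') := hUp.center_nontrivial
  obtain ⟨s₀, hs₀⟩ := exists_prime_orderOf_dvd_card' (G := center U') 2 (by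
    obtain ⟨k, hk⟩ := IsPGroup.iff_card.1 (hUp.to_subgroup (center U'))
    rw [hk]
    refine dvd_pow_self 2 fun h0 => ?_
    rw [h0, pow_zero] at hk
    have := Finite.one_lt_card (α := center U')
    omega)
  set s : G := ((s₀ : U') : G) with hsdef
  have hs : orderOf s = 2 := by rw [hsdef, Subgroup.orderOf_coe, Subgroup.orderOf_coe, hs₀]
  have hsU : s ∈ U' := (s₀ : U').2
  have hscen : ∀ u ∈ U', u * s = s * u := fun u hu =>
    congrArg Subtype.val (mem_center_iff.1 s₀.2 ⟨u, hu⟩)
  obtain ⟨v, hv⟩ := isConj_iff.1 (X.three_invol hs (hUc s hsU))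
  have hxo : orderOf (v * Fr.c * v⁻¹) = 3 := by
    rw [← c_order (Fr := Fr)]; exact (SemiconjBy.orderOf_eq v (by simp [SemiconjBy])).symm
  have hxz : v * Fr.c * v⁻¹ * S.z = S.z * (v * Fr.c * v⁻¹) := by
    rw [← hv, ← Four.conj_mul', ← Four.conj_mul', hUc s hsU]
  have h24 := card_fix_three hxo hxz
  have hle : U'.map (MulAut.conj v).toMonoidHom ≤
      S.C ⊓ centralizer ({v * Fr.c * v⁻¹} : Set G) := by
    rintro _ ⟨u, hu, rfl⟩
    refine Subgroup.mem_inf.2 ⟨(S.mem_C _).2 ?_, mem_centralizer_singleton_iff.2 ?_⟩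
    · rw [← hv]
      show v * u * v⁻¹ * (v * s * v⁻¹) = v * s * v⁻¹ * (v * u * v⁻¹)
      rw [← Four.conj_mul', ← Four.conj_mul', hscen u hu]
    · show v * u * v⁻¹ * (v * Fr.c * v⁻¹) = v * Fr.c * v⁻¹ * (v * u * v⁻¹)
      rw [← Four.conj_mul', ← Four.conj_mul', hUc u hu]
  have h1 := Subgroup.card_dvd_of_le hle
  rw [Subgroup.card_map_of_injective (MulAut.conj v).injective, hU'] at h1
  have h3 : 3 ∣ Nat.card ↥(S.C ⊓ centralizer ({v * Fr.c * v⁻¹} : Set G)) := by
    rw [← hxo, ← Subgroup.orderOf_mk _ (Subgroup.mem_inf.2 ⟨(S.mem_C _).2 hxz,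
      mem_centralizer_singleton_iff.2 rfl⟩ : v * Fr.c * v⁻¹ ∈
        S.C ⊓ centralizer ({v * Fr.c * v⁻¹} : Set G))]
    exact orderOf_dvd_natCard _
  have := Nat.le_of_dvd Nat.card_pos
    (Nat.Coprime.mul_dvd_of_dvd_of_dvd (by norm_num : Nat.Coprime 16 3) h1 h3)
  omega

include X in
theorem Central.not_twentyfive : ¬ 25 ∣ Nat.card (centralizer ({Fr.c} : Set G)) := by
  intro h25
  haveI : Fact (Nat.Prime 5) := ⟨by norm_num⟩
  obtain ⟨U, hU⟩ := Sylow.exists_subgroup_card_pow_prime 5 (n := 2)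
    (show 5 ^ 2 ∣ Nat.card (centralizer ({Fr.c} : Set G)) from h25)
  let U' : Subgroup G := U.map (centralizer ({Fr.c} : Set G)).subtype
  have hU' : Nat.card U' = 5 ^ 2 := by
    rw [Subgroup.card_map_of_injective (Subgroup.subtype_injective _), hU]
  obtain ⟨P, hP⟩ := (IsPGroup.of_card hU').exists_le_sylow
  have heq : U' = (P : Subgroup G) := Subgroup.eq_of_le_of_card_ge hP
    (by rw [hU', X.sylow_five_card P]; norm_num)
  have hc : Fr.c ∈ (P : Subgroup G) := by
    rw [← X.sylow_five_self P]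
    intro y hy
    rw [SetLike.mem_coe, ← heq] at hy
    obtain ⟨u, -, rfl⟩ := hy
    exact mem_centralizer_singleton_iff.1 u.2
  have := orderOf_dvd_natCard (⟨Fr.c, hc⟩ : (P : Subgroup G))
  rw [Subgroup.orderOf_mk, c_order, X.sylow_five_card P] at this
  norm_num at this

include X in
theorem Central.card_c : Nat.card (centralizer ({Fr.c} : Set G)) = 1080 := by
  classical
  haveI : Fact (Nat.Prime 5) := ⟨by norm_num⟩
  obtain ⟨f, hf, hfo⟩ := X.exists_five
  have hf1 : f ≠ 1 := fun h => by rw [h] at hfo; simp at hfo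
  have hf5 : f ^ 5 = 1 := by rw [← hfo, pow_orderOf_eq_one]
  set Cc := centralizer ({Fr.c} : Set G) with hCc
  have hcf : Fr.c * f = f * Fr.c := X.c_K hf
  have hfC : f ∈ Cc := mem_centralizer_singleton_iff.2 hcf.symm
  -- the order up to a factor of 21
  obtain ⟨y, hy⟩ : 360 ∣ Nat.card Cc := by
    have h1 := eight_dvd_c (Fr := Fr)
    have h2 := X.card_180
    have := Nat.lcm_dvd h1 h2
    simpa [Nat.lcm] using this
  have hG : 360 * y ∣ 604800 := by
    rw [← hy, ← X.card_G]
    exact Subgroup.card_subgroup_dvd_card _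
  have hy21 : y ∣ 21 := by
    have h1 : y ∣ 1680 :=
      Nat.dvd_of_mul_dvd_mul_left (by norm_num : 0 < 360) (by simpa using hG)
    have h2 : ¬ 2 ∣ y := fun ⟨k, hk⟩ => X.not_sixteen ⟨45 * k, by rw [← hCc, hy, hk]; ring⟩
    have h5 : ¬ 5 ∣ y := fun ⟨k, hk⟩ => X.not_twentyfive ⟨72 * k, by rw [← hCc, hy, hk]; ring⟩
    have hcop : Nat.Coprime y 80 := by
      rw [show 80 = 2 ^ 4 * 5 by norm_num]
      exact Nat.Coprime.mul_right (Nat.Coprime.pow_right 4
        ((Nat.prime_two.coprime_iff_not_dvd.2 h2).symm))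
        (((by norm_num : Nat.Prime 5).coprime_iff_not_dvd.2 h5).symm)
    exact hcop.dvd_of_dvd_mul_left (by simpa using h1)
  -- the Sylow 5-normaliser in `C(c)`
  have hQcard : Nat.card (zpowers (⟨f, hfC⟩ : Cc)) = 5 := by
    rw [Nat.card_zpowers, Subgroup.orderOf_mk, hfo]
  obtain ⟨Q, hQ⟩ := (IsPGroup.of_card (p := 5) (n := 1)
    (show Nat.card (zpowers (⟨f, hfC⟩ : Cc)) = 5 ^ 1 by rw [hQcard, pow_one])).exists_le_sylow
  have hcardQ : Nat.card (Q : Subgroup Cc) = 5 := by
    rw [CfsgLib.Small.card_sylow_eq 1 (72 * y) (by rw [hy]; ring) (fun h => by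
      have h5 := ((by norm_num : Nat.Prime 5).dvd_mul).1 h
      rcases h5 with h5 | h5
      · norm_num at h5
      · have := h5.trans hy21; norm_num at this) Q, pow_one]
  have hQeq : (Q : Subgroup Cc) = zpowers (⟨f, hfC⟩ : Cc) :=
    (Subgroup.eq_of_le_of_card_ge hQ (by rw [hcardQ, hQcard])).symm
  let A : Subgroup G := Cc ⊓ normalizer ((zpowers f : Subgroup G) : Set G)
  have hN : Nat.card (normalizer ((Q : Subgroup Cc) : Set Cc)) = Nat.card A := by
    have hmemz : ∀ (x : Cc), x ∈ (Q : Subgroup Cc) ↔ (x : G) ∈ zpowers f := by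
      intro x
      rw [hQeq]
      constructor
      · rintro ⟨n, rfl⟩; exact ⟨n, rfl⟩
      · rintro ⟨n, hn⟩; exact ⟨n, Subtype.ext hn⟩
    have hle : zpowers f ≤ Cc := zpowers_le.2 hfC
    have hmem : ∀ b : Cc, b ∈ normalizer ((Q : Subgroup Cc) : Set Cc) ↔
        (b : G) ∈ normalizer ((zpowers f : Subgroup G) : Set G) := by
      intro b
      constructor
      · intro hb
        rw [mem_normalizer_iff]
        intro x
        constructor
        · intro hx
          exact (hmemz _).1 ((mem_normalizer_iff.1 hb ⟨x, hle hx⟩).1 ((hmemz _).2 hx))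
        · intro hx
          have hxC : x ∈ Cc := by
            have := mul_mem (mul_mem (inv_mem b.2) (hle hx)) b.2
            simpa [mul_assoc] using this
          exact (hmemz ⟨x, hxC⟩).1 ((mem_normalizer_iff.1 hb ⟨x, hxC⟩).2 ((hmemz _).2 hx))
      · intro hb
        rw [mem_normalizer_iff]
        intro x
        rw [hmemz, hmemz]
        exact mem_normalizer_iff.1 hb (x : G)
    exact Nat.card_congr
      { toFun := fun b => ⟨(b : Cc), (b : Cc).2, (hmem _).1 b.2⟩
        invFun := fun b => ⟨⟨b.1, b.2.1⟩, (hmem _).2 b.2.2⟩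
        left_inv := fun b => rfl
        right_inv := fun b => rfl }
  -- `|A| = 30`
  have hC15 : Nat.card ↥(A ⊓ centralizer ({f} : Set G)) = 15 := by
    obtain ⟨π, hπ, hker, -⟩ := X.five_quot hf hfo
    have hcM : Fr.c ∈ centralizer ({f} : Set G) := mem_centralizer_singleton_iff.2 hcf
    have h3 : ∀ a : G, a ∈ zpowers f → a ^ 3 = 1 → a = 1 := by
      intro a ha h3
      obtain ⟨n, rfl⟩ := mem_zpowers_iff.1 ha
      have h5 : (f ^ n) ^ 5 = 1 := by
        rw [← zpow_natCast, ← zpow_mul, mul_comm, zpow_mul, zpow_natCast, hf5, one_zpow]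
      exact orderOf_eq_one_iff.1 (Nat.eq_one_of_dvd_one (by
        simpa using Nat.dvd_gcd (orderOf_dvd_of_pow_eq_one h3) (orderOf_dvd_of_pow_eq_one h5)))
    refine le_antisymm ?_ (Nat.le_of_dvd Nat.card_pos
      (Nat.Coprime.mul_dvd_of_dvd_of_dvd (m := 3) (n := 5) (by norm_num) ?_ ?_))
    · let F : Fin 3 × Fin 5 → G := fun p => Fr.c ^ p.1.val * f ^ p.2.val
      have hsub : ∀ b : ↥(A ⊓ centralizer ({f} : Set G)), ∃ p, F p = (b : G) := by
        rintro ⟨b, ⟨hbc, -⟩, hbf⟩
        let bM : centralizer ({f} : Set G) := ⟨b, hbf⟩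
        let cM : centralizer ({f} : Set G) := ⟨Fr.c, hcM⟩
        obtain ⟨i, hi⟩ := a5_centralizer_three (π cM)
          (by rw [← map_pow, show cM ^ 3 = 1 from Subtype.ext Fr.c_cube, map_one])
          (fun h => Fr.c_ne (h3 _ ((hker cM).1 h) Fr.c_cube)) (π bM)
          (by rw [← map_mul, ← map_mul]
              exact congrArg π (Subtype.ext (mem_centralizer_singleton_iff.1 hbc)))
        have hq : π ((cM ^ i.val)⁻¹ * bM) = 1 := by
          rw [map_mul, map_inv, map_pow, hi, inv_mul_cancel]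
        have hq' : (Fr.c ^ i.val)⁻¹ * b ∈ zpowers f := (hker _).1 hq
        obtain ⟨j, hj⟩ := mem_powers_iff_mem_zpowers.2 hq'
        refine ⟨(i, ⟨j % 5, Nat.mod_lt _ (by norm_num)⟩), ?_⟩
        show Fr.c ^ i.val * f ^ (j % 5) = b
        rw [← pow_eq_pow_mod j hf5, show f ^ j = (Fr.c ^ i.val)⁻¹ * b from hj, mul_inv_cancel_left]
      choose k hk using hsub
      have := Nat.card_le_card_of_injective k fun a b e => Subtype.ext (by rw [← hk a, ← hk b, e])
      simpa using this
    · have hm : Fr.c ∈ A ⊓ centralizer ({f} : Set G) := Subgroup.mem_inf.2 ⟨Subgroup.mem_inf.2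
        ⟨mem_centralizer_singleton_iff.2 rfl, by
          rw [mem_normalizer_iff]
          intro x
          have hc : Commute Fr.c f := hcf
          constructor
          · intro hx
            obtain ⟨n, rfl⟩ := mem_zpowers_iff.1 hx
            rw [(hc.zpow_right n).eq, mul_inv_cancel_right]
            exact zpow_mem (mem_zpowers _) n
          · intro hx
            obtain ⟨n, hn⟩ := mem_zpowers_iff.1 hx
            refine mem_zpowers_iff.2 ⟨n, ?_⟩
            apply (MulAut.conj Fr.c).injective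
            show Fr.c * f ^ n * Fr.c⁻¹ = Fr.c * x * Fr.c⁻¹
            rw [(hc.zpow_right n).eq, mul_inv_cancel_right, hn]⟩, hcM⟩
      rw [← c_order (Fr := Fr), ← Subgroup.orderOf_mk _ hm]
      exact orderOf_dvd_natCard _
    · have hm : f ∈ A ⊓ centralizer ({f} : Set G) := Subgroup.mem_inf.2
        ⟨Subgroup.mem_inf.2 ⟨hfC, le_normalizer (mem_zpowers f)⟩,
          mem_centralizer_singleton_iff.2 rfl⟩
      rw [← hfo, ← Subgroup.orderOf_mk _ hm]
      exact orderOf_dvd_natCard _
  have hA : Nat.card A = 30 := by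
    let fA : A := ⟨f, hfC, le_normalizer (mem_zpowers f)⟩
    have e := CfsgLib.Involutions.card_conjugates_mul fA
    rw [← card_inf_centralizer fA, hC15] at e
    let O := {b : A // IsConj fA b}
    have hle : Nat.card O ≤ 2 := by
      have hb : ∀ b : O, ((b.1 : A) : G) = f ∨ ((b.1 : A) : G) = f⁻¹ := by
        rintro ⟨b, hb⟩
        obtain ⟨a, rfl⟩ := isConj_iff.1 hb
        exact X.five_auto hf hfo ((mem_normalizer_iff.1 a.2.2 f).1 (mem_zpowers f))
      refine (Nat.card_le_card_of_injective (fun b : O => decide (((b.1 : A) : G) = f))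
        fun a b h => ?_).trans (by simp)
      refine Subtype.ext (Subtype.ext ?_)
      rcases hb a with ha | ha <;> rcases hb b with hb' | hb' <;> simp only [ha, hb'] at h ⊢ <;>
        simp_all
    have hge : 2 ≤ Nat.card O := by
      obtain ⟨e5⟩ := X.iso
      obtain ⟨k, hk⟩ := a5_inverter (e5 ⟨f, hf⟩) (by
        rw [← map_pow, map_eq_one_iff e5 e5.injective]; exact Subtype.ext hf5)
      obtain ⟨k, rfl⟩ := e5.surjective k
      rw [← map_inv, ← map_mul, ← map_mul, ← map_inv] at hk
      have hk' : (k : G) * f * (k : G)⁻¹ = f⁻¹ := congrArg Subtype.val (e5.injective hk)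
      have hkA : (k : G) ∈ A := Subgroup.mem_inf.2
        ⟨mem_centralizer_singleton_iff.2 (X.c_K k.2).symm, by
          rw [mem_normalizer_iff]
          intro x
          constructor
          · intro hx
            obtain ⟨n, rfl⟩ := mem_zpowers_iff.1 hx
            rw [← conj_zpow, hk']
            exact zpow_mem (inv_mem (mem_zpowers _)) n
          · intro hx
            obtain ⟨n, hn⟩ := mem_zpowers_iff.1 hx
            refine mem_zpowers_iff.2 ⟨-n, ?_⟩
            apply (MulAut.conj (k : G)).injective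
            show (k : G) * f ^ (-n) * (k : G)⁻¹ = (k : G) * x * (k : G)⁻¹
            rw [← conj_zpow, hk', inv_zpow', neg_neg, hn]⟩
      have hne : (⟨fA, IsConj.refl _⟩ : O) ≠
          ⟨(⟨k, hkA⟩ : A) * fA * (⟨k, hkA⟩ : A)⁻¹, isConj_iff.2 ⟨_, rfl⟩⟩ := by
        intro h
        have h' : f = (k : G) * f * (k : G)⁻¹ := congrArg (fun b : O => ((b.1 : A) : G)) h
        rw [hk'] at h'
        have h2 : f ^ 2 = 1 := by rw [sq]; nth_rw 2 [h']; exact mul_inv_cancel f
        have := orderOf_dvd_of_pow_eq_one h2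
        rw [hfo] at this
        norm_num at this
      haveI : Nontrivial O := ⟨⟨_, _, hne⟩⟩
      exact Finite.one_lt_card
    have hO : Nat.card {b : A // IsConj fA b} = 2 := le_antisymm hle hge
    rw [hO] at e
    omega
  have e := CfsgLib.Small.card_normalizer_mul Q
  rw [hN, hA, hy] at e
  have hmod := card_sylow_modEq_one 5 Cc
  unfold Nat.ModEq at hmod
  have hy3 : y = 3 := by
    have hle := Nat.le_of_dvd (by norm_num) hy21
    have h12 : Nat.card (Sylow 5 Cc) = 12 * y := by omega
    rw [h12] at hmod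
    interval_cases y <;> omega
  rw [hy, hy3]

end Frame

end CfsgLib.Small.JTwoType
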