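import Mathlib
import Cfsg.Agent.Lib.Small.JankoTwoThreeOrder

/-!
# Hall–Janko type: the Sylow 3-subgroup is extraspecial with normaliser of order 216
-/

set_option autoImplicit false
set_option linter.unusedSectionVars false

namespace CfsgLib.Small.JTwoType

open Subgroup
open scoped Pointwise commutatorElement

theorem card_map_conj {G : Type*} [Group G] (U : Subgroup G) (v : G) :
    Nat.card (U.map (MulAut.conj v).toMonoidHom) = Nat.card U :=
  Subgroup.card_map_of_injective (MulAut.conj v).injective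

namespace Frame

variable {G : Type*} [Group G] [Finite G] {S : Setup G} {Fr : Frame S} (X : Fr.Central)

/-- An element of `C(z)` inverting `c`. -/
theorem exists_c_inverter : ∃ j : G, j * Fr.c * j⁻¹ = Fr.c⁻¹ := by
  classical
  haveI : Fact (Nat.Prime 3) := ⟨Nat.prime_three⟩
  let cC : S.C := ⟨Fr.c, (S.mem_C _).2 Fr.c_z⟩
  have hc3 : cC ^ 3 = 1 := Subtype.ext Fr.c_cube
  have hc1 : cC ≠ 1 := fun h => Fr.c_ne (congrArg Subtype.val h)
  have hcQ : S.proj cC ≠ 1 := fun h => hc1 (by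
    have h4 : cC ^ 4 = 1 := congrArg Subtype.val (S.pow_four ⟨cC, (S.proj_eq_one _).1 h⟩)
    rwa [pow_succ, hc3, one_mul] at h4)
  have hinv : ∀ a : alternatingGroup (Fin 5), a ^ 3 = 1 → a ≠ 1 →
      ∃ k, k * a * k⁻¹ = a⁻¹ := fun a ha ha1 =>
    a5_conj_three a a⁻¹ ha ha1 (by rw [inv_pow, ha, inv_one]) (inv_ne_one.2 ha1)
  obtain ⟨a, ha⟩ := hinv (S.proj cC) (by rw [← map_pow, hc3, map_one]) hcQ
  obtain ⟨d, rfl⟩ := S.proj_surj a
  let W : Subgroup S.C := (zpowers (S.proj cC)).comap S.proj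
  have hW : Nat.card W = 96 := by
    let π : W →* alternatingGroup (Fin 5) := S.proj.comp W.subtype
    have e := Subgroup.card_mul_index π.ker
    rw [Subgroup.index_ker] at e
    have hr : π.range = zpowers (S.proj cC) := by
      ext y
      constructor
      · rintro ⟨b, rfl⟩; exact b.2
      · intro hy
        obtain ⟨b, rfl⟩ := S.proj_surj y
        exact ⟨⟨b, hy⟩, rfl⟩
    have hk : Nat.card π.ker = 32 := by
      have : π.ker = S.Q.subgroupOf W := by
        ext b
        exact S.proj_eq_one (b : S.C)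
      rw [this, Nat.card_congr (subgroupOfEquivOfLe (show S.Q ≤ W from fun q hq => by
        show S.proj q ∈ zpowers (S.proj cC)
        rw [(S.proj_eq_one q).2 hq]
        exact one_mem _)).toEquiv, S.card]
    rw [hr, hk, Nat.card_zpowers,
      orderOf_eq_prime (p := 3) (by rw [← map_pow, hc3, map_one]) hcQ] at e
    omega
  have hc'W : d * cC * d⁻¹ ∈ W := by
    show S.proj _ ∈ zpowers (S.proj cC)
    rw [map_mul, map_mul, map_inv, ha]
    exact inv_mem (mem_zpowers _)
  let c₁ : W := ⟨cC, mem_zpowers (S.proj cC)⟩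
  let c₂ : W := ⟨d * cC * d⁻¹, hc'W⟩
  have hsyl : ∀ b : W, orderOf b = 3 → ∀ R : Sylow 3 W, b ∈ (R : Subgroup W) →
      (R : Subgroup W) = zpowers b := by
    intro b hb R hR
    refine (Subgroup.eq_of_le_of_card_ge (zpowers_le.2 hR) ?_).symm
    rw [CfsgLib.Small.card_sylow_eq 1 32 (by rw [hW]; norm_num) (by norm_num) R, Nat.card_zpowers,
      hb, pow_one]
  have ho1 : orderOf c₁ = 3 := orderOf_eq_prime (Subtype.ext hc3)
    fun h => hc1 (congrArg Subtype.val h)
  have ho2 : orderOf c₂ = 3 := orderOf_eq_prime (Subtype.ext (by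
      show (d * cC * d⁻¹) ^ 3 = 1
      rw [conj_pow, hc3, mul_one, mul_inv_cancel]))
    fun h => hc1 (conj_eq_one_iff.1 (congrArg Subtype.val h :))
  obtain ⟨R₁, hR₁⟩ := (IsPGroup.of_card (p := 3) (n := 1)
    (show Nat.card (zpowers c₁) = 3 ^ 1 by rw [Nat.card_zpowers, ho1, pow_one])).exists_le_sylow
  obtain ⟨R₂, hR₂⟩ := (IsPGroup.of_card (p := 3) (n := 1)
    (show Nat.card (zpowers c₂) = 3 ^ 1 by rw [Nat.card_zpowers, ho2, pow_one])).exists_le_sylow
  obtain ⟨b, hb⟩ := MulAction.exists_smul_eq W R₂ R₁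
  have hmem : b * c₂ * b⁻¹ ∈ zpowers c₁ := by
    rw [← hsyl c₁ ho1 R₁ (hR₁ (mem_zpowers _)), ← hb, CfsgLib.Small.mem_smul_sylow]
    have : b⁻¹ * (b * c₂ * b⁻¹) * b = c₂ := by simp [mul_assoc]
    rw [this]
    exact hR₂ (mem_zpowers _)
  obtain ⟨i, hi⟩ := mem_powers_iff_mem_zpowers.2 hmem
  have hi' : cC ^ (i % 3) = (b : S.C) * (d * cC * d⁻¹) * (b : S.C)⁻¹ := by
    rw [← pow_eq_pow_mod i hc3]
    exact congrArg Subtype.val hi
  obtain ⟨m, hm⟩ := mem_zpowers_iff.1 (b.2 : S.proj (b : S.C) ∈ zpowers (S.proj cC))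
  have hp : S.proj cC ^ (i % 3) = (S.proj cC)⁻¹ := by
    rw [← map_pow, hi', map_mul, map_mul, map_inv, map_mul, map_mul, map_inv, ha, ← hm,
      ((Commute.refl (S.proj cC)).zpow_left m).inv_right.eq, mul_inv_cancel_right]
  refine ⟨((b : S.C) : G) * (d : G), ?_⟩
  have hi2 : i % 3 = 2 := by
    have hlt : i % 3 < 3 := Nat.mod_lt _ (by norm_num)
    interval_cases h : i % 3
    · exfalso
      rw [pow_zero] at hp
      exact hcQ (inv_eq_one.1 hp.symm)
    · exfalso
      rw [pow_one] at hp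
      have h2 : (S.proj cC) ^ 2 = 1 := by rw [sq]; nth_rw 2 [hp]; exact mul_inv_cancel _
      have h3 : (S.proj cC) ^ 3 = 1 := by rw [← map_pow, hc3, map_one]
      rw [pow_succ, h2, one_mul] at h3
      exact hcQ h3
    · rfl
  rw [hi2] at hi'
  have hG : ((b : S.C) : G) * ((d : G) * Fr.c * (d : G)⁻¹) * ((b : S.C) : G)⁻¹ = Fr.c ^ 2 :=
    (congrArg Subtype.val hi').symm
  calc ((b : S.C) : G) * (d : G) * Fr.c * (((b : S.C) : G) * (d : G))⁻¹
      = ((b : S.C) : G) * ((d : G) * Fr.c * (d : G)⁻¹) * ((b : S.C) : G)⁻¹ := by simp [mul_assoc]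
    _ = Fr.c ^ 2 := hG
    _ = Fr.c⁻¹ := eq_inv_of_mul_eq_one_left (by rw [← pow_succ, Fr.c_cube])

include X in
theorem Central.sylow_three_card (P : Sylow 3 G) : Nat.card (P : Subgroup G) = 27 := by
  haveI : Fact (Nat.Prime 3) := ⟨Nat.prime_three⟩
  rw [CfsgLib.Small.card_sylow_eq 3 22400 (by rw [X.card_G]; norm_num) (by norm_num) P]
  norm_num

include X in
theorem Central.exists_sylow_three : ∃ P : Sylow 3 G, Fr.c ∈ (P : Subgroup G) ∧
    Fr.w ∈ (P : Subgroup G) ∧ ∀ x ∈ (P : Subgroup G), x * Fr.c = Fr.c * x := by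
  haveI : Fact (Nat.Prime 3) := ⟨Nat.prime_three⟩
  set Cc := centralizer ({Fr.c} : Set G) with hCc
  let A9 := zpowers Fr.c ⊔ zpowers Fr.w
  have hle : A9 ≤ Cc := sup_le (zpowers_le.2 (mem_centralizer_singleton_iff.2 rfl))
    (zpowers_le.2 (mem_centralizer_singleton_iff.2 Fr.c_w.symm))
  obtain ⟨Q, hQ⟩ := (IsPGroup.of_card (p := 3) (n := 2) (show Nat.card (A9.subgroupOf Cc) = 3 ^ 2 by
    rw [Nat.card_congr (subgroupOfEquivOfLe hle).toEquiv, card_cw]; norm_num)).exists_le_sylow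
  have hQ27 : Nat.card ((Q : Subgroup Cc).map Cc.subtype) = 3 ^ 3 := by
    rw [Subgroup.card_map_of_injective Cc.subtype_injective,
      CfsgLib.Small.card_sylow_eq 3 40 (by rw [hCc, X.card_c]; norm_num) (by norm_num) Q]
  obtain ⟨P, hP⟩ := (IsPGroup.of_card hQ27).exists_le_sylow
  have heq : (Q : Subgroup Cc).map Cc.subtype = (P : Subgroup G) :=
    Subgroup.eq_of_le_of_card_ge hP (by rw [hQ27, X.sylow_three_card P]; norm_num)
  refine ⟨P, ?_, ?_, ?_⟩
  · rw [← heq]
    exact ⟨⟨Fr.c, hle (mem_sup_left (mem_zpowers _))⟩, hQ (mem_sup_left (mem_zpowers Fr.c)), rfl⟩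
  · rw [← heq]
    exact ⟨⟨Fr.w, hle (mem_sup_right (mem_zpowers _))⟩, hQ (mem_sup_right (mem_zpowers Fr.w)), rfl⟩
  · intro x hx
    rw [← heq] at hx
    obtain ⟨y, -, rfl⟩ := hx
    exact mem_centralizer_singleton_iff.1 y.2

include X in
theorem Central.sylow_three_extraspecial (P : Sylow 3 G) :
    Cfsg.IsExtraspecial 3 (P : Subgroup G) := by
  haveI : Fact (Nat.Prime 3) := ⟨Nat.prime_three⟩
  obtain ⟨P₀, -, hw, -⟩ := X.exists_sylow_three
  refine isExtraspecial_of_card_cube (by rw [X.sylow_three_card P]; norm_num) ?_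
  by_contra h
  push Not at h
  have hle : (P₀ : Subgroup G) ≤ centralizer ({Fr.w} : Set G) := by
    intro y hy
    have := congrArg ((Sylow.equiv P₀ P).symm) (h (Sylow.equiv P₀ P ⟨y, hy⟩)
      (Sylow.equiv P₀ P ⟨Fr.w, hw⟩))
    simp only [map_mul, MulEquiv.symm_apply_apply] at this
    exact mem_centralizer_singleton_iff.2 (congrArg Subtype.val this)
  have := Subgroup.card_dvd_of_le hle
  rw [X.sylow_three_card P₀, X.three_w.1] at this
  norm_num at this

include X in
/-- The facts about the Sylow 3-subgroup `P` containing `c` and `w`. -/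
theorem Central.three_facts (P : Sylow 3 G) (hc : Fr.c ∈ (P : Subgroup G))
    (hw : Fr.w ∈ (P : Subgroup G)) (hPc : ∀ x ∈ (P : Subgroup G), x * Fr.c = Fr.c * x) :
    (∀ x ∈ (P : Subgroup G), (∀ y ∈ (P : Subgroup G), x * y = y * x) → x ∈ zpowers Fr.c) ∧
    (P : Subgroup G) ⊓ centralizer ({Fr.w} : Set G) = zpowers Fr.c ⊔ zpowers Fr.w := by
  haveI : Fact (Nat.Prime 3) := ⟨Nat.prime_three⟩
  have hZ := (X.sylow_three_extraspecial P).2
  have hcZ : (⟨Fr.c, hc⟩ : (P : Subgroup G)) ∈ center (P : Subgroup G) :=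
    mem_center_iff.2 fun y => Subtype.ext (hPc y y.2)
  have heq : center (P : Subgroup G) = zpowers (⟨Fr.c, hc⟩ : (P : Subgroup G)) :=
    (Subgroup.eq_of_le_of_card_ge (zpowers_le.2 hcZ) (by
      rw [hZ, Nat.card_zpowers, Subgroup.orderOf_mk, c_order])).symm
  refine ⟨fun x hx hxc => ?_, ?_⟩
  · have h : (⟨x, hx⟩ : (P : Subgroup G)) ∈ center (P : Subgroup G) :=
      mem_center_iff.2 fun y => Subtype.ext (hxc y y.2).symm
    rw [heq] at h
    obtain ⟨n, hn⟩ := mem_zpowers_iff.1 h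
    exact ⟨n, congrArg Subtype.val hn⟩
  · refine (Subgroup.eq_of_le_of_card_ge (le_inf (sup_le (zpowers_le.2 hc) (zpowers_le.2 hw))
      (sup_le (zpowers_le.2 (mem_centralizer_singleton_iff.2 Fr.c_w))
        (zpowers_le.2 (mem_centralizer_singleton_iff.2 rfl)))) ?_).symm
    rw [card_cw]
    have h1 := Subgroup.card_dvd_of_le
      (inf_le_left : (P : Subgroup G) ⊓ centralizer ({Fr.w} : Set G) ≤ (P : Subgroup G))
    have h2 := Subgroup.card_dvd_of_le
      (inf_le_right : (P : Subgroup G) ⊓ centralizer ({Fr.w} : Set G) ≤ _)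
    rw [X.sylow_three_card P] at h1
    rw [X.three_w.1] at h2
    exact Nat.le_of_dvd (by norm_num) (by simpa using Nat.dvd_gcd h1 h2)

include X in
/-- Inside `C(w)` only `⟨c, w⟩` maps `c` to `c` or its inverse. -/
theorem Central.w_stab {y : G} (hyw : y * Fr.w = Fr.w * y)
    (hyc : y * Fr.c * y⁻¹ = Fr.c ∨ y * Fr.c * y⁻¹ = Fr.c⁻¹) :
    y ∈ zpowers Fr.c ⊔ zpowers Fr.w := by
  obtain ⟨i, r, hr, j, rfl⟩ := X.three_w.2 y hyw
  suffices r = 1 by
    subst this
    rw [mul_one]
    exact mul_mem (mem_sup_left (pow_mem (mem_zpowers _) _))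
      (mem_sup_right (pow_mem (mem_zpowers _) _))
  have hcw : Commute (Fr.w ^ j.val) Fr.c := (show Commute Fr.w Fr.c from Fr.c_w.symm).pow_left _
  have hci : Commute Fr.c (Fr.c ^ i.val) := (Commute.refl _).pow_right _
  have he : Fr.c ^ i.val * r * Fr.w ^ j.val * Fr.c * (Fr.c ^ i.val * r * Fr.w ^ j.val)⁻¹ =
      Fr.c ^ i.val * (r * Fr.c * r⁻¹) * (Fr.c ^ i.val)⁻¹ := by
    rw [mul_assoc _ (Fr.w ^ j.val) Fr.c, hcw.eq]
    simp [mul_assoc]
  have hback : ∀ a : G, Fr.c ^ i.val * (r * Fr.c * r⁻¹) * (Fr.c ^ i.val)⁻¹ = a →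
      Commute a (Fr.c ^ i.val) → r * Fr.c * r⁻¹ = a := by
    intro a h ha
    have h' := ha.inv_right
    calc r * Fr.c * r⁻¹ = (Fr.c ^ i.val)⁻¹ * a * Fr.c ^ i.val := by rw [← h]; simp [mul_assoc]
      _ = a := by rw [← h'.eq, inv_mul_cancel_right]
  rw [he] at hyc
  rcases hyc with h | h
  · have h' := hback _ h hci
    refine (three_cycle Fr.card_R (fun a ha => Fr.R_sq ha) Fr.t_mem_R Fr.t_ne_one Fr.c_cube
      (fun a ha => Fr.c_R ha) Fr.c_not_H).2 r hr ?_
    rw [mul_inv_eq_iff_eq_mul]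
    exact (mul_inv_eq_iff_eq_mul.1 h').symm
  · exfalso
    have h' := hback _ h hci.inv_left
    have hm := mul_mem hr (Fr.c_R (inv_mem hr))
    have e : r * (Fr.c * r⁻¹ * Fr.c⁻¹) = Fr.c⁻¹ * Fr.c⁻¹ := by rw [← h']; simp [mul_assoc]
    rw [e] at hm
    have h2 := Fr.R_sq hm
    have h4 : Fr.c⁻¹ ^ 4 = 1 := by
      rw [show 4 = 2 * 2 from rfl, pow_mul, sq (Fr.c⁻¹), h2]
    rw [inv_pow, inv_eq_one, pow_succ, Fr.c_cube, one_mul] at h4
    exact Fr.c_ne h4

include X in
/-- `|C(c) ∩ N(P)| = 108`. -/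
theorem Central.card_normalizer_c (P : Sylow 3 G) (hc : Fr.c ∈ (P : Subgroup G))
    (hw : Fr.w ∈ (P : Subgroup G)) (hPc : ∀ x ∈ (P : Subgroup G), x * Fr.c = Fr.c * x) :
    Nat.card ↥(centralizer ({Fr.c} : Set G) ⊓ normalizer ((P : Subgroup G) : Set G)) = 108 := by
  classical
  haveI : Fact (Nat.Prime 3) := ⟨Nat.prime_three⟩
  obtain ⟨hcen, hA9⟩ := X.three_facts P hc hw hPc
  obtain ⟨e⟩ := X.iso
  set Cc := centralizer ({Fr.c} : Set G) with hCc
  have hPC : (P : Subgroup G) ≤ Cc := fun x hx => mem_centralizer_singleton_iff.2 (hPc x hx)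
  have hKC : X.K ≤ Cc := fun k hk => mem_centralizer_singleton_iff.2 (X.c_K hk).symm
  let Q : Sylow 3 Cc := P.subtype hPC
  have hN : Nat.card (normalizer ((Q : Subgroup Cc) : Set Cc)) =
      Nat.card ↥(Cc ⊓ normalizer ((P : Subgroup G) : Set G)) := by
    have hmem : ∀ b : Cc, b ∈ normalizer ((Q : Subgroup Cc) : Set Cc) ↔
        (b : G) ∈ normalizer ((P : Subgroup G) : Set G) := by
      intro b
      constructor
      · intro hb
        rw [mem_normalizer_iff]
        intro x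
        constructor
        · intro hx
          exact ((mem_normalizer_iff.1 hb) ⟨x, hPC hx⟩).1 hx
        · intro hx
          have hxC : x ∈ Cc := by
            have := mul_mem (mul_mem (inv_mem b.2) (hPC hx)) b.2
            simpa [mul_assoc] using this
          exact ((mem_normalizer_iff.1 hb) ⟨x, hxC⟩).2 hx
      · intro hb
        rw [mem_normalizer_iff]
        intro x
        exact mem_normalizer_iff.1 hb (x : G)
    exact Nat.card_congr
      { toFun := fun b => ⟨(b : Cc), (b : Cc).2, (hmem _).1 b.2⟩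
        invFun := fun b => ⟨⟨b.1, b.2.1⟩, (hmem _).2 b.2.2⟩
        left_inv := fun b => rfl
        right_inv := fun b => rfl }
  have e1 := CfsgLib.Small.card_normalizer_mul Q
  rw [hN, hCc, X.card_c, ← hCc] at e1
  have hdvd : Nat.card (Sylow 3 Cc) ∣ 40 :=
    CfsgLib.Small.card_sylow_dvd 3 40 (by rw [hCc, X.card_c]; norm_num) (by norm_num)
  have hmod := card_sylow_modEq_one 3 Cc
  -- at least five Sylow subgroups
  have h5 : ¬ Nat.card (Sylow 3 Cc) ≤ 4 := by
    intro h4
    let φ : X.K →* Equiv.Perm (Sylow 3 Cc) :=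
      (MulAction.toPermHom Cc (Sylow 3 Cc)).comp (inclusion hKC)
    haveI : IsSimpleGroup (alternatingGroup (Fin 5)) := alternatingGroup.isSimpleGroup (by simp)
    have hsimp := (Subgroup.Normal.map (inferInstance : φ.ker.Normal) e.toMonoidHom
      e.surjective).eq_bot_or_eq_top
    rcases hsimp with h | h
    · rw [Subgroup.map_eq_bot_iff_of_injective _ e.injective] at h
      have hinj := (MonoidHom.ker_eq_bot_iff φ).1 h
      have hle := Nat.card_le_card_of_injective φ hinj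
      rw [X.card_K, Nat.card_perm] at hle
      have := Nat.factorial_le h4
      norm_num [Nat.factorial] at this
      omega
    · have htop : ∀ k : X.K, φ k = 1 := by
        intro k
        have hk : e k ∈ φ.ker.map e.toMonoidHom := h ▸ mem_top _
        obtain ⟨k', hk', he⟩ := hk
        rw [← e.injective he]
        exact hk'
      have hKN : ∀ k ∈ X.K, k ∈ normalizer ((P : Subgroup G) : Set G) := by
        intro k hk
        have h1 : (⟨k, hKC hk⟩ : Cc) • Q = Q := by
          have h2 : φ ⟨k, hk⟩ Q = Q := by rw [htop]; rfl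
          exact h2
        rw [Sylow.smul_subtype hPC] at h1
        exact Sylow.smul_eq_iff_mem_normalizer.1 (Sylow.subtype_injective h1)
      haveI : ((P : Subgroup G).subgroupOf X.K).Normal :=
        ⟨fun a ha k => (mem_normalizer_iff.1 (hKN k k.2) a).1 ha⟩
      rcases (Subgroup.Normal.map (inferInstance : ((P : Subgroup G).subgroupOf X.K).Normal)
          e.toMonoidHom e.surjective).eq_bot_or_eq_top with h' | h'
      · rw [Subgroup.map_eq_bot_iff_of_injective _ e.injective, Subgroup.eq_bot_iff_forall] at h'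
        exact w_ne_one (congrArg Subtype.val (h' ⟨Fr.w, X.w_mem⟩ hw))
      · have hle : X.K ≤ (P : Subgroup G) := by
          intro k hk
          obtain ⟨k', hk', he⟩ : e ⟨k, hk⟩ ∈ ((P : Subgroup G).subgroupOf X.K).map e.toMonoidHom :=
            h' ▸ mem_top _
          rw [e.injective he] at hk'
          exact hk'
        have := Subgroup.card_le_of_le hle
        rw [X.card_K, X.sylow_three_card P] at this
        omega
  -- `P` is not self-normalising in `C(c)`
  have h40 : Nat.card (Sylow 3 Cc) ≠ 40 := by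
    intro h40
    rw [h40] at e1
    let A := zpowers Fr.c ⊔ zpowers Fr.w
    let NA : Subgroup G := Cc ⊓ normalizer (A : Set G)
    have hPA : (P : Subgroup G) ≤ NA := by
      have key : ∀ p ∈ (P : Subgroup G), ∀ a ∈ A, p * a * p⁻¹ ∈ A := by
        intro p hp a ha
        have haP : a ∈ (P : Subgroup G) := (hA9.symm.le ha : a ∈ (P : Subgroup G) ⊓ _).1
        have hex := X.sylow_three_extraspecial P
        have hcm : ⁅(⟨p, hp⟩ : (P : Subgroup G)), ⟨a, haP⟩⁆ ∈ center (P : Subgroup G) :=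
          hex.1.2.2 ▸ Subgroup.commutator_mem_commutator (mem_top _) (mem_top _)
        have hpa : p * a * p⁻¹ * a⁻¹ ∈ (P : Subgroup G) :=
          mul_mem (mul_mem (mul_mem hp haP) (inv_mem hp)) (inv_mem haP)
        have hz := hcen _ hpa (fun y hy =>
          (congrArg Subtype.val (mem_center_iff.1 hcm ⟨y, hy⟩)).symm)
        have hz' : p * a * p⁻¹ * a⁻¹ ∈ A := mem_sup_left hz
        have := mul_mem hz' ha
        rwa [inv_mul_cancel_right] at this
      refine le_inf hPC fun p hp => ?_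
      rw [mem_normalizer_iff]
      intro a
      refine ⟨key p hp a, fun ha => ?_⟩
      have := key p⁻¹ (inv_mem hp) _ ha
      simpa [mul_assoc] using this
    -- an involution of `K` inverting `w`
    obtain ⟨k, hk⟩ : ∃ k : X.K, (k : G) * Fr.w * (k : G)⁻¹ = Fr.w⁻¹ := by
      have hw3 : e ⟨Fr.w, X.w_mem⟩ ^ 3 = 1 := by
        rw [← map_pow, map_eq_one_iff e e.injective]; exact Subtype.ext Fr.w_cube
      have hw1 : e ⟨Fr.w, X.w_mem⟩ ≠ 1 := fun h =>
        w_ne_one (congrArg Subtype.val ((map_eq_one_iff e e.injective).1 h))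
      obtain ⟨a, ha⟩ := a5_conj_three _ (e ⟨Fr.w, X.w_mem⟩)⁻¹ hw3 hw1
        (by rw [inv_pow, hw3, inv_one]) (inv_ne_one.2 hw1)
      obtain ⟨k, rfl⟩ := e.surjective a
      rw [← map_inv, ← map_mul, ← map_mul, ← map_inv] at ha
      exact ⟨k, congrArg Subtype.val (e.injective ha)⟩
    have hkc : Commute (k : G) Fr.c := (show Commute Fr.c (k : G) from X.c_K k.2).symm
    have hkA : ∀ a ∈ A, (k : G) * a * (k : G)⁻¹ ∈ A := by
      have hle : A ≤ A.comap (MulAut.conj (k : G)).toMonoidHom := sup_le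
        (zpowers_le.2 (by
          show (k : G) * Fr.c * (k : G)⁻¹ ∈ A
          rw [hkc.eq, mul_inv_cancel_right]
          exact mem_sup_left (mem_zpowers _)))
        (zpowers_le.2 (by
          show (k : G) * Fr.w * (k : G)⁻¹ ∈ A
          rw [hk]
          exact mem_sup_right (inv_mem (mem_zpowers _))))
      exact fun a ha => hle ha
    have hkNA : (k : G) ∈ NA := by
      refine Subgroup.mem_inf.2 ⟨hKC k.2, ?_⟩
      rw [mem_normalizer_iff]
      intro a
      refine ⟨hkA a, fun ha => ?_⟩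
      have hmap : A.map (MulAut.conj (k : G)).toMonoidHom = A := Subgroup.eq_of_le_of_card_ge
        (by rintro _ ⟨b, hb, rfl⟩; exact hkA b hb) (by rw [card_map_conj])
      obtain ⟨b, hb, hba⟩ := (hmap.symm ▸ ha : (k : G) * a * (k : G)⁻¹ ∈
        A.map (MulAut.conj (k : G)).toMonoidHom)
      rwa [← (MulAut.conj (k : G)).injective hba]
    have hwNA : Fr.w ∈ NA := hPA hw
    let wN : NA := ⟨Fr.w, hwNA⟩
    have hAle : A ≤ NA := le_trans (hA9.symm.le.trans inf_le_left) hPA
    have hC9 : Nat.card ↥(NA ⊓ centralizer ({Fr.w} : Set G)) = 9 := by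
      rw [← card_cw (Fr := Fr)]
      congr 1
      refine congrArg (fun U : Subgroup G => (U : Type _)) (le_antisymm ?_ ?_)
      · intro y hy
        refine X.w_stab (mem_centralizer_singleton_iff.1 hy.2) (Or.inl ?_)
        exact mul_inv_eq_iff_eq_mul.2 (mem_centralizer_singleton_iff.1 hy.1.1)
      · exact le_inf hAle (hA9.symm.le.trans inf_le_right)
    have e2 := CfsgLib.Involutions.card_conjugates_mul wN
    rw [← card_inf_centralizer wN, hC9] at e2
    have ho : Nat.card {y : NA // IsConj wN y} ≤ 6 := by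
      have hmem : ∀ y : {y : NA // IsConj wN y},
          ((y.1 : NA) : G) ∈ A ∧ ((y.1 : NA) : G) ∉ zpowers Fr.c := by
        rintro ⟨y, hy⟩
        obtain ⟨a, rfl⟩ := isConj_iff.1 hy
        refine ⟨((mem_normalizer_iff.1 a.2.2) _).1 (mem_sup_right (mem_zpowers Fr.w)), fun h => ?_⟩
        obtain ⟨n, hn⟩ := mem_zpowers_iff.1 h
        have hac : Commute ((a : NA) : G) Fr.c := mem_centralizer_singleton_iff.1 a.2.1
        have hwm : Fr.w ∈ zpowers Fr.c := by
          refine mem_zpowers_iff.2 ⟨n, ?_⟩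
          apply (MulAut.conj ((a : NA) : G)).injective
          show ((a : NA) : G) * Fr.c ^ n * ((a : NA) : G)⁻¹ =
            ((a : NA) : G) * Fr.w * ((a : NA) : G)⁻¹
          rw [(hac.zpow_right n).eq, mul_inv_cancel_right]
          exact hn
        exact w_ne_one (mem_bot.1 (c_inf_w (Fr := Fr) ▸ ⟨hwm, mem_zpowers Fr.w⟩ :
          Fr.w ∈ (⊥ : Subgroup G)))
      have e6 : Nat.card {y : A // (y : G) ∉ zpowers Fr.c} = 6 := by
        have e' := Nat.card_congr (Equiv.sumCompl fun y : A => (y : G) ∈ zpowers Fr.c)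
        rw [Nat.card_sum, card_cw] at e'
        have e3 : Nat.card {y : A // (y : G) ∈ zpowers Fr.c} = 3 := by
          rw [← c_order (Fr := Fr), ← Nat.card_zpowers]
          exact Nat.card_congr
            { toFun := fun y => ⟨y.1, y.2⟩
              invFun := fun y => ⟨⟨y.1, mem_sup_left y.2⟩, y.2⟩
              left_inv := fun y => rfl
              right_inv := fun y => rfl }
        omega
      rw [← e6]
      exact Nat.card_le_card_of_injective
        (fun y => (⟨⟨_, (hmem y).1⟩, (hmem y).2⟩ : {y : A // (y : G) ∉ zpowers Fr.c}))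
        fun a b h => Subtype.ext (Subtype.ext
          (congrArg (fun y : {y : A // (y : G) ∉ zpowers Fr.c} => (y.1 : G)) h :))
    -- `2` and `27` divide `|NA|`
    have h27 : 27 ∣ Nat.card NA := X.sylow_three_card P ▸ Subgroup.card_dvd_of_le hPA
    have h2 : 2 ∣ Nat.card NA := by
      by_contra hodd
      have hodd' : Odd (orderOf (⟨k, hkNA⟩ : NA)) :=
        Odd.of_dvd_nat (Nat.not_even_iff_odd.1 fun h => hodd (even_iff_two_dvd.1 h))
          (orderOf_dvd_natCard _)
      rw [Subgroup.orderOf_mk] at hodd'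
      -- an element of odd order conjugating `w` to `w⁻¹`
      have h2k : Commute ((k : G) ^ 2) Fr.w := by
        refine mul_inv_eq_iff_eq_mul.1 ?_
        calc (k : G) ^ 2 * Fr.w * ((k : G) ^ 2)⁻¹ = (k : G) * ((k : G) * Fr.w * (k : G)⁻¹) * (k : G)⁻¹ :=
              by simp [sq, mul_assoc]
          _ = Fr.w := by rw [hk, ← conj_inv, hk, inv_inv]
      obtain ⟨m, hm⟩ := hodd'
      have hpw : (k : G) = ((k : G) ^ 2) ^ (m + 1) := by
        rw [← pow_mul, show 2 * (m + 1) = orderOf (k : G) + 1 by omega, pow_succ,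
          pow_orderOf_eq_one, one_mul]
      have hcomm : Commute (k : G) Fr.w := hpw ▸ h2k.pow_left (m + 1)
      rw [hcomm.eq, mul_inv_cancel_right] at hk
      have hw2 : Fr.w ^ 2 = 1 := by rw [sq]; nth_rw 2 [hk]; exact mul_inv_cancel _
      have hw3 := Fr.w_cube
      rw [pow_succ, hw2, one_mul] at hw3
      exact w_ne_one hw3
    have h54 : Nat.card NA = 54 := by
      have := Nat.Coprime.mul_dvd_of_dvd_of_dvd (by norm_num : Nat.Coprime 2 27) h2 h27
      have hpos : 0 < Nat.card NA := Nat.card_pos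
      have := Nat.le_of_dvd hpos this
      nlinarith
    have hidx : ((P : Subgroup G).subgroupOf NA).index = 2 := by
      have e4 := Subgroup.card_mul_index ((P : Subgroup G).subgroupOf NA)
      rw [Nat.card_congr (subgroupOfEquivOfLe hPA).toEquiv, X.sylow_three_card P, h54] at e4
      omega
    haveI := Subgroup.normal_of_index_eq_two hidx
    have hle : NA ≤ Cc ⊓ normalizer ((P : Subgroup G) : Set G) :=
      le_inf inf_le_left ((Subgroup.normal_subgroupOf_iff_le_normalizer hPA).1 inferInstance)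
    have := Subgroup.card_le_of_le hle
    omega
  have hk10 : Nat.card (Sylow 3 Cc) = 10 := by
    have hle := Nat.le_of_dvd (by norm_num) hdvd
    unfold Nat.ModEq at hmod
    generalize Nat.card (Sylow 3 Cc) = n at hdvd hmod h5 h40 hle
    interval_cases n <;> omega
  rw [hk10] at e1
  omega

include X in
theorem Central.three_normalizer (P : Sylow 3 G) (hc : Fr.c ∈ (P : Subgroup G))
    (hw : Fr.w ∈ (P : Subgroup G)) (hPc : ∀ x ∈ (P : Subgroup G), x * Fr.c = Fr.c * x) :
    Nat.card (normalizer ((P : Subgroup G) : Set G)) = 216 ∧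
    ∀ x ∈ (P : Subgroup G), x ∉ zpowers Fr.c → IsConj x Fr.w := by
  classical
  haveI : Fact (Nat.Prime 3) := ⟨Nat.prime_three⟩
  obtain ⟨hcen, hA9⟩ := X.three_facts P hc hw hPc
  set N := normalizer ((P : Subgroup G) : Set G) with hN
  have hNP : ∀ n ∈ N, ∀ y ∈ (P : Subgroup G), n * y * n⁻¹ ∈ (P : Subgroup G) :=
    fun n hn y hy => (mem_normalizer_iff.1 hn y).1 hy
  have hNc : ∀ n ∈ N, n * Fr.c * n⁻¹ = Fr.c ∨ n * Fr.c * n⁻¹ = Fr.c⁻¹ := by
    intro n hn
    have hm : n * Fr.c * n⁻¹ ∈ zpowers Fr.c := by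
      refine hcen _ (hNP n hn _ hc) fun y hy => ?_
      have hy' := hNP _ (inv_mem hn) y hy
      rw [inv_inv] at hy'
      calc n * Fr.c * n⁻¹ * y = n * (Fr.c * (n⁻¹ * y * n)) * n⁻¹ := by simp [mul_assoc]
        _ = n * ((n⁻¹ * y * n) * Fr.c) * n⁻¹ := by rw [hPc _ hy']
        _ = y * (n * Fr.c * n⁻¹) := by simp [mul_assoc]
    obtain ⟨i, hi, hix⟩ := conj_pow_mem_zpowers c_order (by norm_num) hm
    interval_cases i
    · rw [pow_zero] at hix; exact absurd (conj_eq_one_iff.1 hix) Fr.c_ne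
    · rw [pow_one] at hix; exact Or.inl hix
    · exact Or.inr (hix.trans (eq_inv_of_mul_eq_one_left (by rw [← pow_succ, Fr.c_cube])))
  obtain ⟨j, hj⟩ := exists_c_inverter (Fr := Fr)
  obtain ⟨n, hn, hnc⟩ : ∃ n ∈ N, n * Fr.c * n⁻¹ = Fr.c⁻¹ := by
    set Cc := centralizer ({Fr.c} : Set G) with hCc
    have hPC : (P : Subgroup G) ≤ Cc := fun x hx => mem_centralizer_singleton_iff.2 (hPc x hx)
    have hQC : ((j • P : Sylow 3 G) : Subgroup G) ≤ Cc := by
      intro y hy
      rw [CfsgLib.Small.mem_smul_sylow] at hy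
      refine mem_centralizer_singleton_iff.2 ?_
      have h1 : Commute y (j * Fr.c * j⁻¹) := by
        show y * (j * Fr.c * j⁻¹) = j * Fr.c * j⁻¹ * y
        calc y * (j * Fr.c * j⁻¹) = j * ((j⁻¹ * y * j) * Fr.c) * j⁻¹ := by simp [mul_assoc]
          _ = j * (Fr.c * (j⁻¹ * y * j)) * j⁻¹ := by rw [hPc _ hy]
          _ = _ := by simp [mul_assoc]
      rw [hj] at h1
      have h2 := h1.inv_right
      rw [inv_inv] at h2
      exact h2.eq
    obtain ⟨m, hm⟩ := MulAction.exists_smul_eq Cc ((j • P).subtype hQC) (P.subtype hPC)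
    rw [Sylow.smul_subtype] at hm
    have hm' : m • (j • P) = P := Sylow.subtype_injective hm
    refine ⟨(m : G) * j, Sylow.smul_eq_iff_mem_normalizer.1 (by rw [mul_smul]; exact hm'), ?_⟩
    have hmc : Commute (m : G) Fr.c := mem_centralizer_singleton_iff.1 m.2
    calc (m : G) * j * Fr.c * ((m : G) * j)⁻¹ = (m : G) * (j * Fr.c * j⁻¹) * (m : G)⁻¹ := by
          simp [mul_assoc]
      _ = _ := by rw [hj, hmc.inv_right.eq, mul_inv_cancel_right]
  -- the order
  let cN : N := ⟨Fr.c, le_normalizer hc⟩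
  have e1 := CfsgLib.Involutions.card_conjugates_mul cN
  rw [← card_inf_centralizer cN, show N ⊓ centralizer ({((cN : N) : G)} : Set G) =
    centralizer ({Fr.c} : Set G) ⊓ N from inf_comm _ _, X.card_normalizer_c P hc hw hPc] at e1
  have hcne : Fr.c ≠ Fr.c⁻¹ := fun h => Fr.c_ne (by
    have h2 : Fr.c ^ 2 = 1 := by rw [sq]; nth_rw 2 [h]; exact mul_inv_cancel _
    have h3 := Fr.c_cube
    rwa [pow_succ, h2, one_mul] at h3)
  have ho : Nat.card {y : N // IsConj cN y} = 2 := by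
    have hb : ∀ y : {y : N // IsConj cN y}, ((y.1 : N) : G) = Fr.c ∨ ((y.1 : N) : G) = Fr.c⁻¹ := by
      rintro ⟨y, hy⟩
      obtain ⟨a, rfl⟩ := isConj_iff.1 hy
      exact hNc _ a.2
    rw [← Fintype.card_bool, ← Nat.card_eq_fintype_card (α := Bool)]
    refine Nat.card_congr (Equiv.ofBijective
      (fun y : {y : N // IsConj cN y} => decide (((y.1 : N) : G) = Fr.c)) ⟨fun a b h => ?_, ?_⟩)
    · refine Subtype.ext (Subtype.ext ?_)
      rcases hb a with ha | ha <;> rcases hb b with hb' | hb' <;>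
        simp only [ha, hb'] at h ⊢ <;> simp [hcne.symm] at h
    · intro b
      cases b
      · refine ⟨⟨(⟨n, hn⟩ : N) * cN * (⟨n, hn⟩ : N)⁻¹, isConj_iff.2 ⟨_, rfl⟩⟩, ?_⟩
        show decide (n * Fr.c * n⁻¹ = Fr.c) = false
        rw [decide_eq_false_iff_not, hnc]
        exact hcne.symm
      · exact ⟨⟨cN, IsConj.refl _⟩, by simp [cN]⟩
  rw [ho] at e1
  have h216 : Nat.card N = 216 := by omega
  refine ⟨h216, fun x hx hxc => ?_⟩
  -- the class of `w`
  let wN : N := ⟨Fr.w, le_normalizer hw⟩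
  have e2 := CfsgLib.Involutions.card_conjugates_mul wN
  have hC9 : Nat.card ↥(N ⊓ centralizer ({Fr.w} : Set G)) = 9 := by
    rw [← card_cw (Fr := Fr)]
    congr 1
    refine congrArg (fun U : Subgroup G => (U : Type _)) (le_antisymm ?_ ?_)
    · exact fun y hy => X.w_stab (mem_centralizer_singleton_iff.1 hy.2) (hNc y hy.1)
    · rw [← hA9]
      exact inf_le_inf_right _ le_normalizer
  rw [← card_inf_centralizer wN, hC9, h216] at e2
  have e3 : Nat.card {y : (P : Subgroup G) // (y : G) ∉ zpowers Fr.c} = 24 := by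
    have e' := Nat.card_congr (Equiv.sumCompl fun y : (P : Subgroup G) => (y : G) ∈ zpowers Fr.c)
    rw [Nat.card_sum, X.sylow_three_card P] at e'
    have e4 : Nat.card {y : (P : Subgroup G) // (y : G) ∈ zpowers Fr.c} = 3 := by
      refine Eq.trans (Nat.card_congr (β := zpowers Fr.c) ?_) ((Nat.card_zpowers _).trans c_order)
      exact
        { toFun := fun y => ⟨y.1, y.2⟩
          invFun := fun y => ⟨⟨y.1, (zpowers_le.2 hc) y.2⟩, y.2⟩
          left_inv := fun y => rfl
          right_inv := fun y => rfl }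
    omega
  have hmem : ∀ y : {y : N // IsConj wN y},
      ((y.1 : N) : G) ∈ (P : Subgroup G) ∧ ((y.1 : N) : G) ∉ zpowers Fr.c := by
    rintro ⟨y, hy⟩
    obtain ⟨a, rfl⟩ := isConj_iff.1 hy
    refine ⟨hNP _ a.2 _ hw, fun h => ?_⟩
    obtain ⟨m, hm⟩ := mem_zpowers_iff.1 h
    have hm' : Fr.c ^ m = (a : G) * Fr.w * (a : G)⁻¹ := hm
    have hwm : Fr.w ∈ zpowers Fr.c := by
      have ha := hNc _ (inv_mem a.2)
      rw [inv_inv] at ha
      have hb : (a : G)⁻¹ * Fr.c * (a : G) ∈ zpowers Fr.c := by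
        rcases ha with h' | h' <;> rw [h']
        exacts [mem_zpowers _, inv_mem (mem_zpowers _)]
      have e5 : Fr.w = ((a : G)⁻¹ * Fr.c * (a : G)) ^ m := by
        conv_rhs => rw [show (a : G)⁻¹ * Fr.c * (a : G) = (a : G)⁻¹ * Fr.c * ((a : G)⁻¹)⁻¹ by
          rw [inv_inv], conj_zpow, hm', inv_inv]
        simp [mul_assoc]
      rw [e5]
      exact zpow_mem hb m
    exact w_ne_one (mem_bot.1 (c_inf_w (Fr := Fr) ▸ ⟨hwm, mem_zpowers Fr.w⟩ :
      Fr.w ∈ (⊥ : Subgroup G)))
  let F : {y : N // IsConj wN y} → {y : (P : Subgroup G) // (y : G) ∉ zpowers Fr.c} :=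
    fun y => ⟨⟨_, (hmem y).1⟩, (hmem y).2⟩
  have hF : Function.Injective F := fun a b h => Subtype.ext (Subtype.ext
    (congrArg (fun y : {y : (P : Subgroup G) // (y : G) ∉ zpowers Fr.c} => (y.1 : G)) h :))
  obtain ⟨⟨y, hy⟩, he⟩ := ((Nat.bijective_iff_injective_and_card F).2
    ⟨hF, by rw [e3]; omega⟩).2 ⟨⟨x, hx⟩, hxc⟩
  obtain ⟨a, rfl⟩ := isConj_iff.1 hy
  have he' : (a : G) * Fr.w * (a : G)⁻¹ = x :=
    congrArg (fun y : {y : (P : Subgroup G) // (y : G) ∉ zpowers Fr.c} => (y.1 : G)) he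
  exact (isConj_iff.2 ⟨(a : G), he'⟩).symm

include X in
/-- Every element of order three is conjugate to `c` or to `w`. -/
theorem Central.three_classes {x : G} (hx : orderOf x = 3) : IsConj x Fr.c ∨ IsConj x Fr.w := by
  haveI : Fact (Nat.Prime 3) := ⟨Nat.prime_three⟩
  obtain ⟨P, hc, hw, hPc⟩ := X.exists_sylow_three
  obtain ⟨-, hcl⟩ := X.three_normalizer P hc hw hPc
  obtain ⟨R, hR⟩ := (IsPGroup.of_card (p := 3) (n := 1)
    (show Nat.card (zpowers x) = 3 ^ 1 by rw [Nat.card_zpowers, hx, pow_one])).exists_le_sylow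
  obtain ⟨u, hu⟩ := MulAction.exists_smul_eq G R P
  have hxP : u * x * u⁻¹ ∈ (P : Subgroup G) := by
    rw [← hu, CfsgLib.Small.mem_smul_sylow]
    have : u⁻¹ * (u * x * u⁻¹) * u = x := by simp [mul_assoc]
    rw [this]
    exact hR (mem_zpowers x)
  have hconj : IsConj x (u * x * u⁻¹) := isConj_iff.2 ⟨u, rfl⟩
  by_cases h : u * x * u⁻¹ ∈ zpowers Fr.c
  · left
    obtain ⟨m, hm⟩ := mem_powers_iff_mem_zpowers.2 h
    have hm' : Fr.c ^ (m % 3) = u * x * u⁻¹ := by rw [← pow_eq_pow_mod m Fr.c_cube]; exact hm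
    have hlt : m % 3 < 3 := Nat.mod_lt _ (by norm_num)
    interval_cases hmm : m % 3
    · rw [pow_zero] at hm'
      rw [conj_eq_one_iff.1 hm'.symm] at hx
      simp at hx
    · rw [pow_one] at hm'
      exact hm'.symm ▸ hconj
    · obtain ⟨j, hj⟩ := exists_c_inverter (Fr := Fr)
      refine hconj.trans (isConj_iff.2 ⟨j, ?_⟩)
      rw [← hm', eq_inv_of_mul_eq_one_left
        (show Fr.c ^ 2 * Fr.c = 1 by rw [← pow_succ, Fr.c_cube]), ← conj_inv, hj, inv_inv]
  · exact Or.inr (hconj.trans (hcl _ hxP h))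

include X in
theorem Central.card_normalizer_three (P : Sylow 3 G) :
    Nat.card (normalizer ((P : Subgroup G) : Set G)) = 216 := by
  haveI : Fact (Nat.Prime 3) := ⟨Nat.prime_three⟩
  obtain ⟨P₀, hc, hw, hPc⟩ := X.exists_sylow_three
  have e1 := CfsgLib.Small.card_normalizer_mul P
  have e2 := CfsgLib.Small.card_normalizer_mul P₀
  rw [(X.three_normalizer P₀ hc hw hPc).1] at e2
  have hpos : 0 < Nat.card (Sylow 3 G) := Nat.card_pos
  nlinarith

end Frame

end CfsgLib.Small.JTwoType
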