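import Mathlib
import Cfsg.Agent.Lib.Small.JankoTwoThreeSylow

/-!
# Hall–Janko type: the Sylow 7-normaliser is a non-abelian group of order 42
-/

set_option autoImplicit false
set_option linter.unusedSectionVars false

namespace CfsgLib.Small.JTwoType

open Subgroup
open scoped Pointwise

namespace Frame

variable {G : Type*} [Group G] [Finite G] {S : Setup G} {Fr : Frame S} (X : Fr.Central)

include X in
theorem Central.sylow_seven_card (P : Sylow 7 G) : Nat.card (P : Subgroup G) = 7 := by
  haveI : Fact (Nat.Prime 7) := ⟨by norm_num⟩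
  rw [CfsgLib.Small.card_sylow_eq 1 86400 (by rw [X.card_G]; norm_num) (by norm_num) P]
  norm_num

include X in
/-- An element of order seven is centralised by no element of order 2, 3 or 5. -/
theorem Central.seven_alone {d y : G} (hd : orderOf d = 7) (hy : y * d = d * y) {p : ℕ}
    (hyp : orderOf y = p) (hp : p = 2 ∨ p = 3 ∨ p = 5) : False := by
  classical
  haveI : Fact (Nat.Prime 5) := ⟨by norm_num⟩
  have key : ∀ {a : G} {n : ℕ}, IsConj y a → Nat.card (centralizer ({a} : Set G)) = n →
      7 ∣ n := by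
    intro a n ha hn
    obtain ⟨v, hv⟩ := isConj_iff.1 ha
    have hm : v * d * v⁻¹ ∈ centralizer ({a} : Set G) := by
      refine mem_centralizer_singleton_iff.2 ?_
      rw [← hv, ← Four.conj_mul', ← Four.conj_mul', hy]
    have := orderOf_dvd_natCard (⟨_, hm⟩ : centralizer ({a} : Set G))
    rw [Subgroup.orderOf_mk, hn, show orderOf (v * d * v⁻¹) = 7 by
      rw [← hd]; exact (SemiconjBy.orderOf_eq v (by simp [SemiconjBy])).symm] at this
    exact this
  rcases hp with rfl | rfl | rfl
  · rcases S.classes Fr.t_sq Fr.t_not y hyp with h | h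
    · have := key h (show Nat.card (centralizer ({S.z} : Set G)) = 1920 from S.card_C)
      norm_num at this
    · have h240 : Nat.card Fr.H = 240 := by rw [X.order.1, X.card_K]
      have := key h h240
      norm_num at this
  · rcases X.three_classes hyp with h | h
    · have := key h X.card_c
      norm_num at this
    · have := key h X.three_w.1
      norm_num at this
  · obtain ⟨f, hf, hfo⟩ := X.exists_five
    obtain ⟨P, hP⟩ := (IsPGroup.of_card (p := 5) (n := 1)
      (show Nat.card (zpowers f) = 5 ^ 1 by rw [Nat.card_zpowers, hfo, pow_one])).exists_le_sylow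
    obtain ⟨g, hgP, hgo, hgz⟩ := X.exists_fixZ P
    obtain ⟨R, hR⟩ := (IsPGroup.of_card (p := 5) (n := 1)
      (show Nat.card (zpowers y) = 5 ^ 1 by rw [Nat.card_zpowers, hyp, pow_one])).exists_le_sylow
    obtain ⟨u, hu⟩ := MulAction.exists_smul_eq G R P
    have hyP : u * y * u⁻¹ ∈ (P : Subgroup G) := by
      rw [← hu, CfsgLib.Small.mem_smul_sylow]
      have : u⁻¹ * (u * y * u⁻¹) * u = y := by simp [mul_assoc]
      rw [this]
      exact hR (mem_zpowers y)
    have hy1 : y ≠ 1 := fun h => by rw [h] at hyp; simp at hyp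
    obtain ⟨v, hv⟩ := X.five_classes hf hfo P (hP (mem_zpowers f)) hgP hgo hgz hyP
      fun h => hy1 (conj_eq_one_iff.1 h)
    have hne : v * (u * y * u⁻¹) * v⁻¹ ≠ 1 := fun h =>
      hy1 (conj_eq_one_iff.1 (conj_eq_one_iff.1 h))
    have hd' : orderOf ((v * u) * d * (v * u)⁻¹) = 7 := by
      rw [← hd]; exact (SemiconjBy.orderOf_eq (v * u) (by simp [SemiconjBy, mul_assoc])).symm
    have hcomm : ∀ a : G, orderOf a = 5 → v * (u * y * u⁻¹) * v⁻¹ ∈ zpowers a →
        (v * u) * d * (v * u)⁻¹ * a = a * ((v * u) * d * (v * u)⁻¹) := by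
      intro a ha hm
      obtain ⟨n, hn⟩ := mem_zpowers_iff.1 (mem_zpowers_symm (by norm_num) ha hm hne)
      have h1 : Commute ((v * u) * d * (v * u)⁻¹) (v * (u * y * u⁻¹) * v⁻¹) := by
        show _ * _ = _ * _
        rw [show v * (u * y * u⁻¹) * v⁻¹ = (v * u) * y * (v * u)⁻¹ by simp [mul_assoc],
          ← Four.conj_mul', ← Four.conj_mul', hy]
      rw [← hn]
      exact (h1.zpow_right n).eq
    rcases hv with h | h
    · obtain ⟨-, -, -, hc⟩ := X.five_quot hf hfo
      have hm : (v * u) * d * (v * u)⁻¹ ∈ centralizer ({f} : Set G) :=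
        mem_centralizer_singleton_iff.2 (hcomm f hfo h)
      have := orderOf_dvd_natCard (⟨_, hm⟩ : centralizer ({f} : Set G))
      rw [Subgroup.orderOf_mk, hd', hc] at this
      norm_num at this
    · exact X.fixZ_small hgo hgz (Or.inr hd') (hcomm g hgo h)

include X in
theorem Central.seven (P : Sylow 7 G) : centralizer ((P : Subgroup G) : Set G) = (P : Subgroup G) ∧
    Nat.card (normalizer ((P : Subgroup G) : Set G)) = 42 ∧
    ¬ IsMulCommutative (normalizer ((P : Subgroup G) : Set G)) := by
  classical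
  haveI : Fact (Nat.Prime 7) := ⟨by norm_num⟩
  have h7 := X.sylow_seven_card P
  haveI : IsCyclic (P : Subgroup G) := isCyclic_of_prime_card h7
  obtain ⟨⟨d, hdP⟩, hd⟩ := exists_prime_orderOf_dvd_card' (G := (P : Subgroup G)) 7 (by rw [h7])
  rw [Subgroup.orderOf_mk] at hd
  set C := centralizer ((P : Subgroup G) : Set G) with hC
  have hPC : (P : Subgroup G) ≤ C := fun y hy x hx => by
    have := (IsCyclic.isMulCommutative (α := (P : Subgroup G))).is_comm.comm
      (⟨x, hx⟩ : (P : Subgroup G)) ⟨y, hy⟩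
    exact congrArg Subtype.val this
  have hC7 : Nat.card C = 7 := by
    have hdvdG : Nat.card C ∣ 7 * 86400 := by
      have := Subgroup.card_subgroup_dvd_card C
      rwa [X.card_G, show 604800 = 7 * 86400 from rfl] at this
    have h7C : 7 ∣ Nat.card C := h7 ▸ Subgroup.card_dvd_of_le hPC
    have hnone : ∀ p, p.Prime → p = 2 ∨ p = 3 ∨ p = 5 → ¬ p ∣ Nat.card C := by
      intro p hp hcase hdvd
      haveI : Fact p.Prime := ⟨hp⟩
      obtain ⟨⟨y, hyC⟩, hy⟩ := exists_prime_orderOf_dvd_card' p hdvd
      rw [Subgroup.orderOf_mk] at hy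
      exact X.seven_alone hd (hyC d hdP).symm hy hcase
    obtain ⟨k, hk⟩ := h7C
    rw [hk] at hdvdG ⊢
    have hk' : k ∣ 86400 := Nat.dvd_of_mul_dvd_mul_left (by norm_num) hdvdG
    have hcop : Nat.Coprime k 86400 := by
      rw [show 86400 = 2 ^ 7 * 3 ^ 3 * 5 ^ 2 by norm_num]
      have h : ∀ p, p.Prime → p = 2 ∨ p = 3 ∨ p = 5 → ∀ n, Nat.Coprime k (p ^ n) := fun p hp hc n =>
        Nat.Coprime.pow_right n ((hp.coprime_iff_not_dvd.2 fun hpk =>
          hnone p hp hc (hk ▸ Dvd.dvd.mul_left hpk 7)).symm)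
      exact Nat.Coprime.mul_right (Nat.Coprime.mul_right (h 2 Nat.prime_two (Or.inl rfl) 7)
        (h 3 Nat.prime_three (Or.inr (Or.inl rfl)) 3)) (h 5 (by norm_num) (Or.inr (Or.inr rfl)) 2)
    rw [Nat.eq_one_of_dvd_coprimes hcop (dvd_refl k) hk', mul_one]
  have hCP : C = (P : Subgroup G) :=
    (Subgroup.eq_of_le_of_card_ge hPC (by rw [hC7, h7])).symm
  set N := normalizer ((P : Subgroup G) : Set G) with hN
  have hN42 : Nat.card N = 42 := by
    let φ : N →* MulAut (P : Subgroup G) := (P : Subgroup G).normalizerMonoidHom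
    have hker : φ.ker = C.subgroupOf N := Subgroup.normalizerMonoidHom_ker _
    have hCN : C ≤ N := by rw [hCP]; exact le_normalizer
    have e := Subgroup.card_mul_index φ.ker
    rw [Subgroup.index_ker, hker, Nat.card_congr (subgroupOfEquivOfLe hCN).toEquiv, hC7] at e
    have hr : Nat.card φ.range ∣ 6 := by
      have h := Subgroup.card_subgroup_dvd_card φ.range
      rw [IsCyclic.card_mulAut, h7] at h
      exact h.trans (dvd_of_eq (by decide))
    have e2 := CfsgLib.Small.card_normalizer_mul P
    rw [← hN, ← e, X.card_G] at e2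
    have hmod := card_sylow_modEq_one 7 G
    unfold Nat.ModEq at hmod
    rw [← e]
    have hle := Nat.le_of_dvd (by norm_num) hr
    generalize Nat.card φ.range = r at *
    generalize Nat.card (Sylow 7 G) = n at *
    have hr0 : r ≠ 0 := fun h => by subst h; norm_num at hr
    interval_cases r <;> omega
  refine ⟨hCP, hN42, fun hcomm => ?_⟩
  have hle : N ≤ C := fun y hy x hx => by
    exact congrArg Subtype.val
      (hcomm.is_comm.comm (⟨x, le_normalizer hx⟩ : N) ⟨y, hy⟩)
  have := Subgroup.card_le_of_le hle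
  omega

end Frame

end CfsgLib.Small.JTwoType
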