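import Cfsg.Agent.Lib.Small.JankoTwoCount
import Cfsg.Agent.Lib.Involutions.ZStar.Main
import Cfsg.Agent.Lib.Involutions.Isolated

/-!
# `z` is not weakly closed in `Q` in a simple group with this involution centraliser and two classes
-/

set_option autoImplicit false
set_option linter.unusedSectionVars false

namespace CfsgLib.Small.JTwoType

open Subgroup

variable {G : Type*} [Group G] [Finite G]

theorem Pre.weak_of_simple [IsSimpleGroup G] (S : Pre G) :
    ∃ g : G, (∃ hq : g * S.z * g⁻¹ ∈ centralizer ({S.z} : Set G),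
      (⟨g * S.z * g⁻¹, hq⟩ : centralizer ({S.z} : Set G)) ∈ S.Q) ∧ g * S.z * g⁻¹ ≠ S.z := by
  classical
  haveI : Fact (Nat.Prime 2) := ⟨Nat.prime_two⟩
  by_contra hweak
  push Not at hweak
  -- a conjugate of `z` in `Q` is `z`
  have hQz : ∀ q : S.Q, IsConj S.z ((q : S.C) : G) → ((q : S.C) : G) = S.z := by
    intro q hq
    obtain ⟨g, hg⟩ := isConj_iff.1 hq
    have hC : g * S.z * g⁻¹ ∈ centralizer ({S.z} : Set G) := hg ▸ (q : S.C).2
    have hm : (⟨g * S.z * g⁻¹, hC⟩ : S.C) ∈ S.Q := by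
      rw [show (⟨g * S.z * g⁻¹, hC⟩ : S.C) = q from Subtype.ext hg]
      exact q.2
    exact hg.symm.trans (hweak g ⟨hC, hm⟩)
  -- a conjugate of `z` outside `Q`
  obtain ⟨y, hyz, hy, hyQ⟩ : ∃ y : S.C, IsConj S.z (y : G) ∧ y ^ 2 = 1 ∧ y ∉ S.Q := by
    by_contra hno
    push Not at hno
    have hiso : Cfsg.IsIsolatedInvolution S.z := by
      refine ⟨S.ord, fun g hg => ?_⟩
      have hC : g * S.z * g⁻¹ ∈ S.C := (S.mem_C _).2 hg.eq.symm
      exact hweak g ⟨hC, hno ⟨_, hC⟩ (isConj_iff.2 ⟨g, rfl⟩) (Subtype.ext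
        (JTwoOrder.sq_of_isConj S.ord (isConj_iff.2 ⟨g, rfl⟩)))⟩
    have hcore : Cfsg.oddCore G = ⊥ := by
      haveI hn : (Cfsg.oddCore G).Normal := Cfsg.pPrimeCore_normal 2 G
      refine hn.eq_bot_or_eq_top.resolve_right fun htop => ?_
      have hodd := CfsgLib.Base.odd_card_oddCore G
      rw [htop, card_top] at hodd
      have h2 : 2 ∣ Nat.card G := S.ord ▸ orderOf_dvd_natCard S.z
      exact (Nat.not_even_iff_odd.2 hodd) (even_iff_two_dvd.2 h2)
    have hcen : ∀ x : G, x ∈ S.C := fun x => (S.mem_C x).2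
      (CfsgLib.Involutions.ZStar.commute_of_centralModCore hcore
        (CfsgLib.Involutions.ZStar.centralModCore hiso) x).eq.symm
    have hC : S.C = ⊤ := eq_top_iff.2 fun x _ => hcen x
    have hn : (zpowers S.z).Normal := ⟨fun a ha g => by
      obtain ⟨k, rfl⟩ := mem_zpowers_iff.1 ha
      rw [((show Commute g S.z from (S.mem_C g).1 (hcen g)).zpow_right k).eq, mul_inv_cancel_right]
      exact ⟨k, rfl⟩⟩
    rcases hn.eq_bot_or_eq_top with h | h
    · exact S.z_ne_one (zpowers_eq_bot.1 h)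
    · have e := Nat.card_zpowers S.z
      rw [h, card_top, S.ord] at e
      have h1 : Nat.card S.C = Nat.card G := by rw [hC, card_top]
      rw [S.card_C, e] at h1
      omega
  -- a noncentral involution of `Q` fixed by `y`
  obtain ⟨u, hu, huy, huc⟩ : ∃ u : S.Q, u ^ 2 = 1 ∧ S.cn y u = u ∧ u ∉ center S.Q := by
    by_contra hno
    push Not at hno
    have h4 := (S.outer_counts hy hyQ).2.1
    have hle : Nat.card {q : S.Q // q ^ 2 = 1 ∧ S.cn y q = q} ≤ Nat.card (center S.Q) :=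
      Nat.card_le_card_of_injective (fun q => ⟨q.1, hno q.1 q.2.1 q.2.2⟩) fun a b h =>
        Subtype.ext (congrArg (fun c : center S.Q => (c : S.Q)) h)
    rw [h4, S.extra.2] at hle
    omega
  have hu2 : (u : S.C) ^ 2 = 1 := congrArg Subtype.val hu
  have hcomm : (u : S.C) * y = y * u := by
    have h := congrArg Subtype.val huy
    rw [S.cn_apply] at h
    exact (mul_inv_eq_iff_eq_mul.1 h).symm
  have huz : ¬ IsConj S.z ((u : S.C) : G) := fun h => huc ((S.es.center_iff u).2 (Or.inr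
    (Subtype.ext (Subtype.ext (hQz u h)))))
  have hu1 : ((u : S.C) : G) ≠ 1 := fun h => huc ((S.es.center_iff u).2 (Or.inl
    (Subtype.ext (Subtype.ext h))))
  have hv2 : ((u : S.C) * y) ^ 2 = 1 := by
    rw [(show Commute (u : S.C) y from hcomm).mul_pow, hu2, hy, one_mul]
  have hvQ : (u : S.C) * y ∉ S.Q := fun h => hyQ (by simpa using mul_mem (inv_mem u.2) h)
  have hvz : IsConj S.z (((u : S.C) * y : S.C) : G) :=
    hyz.trans (S.conj_outer_G hy hyQ hv2 hvQ)
  -- carry `y` to `z`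
  obtain ⟨k, hk⟩ := isConj_iff.1 hyz.symm
  have hu'C : k * ((u : S.C) : G) * k⁻¹ ∈ S.C := by
    refine (S.mem_C _).2 ?_
    have h := congrArg (MulAut.conj k) (show ((u : S.C) : G) * (y : G) = (y : G) * ((u : S.C) : G)
      from congrArg Subtype.val hcomm)
    rw [map_mul, map_mul, MulAut.conj_apply, MulAut.conj_apply, hk] at h
    exact h
  let u' : S.C := ⟨_, hu'C⟩
  have hu'2 : u' ^ 2 = 1 := Subtype.ext (by
    show (k * ((u : S.C) : G) * k⁻¹) ^ 2 = 1
    rw [conj_pow, show ((u : S.C) : G) ^ 2 = 1 from congrArg Subtype.val hu2, mul_one,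
      mul_inv_cancel])
  have hu'z : ¬ IsConj S.z (u' : G) := fun h => huz (h.trans (isConj_iff.2 ⟨k, rfl⟩).symm)
  have hu'Q : u' ∈ S.Q := by
    by_contra hQ
    exact hu'z (hyz.trans (S.conj_outer_G hy hyQ hu'2 hQ))
  let q : S.Q := ⟨u' * S.zC, mul_mem hu'Q S.zC_mem⟩
  have hq : IsConj S.z ((q : S.C) : G) := by
    refine hvz.trans (isConj_iff.2 ⟨k, ?_⟩)
    show k * (((u : S.C) : G) * (y : G)) * k⁻¹ = k * ((u : S.C) : G) * k⁻¹ * S.z
    rw [← MulAut.conj_apply k, map_mul, MulAut.conj_apply, MulAut.conj_apply, hk]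
  have hqe : k * ((u : S.C) : G) * k⁻¹ * S.z = S.z := hQz q hq
  rw [mul_eq_right] at hqe
  exact hu1 (conj_eq_one_iff.1 hqe)

/-- The setup in a simple group, from the centraliser and two classes of involutions. -/
theorem exists_setup_of_simple [IsSimpleGroup G] (t : G) (ht : orderOf t = 2)
    (Q : Subgroup (centralizer ({t} : Set G))) [Q.Normal] (hQ : Cfsg.IsExtraspecial 2 Q)
    (hcard : Nat.card Q = 32)
    (hc : centralizer (Q : Set (centralizer ({t} : Set G))) ≤ Q)
    (e : (centralizer ({t} : Set G)) ⧸ Q ≃* alternatingGroup (Fin 5))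
    (htwo : ∃ x y : G, orderOf x = 2 ∧ orderOf y = 2 ∧ ¬ IsConj x y) :
    ∃ S : Setup G, S.z = t := by
  let P : Pre G :=
    { z := t, ord := ht, Q := Q, extra := hQ, card := hcard, cent := hc
      proj := e.toMonoidHom.comp (QuotientGroup.mk' Q)
      proj_surj := e.surjective.comp (QuotientGroup.mk'_surjective Q)
      proj_ker := by
        ext x
        show e (QuotientGroup.mk' Q x) = 1 ↔ x ∈ Q
        rw [map_eq_one_iff e e.injective]
        exact QuotientGroup.eq_one_iff x }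
  exact ⟨{ toPre := P, weak := P.weak_of_simple, two := htwo }, rfl⟩

end CfsgLib.Small.JTwoType
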