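import Mathlib
import Cfsg.Agent.Lib.Perm.AutQ8
import Cfsg.Agent.Lib.Geometry.OutShapes
import Cfsg.Agent.Lib.Perm.ClassTwoQ8
import Cfsg.Agent.Lib.PGroups.UniqueOrderP

/-!
Groups of order 48 with a self-centralising normal quaternion subgroup of order 8:
`GL(2,3)` when an involution lies outside it, the binary octahedral group otherwise.
-/

set_option autoImplicit false

namespace CfsgLib.Small.Q8Ext

open CfsgLib.Perm QuaternionGroup Equiv

theorem conj_fix_zero : ∀ q : QuaternionGroup 2, q8Act (fun w => q * w * q⁻¹) 0 = 0 →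
    ∀ w : QuaternionGroup 2, q * w = w * q := by decide

theorem fpf_is_inner : ∀ σ : Perm (Fin 4), σ * σ = 1 → (∀ i, σ i ≠ i) →
    ∃ q : QuaternionGroup 2, ∀ i, q8Act (fun w => q * w * q⁻¹) i = σ i := by decide +kernel

theorem center_eq : ∀ q : QuaternionGroup 2, (∀ w : QuaternionGroup 2, q * w = w * q) →
    q = 1 ∨ q = a 2 := by decide

/-- The stabiliser of a point in the symmetric group on four letters. -/
def stabZero : Subgroup (Perm (Fin 4)) := MulAction.stabilizer (Perm (Fin 4)) (0 : Fin 4)

theorem card_stabZero : Nat.card stabZero = 6 := by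
  have h := (stabZero).card_mul_index
  rw [stabZero, MulAction.index_stabilizer_of_transitive, Nat.card_perm, Nat.card_fin] at h
  rw [stabZero]
  norm_num [Nat.factorial] at h ⊢
  omega

/-- `q8Perm` as an isomorphism. -/
noncomputable def q8Equiv : MulAut (QuaternionGroup 2) ≃* Perm (Fin 4) :=
  MulEquiv.ofBijective q8Perm q8Perm_bijective

/-- The action of the point stabiliser on the quaternion group. -/
noncomputable def stabAct : stabZero →* MulAut (QuaternionGroup 2) :=
  q8Equiv.symm.toMonoidHom.comp stabZero.subtype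

/-- The standard group of this shape. -/
abbrev Model : Type := SemidirectProduct (QuaternionGroup 2) stabZero stabAct

variable {X : Type*} [Group X] {Q : Subgroup X}

/-- The action of `X` on the four diagonals of `Q`. -/
noncomputable def act (e : Q ≃* QuaternionGroup 2) [Q.Normal] : X →* Perm (Fin 4) :=
  q8Perm.comp ((MulAut.congr e).toMonoidHom.comp MulAut.conjNormal)

variable (e : Q ≃* QuaternionGroup 2) [Q.Normal]

theorem act_coe (q : Q) (i : Fin 4) :
    act e (q : X) i = q8Act (fun w => e q * w * (e q)⁻¹) i := by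
  have h : (MulAut.congr e) (MulAut.conjNormal (q : X)) = MulAut.conj (e q) := by
    refine MulEquiv.ext fun w => ?_
    obtain ⟨v, rfl⟩ := e.surjective w
    rw [MulAut.congr_apply, MulAut.conj_apply, ← map_inv, ← map_mul, ← map_mul]
    simp only [MulEquiv.trans_apply, MulEquiv.symm_apply_apply]
    congr 1
  show q8Act ⇑((MulAut.congr e) (MulAut.conjNormal (q : X))) i = _
  rw [h]
  rfl

variable {e}

theorem eq_one_of_act {x : X} (hC : Subgroup.centralizer (Q : Set X) ≤ Q) (hx : act e x = 1) :
    x = 1 ∨ x = (e.symm (a 2) : X) := by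
  have h1 : MulAut.conjNormal (H := Q) x = 1 := by
    apply (MulAut.congr e).injective
    apply q8Perm_bijective.1
    rw [map_one, map_one]
    exact hx
  have hxC : x ∈ Subgroup.centralizer (Q : Set X) := fun q hq => by
    have h2 : x * q * x⁻¹ = q :=
      (MulAut.conjNormal_apply (H := Q) x ⟨q, hq⟩).symm.trans
        (congrArg Subtype.val (DFunLike.congr_fun h1 ⟨q, hq⟩))
    exact (mul_inv_eq_iff_eq_mul.mp h2).symm
  have hxQ := hC hxC
  rcases center_eq (e ⟨x, hxQ⟩) (fun w => by
    obtain ⟨v, rfl⟩ := e.surjective w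
    rw [← map_mul, ← map_mul]
    exact congrArg e (Subtype.ext (hxC v v.2).symm)) with h | h
  · exact Or.inl (congrArg Subtype.val ((MulEquiv.map_eq_one_iff e).mp h))
  · exact Or.inr (congrArg Subtype.val (e.eq_symm_apply.mpr h))

theorem two_mem_center (hC : Subgroup.centralizer (Q : Set X) ≤ Q) (x : X) :
    Commute x (e.symm (a 2) : X) := by
  have hq : act e ((e.symm (a 2) : Q) : X) = 1 := by
    refine Equiv.ext fun i => ?_
    rw [act_coe, e.apply_symm_apply]
    revert i
    decide
  have hq2 : act e (x * (e.symm (a 2) : X) * x⁻¹) = 1 := by simp [map_mul, hq]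
  rcases eq_one_of_act hC hq2 with h | h
  · exfalso
    rw [conj_eq_one_iff] at h
    have h' : e.symm (a 2) = 1 := Subtype.ext h
    rw [MulEquiv.map_eq_one_iff] at h'
    revert h'
    decide
  · exact mul_inv_eq_iff_eq_mul.mp h

theorem card_act_ker [Finite X] (hC : Subgroup.centralizer (Q : Set X) ≤ Q) :
    Nat.card (act e).ker = 2 := by
  have hset : ((act e).ker : Set X) = {1, (e.symm (a 2) : X)} := by
    ext x
    constructor
    · intro hx
      rcases eq_one_of_act hC hx with h | h <;> simp [h]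
    · rintro (rfl | rfl)
      · exact one_mem _
      · refine Equiv.ext fun i => ?_
        rw [act_coe, e.apply_symm_apply]
        revert i
        decide
  show Nat.card ((act e).ker : Set X) = 2
  rw [hset, Nat.card_coe_set_eq, Set.ncard_pair]
  intro h
  have h' : e.symm (a 2) = 1 := Subtype.ext h.symm
  rw [MulEquiv.map_eq_one_iff] at h'
  revert h'
  decide

theorem act_surjective [Finite X] (hC : Subgroup.centralizer (Q : Set X) ≤ Q)
    (h48 : Nat.card X = 48) : Function.Surjective (act e) := by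
  rw [← MonoidHom.range_eq_top]
  refine Subgroup.eq_top_of_le_card _ ?_
  have h := (act e).ker.card_mul_index
  rw [card_act_ker hC, Subgroup.index_ker, h48] at h
  rw [Nat.card_perm, Nat.card_fin]
  show 24 ≤ _
  omega

theorem center_eq_ker [Finite X] (hC : Subgroup.centralizer (Q : Set X) ≤ Q)
    (h48 : Nat.card X = 48) : Subgroup.center X = (act e).ker := by
  refine le_antisymm (fun x hx => ?_) (fun x hx => ?_)
  · rw [MonoidHom.mem_ker]
    have hc : ∀ σ : Perm (Fin 4), act e x * σ = σ * act e x := fun σ => by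
      obtain ⟨y, rfl⟩ := act_surjective hC h48 (e := e) σ
      rw [← map_mul, ← map_mul, Subgroup.mem_center_iff.mp hx y]
    have : ∀ τ : Perm (Fin 4), (∀ σ, τ * σ = σ * τ) → τ = 1 := by decide +kernel
    exact this _ hc
  · rw [Subgroup.mem_center_iff]
    intro y
    rcases eq_one_of_act hC hx with h | h
    · simp [h]
    · rw [h]; exact (two_mem_center hC y).eq

/-- A split extension is the standard one. -/
theorem nonempty_iso [Finite X] (e : Q ≃* QuaternionGroup 2) (hC : Subgroup.centralizer (Q : Set X) ≤ Q)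
    (h48 : Nat.card X = 48) {t₀ : X} (ht₀ : t₀ ^ 2 = 1) (ht₀Q : t₀ ∉ Q) :
    Nonempty (X ≃* Model) := by
  have : Fact (Nat.Prime 3) := ⟨Nat.prime_three⟩
  have hsur := act_surjective hC h48 (e := e)
  -- an involution outside `Q` fixes a diagonal
  obtain ⟨i, hi⟩ : ∃ i, act e t₀ i = i := by
    by_contra hcon
    push Not at hcon
    obtain ⟨q, hq⟩ := fpf_is_inner (act e t₀) (by rw [← map_mul, ← pow_two, ht₀, map_one]) hcon
    have heq : act e (e.symm q : X) = act e t₀ := Equiv.ext fun i => by
      rw [act_coe, e.apply_symm_apply, hq]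
    have hk : act e ((e.symm q : X)⁻¹ * t₀) = 1 := by simp [map_mul, heq]
    refine ht₀Q ?_
    rcases eq_one_of_act hC hk with h | h
    · rw [inv_mul_eq_one] at h
      exact h ▸ (e.symm q).2
    · rw [inv_mul_eq_iff_eq_mul] at h
      exact h ▸ Q.mul_mem (e.symm q).2 (e.symm (a 2)).2
  obtain ⟨g, hg⟩ := hsur (Equiv.swap i 0)
  obtain ⟨t, ht, htQ, ht0⟩ : ∃ t : X, t * t = 1 ∧ t ∉ Q ∧ act e t 0 = 0 := by
    refine ⟨g * t₀ * g⁻¹, ?_, fun h => ht₀Q ?_, ?_⟩
    · rw [← pow_two, conj_pow, ht₀]; simp
    · have := (inferInstance : Q.Normal).conj_mem _ h g⁻¹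
      simpa [mul_assoc] using this
    · simp [map_mul, hg, hi]
  -- an element of order three fixing the same diagonal
  obtain ⟨r, hr, hr0⟩ : ∃ r : X, orderOf r = 3 ∧ act e r 0 = 0 := by
    let U := stabZero.comap (act e)
    have hU : 3 ∣ Nat.card U := by
      have h1 := U.card_mul_index
      rw [show U.index = 4 from ?_, h48] at h1
      · exact ⟨4, by omega⟩
      · rw [Subgroup.index_comap_of_surjective _ hsur]
        have h2 := stabZero.card_mul_index
        rw [card_stabZero, Nat.card_perm, Nat.card_fin] at h2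
        norm_num [Nat.factorial] at h2
        omega
    obtain ⟨r, hr⟩ := exists_prime_orderOf_dvd_card' 3 hU
    exact ⟨r, by rwa [Subgroup.orderOf_coe], MulAction.mem_stabilizer_iff.mp r.2⟩
  have hr3 : r ^ 3 = 1 := by rw [← hr]; exact pow_orderOf_eq_one r
  have hrne : act e r ≠ 1 := by
    intro h
    rcases eq_one_of_act hC h with h' | h'
    · simp [h'] at hr
    · have h4 : (r : X) ^ 2 = 1 := by
        rw [h', ← Subgroup.coe_pow, ← map_pow, show (a 2 : QuaternionGroup 2) ^ 2 = 1 by decide,
          map_one, Subgroup.coe_one]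
      have := orderOf_dvd_of_pow_eq_one h4
      rw [hr] at this
      norm_num at this
  have htne : act e t ≠ 1 := fun h => by
    rcases eq_one_of_act hC h with h' | h'
    · exact htQ (h' ▸ one_mem Q)
    · exact htQ (h' ▸ (e.symm (a 2)).2)
  have hrel : t * r * t = r⁻¹ := by
    have hinv : ∀ σ τ : Perm (Fin 4), σ 0 = 0 → τ 0 = 0 → σ ^ 3 = 1 → σ ≠ 1 → τ * τ = 1 → τ ≠ 1 →
        τ * σ * τ * σ = 1 := by decide +kernel
    have hk : act e (t * r * t * r) = 1 := by
      simp only [map_mul]
      exact hinv _ _ hr0 ht0 (by rw [← map_pow, hr3, map_one]) hrne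
        (by rw [← map_mul, ht, map_one]) htne
    rcases eq_one_of_act hC hk with h | h
    · exact eq_inv_of_mul_eq_one_left h
    · exfalso
      set z : X := (e.symm (a 2) : X)
      have hz2 : z ^ 2 = 1 := by
        rw [← Subgroup.coe_pow, ← map_pow, show (a 2 : QuaternionGroup 2) ^ 2 = 1 by decide,
          map_one, Subgroup.coe_one]
      have h' : t * r * t = z * r⁻¹ := eq_mul_inv_of_mul_eq h
      have htinv : t⁻¹ = t := inv_eq_of_mul_eq_one_right ht
      have h3 : (t * r * t) ^ 3 = 1 := by
        rw [show t * r * t = t * r * t⁻¹ by rw [htinv], conj_pow, hr3]; simp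
      rw [h', ((two_mem_center hC r⁻¹).symm).mul_pow, inv_pow, hr3, inv_one, mul_one, pow_succ,
        hz2, one_mul] at h3
      have h'' : e.symm (a 2) = 1 := Subtype.ext h3
      rw [MulEquiv.map_eq_one_iff] at h''
      revert h''
      decide
  let ι := CfsgLib.Geometry.dihedralGen 3 r t hr3 ht hrel
  have hιmem : ∀ d, act e (ι d) ∈ stabZero := by
    intro d
    have h1 : (⊤ : Subgroup (DihedralGroup 3)) ≤ (stabZero.comap (act e)).comap ι := by
      rintro (i | i) -
      · show act e (ι (.r i)) ∈ stabZero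
        show act e (CfsgLib.Geometry.zmodGen 3 r hr3 (Multiplicative.ofAdd i)) ∈ stabZero
        obtain ⟨j, rfl⟩ := ZMod.intCast_surjective i
        rw [CfsgLib.Geometry.zmodGen_intCast, map_zpow]
        exact zpow_mem (MulAction.mem_stabilizer_iff.mpr hr0) _
      · show act e (t * CfsgLib.Geometry.zmodGen 3 r hr3 (Multiplicative.ofAdd i)) ∈ stabZero
        obtain ⟨j, rfl⟩ := ZMod.intCast_surjective i
        rw [CfsgLib.Geometry.zmodGen_intCast, map_mul, map_zpow]
        exact mul_mem (MulAction.mem_stabilizer_iff.mpr ht0)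
          (zpow_mem (MulAction.mem_stabilizer_iff.mpr hr0) _)
    exact h1 (Subgroup.mem_top d)
  let j : DihedralGroup 3 →* stabZero := ((act e).comp ι).codRestrict stabZero hιmem
  have hjsurj : Function.Surjective j := by
    rw [← MonoidHom.range_eq_top]
    refine Subgroup.eq_top_of_le_card _ ?_
    rw [card_stabZero]
    have h3 : 3 ∣ Nat.card j.range := by
      have hmem : (⟨act e r, MulAction.mem_stabilizer_iff.mpr hr0⟩ : stabZero) ∈ j.range :=
        ⟨.r 1, Subtype.ext (by
          show act e (CfsgLib.Geometry.zmodGen 3 r hr3 (Multiplicative.ofAdd ((1 : ℤ) : ZMod 3))) = _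
          rw [CfsgLib.Geometry.zmodGen_intCast, zpow_one])⟩
      have := Subgroup.orderOf_dvd_natCard j.range hmem
      rwa [← Subgroup.orderOf_coe, orderOf_eq_prime (by rw [← map_pow, hr3, map_one]) hrne] at this
    have h2 : 2 ∣ Nat.card j.range := by
      have hmem : (⟨act e t, MulAction.mem_stabilizer_iff.mpr ht0⟩ : stabZero) ∈ j.range :=
        ⟨.sr 0, Subtype.ext (by
          show act e (t * CfsgLib.Geometry.zmodGen 3 r hr3 (Multiplicative.ofAdd ((0 : ℤ) : ZMod 3))) = _
          rw [CfsgLib.Geometry.zmodGen_intCast, zpow_zero, mul_one])⟩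
      have := Subgroup.orderOf_dvd_natCard j.range hmem
      rwa [← Subgroup.orderOf_coe,
        orderOf_eq_prime (by rw [pow_two, ← map_mul, ht, map_one]) htne] at this
    exact Nat.le_of_dvd Nat.card_pos (Nat.Coprime.mul_dvd_of_dvd_of_dvd (by norm_num) h2 h3)
  let jj : DihedralGroup 3 ≃* stabZero := MulEquiv.ofBijective j
    (hjsurj.bijective_of_nat_card_le (by rw [DihedralGroup.nat_card, card_stabZero]))
  let fg : stabZero →* X := ι.comp jj.symm.toMonoidHom
  have hfg : ∀ s : stabZero, act e (fg s) = (s : Perm (Fin 4)) := fun s => by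
    have h := congrArg Subtype.val (jj.apply_symm_apply s)
    exact h
  let fn : QuaternionGroup 2 →* X := Q.subtype.comp e.symm.toMonoidHom
  have compat : ∀ s, fn.comp (stabAct s).toMonoidHom =
      (MulAut.conj (fg s)).toMonoidHom.comp fn := by
    intro s
    have hA : stabAct s = MulAut.congr e (MulAut.conjNormal (fg s)) := by
      apply q8Equiv.injective
      show q8Equiv (q8Equiv.symm (s : Perm (Fin 4))) = _
      rw [MulEquiv.apply_symm_apply]
      exact (hfg s).symm
    refine MonoidHom.ext fun q => ?_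
    obtain ⟨v, rfl⟩ := e.surjective q
    show ((e.symm ((stabAct s) (e v)) : Q) : X) = fg s * (e.symm (e v) : X) * (fg s)⁻¹
    rw [hA, MulAut.congr_apply]
    simp only [MulEquiv.trans_apply, MulEquiv.symm_apply_apply, MulAut.conjNormal_apply]
  let Φ := SemidirectProduct.lift fn fg compat
  have hinj : Function.Injective Φ := by
    refine (injective_iff_map_eq_one Φ).mpr fun p hp => ?_
    have hp' : fn p.left * fg p.right = 1 := hp
    have hact : act e (fn p.left) * (p.right : Perm (Fin 4)) = 1 := by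
      rw [← hfg, ← map_mul, hp', map_one]
    have hq0 : act e (fn p.left) 0 = 0 := by
      have h := DFunLike.congr_fun (eq_inv_of_mul_eq_one_left hact) 0
      rw [h]
      exact MulAction.mem_stabilizer_iff.mp (inv_mem p.right.2)
    have hc := conj_fix_zero p.left (by
      have h := act_coe e (e.symm p.left) 0
      rw [e.apply_symm_apply] at h
      exact h.symm.trans hq0)
    have h1 : act e (fn p.left) = 1 := by
      refine Equiv.ext fun i => ?_
      show act e ((e.symm p.left : Q) : X) i = i
      rw [act_coe, e.apply_symm_apply]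
      have : (fun w => p.left * w * (p.left)⁻¹) = (id : QuaternionGroup 2 → QuaternionGroup 2) :=
        funext fun w => by rw [hc w, mul_assoc, mul_inv_cancel, mul_one]; rfl
      rw [this]
      exact q8Act_one i
    rw [h1, one_mul] at hact
    have hr1 : p.right = 1 := Subtype.ext hact
    rw [hr1, map_one, mul_one] at hp'
    have hl1 : p.left = 1 := by
      have : e.symm p.left = 1 := Subtype.ext hp'
      exact (MulEquiv.map_eq_one_iff _).mp this
    exact SemidirectProduct.ext hl1 hr1
  refine ⟨(MulEquiv.ofBijective Φ (hinj.bijective_of_nat_card_le ?_)).symm⟩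
  rw [SemidirectProduct.card, card_stabZero, Nat.card_eq_fintype_card (α := QuaternionGroup 2),
    QuaternionGroup.card, h48]

end CfsgLib.Small.Q8Ext

namespace CfsgLib.Small.Q8Ext.GLThree

open QuaternionGroup

def mA : Matrix (Fin 2) (Fin 2) (ZMod 3) := !![0, 1; 2, 0]
def mB : Matrix (Fin 2) (Fin 2) (ZMod 3) := !![1, 1; 1, 2]

def img : QuaternionGroup 2 → Matrix (Fin 2) (Fin 2) (ZMod 3)
  | .a i => mA ^ i.val
  | .xa i => mB * mA ^ i.val

theorem img_mul : ∀ p q, img (p * q) = img p * img q := by decide +kernel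

theorem img_inj : ∀ q, img q = 1 → q = 1 := by decide +kernel

theorem img_normal : ∀ f : Fin 2 → Fin 2 → ZMod 3, f 0 0 * f 1 1 - f 0 1 * f 1 0 ≠ 0 →
    ∀ p, ∃ q, Matrix.of f * img p = img q * Matrix.of f := by decide +kernel

theorem img_centralizer : ∀ f : Fin 2 → Fin 2 → ZMod 3, f 0 0 * f 1 1 - f 0 1 * f 1 0 ≠ 0 →
    (∀ p, Matrix.of f * img p = img p * Matrix.of f) → ∃ q, img q = Matrix.of f := by decide +kernel

theorem diag_not_img : ∀ q, img q ≠ !![1, 0; 0, 2] := by decide +kernel

theorem diag_sq : (!![1, 0; 0, 2] : Matrix (Fin 2) (Fin 2) (ZMod 3)) * !![1, 0; 0, 2] = 1 := by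
  decide

/-- The embedding of `Q₈`. -/
def emb : QuaternionGroup 2 →* GL (Fin 2) (ZMod 3) :=
  ({ toFun := img, map_one' := by decide, map_mul' := img_mul } :
      QuaternionGroup 2 →* Matrix (Fin 2) (Fin 2) (ZMod 3)).toHomUnits

theorem coe_emb (q : QuaternionGroup 2) :
    (emb q : Matrix (Fin 2) (Fin 2) (ZMod 3)) = img q := rfl

theorem det_ne (g : GL (Fin 2) (ZMod 3)) :
    (g : Matrix (Fin 2) (Fin 2) (ZMod 3)) 0 0 * (g : Matrix (Fin 2) (Fin 2) (ZMod 3)) 1 1 -
      (g : Matrix (Fin 2) (Fin 2) (ZMod 3)) 0 1 * (g : Matrix (Fin 2) (Fin 2) (ZMod 3)) 1 0 ≠ 0 := by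
  rw [← Matrix.det_fin_two]
  exact (g.isUnit.map Matrix.detMonoidHom).ne_zero

/-- `GL(2,3)` is the split extension. -/
theorem iso_model : Nonempty (GL (Fin 2) (ZMod 3) ≃* Model) := by
  have : Fact (Nat.Prime 3) := ⟨Nat.prime_three⟩
  have hinj : Function.Injective emb := by
    refine (injective_iff_map_eq_one emb).mpr fun q hq => img_inj q ?_
    rw [← coe_emb, hq]; rfl
  haveI : (emb.range).Normal := ⟨fun n hn g => by
    obtain ⟨p, rfl⟩ := hn
    obtain ⟨q, hq⟩ := img_normal (fun i j => (g : Matrix (Fin 2) (Fin 2) (ZMod 3)) i j) (det_ne g) p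
    refine ⟨q, ?_⟩
    rw [eq_mul_inv_iff_mul_eq]
    exact Units.ext hq.symm⟩
  have hC : Subgroup.centralizer (emb.range : Set (GL (Fin 2) (ZMod 3))) ≤ emb.range := by
    intro g hg
    obtain ⟨q, hq⟩ := img_centralizer (fun i j => (g : Matrix (Fin 2) (Fin 2) (ZMod 3)) i j)
      (det_ne g) (fun p => (congrArg Units.val (hg (emb p) ⟨p, rfl⟩)).symm)
    exact ⟨q, Units.ext hq⟩
  let t : GL (Fin 2) (ZMod 3) :=
    ⟨!![1, 0; 0, 2], !![1, 0; 0, 2], diag_sq, diag_sq⟩
  refine nonempty_iso (Q := emb.range) (MonoidHom.ofInjective hinj).symm hC ?_ (t₀ := t)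
    (by rw [pow_two]; exact Units.ext diag_sq) ?_
  · rw [Matrix.card_GL_field]; simp [Fin.prod_univ_two, ZMod.card]
  · rintro ⟨q, hq⟩
    exact diag_not_img q (congrArg Units.val hq)

end CfsgLib.Small.Q8Ext.GLThree
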