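import Cfsg.Agent.Lib.Small.SylowPermInvol
import Cfsg.Agent.Lib.Geometry.OmegaIndex
import Cfsg.Agent.Lib.Geometry.OmegaMem
import Cfsg.Agent.Lib.Classical.OrthStep

/-!
# A Sylow 2-subgroup of an orthogonal group in odd characteristic and its part in the derived group

The space is a sum of `k` planes with form `x² + y²` and at most a few lines.
-/

set_option autoImplicit false

namespace CfsgLib.Small.OmegaSylow

open QuadraticMap CfsgLib.Geometry CfsgLib.Classical
open scoped commutatorElement

section abstractGroup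

variable {M A : Type*} [Group M] [CommGroup A] (ψ : M →* A) (R : Set M)

/-- Words in self-conjugate involutions with at most two values under `ψ`. -/
theorem prod_mem_of_pairs {L : Subgroup M} (h2 : ∀ r ∈ R, r * r = 1) (h1 : ∀ r ∈ R, ψ r ≠ 1)
    (hconj : ∀ r ∈ R, ∀ s ∈ R, r * s * r ∈ R)
    (hthree : ∀ r ∈ R, ∀ s ∈ R, ∀ t ∈ R, ψ r = ψ s ∨ ψ t = ψ r ∨ ψ t = ψ s)
    (hpair : ∀ r ∈ R, ∀ s ∈ R, ψ r = ψ s → r * s ∈ L) :
    ∀ (n : ℕ) (l : List M), l.length = n → (∀ x ∈ l, x ∈ R) → ψ l.prod = 1 → l.prod ∈ L := by
  intro n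
  induction n using Nat.strong_induction_on with
  | _ n ih =>
    intro l hl hR hψ
    have hinv : ∀ r ∈ R, ψ r * ψ r = 1 := fun r hr => by rw [← map_mul, h2 r hr, map_one]
    have hψc : ∀ r ∈ R, ∀ s ∈ R, ψ (r * s * r) = ψ s := fun r hr s hs => by
      rw [map_mul, map_mul, mul_comm (ψ r) (ψ s), mul_assoc, hinv r hr, mul_one]
    match l, hl, hR, hψ with
    | [], _, _, _ => simp
    | [r], _, hR, hψ => exact absurd (by simpa using hψ) (h1 r (hR r (by simp)))
    | r :: s :: rest, hl, hR, hψ =>
      have hr := hR r (by simp)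
      have hs := hR s (by simp)
      have hrest : ∀ x ∈ rest, x ∈ R := fun x hx => hR x (by simp [hx])
      simp only [List.length_cons] at hl
      by_cases hrs : ψ r = ψ s
      · have e : ψ rest.prod = 1 := by
          rw [List.prod_cons, List.prod_cons, map_mul, map_mul, ← mul_assoc, hrs, hinv s hs,
            one_mul] at hψ
          exact hψ
        rw [List.prod_cons, List.prod_cons, ← mul_assoc]
        exact L.mul_mem (hpair r hr s hs hrs) (ih rest.length (by omega) rest rfl hrest e)
      match rest, hl, hrest, hψ with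
      | [], _, _, hψ =>
        refine absurd ?_ hrs
        have h' : ψ r * ψ s = 1 := by simpa [map_mul] using hψ
        calc ψ r = ψ r * (ψ s * ψ s) := by rw [hinv s hs, mul_one]
          _ = ψ s := by rw [← mul_assoc, h', one_mul]
      | t :: rest', hl, hrest, hψ =>
        have ht := hrest t (by simp)
        have hr' : ∀ x ∈ rest', x ∈ R := fun x hx => hrest x (by simp [hx])
        simp only [List.length_cons] at hl
        rcases (hthree r hr s hs t ht).resolve_left hrs with htr | hts
        · have e : ψ ((r * s * r) :: rest').prod = 1 := by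
            simp only [List.prod_cons, map_mul] at hψ ⊢
            rw [htr] at hψ
            rw [← mul_assoc (ψ r), ← mul_assoc] at hψ
            exact hψ
          have h3 := ih (rest'.length + 1) (by omega) ((r * s * r) :: rest') (by simp)
            (List.forall_mem_cons.2 ⟨hconj r hr s hs, hr'⟩) e
          have hq := hconj r hr s hs
          have h4 := hpair _ (hconj _ hq r hr) _ (hconj _ hq t ht)
            (by rw [hψc _ hq r hr, hψc _ hq t ht, htr])
          have : (r :: s :: t :: rest').prod =
              (r * s * r * r * (r * s * r)) * ((r * s * r) * t * (r * s * r)) *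
                ((r * s * r) :: rest').prod := by
            simp only [List.prod_cons]
            have hqq : ∀ c, (r * s * r) * ((r * s * r) * c) = c := fun c => by
              rw [← mul_assoc, h2 _ hq, one_mul]
            have hrr : ∀ c, r * (r * c) = c := fun c => by rw [← mul_assoc, h2 r hr, one_mul]
            calc r * (s * (t * rest'.prod)) = (r * s * r) * (r * (t * rest'.prod)) := by
                  simp only [mul_assoc, hrr]
              _ = _ := by
                  generalize r * s * r = q at hqq
                  simp only [mul_assoc, hqq]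
          rw [this]
          exact L.mul_mem h4 h3
        · have e : ψ (r :: rest').prod = 1 := by
            simp only [List.prod_cons, map_mul] at hψ ⊢
            rw [hts, ← mul_assoc (ψ s), hinv s hs, one_mul] at hψ
            exact hψ
          have h3 := ih (rest'.length + 1) (by omega) (r :: rest') (by simp)
            (List.forall_mem_cons.2 ⟨hr, hr'⟩) e
          have h4 := hpair _ (hconj r hr s hs) _ (hconj r hr t ht)
            (by rw [hψc r hr s hs, hψc r hr t ht, hts])
          have : (r :: s :: t :: rest').prod =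
              (r * s * r) * (r * t * r) * (r :: rest').prod := by
            simp only [List.prod_cons]
            have hrr : ∀ c, r * (r * c) = c := fun c => by rw [← mul_assoc, h2 r hr, one_mul]
            simp only [mul_assoc, hrr]
          rw [this]
          exact L.mul_mem h4 h3

end abstractGroup

theorem mul_mem_commutator_of_isConj {G : Type*} [Group G] {x y : G} (h : IsConj x y)
    (hx : x * x = 1) : x * y ∈ commutator G := by
  obtain ⟨g, rfl⟩ := isConj_iff.1 h
  have : x * (g * x * g⁻¹) = ⁅x, g⁆ := by
    rw [commutatorElement_def, inv_eq_of_mul_eq_one_right hx]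
    group
  rw [this, commutator_def]
  exact Subgroup.commutator_mem_commutator (Subgroup.mem_top _) (Subgroup.mem_top _)

variable {F : Type*} [Field F] [Finite F] {k r : ℕ}

/-- The plane `x² + y²`. -/
noncomputable def plane (F : Type*) [Field F] : QuadraticForm F (Fin 2 → F) :=
  weightedSumSquares F (fun _ : Fin 2 => (1 : F))

/-- `k` planes and `r` lines. -/
noncomputable def blockForm (k : ℕ) (d : Fin r → F) :
    QuadraticForm F (Fin k × Fin 2 ⊕ Fin r → F) :=
  weightedSumSquares F (Sum.elim (fun _ => 1) d)

omit [Finite F] in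
theorem blockForm_apply (d : Fin r → F) (v : Fin k × Fin 2 ⊕ Fin r → F) :
    blockForm k d v = (∑ j, plane F fun i => v (Sum.inl (j, i))) +
      ∑ l, d l * (v (Sum.inr l) * v (Sum.inr l)) := by
  simp [blockForm, plane, weightedSumSquares_apply, Fintype.sum_prod_type]

omit [Finite F] in
theorem polar_weighted {ι : Type*} [Fintype ι] (w u v : ι → F) :
    polar (weightedSumSquares F w) u v = ∑ i, 2 * w i * u i * v i := by
  simp only [QuadraticMap.polar, weightedSumSquares_apply, ← Finset.sum_sub_distrib]
  refine Finset.sum_congr rfl fun i _ => ?_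
  simp only [Pi.add_apply, smul_eq_mul]
  ring

/-- The parameters of the block-diagonal group. -/
abbrev Par (F : Type*) [Field F] (k r : ℕ) : Type _ := (Fin k → orth (plane F)) × (Fin r → ℤˣ)

/-- The underlying map of a block-diagonal element. -/
def baseFun (p : Par F k r) (v : Fin k × Fin 2 ⊕ Fin r → F) : Fin k × Fin 2 ⊕ Fin r → F :=
  Sum.elim (fun x => (p.1 x.1 : (Fin 2 → F) ≃ₗ[F] (Fin 2 → F)) (fun i => v (Sum.inl (x.1, i))) x.2)
    (fun l => ((p.2 l : ℤ) : F) * v (Sum.inr l))

omit [Finite F] in
theorem baseFun_mul (p q : Par F k r) (v : Fin k × Fin 2 ⊕ Fin r → F) :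
    baseFun (p * q) v = baseFun p (baseFun q v) := by
  funext x
  rcases x with ⟨j, i⟩ | l
  · rfl
  · simp [baseFun, mul_assoc]

omit [Finite F] in
theorem baseFun_one (v : Fin k × Fin 2 ⊕ Fin r → F) : baseFun (1 : Par F k r) v = v := by
  funext x
  rcases x with ⟨j, i⟩ | l <;> simp [baseFun]

/-- Block-diagonal elements. -/
noncomputable def base (d : Fin r → F) : Par F k r →* orth (blockForm k d) where
  toFun p := ⟨{ toFun := baseFun p
                map_add' := fun u v => by
                  funext x
                  rcases x with ⟨j, i⟩ | l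
                  · simp only [baseFun, Sum.elim_inl, Pi.add_apply]
                    exact congrFun (map_add (p.1 j : (Fin 2 → F) ≃ₗ[F] (Fin 2 → F))
                      (fun i => u (Sum.inl (j, i))) (fun i => v (Sum.inl (j, i)))) i
                  · simp [baseFun, mul_add]
                map_smul' := fun c v => by
                  funext x
                  rcases x with ⟨j, i⟩ | l
                  · simp only [baseFun, Sum.elim_inl, Pi.smul_apply, RingHom.id_apply]
                    exact congrFun (map_smul (p.1 j : (Fin 2 → F) ≃ₗ[F] (Fin 2 → F)) c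
                      (fun i => v (Sum.inl (j, i)))) i
                  · simp only [baseFun, Sum.elim_inr, Pi.smul_apply, RingHom.id_apply, smul_eq_mul]
                    ring
                invFun := baseFun p⁻¹
                left_inv := fun v => by rw [← baseFun_mul, inv_mul_cancel, baseFun_one]
                right_inv := fun v => by rw [← baseFun_mul, mul_inv_cancel, baseFun_one] },
    fun v => by
      show blockForm k d (baseFun p v) = blockForm k d v
      rw [blockForm_apply, blockForm_apply]
      congr 1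
      · refine Finset.sum_congr rfl fun j _ => ?_
        exact (p.1 j).2 _
      · refine Finset.sum_congr rfl fun l _ => ?_
        simp only [baseFun, Sum.elim_inr]
        rcases Int.units_eq_one_or (p.2 l) with h | h <;> rw [h] <;> push_cast <;> ring⟩
  map_one' := Subtype.ext (LinearEquiv.ext baseFun_one)
  map_mul' p q := Subtype.ext (LinearEquiv.ext (baseFun_mul p q))

omit [Finite F] in
theorem base_apply (d : Fin r → F) (p : Par F k r) (v : Fin k × Fin 2 ⊕ Fin r → F) :
    (base d p).1 v = baseFun p v := rfl

/-- Permutations of the planes. -/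
noncomputable def blockPerm (d : Fin r → F) : Equiv.Perm (Fin k) →* orth (blockForm k d) where
  toFun τ := ⟨LinearEquiv.funCongrLeft F F
      (Equiv.sumCongr (Equiv.prodCongr τ.symm (Equiv.refl (Fin 2))) (Equiv.refl (Fin r))),
    fun v => by
      rw [blockForm_apply, blockForm_apply]
      congr 1
      exact Equiv.sum_comp τ.symm fun j => plane F fun i => v (Sum.inl (j, i))⟩
  map_one' := Subtype.ext (LinearEquiv.ext fun v => funext fun x => by
    rcases x with ⟨j, i⟩ | l <;> rfl)
  map_mul' τ σ := Subtype.ext (LinearEquiv.ext fun v => funext fun x => by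
    rcases x with ⟨j, i⟩ | l <;> rfl)

omit [Finite F] in
theorem blockPerm_apply (d : Fin r → F) (τ : Equiv.Perm (Fin k)) (v : Fin k × Fin 2 ⊕ Fin r → F) :
    (blockPerm d τ).1 v =
      Sum.elim (fun x => v (Sum.inl (τ.symm x.1, x.2))) (fun l => v (Sum.inr l)) := by
  funext x
  rcases x with ⟨j, i⟩ | l <;> rfl

omit [Finite F] in
theorem blockPerm_conj (d : Fin r → F) (τ : Equiv.Perm (Fin k)) (p : Par F k r) :
    blockPerm d τ * base d p * (blockPerm d τ)⁻¹ = base d (fun j => p.1 (τ.symm j), p.2) := by
  rw [mul_inv_eq_iff_eq_mul]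
  refine Subtype.ext (LinearEquiv.ext fun v => funext fun x => ?_)
  show (blockPerm d τ).1 ((base d p).1 v) x =
    (base d (fun j => p.1 (τ.symm j), p.2)).1 ((blockPerm d τ).1 v) x
  rw [blockPerm_apply, base_apply, base_apply, blockPerm_apply]
  rcases x with ⟨j, i⟩ | l <;> simp [baseFun]

/-- A vector of one plane, in the whole space. -/
def blockVec (j : Fin k) (a : Fin 2 → F) : Fin k × Fin 2 ⊕ Fin r → F :=
  Sum.elim (fun x => if x.1 = j then a x.2 else 0) (fun _ => 0)

omit [Finite F] in
theorem blockForm_blockVec (d : Fin r → F) (j : Fin k) (a : Fin 2 → F) :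
    blockForm k d (blockVec j a) = plane F a := by
  rw [blockForm_apply, Finset.sum_eq_single j]
  · simp [blockVec]
  · intro j' _ hj'
    simp only [blockVec, Sum.elim_inl, if_neg hj']
    exact QuadraticMap.map_zero _
  · simp

omit [Finite F] in
theorem polar_blockVec (d : Fin r → F) (j : Fin k) (a : Fin 2 → F)
    (v : Fin k × Fin 2 ⊕ Fin r → F) :
    polar (blockForm k d) v (blockVec j a) = polar (plane F) (fun i => v (Sum.inl (j, i))) a := by
  rw [blockForm, plane, polar_weighted, polar_weighted]
  simp only [Fintype.sum_sum_type, Fintype.sum_prod_type, blockVec, Sum.elim_inl, Sum.elim_inr,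
    mul_zero, Finset.sum_const_zero, add_zero]
  rw [Finset.sum_eq_single j]
  · simp
  · intro j' _ hj'
    simp [hj']
  · simp

omit [Finite F] in
theorem base_plane_refl (d : Fin r → F) (j : Fin k) (a : Fin 2 → F) (ha : plane F a ≠ 0) :
    base d (Pi.mulSingle j (oRefl (plane F) a ha), 1) =
      oRefl (blockForm k d) (blockVec j a) (by rw [blockForm_blockVec]; exact ha) := by
  refine Subtype.ext (LinearEquiv.ext fun v => funext fun x => ?_)
  rw [base_apply]
  show _ = refl (blockForm k d) (blockVec j a) (by rw [blockForm_blockVec]; exact ha) v x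
  rw [refl_apply, polar_blockVec, blockForm_blockVec]
  rcases x with ⟨j', i⟩ | l
  · by_cases hj : j' = j
    · subst hj
      simp only [baseFun, Sum.elim_inl, Pi.mulSingle_eq_same]
      show refl (plane F) a ha (fun i => v (Sum.inl (j', i))) i = _
      rw [refl_apply]
      simp [blockVec]
    · simp [baseFun, Pi.mulSingle_eq_of_ne hj, blockVec, hj]
  · simp [baseFun, blockVec]

omit [Finite F] in
theorem blockForm_restVec (d : Fin r → F) (l : Fin r) :
    blockForm k d (Pi.single (Sum.inr l) 1) = d l := by
  rw [blockForm_apply, Finset.sum_eq_single l]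
  · have : (∑ j : Fin k, plane F fun i =>
        (Pi.single (Sum.inr l) 1 : Fin k × Fin 2 ⊕ Fin r → F) (Sum.inl (j, i))) = 0 :=
      Finset.sum_eq_zero fun j _ => by
        rw [show (fun i => (Pi.single (Sum.inr l) 1 : Fin k × Fin 2 ⊕ Fin r → F) (Sum.inl (j, i))) =
          (0 : Fin 2 → F) from funext fun i => Pi.single_eq_of_ne (by simp) _, QuadraticMap.map_zero]
    rw [this]
    simp
  · intro l' _ hl'
    simp [hl']
  · simp

omit [Finite F] in
theorem base_rest_refl (d : Fin r → F) (l : Fin r) (hl : d l ≠ 0) :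
    base (k := k) d (1, Pi.mulSingle l (-1)) =
      oRefl (blockForm k d) (Pi.single (Sum.inr l) 1) (by rw [blockForm_restVec]; exact hl) := by
  refine Subtype.ext (LinearEquiv.ext fun v => funext fun x => ?_)
  rw [base_apply]
  show _ = refl (blockForm k d) (Pi.single (Sum.inr l) 1) (by rw [blockForm_restVec]; exact hl) v x
  have hp : polar (blockForm k d) v (Pi.single (Sum.inr l) 1) = 2 * d l * v (Sum.inr l) := by
    rw [blockForm, polar_weighted, Finset.sum_eq_single (Sum.inr l)]
    · simp
    · intro x _ hx
      simp [hx]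
    · simp
  rw [refl_apply, hp, blockForm_restVec]
  rcases x with ⟨j, i⟩ | l'
  · simp [baseFun]
  · by_cases h : l' = l
    · subst h
      simp only [baseFun, Sum.elim_inr, Pi.mulSingle_eq_same, Pi.sub_apply, Pi.smul_apply,
        Pi.single_eq_same, smul_eq_mul, Units.val_neg, Units.val_one, Int.cast_neg, Int.cast_one]
      field_simp
      ring
    · simp [baseFun, Pi.mulSingle_eq_of_ne h, Pi.single_eq_of_ne (i := (Sum.inr l : Fin k × Fin 2 ⊕ Fin r)) (i' := Sum.inr l')
        (by simpa using h)]

omit [Finite F] in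
theorem blockForm_nondeg (h2 : (2 : F) ≠ 0) {d : Fin r → F} (hd : ∀ l, d l ≠ 0) :
    (polarBilin (blockForm k d)).Nondegenerate := by
  classical
  have key : ∀ v, (∀ u, polar (blockForm k d) v u = 0) → v = 0 := by
    intro v hv
    funext x
    have := hv (Pi.single x 1)
    rw [blockForm, polar_weighted, Finset.sum_eq_single x (by intro y _ hy; simp [hy]) (by simp)]
      at this
    simp only [Pi.single_eq_same, mul_one, mul_eq_zero] at this
    rcases this with (h | h) | h
    · exact absurd h h2
    · rcases x with p | l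
      · simp at h
      · exact absurd h (hd l)
    · exact h
  exact ⟨fun v hv => key v fun u => hv u, fun v hv => key v fun u => by
    rw [QuadraticMap.polar_comm]; exact hv u⟩

/-- The first standard vector of the plane reflected. -/
noncomputable def refl0 (F : Type*) [Field F] : orth (plane F) :=
  oRefl (plane F) (Pi.single 1 1) (by simp [plane, weightedSumSquares_apply, Fin.sum_univ_two])

omit [Finite F] in
theorem plane_apply (v : Fin 2 → F) : plane F v = v 0 * v 0 + v 1 * v 1 := by
  simp [plane, weightedSumSquares_apply, Fin.sum_univ_two]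

omit [Finite F] in
/-- An element of `O(x² + y²)`, or its product with a fixed reflection, is a reflection. -/
theorem plane_cases (h2 : (2 : F) ≠ 0) (g : orth (plane F)) :
    (∃ a, ∃ ha : plane F a ≠ 0, g = oRefl (plane F) a ha) ∨
      (∃ a, ∃ ha : plane F a ≠ 0, g * refl0 F = oRefl (plane F) a ha) := by
  set e0 : Fin 2 → F := Pi.single 0 1 with he0
  set e1 : Fin 2 → F := Pi.single 1 1 with he1
  have hvec : ∀ v : Fin 2 → F, v = v 0 • e0 + v 1 • e1 := fun v => by
    funext i; fin_cases i <;> simp [he0, he1]
  let G : (Fin 2 → F) ≃ₗ[F] (Fin 2 → F) := (g : (Fin 2 → F) ≃ₗ[F] (Fin 2 → F))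
  obtain ⟨x, hx⟩ : ∃ x, G e0 0 = x := ⟨_, rfl⟩
  obtain ⟨y, hy⟩ : ∃ y, G e0 1 = y := ⟨_, rfl⟩
  obtain ⟨z, hz⟩ : ∃ z, G e1 0 = z := ⟨_, rfl⟩
  obtain ⟨w, hw⟩ : ∃ w, G e1 1 = w := ⟨_, rfl⟩
  have hgv : ∀ v, G v = ![v 0 * x + v 1 * z, v 0 * y + v 1 * w] := fun v => by
    conv_lhs => rw [hvec v, map_add, map_smul, map_smul]
    funext i
    fin_cases i <;> simp [hx, hy, hz, hw]
  have q0 : x * x + y * y = 1 := by
    have := g.2 e0
    rw [plane_apply, plane_apply] at this
    rw [← hx, ← hy]
    simpa [he0] using this
  have q1 : z * z + w * w = 1 := by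
    have := g.2 e1
    rw [plane_apply, plane_apply] at this
    rw [← hz, ← hw]
    simpa [he1] using this
  have q2 : x * z + y * w = 0 := by
    have := g.2 (e0 + e1)
    rw [plane_apply, plane_apply] at this
    change G (e0 + e1) 0 * G (e0 + e1) 0 + G (e0 + e1) 1 * G (e0 + e1) 1 = _ at this
    rw [hgv] at this
    simp [he0, he1] at this
    refine (mul_eq_zero.1 (show (2 : F) * (x * z + y * w) = 0 from ?_)).resolve_left h2
    linear_combination this - q0 - q1
  have hdet : (x * w - y * z) * (x * w - y * z) = 1 := by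
    linear_combination (z * z + w * w) * q0 + q1 - (x * z + y * w) * q2
  have hrefl : ∀ (G' : orth (plane F)) (a b : F),
      (∀ v, (G' : (Fin 2 → F) ≃ₗ[F] (Fin 2 → F)) v = ![v 0 * a + v 1 * b, v 0 * b - v 1 * a]) →
      a * a + b * b = 1 → ∃ c, ∃ hc : plane F c ≠ 0, G' = oRefl (plane F) c hc := by
    intro G' a b hG' hab
    by_cases ha : a = 1
    · have hb : b = 0 := mul_self_eq_zero.1 (by subst ha; linear_combination hab)
      refine ⟨e1, by simp [plane_apply, he1], Subtype.ext (LinearEquiv.ext fun v => ?_)⟩
      show _ = refl (plane F) e1 (by simp [plane_apply, he1]) v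
      rw [hG', refl_apply]
      simp only [plane, polar_weighted, weightedSumSquares_apply, Fin.sum_univ_two]
      funext i
      fin_cases i <;> simp [he1, ha, hb] <;> ring
    · have hne : plane F ![1 - a, -b] = 2 * (1 - a) := by
        rw [plane_apply]; simp; linear_combination hab
      have hca : (1 - a) ≠ 0 := sub_ne_zero.2 (Ne.symm ha)
      refine ⟨![1 - a, -b], by rw [hne]; exact mul_ne_zero h2 hca,
        Subtype.ext (LinearEquiv.ext fun v => ?_)⟩
      show _ = refl (plane F) ![1 - a, -b] (by rw [hne]; exact mul_ne_zero h2 hca) v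
      rw [hG', refl_apply, hne]
      simp only [plane, polar_weighted, Fin.sum_univ_two]
      funext i
      fin_cases i <;> simp <;> field_simp
      · ring
      · linear_combination (v 1) * hab
  rcases mul_self_eq_one_iff.1 hdet with hp | hn
  · refine Or.inr (hrefl _ x y (fun v => ?_) q0)
    have hz' : z = -y := by
      linear_combination (-z) * q0 + x * q2 - y * hp
    have hw' : w = x := by
      linear_combination (-w) * q0 + y * q2 + x * hp
    show G (refl (plane F) e1 (by simp [plane_apply, he1]) v) = _
    rw [hgv, refl_apply]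
    simp only [plane, polar_weighted, weightedSumSquares_apply, Fin.sum_univ_two]
    subst hz'
    subst hw'
    funext i
    fin_cases i <;> simp [he1] <;> ring
  · refine Or.inl (hrefl g x y (fun v => ?_) q0)
    have hz' : z = y := by
      linear_combination (-z) * q0 + x * q2 - y * hn
    have hw' : w = -x := by
      linear_combination (-w) * q0 + y * q2 + x * hn
    show G v = _
    rw [hgv, hz', hw']
    funext i
    fin_cases i <;> simp <;> ring

/-- The reflections in vectors of one plane, or of one line. -/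
def parRefls (D : Subgroup (orth (plane F))) (k r : ℕ) : Set (Par F k r) :=
  {p | (∃ (j : Fin k) (x : orth (plane F)), x ∈ D ∧
      (∃ a, ∃ ha : plane F a ≠ 0, x = oRefl (plane F) a ha) ∧ p = (Pi.mulSingle j x, 1)) ∨
    ∃ l : Fin r, p = (1, Pi.mulSingle l (-1))}

/-- The block-diagonal 2-group. -/
noncomputable def parGroup (D : Subgroup (orth (plane F))) (k r : ℕ) : Subgroup (Par F k r) :=
  (Subgroup.pi Set.univ fun _ : Fin k => D).prod ⊤

omit [Finite F] in
theorem parGroup_le_closure (h2 : (2 : F) ≠ 0) {D : Subgroup (orth (plane F))} (hD : refl0 F ∈ D) :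
    parGroup D k r ≤ Subgroup.closure (parRefls D k r) := by
  have hs0 : refl0 F * refl0 F = 1 := oRefl_mul_self _ _
  have hblock : ∀ (j : Fin k), ∀ x ∈ D,
      ((Pi.mulSingle j x, 1) : Par F k r) ∈ Subgroup.closure (parRefls D k r) := by
    intro j x hx
    rcases plane_cases h2 x with ⟨a, ha, hxa⟩ | ⟨a, ha, hxa⟩
    · exact Subgroup.subset_closure (Or.inl ⟨j, x, hx, ⟨a, ha, hxa⟩, rfl⟩)
    · have h1 : ((Pi.mulSingle j (x * refl0 F), 1) : Par F k r) ∈ Subgroup.closure (parRefls D k r) :=
        Subgroup.subset_closure (Or.inl ⟨j, _, D.mul_mem hx hD, ⟨a, ha, hxa⟩, rfl⟩)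
      have h0 : ((Pi.mulSingle j (refl0 F), 1) : Par F k r) ∈ Subgroup.closure (parRefls D k r) :=
        Subgroup.subset_closure (Or.inl ⟨j, _, hD, ⟨_, _, rfl⟩, rfl⟩)
      have h3 := Subgroup.mul_mem _ h1 h0
      rwa [Prod.mk_mul_mk, one_mul, ← Pi.mulSingle_mul, mul_assoc, hs0, mul_one] at h3
  rintro ⟨g, s⟩ ⟨hg, -⟩
  have e1 : ((g, 1) : Par F k r) ∈ Subgroup.closure (parRefls D k r) := by
    have : g ∈ (Subgroup.closure (parRefls D k r)).comap (MonoidHom.inl _ _) :=
      Subgroup.pi_mem_of_mulSingle_mem g fun j => hblock j (g j) (hg j trivial)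
    exact this
  have e2 : ((1, s) : Par F k r) ∈ Subgroup.closure (parRefls D k r) := by
    have : s ∈ (Subgroup.closure (parRefls D k r)).comap (MonoidHom.inr _ _) :=
      Subgroup.pi_mem_of_mulSingle_mem s fun l => by
        rcases Int.units_eq_one_or (s l) with h | h <;> rw [h]
        · rw [Pi.mulSingle_one]; exact one_mem _
        · exact Subgroup.subset_closure (Or.inr ⟨l, rfl⟩)
    exact this
  have := Subgroup.mul_mem _ e1 e2
  simpa using this

theorem involGen_base (h2 : (2 : F) ≠ 0) (hk : 2 ≤ k) {d : Fin r → F} (hd : ∀ l, d l ≠ 0)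
    {D : Subgroup (orth (plane F))} (hD : refl0 F ∈ D) {p : Par F k r} (hp : p ∈ parGroup D k r)
    (hpc : base d p ∈ commutator (orth (blockForm k d))) :
    base d p ∈ Subgroup.closure
      {x | (x ∈ (parGroup D k r).map (base d) ∧ x ∈ commutator (orth (blockForm k d))) ∧ x * x = 1} := by
  classical
  have hQ := blockForm_nondeg (k := k) h2 hd
  have hR := reflGroup_eq_orth_of_two_ne hQ h2
  have hn : 2 ≤ Module.finrank F (Fin k × Fin 2 ⊕ Fin r → F) := by
    rw [Module.finrank_fintype_fun_eq_card]
    simp only [Fintype.card_sum, Fintype.card_prod, Fintype.card_fin]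
    omega
  have hker := ker_orthInvariant hQ hn h2 hR
  set ψ : Par F k r →* SqClass F × Multiplicative (ZMod 2) :=
    (orthInvariant hQ hR).comp (base d) with hψdef
  set L := (Subgroup.closure
      {x | (x ∈ (parGroup D k r).map (base d) ∧ x ∈ commutator (orth (blockForm k d))) ∧ x * x = 1}).comap
      (base d) with hL
  suffices p ∈ L from this
  have hmem : ∀ q ∈ parRefls D k r, q ∈ parGroup D k r := by
    rintro q (⟨j, x, hx, -, rfl⟩ | ⟨l, rfl⟩)
    · refine ⟨fun j' _ => ?_, trivial⟩
      by_cases h : j' = j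
      · subst h; simpa using hx
      · simp [Pi.mulSingle_eq_of_ne h]
    · exact ⟨fun j' _ => by simp, trivial⟩
  have hinv : ∀ q ∈ parRefls D k r, q * q = 1 := by
    rintro q (⟨j, x, -, ⟨a, ha, rfl⟩, rfl⟩ | ⟨l, rfl⟩)
    · rw [Prod.mk_mul_mk, ← Pi.mulSingle_mul, oRefl_mul_self, Pi.mulSingle_one, one_mul,
        Prod.mk_one_one]
    · rw [Prod.mk_mul_mk, ← Pi.mulSingle_mul, one_mul, Int.units_mul_self, Pi.mulSingle_one,
        Prod.mk_one_one]
  have hval : ∀ q ∈ parRefls D k r, (ψ q).2 = Multiplicative.ofAdd 1 := by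
    rintro q (⟨j, x, -, ⟨a, ha, rfl⟩, rfl⟩ | ⟨l, rfl⟩)
    · rw [hψdef, MonoidHom.comp_apply, base_plane_refl d j a ha, orthInvariant_oRefl]
    · rw [hψdef, MonoidHom.comp_apply, base_rest_refl d l (hd l), orthInvariant_oRefl]
  have hcopy : ∀ (j j' : Fin k) (x : orth (plane F)),
      (∃ a, ∃ ha : plane F a ≠ 0, x = oRefl (plane F) a ha) →
      ψ (Pi.mulSingle j x, 1) = ψ (Pi.mulSingle j' x, 1) := by
    rintro j j' x ⟨a, ha, rfl⟩
    rw [hψdef, MonoidHom.comp_apply, MonoidHom.comp_apply, base_plane_refl d j a ha,
      base_plane_refl d j' a ha, orthInvariant_oRefl, orthInvariant_oRefl]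
    simp only [blockForm_blockVec]
  have hconj : ∀ q ∈ parRefls D k r, ∀ s ∈ parRefls D k r, q * s * q ∈ parRefls D k r := by
    intro q hq s hs
    by_cases hc : Commute q s
    · rwa [hc.eq, mul_assoc, hinv q hq, mul_one]
    rcases hq with ⟨j, x, hx, ⟨a, ha, rfl⟩, rfl⟩ | ⟨l, rfl⟩
    · rcases hs with ⟨j', y, hy, ⟨b, hb, rfl⟩, rfl⟩ | ⟨l', rfl⟩
      · rcases eq_or_ne j j' with rfl | hne
        · refine Or.inl ⟨j, oRefl (plane F) a ha * oRefl (plane F) b hb * oRefl (plane F) a ha,
            D.mul_mem (D.mul_mem hx hy) hx, ⟨(oRefl (plane F) a ha :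
              (Fin 2 → F) ≃ₗ[F] (Fin 2 → F)) b, by rw [(oRefl (plane F) a ha).2]; exact hb, ?_⟩, ?_⟩
          · refine Subtype.ext ?_
            show refl (plane F) a ha * refl (plane F) b hb * refl (plane F) a ha = _
            nth_rw 2 [← inv_eq_of_mul_eq_one_right (refl_mul_self (plane F) a ha)]
            exact refl_conj (plane F) (refl_mem_orth _ _ _) b hb
          · simp [Pi.mulSingle_mul]
        · exact absurd (Commute.prod (Pi.mulSingle_commute hne _ _) (Commute.one_left _)) hc
      · exact absurd (Commute.prod (Commute.one_right _) (Commute.one_left _)) hc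
    · rcases hs with ⟨j', y, -, -, rfl⟩ | ⟨l', rfl⟩
      · exact absurd (Commute.prod (Commute.one_left _) (Commute.one_right _)) hc
      · exact absurd (Commute.prod (Commute.one_left _) (Commute.all _ _)) hc
  have hthree : ∀ q ∈ parRefls D k r, ∀ s ∈ parRefls D k r, ∀ t ∈ parRefls D k r,
      ψ q = ψ s ∨ ψ t = ψ q ∨ ψ t = ψ s := by
    intro q hq s hs t ht
    obtain ⟨u, v, -, huv⟩ := Nat.card_eq_two_iff.1 (card_sqClass (F := F) h2)
    have h : ∀ z : SqClass F, z = u ∨ z = v := fun z => by
      have : z ∈ ({u, v} : Set (SqClass F)) := huv.symm ▸ trivial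
      exact this
    have e : ∀ z ∈ parRefls D k r, ∀ z' ∈ parRefls D k r, (ψ z).1 = (ψ z').1 → ψ z = ψ z' :=
      fun z hz z' hz' he => Prod.ext he ((hval z hz).trans (hval z' hz').symm)
    rcases h (ψ q).1 with h1 | h1 <;> rcases h (ψ s).1 with h2' | h2' <;>
      rcases h (ψ t).1 with h3 | h3 <;>
      first
      | exact Or.inl (e q hq s hs (h1.trans h2'.symm))
      | exact Or.inr (Or.inl (e t ht q hq (h3.trans h1.symm)))
      | exact Or.inr (Or.inr (e t ht s hs (h3.trans h2'.symm)))
  have hinv_mem : ∀ x ∈ parGroup D k r, x * x = 1 → ψ x = 1 → x ∈ L := by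
    intro x hx hx2 hψx
    refine Subgroup.subset_closure ⟨⟨⟨x, hx, rfl⟩, ?_⟩, by rw [← map_mul, hx2, map_one]⟩
    rw [← hker]
    exact hψx
  have hpair : ∀ q ∈ parRefls D k r, ∀ s ∈ parRefls D k r, ψ q = ψ s → q * s ∈ L := by
    intro q hq s hs he
    have hcomm : ∀ q' ∈ parRefls D k r, ∀ s' ∈ parRefls D k r, ψ q' = ψ s' → Commute q' s' →
        q' * s' ∈ L := fun q' hq' s' hs' he' hc =>
      hinv_mem _ ((parGroup D k r).mul_mem (hmem _ hq') (hmem _ hs'))
        (by rw [mul_assoc, ← mul_assoc s', ← hc.eq, mul_assoc q' s' s', hinv _ hs', mul_one,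
          hinv _ hq'])
        (by rw [map_mul, ← he', ← map_mul, hinv _ hq', map_one])
    by_cases hc : Commute q s
    · exact hcomm q hq s hs he hc
    rcases hq with ⟨j, x, hx, hxr, rfl⟩ | ⟨l, rfl⟩
    · rcases hs with ⟨j', y, hy, hyr, rfl⟩ | ⟨l', rfl⟩
      · obtain rfl : j = j' := by
          by_contra hne
          exact hc (Commute.prod (Pi.mulSingle_commute hne _ _) (Commute.one_left _))
        obtain ⟨i, hi⟩ : ∃ i : Fin k, i ≠ j := by
          haveI : Nontrivial (Fin k) := Fin.nontrivial_iff_two_le.2 hk
          exact exists_ne j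
        have hr : ((Pi.mulSingle i x, 1) : Par F k r) ∈ parRefls D k r :=
          Or.inl ⟨i, x, hx, hxr, rfl⟩
        have hA := hcomm _ (Or.inl ⟨j, x, hx, hxr, rfl⟩) _ hr (hcopy j i x hxr)
          (Commute.prod (Pi.mulSingle_commute hi.symm _ _) (Commute.one_left _))
        have hB := hcomm _ hr _ (Or.inl ⟨j, y, hy, hyr, rfl⟩) ((hcopy i j x hxr).trans he)
          (Commute.prod (Pi.mulSingle_commute hi _ _) (Commute.one_left _))
        have := L.mul_mem hA hB
        rwa [mul_assoc, ← mul_assoc ((Pi.mulSingle i x, 1) : Par F k r), hinv _ hr, one_mul] at this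
      · exact absurd (Commute.prod (Commute.one_right _) (Commute.one_left _)) hc
    · rcases hs with ⟨j', y, -, -, rfl⟩ | ⟨l', rfl⟩
      · exact absurd (Commute.prod (Commute.one_left _) (Commute.one_right _)) hc
      · exact absurd (Commute.prod (Commute.one_left _) (Commute.all _ _)) hc
  obtain ⟨l, hl, rfl⟩ : ∃ l : List (Par F k r), (∀ x ∈ l, x ∈ parRefls D k r) ∧ l.prod = p := by
    suffices hgen : ∀ z ∈ Subgroup.closure (parRefls D k r),
        ∃ l : List (Par F k r), (∀ x ∈ l, x ∈ parRefls D k r) ∧ l.prod = z from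
      hgen p (parGroup_le_closure h2 hD hp)
    intro z hp'
    induction hp' using Subgroup.closure_induction with
    | mem x hx => exact ⟨[x], by simpa using hx, by simp⟩
    | one => exact ⟨[], by simp, rfl⟩
    | mul x y _ _ ihx ihy =>
      obtain ⟨l₁, h₁, rfl⟩ := ihx
      obtain ⟨l₂, h₂, rfl⟩ := ihy
      exact ⟨l₁ ++ l₂, fun z hz => (List.mem_append.1 hz).elim (h₁ z) (h₂ z), List.prod_append⟩
    | inv x hxc ihx =>
      obtain ⟨l, h, rfl⟩ := ihx
      clear hxc
      refine ⟨l.reverse, fun z hz => h z (List.mem_reverse.1 hz), ?_⟩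
      rw [eq_comm, inv_eq_iff_mul_eq_one]
      induction l with
      | nil => simp
      | cons a t iht =>
        have := iht fun z hz => h z (List.mem_cons_of_mem _ hz)
        rw [List.prod_cons, List.reverse_cons, List.prod_append, List.prod_cons, List.prod_nil,
          mul_one, mul_assoc, ← mul_assoc t.prod, this, one_mul, hinv a (h a (by simp))]
  refine prod_mem_of_pairs ψ _ hinv (fun q hq h => ?_) hconj hthree hpair l.length l rfl hl ?_
  · have := hval q hq
    rw [h, Prod.snd_one] at this
    exact absurd this (by decide)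
  · have : base d l.prod ∈ (orthInvariant hQ hR).ker := by rw [hker]; exact hpc
    exact this

omit [Finite F] in
theorem blockPerm_mem_commutator (h2 : (2 : F) ≠ 0) {d : Fin r → F} (hd : ∀ l, d l ≠ 0)
    (τ : Equiv.Perm (Fin k)) : blockPerm d τ ∈ commutator (orth (blockForm k d)) := by
  have hQ := blockForm_nondeg (k := k) h2 hd
  induction τ using Equiv.Perm.swap_induction_on with
  | one => rw [map_one]; exact one_mem _
  | swap_mul f x y hxy ih =>
    rw [map_mul]
    refine Subgroup.mul_mem _ ?_ ih
    let a : Fin 2 → Fin k × Fin 2 ⊕ Fin r → F := fun i =>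
      Pi.single (Sum.inl (x, i)) 1 - Pi.single (Sum.inl (y, i)) 1
    have hne : ∀ i, (Sum.inl (x, i) : Fin k × Fin 2 ⊕ Fin r) ≠ Sum.inl (y, i) := fun i h =>
      hxy (Prod.ext_iff.1 (Sum.inl.inj h)).1
    have hpol : ∀ i v, polar (blockForm k d) v (a i) =
        2 * (v (Sum.inl (x, i)) - v (Sum.inl (y, i))) := fun i v => by
      rw [blockForm, polar_weighted, ← Finset.sum_subset (Finset.subset_univ
        ({Sum.inl (x, i), Sum.inl (y, i)} : Finset _)) ?_, Finset.sum_pair (hne i)]
      · simp [a, hne i, (hne i).symm]; ring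
      · intro z _ hz
        simp only [Finset.mem_insert, Finset.mem_singleton, not_or] at hz
        simp [a, hz.1, hz.2]
    have hnorm : ∀ i, blockForm k d (a i) = 2 := fun i => by
      have := hpol i (a i)
      rw [polar_self'] at this
      refine mul_left_cancel₀ h2 (this.trans ?_)
      simp [a, hne i, (hne i).symm]
      norm_num
    have hne2 : ∀ i, blockForm k d (a i) ≠ 0 := fun i => by rw [hnorm]; exact h2
    have e : blockPerm d (Equiv.swap x y) =
        oRefl (blockForm k d) (a 0) (hne2 0) * oRefl (blockForm k d) (a 1) (hne2 1) := by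
      refine Subtype.ext (LinearEquiv.ext fun v => funext fun z => ?_)
      show _ = refl (blockForm k d) (a 0) (hne2 0) (refl (blockForm k d) (a 1) (hne2 1) v) z
      rw [blockPerm_apply, refl_apply, refl_apply, hnorm, hnorm, hpol, hpol]
      rcases z with ⟨j, i⟩ | l
      · rcases eq_or_ne j x with rfl | hjx
        · fin_cases i <;> simp [a, Equiv.swap_apply_left, hne, hxy, Ne.symm hxy] <;> field_simp <;>
            ring
        · rcases eq_or_ne j y with rfl | hjy
          · fin_cases i <;>
              simp [a, Equiv.swap_apply_right, hne, hxy, Ne.symm hxy] <;> field_simp <;> ring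
          · simp [a, Equiv.swap_apply_of_ne_of_ne hjx hjy, hjx, hjy]
      · simp [a]
    rw [e]
    exact mul_mem_commutator_of_isConj (isConj_oRefl hQ (hne2 0) (hne2 1)
      (by rw [hnorm, hnorm, div_self h2]; exact IsSquare.one)) (oRefl_mul_self _ _)

/-- If the order of the block group is the 2-part of the order of the orthogonal group, every Sylow
2-subgroup of the derived group is generated by involutions. -/
theorem involGen_sylow (h2 : (2 : F) ≠ 0) (hk : 2 ≤ k) {d : Fin r → F} (hd : ∀ l, d l ≠ 0)
    (hcard : padicValNat 2 (Nat.card (orth (blockForm k d))) =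
      k * padicValNat 2 (Nat.card (orth (plane F))) + padicValNat 2 k.factorial + r)
    (P : Sylow 2 ↥(commutator (orth (blockForm k d)))) :
    InvolGen ((P : Subgroup ↥(commutator (orth (blockForm k d)))).map
      (commutator (orth (blockForm k d))).subtype) := by
  classical
  haveI : Finite (orth (plane F)) := finite_orth _
  haveI : Finite (orth (blockForm k d)) := finite_orth _
  have hs : refl0 F ^ 2 = 1 := by rw [pow_two]; exact oRefl_mul_self _ _
  have hz : IsPGroup 2 (Subgroup.zpowers (refl0 F)) := by
    intro g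
    obtain ⟨n, hn⟩ := g.2
    refine ⟨1, Subtype.ext ?_⟩
    show (g : orth (plane F)) ^ (2 ^ 1) = 1
    rw [← hn, ← zpow_natCast, ← zpow_mul, mul_comm, zpow_mul, zpow_natCast, pow_one, hs, one_zpow]
  obtain ⟨D, hD⟩ := hz.exists_le_sylow
  have hs0 : refl0 F ∈ (D : Subgroup (orth (plane F))) := hD (Subgroup.mem_zpowers _)
  obtain ⟨T, hT, hTcard⟩ := exists_sylow_perm_invol k
  set B := (parGroup (D : Subgroup (orth (plane F))) k r).map (base d) with hB
  set T' := T.map (blockPerm (k := k) d) with hT'
  have hbinj : Function.Injective (base (k := k) d) := by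
    rw [injective_iff_map_eq_one]
    intro p hp
    have h : ∀ v, baseFun p v = v := fun v => by
      rw [← base_apply, hp]; rfl
    refine Prod.ext (funext fun j => Subtype.ext (LinearEquiv.ext fun w => funext fun i => ?_))
      (funext fun l => ?_)
    · have := congrFun (h (blockVec j w)) (Sum.inl (j, i))
      simpa [baseFun, blockVec] using this
    · have := congrFun (h (Pi.single (Sum.inr l) 1)) (Sum.inr l)
      simp only [baseFun, Sum.elim_inr, Pi.single_eq_same, mul_one] at this
      rcases Int.units_eq_one_or (p.2 l) with e | e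
      · exact e
      · exfalso
        rw [e] at this
        simp at this
        exact h2 (by linear_combination (-1 : F) * this)
  have hpinj : Function.Injective (blockPerm (k := k) d) := by
    rw [injective_iff_map_eq_one]
    intro τ hτ
    refine Equiv.ext fun j => ?_
    have := congrArg (fun g : orth (blockForm k d) =>
      g.1 (blockVec j (fun _ => 1)) (Sum.inl (τ j, 0))) hτ
    simp [blockPerm_apply, blockVec] at this
    exact this
  have hnorm : T' ≤ Subgroup.normalizer (B : Set (orth (blockForm k d))) := by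
    rintro _ ⟨τ, -, rfl⟩
    have key : ∀ σ : Equiv.Perm (Fin k), ∀ p ∈ parGroup (D : Subgroup (orth (plane F))) k r,
        blockPerm d σ * base d p * (blockPerm d σ)⁻¹ ∈ B := fun σ p hp => by
      rw [blockPerm_conj]
      exact ⟨(fun j => p.1 (σ.symm j), p.2), ⟨fun j _ => hp.1 _ trivial, trivial⟩, rfl⟩
    rw [Subgroup.mem_normalizer_iff]
    refine fun x => ⟨?_, ?_⟩
    · rintro ⟨p, hp, rfl⟩
      exact key τ p hp
    · rintro ⟨p, hp, he⟩
      have := key τ⁻¹ p hp
      rw [he, map_inv] at this
      simpa [mul_assoc] using this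
  have hdisj : B ⊓ T' = ⊥ := by
    rw [eq_bot_iff]
    rintro x ⟨⟨p, -, hp⟩, ⟨τ, -, rfl⟩⟩
    have : τ = 1 := by
      refine Equiv.ext fun j => ?_
      by_contra hne
      simp only [Equiv.Perm.coe_one, id_eq] at hne
      have := congrArg (fun g : orth (blockForm k d) =>
        g.1 (blockVec j (fun _ => 1)) (Sum.inl (τ j, 0))) hp
      simp [blockPerm_apply, base_apply, baseFun, blockVec, hne] at this
      rw [show (fun _ : Fin 2 => (0 : F)) = 0 from rfl, map_zero] at this
      exact zero_ne_one this
    rw [Subgroup.mem_bot, this, map_one]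
  haveI : Fact (Nat.Prime 2) := ⟨Nat.prime_two⟩
  have hcardP : Nat.card ↥(B ⊔ T') = 2 ^ (Nat.card (orth (blockForm k d))).factorization 2 := by
    rw [Nat.factorization_def _ Nat.prime_two, hcard, card_sup_of_normalizes hnorm hdisj, hB, hT',
      Subgroup.card_map_of_injective hbinj, Subgroup.card_map_of_injective hpinj, hTcard]
    have : Nat.card (parGroup (D : Subgroup (orth (plane F))) k r) =
        2 ^ (k * padicValNat 2 (Nat.card (orth (plane F)))) * 2 ^ r := by
      rw [parGroup, Nat.card_congr ((Subgroup.prodEquiv _ _).toEquiv), Nat.card_prod,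
        Subgroup.card_top, Nat.card_pi]
      congr 1
      · rw [Nat.card_congr ((Equiv.subtypeEquivRight fun g => (by
            exact ⟨fun h j => h j trivial, fun h j _ => h j⟩ :
            g ∈ Subgroup.pi Set.univ (fun _ : Fin k => (D : Subgroup (orth (plane F)))) ↔
              ∀ j, g j ∈ (D : Subgroup (orth (plane F))))).trans
          (Equiv.subtypePiEquivPi (p := fun _ g => g ∈ (D : Subgroup (orth (plane F)))))),
          Nat.card_pi]
        rw [show Nat.card (D : Subgroup (orth (plane F))) =
          2 ^ padicValNat 2 (Nat.card (orth (plane F))) from by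
            rw [D.card_eq_multiplicity, Nat.factorization_def _ Nat.prime_two]]
        simp [← pow_mul, mul_comm]
      · simp
    rw [this, ← pow_add, ← pow_add]
    congr 1
    omega
  let S₀ : Sylow 2 (orth (blockForm k d)) := Sylow.ofCard (B ⊔ T') hcardP
  have hK : InvolGen ((B ⊔ T') ⊓ (commutator (orth (blockForm k d)))) := by
    rintro x ⟨hx, hxN⟩
    have hx' : x ∈ ((B ⊔ T' : Subgroup _) : Set (orth (blockForm k d))) := hx
    rw [Subgroup.coe_mul_of_right_le_normalizer_left B T' hnorm] at hx'
    obtain ⟨_, ⟨p, hp, rfl⟩, t, ht, rfl⟩ := hx'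
    have hT'N : T' ≤ (commutator (orth (blockForm k d))) := by
      rintro _ ⟨τ, -, rfl⟩
      exact blockPerm_mem_commutator h2 hd τ
    have hpN : base d p ∈ (commutator (orth (blockForm k d))) := by
      have := Subgroup.mul_mem _ hxN (inv_mem (hT'N ht))
      rwa [mul_inv_cancel_right] at this
    refine Subgroup.mul_mem _ ?_ ?_
    · refine Subgroup.closure_mono ?_ (involGen_base h2 hk hd hs0 hp hpN)
      rintro y ⟨⟨hyB, hyN⟩, hy⟩
      exact ⟨⟨le_sup_left (b := T') hyB, hyN⟩, hy⟩
    · refine Subgroup.closure_mono ?_ (involGen_map hT (blockPerm d) ht)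
      rintro y ⟨hy, hy2⟩
      exact ⟨⟨le_sup_right (a := B) hy, hT'N hy⟩, hy2⟩
  obtain ⟨S, hS⟩ := (P.isPGroup'.map (commutator (orth (blockForm k d))).subtype).exists_le_sylow
  obtain ⟨g, rfl⟩ := MulAction.exists_smul_eq (orth (blockForm k d)) S₀ S
  have heq : (P : Subgroup ↥(commutator (orth (blockForm k d)))).map (commutator (orth (blockForm k d))).subtype =
      ((B ⊔ T') ⊓ (commutator (orth (blockForm k d)))).map (MulAut.conj g).toMonoidHom := by
    rw [Subgroup.map_inf _ _ _ (MulAut.conj g).injective]
    have hNg : (commutator (orth (blockForm k d))).map (MulAut.conj g).toMonoidHom = (commutator (orth (blockForm k d))) := by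
      ext y
      constructor
      · rintro ⟨z, hz, rfl⟩
        exact (inferInstance : (commutator (orth (blockForm k d))).Normal).conj_mem z hz g
      · intro hy
        refine ⟨g⁻¹ * y * g, ?_, by simp [mul_assoc]⟩
        have := (inferInstance : (commutator (orth (blockForm k d))).Normal).conj_mem y hy g⁻¹
        rwa [inv_inv] at this
    rw [hNg]
    have hS' : ((g • S₀ : Sylow 2 (orth (blockForm k d))) : Subgroup _) =
        (B ⊔ T').map (MulAut.conj g).toMonoidHom := rfl
    refine le_antisymm (le_inf (hS'.ge.trans' hS |>.trans le_rfl) (Subgroup.map_subtype_le _)) ?_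
    have h := P.is_maximal' (Q := (((g • S₀ : Sylow 2 (orth (blockForm k d))) :
        Subgroup _) ⊓ (commutator (orth (blockForm k d)))).subgroupOf (commutator (orth (blockForm k d))))
      (((g • S₀).isPGroup'.to_le inf_le_left).comap_subtype)
      (fun y hy => ⟨hS ⟨y, hy, rfl⟩, y.2⟩)
    rw [← hS']
    intro y hy
    exact ⟨⟨y, hy.2⟩, h ▸ (show (⟨y, hy.2⟩ : (commutator (orth (blockForm k d)))) ∈ (_ : Subgroup (commutator (orth (blockForm k d)))) from hy), rfl⟩
  rw [heq]
  exact involGen_map hK _

end CfsgLib.Small.OmegaSylow
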