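import Cfsg.Agent.Lib.Small.OmegaSylow
import Cfsg.Agent.Lib.Geometry.FormClass
import Cfsg.Agent.Lib.Geometry.StdForms
import Cfsg.Agent.Lib.Classical.OrthStd

/-!
# Sylow 2-subgroups of the derived groups of the standard orthogonal groups, odd characteristic
-/

set_option autoImplicit false

namespace CfsgLib.Small.OmegaSylow

open QuadraticMap CfsgLib.Geometry CfsgLib.Classical Matrix

section abstractGroup

theorem pow_two_mem_commutator_of_involGen {G H : Type*} [Group G] [Group H] {P : Subgroup G}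
    (f : G →* H) (hf : Function.Injective f) (h : InvolGen (P.map f)) (x : P) :
    x ^ 2 ∈ commutator P := by
  have hc : P.map f ≤ (Subgroup.closure {y : P | y * y = 1}).map (f.comp P.subtype) := by
    refine h.trans ((Subgroup.closure_le _).2 ?_)
    rintro _ ⟨⟨y, hy, rfl⟩, hy2⟩
    exact ⟨⟨y, hy⟩, Subgroup.subset_closure (Subtype.ext (hf (by simpa using hy2))), rfl⟩
  obtain ⟨z, hz, hzx⟩ := hc ⟨x, x.2, rfl⟩
  obtain rfl : z = x := Subtype.ext (hf hzx)
  have key : Subgroup.closure {y : P | y * y = 1} ≤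
      ((powMonoidHom 2).comp (Abelianization.of (G := P))).ker := by
    refine (Subgroup.closure_le _).2 fun y hy => ?_
    show Abelianization.of y ^ 2 = 1
    rw [← map_pow, pow_two, show y * y = 1 from hy, map_one]
  rw [← Abelianization.ker_of, MonoidHom.mem_ker, map_pow]
  exact key hz

theorem pow_two_mem_commutator_of_mulEquiv {G H : Type*} [Group G] [Group H] [Finite G] (e : G ≃* H)
    (h : ∀ P : Sylow 2 ↥(commutator H),
      InvolGen ((P : Subgroup ↥(commutator H)).map (commutator H).subtype))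
    (P : Sylow 2 ↥(commutator G)) (x : (P : Subgroup ↥(commutator G))) :
    x ^ 2 ∈ commutator (P : Subgroup ↥(commutator G)) := by
  haveI : Fact (Nat.Prime 2) := ⟨Nat.prime_two⟩
  have hmap : (commutator G).map e.toMonoidHom = commutator H := by
    rw [commutator_def, commutator_def, Subgroup.map_commutator,
      Subgroup.map_top_of_surjective _ e.surjective]
  let ψ : ↥(commutator G) ≃* ↥(commutator H) :=
    (e.subgroupMap _).trans (MulEquiv.subgroupCongr hmap)
  have := h (P.mapSurjective (f := ψ.toMonoidHom) ψ.surjective)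
  rw [show ((P.mapSurjective (f := ψ.toMonoidHom) ψ.surjective : Sylow 2 ↥(commutator H)) :
    Subgroup ↥(commutator H)) = (P : Subgroup ↥(commutator G)).map ψ.toMonoidHom from rfl,
    Subgroup.map_map] at this
  have hinj : Function.Injective ((commutator H).subtype.comp ψ.toMonoidHom) :=
    fun a b hab => ψ.injective (Subtype.ext hab)
  exact pow_two_mem_commutator_of_involGen _ hinj this x

end abstractGroup

section arith

theorem padic_two_two : padicValNat 2 2 = 1 := by
  haveI : Fact (Nat.Prime 2) := ⟨Nat.prime_two⟩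
  exact padicValNat.self (by norm_num)

theorem padic_two_mul {a b : ℕ} (ha : a ≠ 0) (hb : b ≠ 0) :
    padicValNat 2 (a * b) = padicValNat 2 a + padicValNat 2 b :=
  haveI : Fact (Nat.Prime 2) := ⟨Nat.prime_two⟩
  padicValNat.mul ha hb

theorem padic_two_of_mod {n : ℕ} (h : n % 4 = 2) : padicValNat 2 n = 1 := by
  obtain ⟨k, rfl⟩ : ∃ k, n = 2 * (2 * k + 1) := ⟨n / 4, by omega⟩
  rw [padic_two_mul two_ne_zero (by omega), padic_two_two,
    padicValNat.eq_zero_of_not_dvd (by omega), add_zero]

variable {q : ℕ}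

theorem padic_pow_two_mul_sub (hq : Odd q) (hq1 : 1 < q) {i : ℕ} (hi : i ≠ 0) :
    padicValNat 2 (q ^ (2 * i) - 1) = padicValNat 2 (q ^ 2 - 1) + padicValNat 2 i := by
  obtain ⟨j, rfl⟩ := hq
  have h1 := padicValNat.pow_two_sub_pow (x := 2 * j + 1) (y := 1) hq1 (by omega) (by omega)
    (n := 2 * i) (by omega) (even_two_mul i)
  rw [one_pow, padic_two_mul two_ne_zero hi, padic_two_two] at h1
  have h2 : (2 * j + 1) ^ 2 - 1 = (2 * j + 1 + 1) * (2 * j + 1 - 1) := by
    rw [← Nat.sq_sub_sq, one_pow]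
  rw [h2, padic_two_mul (by omega) (by omega)]
  omega

theorem pow_pos_sub (hq1 : 1 < q) {n : ℕ} (hn : n ≠ 0) : q ^ n - 1 ≠ 0 := by
  have := Nat.one_lt_pow hn hq1
  omega

theorem prod_ne_zero (hq1 : 1 < q) (m : ℕ) :
    ∏ i ∈ Finset.range m, (q ^ (2 * (i + 1)) - 1) ≠ 0 :=
  Finset.prod_ne_zero_iff.2 fun _ _ => pow_pos_sub hq1 (by omega)

theorem padic_prod (hq : Odd q) (hq1 : 1 < q) (m : ℕ) :
    padicValNat 2 (∏ i ∈ Finset.range m, (q ^ (2 * (i + 1)) - 1)) =
      m * padicValNat 2 (q ^ 2 - 1) + padicValNat 2 m.factorial := by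
  induction m with
  | zero => simp
  | succ m ih =>
    rw [Finset.prod_range_succ, padic_two_mul (prod_ne_zero hq1 m) (pow_pos_sub hq1 (by omega)),
      ih, padic_pow_two_mul_sub hq hq1 (Nat.succ_ne_zero m), Nat.factorial_succ,
      padic_two_mul (Nat.succ_ne_zero m) (Nat.factorial_pos m).ne', Nat.succ_mul]
    omega

theorem padic_two_pow_mul (hq : Odd q) (n : ℕ) {a : ℕ} (ha : a ≠ 0) :
    padicValNat 2 (2 * q ^ n * a) = 1 + padicValNat 2 a := by
  have hn : Odd (q ^ n) := hq.pow
  rw [padic_two_mul (mul_ne_zero two_ne_zero hn.pos.ne') ha, padic_two_mul two_ne_zero hn.pos.ne',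
    padic_two_two, padicValNat.eq_zero_of_not_dvd hn.not_two_dvd_nat, add_zero]

theorem pow_mod_four (hq : Odd q) (n : ℕ) : q ^ n % 4 = 1 ∨ q ^ n % 4 = 3 := by
  obtain ⟨j, hj⟩ : Odd (q ^ n) := hq.pow
  omega

/-- `(q^m - 1)` and `(q^m + 1)`: one has valuation one, the other carries the rest. -/
theorem padic_pow_pm (hq : Odd q) (hq1 : 1 < q) {m : ℕ} (hm : m ≠ 0) :
    padicValNat 2 (q ^ m - 1) + padicValNat 2 (q ^ m + 1) =
      padicValNat 2 (q ^ 2 - 1) + padicValNat 2 m := by
  rw [← padic_pow_two_mul_sub hq hq1 hm, ← padic_two_mul (pow_pos_sub hq1 hm) (by omega),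
    mul_comm, ← Nat.sq_sub_sq, one_pow, ← pow_mul, mul_comm m]

end arith

variable {F : Type*} [Field F] [Finite F]

theorem padic_card_plane (h2 : (2 : F) ≠ 0) (hq : Odd (Nat.card F)) (hq1 : 1 < Nat.card F) :
    padicValNat 2 (Nat.card (orth (plane F))) = padicValNat 2 (Nat.card F ^ 2 - 1) := by
  haveI := Fintype.ofFinite F
  have hsum := padic_pow_pm hq hq1 one_ne_zero
  rw [pow_one, padicValNat.one, add_zero] at hsum
  by_cases hi : IsSquare (-1 : F)
  · obtain ⟨i, hi2⟩ := hi
    have h4 : Nat.card F % 4 = 1 := by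
      have := FiniteField.isSquare_neg_one_iff.1 ⟨i, hi2⟩
      rw [← Nat.card_eq_fintype_card] at this
      obtain ⟨j, hj⟩ := hq
      omega
    let T : (Fin 1 ⊕ Fin 1 → F) ≃ₗ[F] (Fin 2 → F) :=
      { toFun := fun v =>
          ![(v (Sum.inl 0) + v (Sum.inr 0)) / 2, i * (v (Sum.inl 0) - v (Sum.inr 0)) / 2]
        map_add' := fun u v => by ext j; fin_cases j <;> simp <;> ring
        map_smul' := fun c v => by ext j; fin_cases j <;> simp <;> ring
        invFun := fun w => Sum.elim (fun _ => w 0 - i * w 1) (fun _ => w 0 + i * w 1)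
        left_inv := fun v => by
          ext (j | j) <;> fin_cases j <;> simp <;> field_simp
          · linear_combination (-(v (Sum.inl 0) - v (Sum.inr 0))) * hi2.symm
          · linear_combination (v (Sum.inl 0) - v (Sum.inr 0)) * hi2.symm
        right_inv := fun w => by
          ext j
          fin_cases j <;> simp <;> field_simp
          · ring
          · linear_combination (-2 * w 1) * hi2.symm }
    have hT : ∀ v, Cfsg.quadFormPlus 1 F v = plane F (T v) := fun v => by
      rw [plane_apply]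
      simp [Cfsg.quadFormPlus, T]
      field_simp
      linear_combination (-(v (Sum.inl 0) - v (Sum.inr 0)) ^ 2) * hi2.symm
    have hc := card_isometry_plus (F := F) 0
    rw [card_isometryGroup _ _ T hT] at hc
    rw [hc]
    simp only [zero_add, pow_one, Finset.range_zero, Finset.prod_empty, mul_one, pow_zero, mul_zero]
    rw [padic_two_mul two_ne_zero (by omega), padic_two_two]
    rw [padic_two_of_mod (n := Nat.card F + 1) (by omega)] at hsum
    omega
  · have h4 : Nat.card F % 4 = 3 := by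
      rcases pow_mod_four hq 1 with h | h <;> rw [pow_one] at h
      · exact absurd (FiniteField.isSquare_neg_one_iff.2 (by
          rw [← Nat.card_eq_fintype_card]; omega)) hi
      · exact h
    have hbin : BinAniso (0 : F) 1 := by
      intro z₁ z₂ hz
      by_cases h0 : z₂ = 0
      · subst h0
        simp at hz
        exact ⟨hz, rfl⟩
      · exact absurd ⟨z₁ / z₂, by field_simp; linear_combination -hz⟩ hi
    have hb : plane F = binForm 0 1 := by
      refine QuadraticMap.ext fun v => ?_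
      rw [plane_apply, binForm_apply]
      ring
    rw [hb, card_orth_binForm hbin, padic_two_mul two_ne_zero (by omega), padic_two_two]
    rw [padic_two_of_mod (n := Nat.card F - 1) (by omega)] at hsum
    omega

variable {ι : Type} [Fintype ι] [DecidableEq ι]

/-- The general criterion. -/
theorem sq_mem_commutator (h2 : (2 : F) ≠ 0) {M : Matrix ι ι F} (hM : (M + Mᵀ).det ≠ 0)
    {Qf : (ι → F) → F} (hQf : ⇑(matQuad M) = Qf) {k r : ℕ} (hk : 2 ≤ k)
    (hι : Fintype.card ι = 2 * k + r) {d : Fin r → F} (hd : ∀ l, d l ≠ 0)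
    (hsq : IsSquare ((M + Mᵀ).det * ∏ l, 2 * d l))
    (hcard : padicValNat 2 (Nat.card (Cfsg.isometryGroup F Qf)) =
      k * padicValNat 2 (Nat.card F ^ 2 - 1) + padicValNat 2 k.factorial + r)
    (hq : Odd (Nat.card F)) (P : Sylow 2 (Cfsg.Omega F Qf))
    (x : (P : Subgroup (Cfsg.Omega F Qf))) :
    x ^ 2 ∈ commutator (P : Subgroup (Cfsg.Omega F Qf)) := by
  subst hQf
  have hq1 : 1 < Nat.card F := Finite.one_lt_card
  have hdet1 : (Matrix.of fun i j => polar (matQuad M) (Pi.basisFun F ι i) (Pi.basisFun F ι j)) =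
      M + Mᵀ := by
    ext i j
    simp [polar_matQuad]
  have hdet2 : (Matrix.of fun i j => polar (blockForm k d) (Pi.basisFun F _ i) (Pi.basisFun F _ j)) =
      Matrix.diagonal (fun x => 2 * Sum.elim (fun _ => (1 : F)) d x) := by
    ext i j
    rw [Matrix.of_apply, blockForm, polar_weighted, Finset.sum_eq_single j
      (by intro y _ hy; simp [hy]) (by simp)]
    rcases eq_or_ne i j with rfl | hij
    · simp
    · simp [hij, hij.symm]
  obtain ⟨g, hg⟩ := exists_isometry_of_disc h2 (blockForm k d) (nondegenerate_matQuad hM)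
    (blockForm_nondeg h2 hd) (by simp [hι, mul_comm]) (Pi.basisFun F ι) (Pi.basisFun F _) (by
      rw [hdet1, hdet2, Matrix.det_diagonal, Fintype.prod_sum_type]
      simp only [Sum.elim_inl, Sum.elim_inr, mul_one, Finset.prod_const, Finset.card_univ,
        Fintype.card_prod, Fintype.card_fin]
      rw [show ∀ a b c : F, a * (b * c) = b * (a * c) from fun a b c => mul_left_comm a b c,
        pow_mul]
      exact IsSquare.mul (IsSquare.sq _) hsq)
  let e : Cfsg.isometryGroup F ⇑(matQuad M) ≃* orth (blockForm k d) :=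
    (isomEquiv _).trans (orthCongr g hg)
  rw [Nat.card_congr e.toEquiv, ← padic_card_plane h2 hq hq1] at hcard
  exact pow_two_mem_commutator_of_mulEquiv e (fun S => involGen_sylow h2 hk hd hcard S) P x

/-- Upper triangular matrix of `quadFormOdd`. -/
def oddMat (m : ℕ) (F : Type*) [Field F] :
    Matrix (Unit ⊕ (Fin m ⊕ Fin m)) (Unit ⊕ (Fin m ⊕ Fin m)) F :=
  fromBlocks 1 0 0 (plusMat m F)

omit [Finite F] in
theorem coe_matQuad_odd (m : ℕ) : ⇑(matQuad (oddMat m F)) = Cfsg.quadFormOdd m F := by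
  funext v
  simp [matQuad_apply, oddMat, plusMat, dotProduct, Cfsg.quadFormOdd, fromBlocks_mulVec]
  ring

omit [Finite F] in
theorem det_odd_gram (m : ℕ) : (oddMat m F + (oddMat m F)ᵀ).det = 2 * (-1) ^ m := by
  rw [oddMat, fromBlocks_transpose, fromBlocks_add]
  simp only [transpose_zero, add_zero, transpose_one]
  rw [det_fromBlocks_zero₁₂, det_plus_gram, det_unique]
  simp [one_add_one_eq_two]

theorem sylow_odd (hq : Odd (Nat.card F)) (m : ℕ) (hm : 2 ≤ m)
    (P : Sylow 2 (Cfsg.Omega F (Cfsg.quadFormOdd m F)))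
    (x : (P : Subgroup (Cfsg.Omega F (Cfsg.quadFormOdd m F)))) :
    x ^ 2 ∈ commutator (P : Subgroup (Cfsg.Omega F (Cfsg.quadFormOdd m F))) := by
  haveI := Fintype.ofFinite F
  have h2 : (2 : F) ≠ 0 := two_ne_zero_of_odd_card rfl (by rwa [← Nat.card_eq_fintype_card])
  have hq1 : 1 < Nat.card F := Finite.one_lt_card
  have hD : (oddMat m F + (oddMat m F)ᵀ).det ≠ 0 := by rw [det_odd_gram]; simp [h2]
  refine sq_mem_commutator h2 hD (coe_matQuad_odd m) hm (r := 1) (by simp; omega)
    (d := ![(-1) ^ m]) (fun l => by fin_cases l; simp) ?_ ?_ hq P x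
  · rw [det_odd_gram]
    exact ⟨2 * (-1) ^ m, by simp⟩
  · rw [card_isometry_odd h2, padic_two_pow_mul hq _ (prod_ne_zero hq1 m), padic_prod hq hq1]
    omega

theorem sylow_plus (hq : Odd (Nat.card F)) (m : ℕ) (hm : 1 ≤ m) (hm' : Even m ∨ 4 ≤ m)
    (P : Sylow 2 (Cfsg.Omega F (Cfsg.quadFormPlus m F)))
    (x : (P : Subgroup (Cfsg.Omega F (Cfsg.quadFormPlus m F)))) :
    x ^ 2 ∈ commutator (P : Subgroup (Cfsg.Omega F (Cfsg.quadFormPlus m F))) := by
  haveI := Fintype.ofFinite F
  have h2 : (2 : F) ≠ 0 := two_ne_zero_of_odd_card rfl (by rwa [← Nat.card_eq_fintype_card])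
  have hq1 : 1 < Nat.card F := Finite.one_lt_card
  have hsqiff := isSquare_neg_one_pow_iff (F := F) Nat.card_eq_fintype_card.symm hq m
  have hD : (plusMat m F + (plusMat m F)ᵀ).det ≠ 0 := by rw [det_plus_gram]; simp
  obtain ⟨n, rfl⟩ : ∃ n, m = n + 1 := ⟨m - 1, by omega⟩
  have hpm := padic_pow_pm hq hq1 (m := n + 1) (Nat.succ_ne_zero n)
  have hfac : padicValNat 2 (n + 1).factorial =
      padicValNat 2 (n + 1) + padicValNat 2 n.factorial := by
    rw [Nat.factorial_succ, padic_two_mul (Nat.succ_ne_zero n) (Nat.factorial_pos n).ne']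
  have hN : padicValNat 2 (Nat.card (Cfsg.isometryGroup F (Cfsg.quadFormPlus (n + 1) F))) =
      1 + (padicValNat 2 (Nat.card F ^ (n + 1) - 1) +
        (n * padicValNat 2 (Nat.card F ^ 2 - 1) + padicValNat 2 n.factorial)) := by
    rw [card_isometry_plus, mul_assoc,
      padic_two_pow_mul hq _ (mul_ne_zero (pow_pos_sub hq1 (Nat.succ_ne_zero n)) (prod_ne_zero hq1 n)),
      padic_two_mul (pow_pos_sub hq1 (Nat.succ_ne_zero n)) (prod_ne_zero hq1 n), padic_prod hq hq1]
  have heven : Even (n + 1) → (Nat.card F) ^ (n + 1) % 4 = 1 := fun h =>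
    hsqiff.1 (by rw [h.neg_one_pow]; exact IsSquare.one)
  rcases pow_mod_four hq (n + 1) with h | h
  · have hn : 2 ≤ n + 1 := by
      rcases hm' with ⟨j, hj⟩ | hj <;> omega
    refine sq_mem_commutator h2 hD (coe_matQuad_plus _) hn (r := 0) (by simp; omega)
      (d := Fin.elim0) (fun l => l.elim0) ?_ ?_ hq P x
    · simpa [det_plus_gram] using hsqiff.2 h
    · rw [hN, hfac, Nat.add_mul, one_mul]
      rw [padic_two_of_mod (n := Nat.card F ^ (n + 1) + 1) (by omega)] at hpm
      omega
  · have hn : 2 ≤ n := by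
      rcases hm' with he | hj
      · have := heven he
        omega
      · omega
    refine sq_mem_commutator h2 hD (coe_matQuad_plus _) hn (r := 2) (by simp; omega)
      (d := ![1, (-1) ^ (n + 1)]) (fun l => by fin_cases l <;> simp) ?_ ?_ hq P x
    · rw [det_plus_gram]
      exact ⟨2 * (-1) ^ (n + 1), by simp [Fin.prod_univ_two]; ring⟩
    · rw [hN, padic_two_of_mod (n := Nat.card F ^ (n + 1) - 1) (by omega)]
      omega

theorem sylow_minus (hq : Odd (Nat.card F)) (n : ℕ) (hn : 2 ≤ n) {a b : F} (hab : BinAniso a b)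
    (P : Sylow 2 (Cfsg.Omega F (Cfsg.quadFormMinus n F a b)))
    (x : (P : Subgroup (Cfsg.Omega F (Cfsg.quadFormMinus n F a b)))) :
    x ^ 2 ∈ commutator (P : Subgroup (Cfsg.Omega F (Cfsg.quadFormMinus n F a b))) := by
  haveI := Fintype.ofFinite F
  have h2 : (2 : F) ≠ 0 := two_ne_zero_of_odd_card rfl (by rwa [← Nat.card_eq_fintype_card])
  have hq1 : 1 < Nat.card F := Finite.one_lt_card
  have hsqiff := isSquare_neg_one_pow_iff (F := F) Nat.card_eq_fintype_card.symm hq (n + 1)
  have hu0 : 4 * b - a * a ≠ 0 := by rw [← pow_two]; exact binAniso_disc hab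
  have hns : ¬ IsSquare (-(4 * b - a * a)) := by
    rintro ⟨s, hs⟩
    have := (hab ((s - a) / 2) 1 (by field_simp; linear_combination -hs)).2
    exact one_ne_zero this
  have hD : (minusMat n F a b + (minusMat n F a b)ᵀ).det ≠ 0 := by
    rw [det_minus_gram]; simp [hu0]
  have hpm := padic_pow_pm hq hq1 (m := n + 1) (Nat.succ_ne_zero n)
  have hfac : padicValNat 2 (n + 1).factorial =
      padicValNat 2 (n + 1) + padicValNat 2 n.factorial := by
    rw [Nat.factorial_succ, padic_two_mul (Nat.succ_ne_zero n) (Nat.factorial_pos n).ne']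
  have hN : padicValNat 2 (Nat.card (Cfsg.isometryGroup F (Cfsg.quadFormMinus n F a b))) =
      1 + (padicValNat 2 (Nat.card F ^ (n + 1) + 1) +
        (n * padicValNat 2 (Nat.card F ^ 2 - 1) + padicValNat 2 n.factorial)) := by
    rw [card_isometry_minus n hab, mul_assoc,
      padic_two_pow_mul hq _ (mul_ne_zero (Nat.succ_ne_zero _) (prod_ne_zero hq1 n)),
      padic_two_mul (Nat.succ_ne_zero _) (prod_ne_zero hq1 n), padic_prod hq hq1]
  rcases pow_mod_four hq (n + 1) with h | h
  · refine sq_mem_commutator h2 hD (coe_matQuad_minus n a b) hn (r := 2) (by simp; omega)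
      (d := ![1, (-1) ^ n * (4 * b - a * a)]) (fun l => by fin_cases l <;> simp [hu0]) ?_ ?_ hq P x
    · rw [det_minus_gram]
      exact ⟨2 * ((-1) ^ n * (4 * b - a * a)), by simp [Fin.prod_univ_two]; ring⟩
    · rw [hN, padic_two_of_mod (n := Nat.card F ^ (n + 1) + 1) (by omega)]
      omega
  · refine sq_mem_commutator h2 hD (coe_matQuad_minus n a b) (k := n + 1) (by omega) (r := 0)
      (by simp; omega) (d := Fin.elim0) (fun l => l.elim0) ?_ ?_ hq P x
    · have hs : ¬ IsSquare ((-1 : F) ^ (n + 1)) := fun hs => by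
        have := hsqiff.1 hs
        omega
      have := isSquare_mul_of_not hs hns
      simp only [det_minus_gram, Finset.univ_eq_empty, Finset.prod_empty, mul_one]
      convert this using 1
      ring
    · rw [hN, hfac, Nat.add_mul, one_mul]
      rw [padic_two_of_mod (n := Nat.card F ^ (n + 1) - 1) (by omega)] at hpm
      omega

end CfsgLib.Small.OmegaSylow
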