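import Cfsg.Agent.Lib.Small.Order168
import Cfsg.Agent.Lib.Chars.Burnside

/-!
# Klein four-subgroups and maximal subgroups of a simple group of order 168
-/

set_option autoImplicit false

open Subgroup
open CfsgLib.Techniques (cj mem_cj conj_mem_cj cj_mono cj_mul cj_inv_cj cj_cj_inv card_cj
  cj_normalizer cj_eq_self_of_mem mem_normalizer_iff_cj)

namespace CfsgLib.Small

section D4

/-- A first Klein four-subgroup of the dihedral group of order 8. -/
def kleinD4₁ : Subgroup (DihedralGroup 4) where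
  carrier := {g | g = 1 ∨ g = .r 2 ∨ g = .sr 0 ∨ g = .sr 2}
  mul_mem' {a b} ha hb := by
    rcases ha with rfl | rfl | rfl | rfl <;> rcases hb with rfl | rfl | rfl | rfl <;>
      simp only [Set.mem_setOf_eq] <;> decide
  one_mem' := Or.inl rfl
  inv_mem' {a} ha := by
    rcases ha with rfl | rfl | rfl | rfl <;> simp only [Set.mem_setOf_eq] <;> decide

/-- A second Klein four-subgroup of the dihedral group of order 8. -/
def kleinD4₂ : Subgroup (DihedralGroup 4) where
  carrier := {g | g = 1 ∨ g = .r 2 ∨ g = .sr 1 ∨ g = .sr 3}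
  mul_mem' {a b} ha hb := by
    rcases ha with rfl | rfl | rfl | rfl <;> rcases hb with rfl | rfl | rfl | rfl <;>
      simp only [Set.mem_setOf_eq] <;> decide
  one_mem' := Or.inl rfl
  inv_mem' {a} ha := by
    rcases ha with rfl | rfl | rfl | rfl <;> simp only [Set.mem_setOf_eq] <;> decide

theorem mem_kleinD4₁ {g : DihedralGroup 4} :
    g ∈ kleinD4₁ ↔ g = 1 ∨ g = .r 2 ∨ g = .sr 0 ∨ g = .sr 2 := Iff.rfl

theorem mem_kleinD4₂ {g : DihedralGroup 4} :
    g ∈ kleinD4₂ ↔ g = 1 ∨ g = .r 2 ∨ g = .sr 1 ∨ g = .sr 3 := Iff.rfl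

theorem kleinD4_ne : kleinD4₁ ≠ kleinD4₂ := fun e => by
  have : (DihedralGroup.sr (0 : ZMod 4)) ∈ kleinD4₂ :=
    e ▸ mem_kleinD4₁.mpr (Or.inr (Or.inr (Or.inl rfl)))
  rw [mem_kleinD4₂] at this
  revert this
  decide

/-- A group of order four in which every element squares to one is a Klein four-group. -/
theorem isKleinFour_of_sq {G : Type*} [Group G] [Finite G] (h4 : Nat.card G = 4)
    (hsq : ∀ g : G, g * g = 1) : IsKleinFour G := by
  refine ⟨h4, ?_⟩
  have hd : Monoid.exponent G ∣ 2 :=
    Monoid.exponent_dvd_of_forall_pow_eq_one fun g => by rw [sq]; exact hsq g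
  rcases (Nat.dvd_prime Nat.prime_two).mp hd with h | h
  · rw [Monoid.exp_eq_one_iff] at h
    have := Finite.card_le_one_iff_subsingleton.mpr h
    omega
  · exact h

theorem sq_eq_one_of_isKleinFour {G : Type*} [Group G] [IsKleinFour G] (g : G) : g * g = 1 := by
  rw [← sq]
  have := Monoid.pow_exponent_eq_one g
  rwa [IsKleinFour.exponent_two] at this

theorem isKleinFour_map {G H : Type*} [Group G] [Group H] [Finite H] {f : G →* H}
    (hf : Function.Injective f) {U : Subgroup G} (hU : IsKleinFour U) :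
    IsKleinFour (U.map f) := by
  refine isKleinFour_of_sq ?_ ?_
  · rw [← Nat.card_congr (U.equivMapOfInjective f hf).toEquiv]
    exact IsKleinFour.card_four
  · rintro ⟨y, ⟨u, hu, rfl⟩⟩
    apply Subtype.ext
    show f u * f u = 1
    rw [← map_mul]
    have := congrArg Subtype.val (sq_eq_one_of_isKleinFour (G := U) ⟨u, hu⟩)
    rw [show u * u = 1 from this, map_one]

theorem isKleinFour_kleinD4₁ : IsKleinFour kleinD4₁ := by
  refine isKleinFour_of_sq ?_ ?_
  · rw [Nat.card_congr (Equiv.subtypeEquivRight (fun g => mem_kleinD4₁)),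
      Nat.card_eq_fintype_card]
    decide
  · rintro ⟨g, hg⟩
    apply Subtype.ext
    show g * g = 1
    rcases mem_kleinD4₁.mp hg with rfl | rfl | rfl | rfl <;> decide

theorem isKleinFour_kleinD4₂ : IsKleinFour kleinD4₂ := by
  refine isKleinFour_of_sq ?_ ?_
  · rw [Nat.card_congr (Equiv.subtypeEquivRight (fun g => mem_kleinD4₂)),
      Nat.card_eq_fintype_card]
    decide
  · rintro ⟨g, hg⟩
    apply Subtype.ext
    show g * g = 1
    rcases mem_kleinD4₂.mp hg with rfl | rfl | rfl | rfl <;> decide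

theorem kleinD4_pairs : ∀ a b : DihedralGroup 4, a ≠ 1 → b ≠ 1 → a ≠ b → a * a = 1 → b * b = 1 →
    a * b * (a * b) = 1 →
    (∀ g ∈ [(1 : DihedralGroup 4), .r 2, .sr 0, .sr 2], g ∈ [1, a, b, a * b]) ∨
    (∀ g ∈ [(1 : DihedralGroup 4), .r 2, .sr 1, .sr 3], g ∈ [1, a, b, a * b]) := by
  decide

theorem isKleinFour_D4 {V : Subgroup (DihedralGroup 4)} (hV : IsKleinFour V) :
    V = kleinD4₁ ∨ V = kleinD4₂ := by
  obtain ⟨a, ha⟩ : ∃ a : V, a ≠ 1 := by
    by_contra hno
    have : Subsingleton V := ⟨fun a b => by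
      rw [not_not.mp fun e => hno ⟨a, e⟩, not_not.mp fun e => hno ⟨b, e⟩]⟩
    have := Finite.card_le_one_iff_subsingleton.mpr this
    rw [IsKleinFour.card_four] at this
    omega
  obtain ⟨b, hb1, hba⟩ : ∃ b : V, b ≠ 1 ∧ b ≠ a := by
    by_contra hno
    have hall : ∀ b : V, b = 1 ∨ b = a := fun b => by
      by_contra hb
      exact hno ⟨b, fun e => hb (Or.inl e), fun e => hb (Or.inr e)⟩
    have hle := Nat.card_le_card_of_surjective (fun i : Bool => if i then a else 1)
      (fun b => by rcases hall b with e | e <;> [exact ⟨false, by simp [e]⟩; exact ⟨true, by simp [e]⟩])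
    rw [IsKleinFour.card_four] at hle
    simp at hle
  have key := kleinD4_pairs (a : DihedralGroup 4) (b : DihedralGroup 4)
    (fun e => ha (Subtype.ext e)) (fun e => hb1 (Subtype.ext e))
    (fun e => hba (Subtype.ext e).symm)
    (congrArg Subtype.val (sq_eq_one_of_isKleinFour a))
    (congrArg Subtype.val (sq_eq_one_of_isKleinFour b))
    (congrArg Subtype.val (sq_eq_one_of_isKleinFour (a * b)))
  have hmem : ∀ g ∈ [(1 : DihedralGroup 4), (a : DihedralGroup 4), (b : DihedralGroup 4),
      (a : DihedralGroup 4) * b], g ∈ V := by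
    intro g hg
    simp only [List.mem_cons, List.not_mem_nil, or_false] at hg
    rcases hg with rfl | rfl | rfl | rfl
    · exact one_mem V
    · exact a.2
    · exact b.2
    · exact mul_mem a.2 b.2
  have hV4 : Nat.card V = 4 := IsKleinFour.card_four
  rcases key with k | k
  · left
    refine (Subgroup.eq_of_le_of_card_ge (fun g hg => hmem g (k g ?_)) ?_).symm
    · simpa using mem_kleinD4₁.mp hg
    · rw [hV4, isKleinFour_kleinD4₁.card_four]
  · right
    refine (Subgroup.eq_of_le_of_card_ge (fun g hg => hmem g (k g ?_)) ?_).symm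
    · simpa using mem_kleinD4₂.mp hg
    · rw [hV4, isKleinFour_kleinD4₂.card_four]

end D4

section order168

variable {G : Type*} [Group G] [Finite G] [IsSimpleGroup G] (h : Nat.card G = 168)

include h

theorem exists_kleins (T : Sylow 2 G) : ∃ U₁ U₂ : Subgroup G, U₁ ≠ U₂ ∧
    U₁ ≤ (T : Subgroup G) ∧ IsKleinFour U₁ ∧ U₂ ≤ (T : Subgroup G) ∧ IsKleinFour U₂ ∧
    ∀ U : Subgroup G, U ≤ (T : Subgroup G) → IsKleinFour U → U = U₁ ∨ U = U₂ := by
  obtain ⟨e⟩ := sylow2_dihedral h T
  have hf : Function.Injective ((T : Subgroup G).subtype.comp e.symm.toMonoidHom) :=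
    (T : Subgroup G).subtype_injective.comp e.symm.injective
  set f := (T : Subgroup G).subtype.comp e.symm.toMonoidHom with hfdef
  have hrange : ∀ V : Subgroup (DihedralGroup 4), V.map f ≤ (T : Subgroup G) := by
    rintro V _ ⟨d, -, rfl⟩
    exact (e.symm d).2
  refine ⟨kleinD4₁.map f, kleinD4₂.map f,
    fun e' => kleinD4_ne (map_injective hf e'), hrange _,
    isKleinFour_map hf isKleinFour_kleinD4₁, hrange _,
    isKleinFour_map hf isKleinFour_kleinD4₂, fun U hU hK => ?_⟩
  have hUr : (U.comap f).map f = U := by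
    rw [map_comap_eq, inf_eq_right]
    intro u hu
    exact ⟨e ⟨u, hU hu⟩, by simp [hfdef]⟩
  have hV : IsKleinFour (U.comap f) := by
    refine isKleinFour_of_sq ?_ ?_
    · rw [Nat.card_congr ((U.comap f).equivMapOfInjective f hf).toEquiv, hUr]
      exact IsKleinFour.card_four
    · rintro ⟨d, hd⟩
      apply Subtype.ext
      apply hf
      show f (d * d) = f 1
      rw [map_mul, map_one]
      exact congrArg Subtype.val (sq_eq_one_of_isKleinFour (G := U) ⟨f d, hd⟩)
  rw [← hUr]
  rcases isKleinFour_D4 hV with e' | e' <;> rw [e']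
  · exact Or.inl rfl
  · exact Or.inr rfl

theorem le_normalizer_klein (T : Sylow 2 G) {U : Subgroup G} (hU : U ≤ (T : Subgroup G))
    (hK : IsKleinFour U) : (T : Subgroup G) ≤ normalizer (U : Set G) :=
  normal_le_normalizer_of_half hU (by rw [card_sylow2 h T, hK.card_four])

omit [IsSimpleGroup G] h in
theorem isKleinFour_cj {U : Subgroup G} (hK : IsKleinFour U) (g : G) : IsKleinFour (cj g U) :=
  isKleinFour_map (MulAut.conj g).injective hK

theorem exists_sylow2_klein {U : Subgroup G} (hK : IsKleinFour U) :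
    ∃ S : Sylow 2 G, U ≤ (S : Subgroup G) := by
  have := Fact.mk Nat.prime_two
  exact (IsPGroup.of_card (p := 2) (n := 2) (by rw [hK.card_four]; norm_num)).exists_le_sylow

theorem klein_ne_top {U : Subgroup G} (hK : IsKleinFour U) :
    normalizer (U : Set G) ≠ ⊤ := by
  refine normalizer_ne_top (fun e => ?_) (fun e => ?_)
  · have := hK.card_four
    rw [e, card_bot] at this
    omega
  · have := hK.card_four
    rw [e, card_top, h] at this
    omega

theorem card_normalizer_klein {U : Subgroup G} (hK : IsKleinFour U) :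
    Nat.card (normalizer (U : Set G)) = 24 := by
  obtain ⟨S, hS⟩ := exists_sylow2_klein h hK
  set N := normalizer (U : Set G) with hN
  have hSN := le_normalizer_klein h S hS hK
  have h8 : 8 ∣ Nat.card N := card_sylow2 h S ▸ card_dvd_of_le hSN
  have h5 := five_le_index (not_comm168 h) (klein_ne_top h hK)
  have hmi := N.card_mul_index
  rw [h] at hmi
  have hd : Nat.card N ∣ 168 := h ▸ card_subgroup_dvd_card N
  have hle : Nat.card N ≤ 33 := by nlinarith
  have hne : Nat.card N ≠ 8 := by
    intro e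
    have hNS : N = (S : Subgroup G) :=
      (Subgroup.eq_of_le_of_card_ge hSN (by rw [card_sylow2 h S, e])).symm
    have hcen : ∀ u ∈ U, u ≠ 1 → ∀ t ∈ (S : Subgroup G), t * u = u * t := by
      intro u hu hu1
      have ho : orderOf u = 2 := Involutions.invol_iff.mpr
        ⟨congrArg Subtype.val (sq_eq_one_of_isKleinFour (G := U) ⟨u, hu⟩), hu1⟩
      obtain ⟨S', hS'⟩ := exists_sylow2_of_invol h (card_centralizer_invol h ho)
      have hU' : U ≤ (S' : Subgroup G) := by
        intro v hv
        rw [hS', mem_centralizer_singleton_iff]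
        have := IsKleinFour.isMulCommutative (G := U)
        exact congrArg Subtype.val (this.is_comm.comm ⟨v, hv⟩ ⟨u, hu⟩)
      have hle' := le_normalizer_klein h S' hU' hK
      rw [← hN, hNS] at hle'
      have hSS : S' = S := Sylow.ext (Subgroup.eq_of_le_of_card_ge hle'
        (by rw [card_sylow2 h S, card_sylow2 h S']))
      intro t ht
      exact mem_centralizer_singleton_iff.mp (hS' ▸ hSS.symm ▸ ht : t ∈ centralizer {u})
    obtain ⟨a, ha⟩ : ∃ a : U, a ≠ 1 := by
      by_contra hno
      have : Subsingleton U := ⟨fun a b => by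
        rw [not_not.mp fun e => hno ⟨a, e⟩, not_not.mp fun e => hno ⟨b, e⟩]⟩
      have := Finite.card_le_one_iff_subsingleton.mpr this
      rw [hK.card_four] at this
      omega
    have hall : ∀ b : U, b ≠ 1 → b = a := fun b hb => Subtype.ext
      (eq_of_central_sylow2 h S (hS b.2) (hS a.2) (fun e => hb (Subtype.ext e))
        (fun e => ha (Subtype.ext e)) (hcen b b.2 fun e => hb (Subtype.ext e))
        (hcen a a.2 fun e => ha (Subtype.ext e)))
    have hle2 := Nat.card_le_card_of_surjective (fun i : Bool => if i then a else (1 : U))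
      (fun b => by
        by_cases hb : b = 1
        · exact ⟨false, by simp [hb]⟩
        · exact ⟨true, by simp [hall b hb]⟩)
    rw [hK.card_four] at hle2
    simp at hle2
  obtain ⟨k, hk⟩ := h8
  have : k ≤ 4 := by omega
  rw [hk] at hd
  interval_cases k <;> omega

theorem normalizer_klein_equiv {U : Subgroup G} (hK : IsKleinFour U) :
    Nonempty (normalizer (U : Set G) ≃* Equiv.Perm (Fin 4)) := by
  refine Cfsg.Agent.S1012.result (card_normalizer_klein h hK) fun g hg => ?_
  rcases orderOf_cases h (g : G) with e | e | e | e | e <;> rw [orderOf_coe, hg] at e <;> omega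

/-- Two Klein four-groups with the same normalizer are equal. -/
theorem klein_eq_of_normalizer_eq {U W : Subgroup G} (hU : IsKleinFour U) (hW : IsKleinFour W)
    (e : normalizer (U : Set G) = normalizer (W : Set G)) : U = W := by
  have := Fact.mk Nat.prime_two
  have hUW : W ≤ normalizer (U : Set G) := e ▸ le_normalizer
  have hp : IsPGroup 2 (W ⊔ U : Subgroup G) :=
    (IsPGroup.of_card (p := 2) (n := 2) (by rw [hW.card_four]; norm_num)).to_sup_of_normal_right'
      (IsPGroup.of_card (p := 2) (n := 2) (by rw [hU.card_four]; norm_num)) hUW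
  obtain ⟨S, hS⟩ := hp.exists_le_sylow
  by_contra hne
  have h4 : 4 < Nat.card (W ⊔ U : Subgroup G) := by
    by_contra hlt
    apply hne
    have e1 := Subgroup.eq_of_le_of_card_ge (le_sup_right : U ≤ W ⊔ U)
      (by rw [hU.card_four]; omega)
    have e2 := Subgroup.eq_of_le_of_card_ge (le_sup_left : W ≤ W ⊔ U)
      (by rw [hW.card_four]; omega)
    exact e1.trans e2.symm
  have h8 : (W ⊔ U : Subgroup G) = (S : Subgroup G) := by
    refine Subgroup.eq_of_le_of_card_ge hS ?_
    have hd := card_dvd_of_le hS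
    rw [card_sylow2 h S] at hd ⊢
    have := Nat.le_of_dvd (by norm_num) hd
    interval_cases hk : Nat.card (W ⊔ U : Subgroup G) <;> omega
  have hle : normalizer (U : Set G) ≤ normalizer ((S : Subgroup G) : Set G) := by
    rw [← h8]
    intro g hg
    rw [mem_normalizer_iff_cj]
    have h1 : cj g U = U := mem_normalizer_iff_cj.mp hg
    have h2 : cj g W = W := mem_normalizer_iff_cj.mp (e ▸ hg)
    show (W ⊔ U).map _ = _
    rw [Subgroup.map_sup]
    exact congrArg₂ _ h2 h1
  rw [normalizer2 h S] at hle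
  have := Subgroup.card_le_of_le hle
  rw [card_normalizer_klein h hU, card_sylow2 h S] at this
  omega

/-- Klein four-subgroups of one Sylow subgroup are not conjugate. -/
theorem klein_not_conj (T : Sylow 2 G) {U W : Subgroup G} (hUT : U ≤ (T : Subgroup G))
    (hWT : W ≤ (T : Subgroup G)) (hU : IsKleinFour U) (hW : IsKleinFour W) (hne : U ≠ W)
    (g : G) : cj g U ≠ W := by
  intro e
  have := Fact.mk Nat.prime_two
  set N := normalizer (W : Set G) with hN
  have hTN : (T : Subgroup G) ≤ N := le_normalizer_klein h T hWT hW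
  have hgT : ((g • T : Sylow 2 G) : Subgroup G) ≤ N := by
    refine le_normalizer_klein h (g • T) ?_ hW
    rw [← e]
    intro x hx
    rw [mem_smul_sylow]
    exact hUT (mem_cj.mp hx)
  obtain ⟨n, hn⟩ := MulAction.exists_smul_eq N ((g • T).subtype hgT) (T.subtype hTN)
  rw [Sylow.smul_subtype] at hn
  have hn' : (n : G) • (g • T) = T := Sylow.subtype_injective hn
  rw [← mul_smul, Sylow.smul_eq_iff_mem_normalizer] at hn'
  replace hn' := (normalizer2 h T).le hn'
  apply hne
  have h1 : cj ((n : G) * g) U = U :=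
    mem_normalizer_iff_cj.mp (le_normalizer_klein h T hUT hU hn')
  have h2 : cj (n : G) W = W := mem_normalizer_iff_cj.mp n.2
  rwa [cj_mul, e, h2, eq_comm] at h1

theorem exists_conj_klein (T : Sylow 2 G) {U : Subgroup G} (hK : IsKleinFour U) :
    ∃ g : G, cj g U ≤ (T : Subgroup G) := by
  have := Fact.mk Nat.prime_two
  obtain ⟨S, hS⟩ := exists_sylow2_klein h hK
  obtain ⟨g, rfl⟩ := MulAction.exists_smul_eq G S T
  refine ⟨g, fun x hx => ?_⟩
  rw [mem_smul_sylow]
  exact hS (mem_cj.mp hx)

theorem isCoatom_normalizer_klein {U : Subgroup G} (hK : IsKleinFour U) :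
    IsCoatom (normalizer (U : Set G)) := by
  refine ⟨klein_ne_top h hK, fun M hM => ?_⟩
  by_contra hne
  have hlt : 24 < Nat.card M := by
    have := Subgroup.card_le_of_le hM.le
    rw [card_normalizer_klein h hK] at this
    rcases this.lt_or_eq with h' | h'
    · exact h'
    · exact absurd (Subgroup.eq_of_le_of_card_ge hM.le
        (by rw [card_normalizer_klein h hK, h'])) hM.ne
  have h24 := card_dvd_of_le hM.le
  rw [card_normalizer_klein h hK] at h24
  have h5 := five_le_index (not_comm168 h) hne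
  have hmi := M.card_mul_index
  rw [h] at hmi
  have : Nat.card M * 5 ≤ 168 := hmi ▸ Nat.mul_le_mul_left _ h5
  omega

theorem isCoatom_normalizer7 (P : Sylow 7 G) :
    IsCoatom (normalizer ((P : Subgroup G) : Set G)) := by
  have := Fact.mk (show Nat.Prime 7 by norm_num)
  refine ⟨sylow_normalizer_ne_top (not_comm168 h) (by omega) P, fun M hM => ?_⟩
  by_contra hne
  have h21 := card_dvd_of_le hM.le
  rw [normalizer7 h P] at h21
  have h5 := five_le_index (not_comm168 h) hne
  have hmi := M.card_mul_index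
  rw [h] at hmi
  have h33 : Nat.card M * 5 ≤ 168 := hmi ▸ Nat.mul_le_mul_left _ h5
  have hpos : 0 < Nat.card M := Nat.card_pos
  exact hM.ne (Subgroup.eq_of_le_of_card_ge hM.le (by rw [normalizer7 h P]; omega))

theorem exists_klein_normalizing3 (R : Sylow 3 G) : ∃ U : Subgroup G, IsKleinFour U ∧
    normalizer ((R : Subgroup G) : Set G) ≤ normalizer (U : Set G) := by
  have := Fact.mk Nat.prime_three
  have := Fact.mk Nat.prime_two
  obtain ⟨T⟩ := (inferInstance : Nonempty (Sylow 2 G))
  obtain ⟨U₁, -, -, hU₁, hK₁, -, -, -⟩ := exists_kleins h T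
  set H := normalizer (U₁ : Set G) with hH
  have hHc : Nat.card H = 24 := card_normalizer_klein h hK₁
  obtain ⟨R₁⟩ := (inferInstance : Nonempty (Sylow 3 H))
  have hR₁ : Nat.card (R₁ : Subgroup H) = 3 := by
    simpa using card_sylow_eq (p := 3) 1 8 (by omega) (by omega) R₁
  set Q := (R₁ : Subgroup H).map H.subtype with hQ
  have hQc : Nat.card Q = 3 := by
    rw [hQ, ← Nat.card_congr ((R₁ : Subgroup H).equivMapOfInjective _ H.subtype_injective).toEquiv,
      hR₁]
  obtain ⟨P, hP⟩ := (IsPGroup.of_card (p := 3) (n := 1)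
    (show Nat.card Q = 3 ^ 1 by rw [hQc, pow_one])).exists_le_sylow
  have hQP : Q = (P : Subgroup G) :=
    Subgroup.eq_of_le_of_card_ge hP (by rw [hQc, card_sylow3 h P])
  set NH := normalizer ((R₁ : Subgroup H) : Set H) with hNH
  have hsub : NH.map H.subtype ≤ normalizer ((P : Subgroup G) : Set G) := by
    rw [← hQP, hQ]
    exact le_normalizer_map H.subtype
  have hPH : normalizer ((P : Subgroup G) : Set G) ≤ H := by
    have hc : Nat.card NH * Nat.card (Sylow 3 H) = 24 := hHc ▸ card_normalizer_mul R₁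
    have hd : Nat.card (Sylow 3 H) ∣ 8 := card_sylow_dvd (p := 3) 1 8 (by omega) (by omega)
    have hm : Nat.card (Sylow 3 H) % 3 = 1 := card_sylow_modEq_one 3 H
    have he : Nat.card (NH.map H.subtype) = Nat.card NH :=
      (Nat.card_congr (NH.equivMapOfInjective _ H.subtype_injective).toEquiv).symm
    have h6 := Subgroup.card_le_of_le hsub
    rw [normalizer3 h P, he] at h6
    have := Nat.le_of_dvd (by norm_num) hd
    have h6' : Nat.card NH = 6 := by
      interval_cases hk : Nat.card (Sylow 3 H) <;> omega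
    rw [← Subgroup.eq_of_le_of_card_ge hsub (by rw [normalizer3 h P, he, h6'])]
    exact map_subtype_le _
  obtain ⟨g, rfl⟩ := MulAction.exists_smul_eq G P R
  refine ⟨cj g U₁, isKleinFour_cj hK₁ g, ?_⟩
  have e1 : ((g • P : Sylow 3 G) : Subgroup G) = cj g (P : Subgroup G) := by
    ext x; rw [mem_smul_sylow, mem_cj]
  rw [e1, ← cj_normalizer, ← cj_normalizer]
  exact cj_mono hPH

/-- Every maximal subgroup is the normalizer of a Sylow 7-subgroup or of a Klein four-group. -/
theorem coatom_cases {M : Subgroup G} (hM : IsCoatom M) :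
    (∃ P : Sylow 7 G, M = normalizer ((P : Subgroup G) : Set G)) ∨
    ∃ U : Subgroup G, IsKleinFour U ∧ M = normalizer (U : Set G) := by
  have hG := not_comm168 h
  have := Fact.mk Nat.prime_two
  have := Fact.mk Nat.prime_three
  have := Fact.mk (show Nat.Prime 7 by norm_num)
  have h5 := five_le_index hG hM.1
  have hmi := M.card_mul_index
  rw [h] at hmi
  have h33 : Nat.card M * 5 ≤ 168 := hmi ▸ Nat.mul_le_mul_left _ h5
  have hd : Nat.card M ∣ 8 * 21 := by simpa [h] using card_subgroup_dvd_card M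
  have hK : ∀ U : Subgroup G, IsKleinFour U → M ≤ normalizer (U : Set G) →
      ∃ U : Subgroup G, IsKleinFour U ∧ M = normalizer (U : Set G) := fun U hU hle =>
    ⟨U, hU, (hM.le_iff.mp hle).resolve_left (klein_ne_top h hU) |>.symm⟩
  by_cases h7 : 7 ∣ Nat.card M
  · left
    obtain ⟨R⟩ := (inferInstance : Nonempty (Sylow 7 M))
    obtain ⟨m, hm⟩ := h7
    have hm4 : m ≤ 4 := by omega
    have hm0 : 0 < m := by
      have : 0 < Nat.card M := Nat.card_pos
      omega
    have hndvd : ¬ 7 ∣ m := by omega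
    have hone : Nat.card (Sylow 7 M) = 1 := by
      have hd7 : Nat.card (Sylow 7 M) ∣ m := card_sylow_dvd (p := 7) 1 m (by omega) hndvd
      have hmm : Nat.card (Sylow 7 M) % 7 = 1 := card_sylow_modEq_one 7 M
      have := Nat.le_of_dvd hm0 hd7
      omega
    have : Subsingleton (Sylow 7 M) := (Nat.card_eq_one_iff_unique.mp hone).1
    have hRn : (R : Subgroup M).Normal := Sylow.normal_of_subsingleton R
    have hRc : Nat.card (R : Subgroup M) = 7 := by
      simpa using card_sylow_eq (p := 7) 1 m (by omega) hndvd R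
    set Q := (R : Subgroup M).map M.subtype with hQ
    have hQc : Nat.card Q = 7 := by
      rw [hQ, ← Nat.card_congr ((R : Subgroup M).equivMapOfInjective _ M.subtype_injective).toEquiv,
        hRc]
    obtain ⟨P, hP⟩ := (IsPGroup.of_card (p := 7) (n := 1)
      (show Nat.card Q = 7 ^ 1 by rw [hQc, pow_one])).exists_le_sylow
    have hQP : Q = (P : Subgroup G) :=
      Subgroup.eq_of_le_of_card_ge hP (by rw [hQc, card_sylow7 h P])
    have hle : M ≤ normalizer ((P : Subgroup G) : Set G) := by
      rw [← hQP, hQ]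
      have h' := le_normalizer_map M.subtype (H := (R : Subgroup M))
      rw [normalizer_eq_top_iff.mpr hRn, ← MonoidHom.range_eq_map, range_subtype] at h'
      exact h'
    exact ⟨P, ((hM.le_iff.mp hle).resolve_left
      (sylow_normalizer_ne_top hG (by omega) P)).symm⟩
  right
  have hd24 : Nat.card M ∣ 24 := by
    refine Nat.Coprime.dvd_of_dvd_mul_right ((Nat.Prime.coprime_iff_not_dvd
      (show Nat.Prime 7 by norm_num)).mpr h7).symm ?_
    exact (hd : Nat.card M ∣ 24 * 7)
  by_cases h3 : 3 ∣ Nat.card M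
  swap
  · have hd8 : Nat.card M ∣ 2 ^ 3 := by
      refine Nat.Coprime.dvd_of_dvd_mul_right ((Nat.Prime.coprime_iff_not_dvd
        Nat.prime_three).mpr h3).symm ?_
      exact (hd24 : Nat.card M ∣ 2 ^ 3 * 3)
    obtain ⟨k, -, hk⟩ := (Nat.dvd_prime_pow Nat.prime_two).mp hd8
    obtain ⟨T, hT⟩ := (IsPGroup.of_card hk).exists_le_sylow
    obtain ⟨U₁, -, -, hU₁, hK₁, -, -, -⟩ := exists_kleins h T
    exact hK U₁ hK₁ (hT.trans (le_normalizer_klein h T hU₁ hK₁))
  have hMne : Nontrivial M := by
    rw [← Finite.one_lt_card_iff_nontrivial]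
    have : 0 < Nat.card M := Nat.card_pos
    omega
  have hsol : Group.IsSolvable M := Chars.isSolvable_of_primeFactors_pair 2 3 fun r hr hrd => by
    have h24 : r ∣ 2 ^ 3 * 3 := hrd.trans hd24
    rcases hr.dvd_mul.mp h24 with h' | h'
    · exact Or.inl ((Nat.prime_dvd_prime_iff_eq hr Nat.prime_two).mp (hr.dvd_of_dvd_pow h'))
    · exact Or.inr ((Nat.prime_dvd_prime_iff_eq hr Nat.prime_three).mp h')
  obtain ⟨p, hp, hne⟩ := Base.exists_prime_pCore_ne_bot (G := M)
  set V₀ := Cfsg.pCore p M with hV₀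
  have hV₀n : V₀.Normal := inferInstance
  set V := V₀.map M.subtype with hV
  have hVp : IsPGroup p V := Base.isPGroup_map_pCore p M
  have hVc : Nat.card V = Nat.card V₀ :=
    (Nat.card_congr (V₀.equivMapOfInjective _ M.subtype_injective).toEquiv).symm
  have hVd : Nat.card V ∣ 24 := (card_dvd_of_le (map_subtype_le V₀)).trans hd24
  have hV1 : 1 < Nat.card V := by rw [hVc]; exact (one_lt_card_iff_ne_bot V₀).mpr hne
  have hMV : M ≤ normalizer (V : Set G) := Base.le_normalizer_map_pCore M
  have := Fact.mk hp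
  obtain ⟨k, hk⟩ := hVp.exists_card_eq
  have hk0 : k ≠ 0 := by rintro rfl; rw [pow_zero] at hk; omega
  have hp23 : p = 2 ∨ p = 3 := by
    have hpd : p ∣ 2 ^ 3 * 3 := ((dvd_pow_self p hk0).trans hk.symm.dvd).trans hVd
    rcases hp.dvd_mul.mp hpd with h' | h'
    · exact Or.inl ((Nat.prime_dvd_prime_iff_eq hp Nat.prime_two).mp (hp.dvd_of_dvd_pow h'))
    · exact Or.inr ((Nat.prime_dvd_prime_iff_eq hp Nat.prime_three).mp h')
  rcases hp23 with rfl | rfl
  swap
  · -- a normal subgroup of order 3
    obtain ⟨R, hR⟩ := hVp.exists_le_sylow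
    have hVR : V = (R : Subgroup G) := Subgroup.eq_of_le_of_card_ge hR (by
      rw [card_sylow3 h R, hk]
      exact Nat.le_self_pow hk0 3)
    obtain ⟨U, hU, hle⟩ := exists_klein_normalizing3 h R
    exact hK U hU (hMV.trans (hVR ▸ hle))
  -- a normal 2-subgroup: it must be a Klein four-group
  obtain ⟨y, hy⟩ := exists_prime_orderOf_dvd_card' (G := M) 3 h3
  have hno : ∀ z : G, orderOf z = 2 → (∀ m ∈ M, m * z = z * m) → False := by
    intro z hz hc
    have := (Subgroup.orderOf_dvd_natCard _ (show (y : G) ∈ centralizer ({z} : Set G) from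
      mem_centralizer_singleton_iff.mpr (hc y y.2))).trans (card_centralizer_inv h hz)
    rw [orderOf_coe, hy] at this
    omega
  obtain ⟨S, hS⟩ := hVp.exists_le_sylow
  have hV8 : Nat.card V ∣ 8 := card_sylow2 h S ▸ card_dvd_of_le hS
  have hV4 : Nat.card V = 4 := by
    have := Nat.le_of_dvd (by norm_num) hV8
    rcases (show Nat.card V = 2 ∨ Nat.card V = 4 ∨ Nat.card V = 8 by
      interval_cases hk : Nat.card V <;> omega) with h2 | h4 | h8
    · exfalso
      obtain ⟨v, hv⟩ := exists_prime_orderOf_dvd_card' (G := V) 2 (by rw [h2])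
      refine hno v (by rw [orderOf_coe, hv]) fun m hm => ?_
      have hv1 : v ≠ 1 := fun e => by rw [e, orderOf_one] at hv; omega
      obtain ⟨a, -, hu⟩ := (Nat.card_eq_two_iff' (1 : V)).mp h2
      have hmem : m * (v : G) * m⁻¹ ∈ V := ((hMV hm) _).mp v.2
      have hw : (⟨_, hmem⟩ : V) ≠ 1 := fun e => hv1 (Subtype.ext
        (conj_eq_one_iff.mp (congrArg Subtype.val e)))
      exact mul_inv_eq_iff_eq_mul.mp (congrArg Subtype.val ((hu _ hw).trans (hu v hv1).symm))
    · exact h4
    · exfalso
      have e : V = (S : Subgroup G) :=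
        Subgroup.eq_of_le_of_card_ge hS (by rw [card_sylow2 h S, h8])
      rw [e, normalizer2 h S] at hMV
      have := card_dvd_of_le hMV
      rw [card_sylow2 h S] at this
      have := h3.trans this
      omega
  refine hK V (isKleinFour_of_sq hV4 fun v => ?_) hMV
  have hd4 : orderOf v ∣ 4 := hV4 ▸ orderOf_dvd_natCard v
  rw [← sq, ← orderOf_dvd_iff_pow_eq_one]
  by_contra h2'
  have hv4 : orderOf v = 4 := by
    have := Nat.le_of_dvd (by norm_num) hd4
    interval_cases hk : orderOf v <;> omega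
  have hv4' : orderOf (v : G) = 4 := by rw [orderOf_coe, hv4]
  have hVz : V = zpowers (v : G) :=
    (Subgroup.eq_of_le_of_card_ge (zpowers_le.mpr v.2) (by rw [hV4, Nat.card_zpowers, hv4'])).symm
  refine hno ((v : G) ^ 2) (by rw [orderOf_pow' _ (by norm_num), hv4']; norm_num) fun m hm => ?_
  obtain ⟨i, hi⟩ := (hVz ▸ ((hMV hm) _).mp v.2 : m * (v : G) * m⁻¹ ∈ zpowers (v : G))
  change (v : G) ^ i = _ at hi
  have ho : orderOf ((v : G) ^ i) = 4 := by
    rw [hi, ← hv4']; exact MulEquiv.orderOf_eq (MulAut.conj m) _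
  have hodd : ¬ (2 : ℤ) ∣ i := by
    rintro ⟨j, rfl⟩
    have h1 : ((v : G) ^ (2 * j)) ^ 2 = 1 := by
      rw [← zpow_natCast, ← zpow_mul,
        show 2 * j * ((2 : ℕ) : ℤ) = ((4 : ℕ) : ℤ) * j by push_cast; ring, zpow_mul,
        zpow_natCast, ← hv4', pow_orderOf_eq_one, one_zpow]
    have := Nat.le_of_dvd (by norm_num) (orderOf_dvd_of_pow_eq_one h1)
    omega
  refine mul_inv_eq_iff_eq_mul.mp ?_
  rw [← conj_pow, ← hi, ← zpow_natCast ((v : G) ^ i), ← zpow_mul, ← zpow_natCast (v : G) 2,
    ← orderOf_dvd_sub_iff_zpow_eq_zpow, hv4']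
  push_cast
  omega

end order168

end CfsgLib.Small
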