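import Cfsg.Agent.Lib.Small.Order2520Local

/-!
# Simple groups of order 2520: centralizers of involutions and of elements of order three
-/

set_option autoImplicit false
set_option linter.style.haveILetI false
set_option linter.unusedSectionVars false

open Subgroup
open scoped Nat

namespace CfsgLib.Small.O2520

universe u

variable {G : Type u} [Group G] [Finite G]

theorem ne_inv_of_orderOf_three {a : G} (ha : orderOf a = 3) : a ≠ a⁻¹ := by
  intro h
  have h2 : a ^ 2 = 1 := by rw [sq]; nth_rewrite 1 [h]; exact inv_mul_cancel a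
  have := orderOf_dvd_of_pow_eq_one h2
  rw [ha] at this
  omega

theorem ne_one_of_orderOf {a : G} {n : ℕ} (ha : orderOf a = n) (hn : n ≠ 1) : a ≠ 1 :=
  fun h => hn (by rw [← ha, h, orderOf_one])

variable [IsSimpleGroup G]

theorem exists_sylow_mem_three {a : G} (ha : orderOf a = 3) [Fact (Nat.Prime 3)] :
    ∃ S : Sylow 3 G, a ∈ (S : Subgroup G) := by
  obtain ⟨S, hS⟩ := (IsPGroup.of_card (p := 3) (n := 1)
    (by rw [Nat.card_zpowers, ha, pow_one] : Nat.card (zpowers a) = 3 ^ 1)).exists_le_sylow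
  exact ⟨S, hS (mem_zpowers a)⟩

/-- Two commuting elements of order three span a Sylow subgroup, or the same subgroup. -/
theorem exists_sylow_of_pair (hN : Nat.card G = 2520) [Fact (Nat.Prime 3)] {a b : G}
    (ha : orderOf a = 3) (hb : orderOf b = 3) (hab : a * b = b * a) (hne : b ∉ zpowers a) :
    ∃ S : Sylow 3 G, a ∈ (S : Subgroup G) ∧ b ∈ (S : Subgroup G) ∧
      ∀ g : G, g * a * g⁻¹ ∈ (S : Subgroup G) → g * b * g⁻¹ ∈ (S : Subgroup G) →
        g ∈ normalizer ((S : Subgroup G) : Set G) := by
  have hcomm : ∀ (x : zpowers a) (y : zpowers b),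
      Commute ((zpowers a).subtype x) ((zpowers b).subtype y) := by
    rintro ⟨x, i, rfl⟩ ⟨y, j, rfl⟩
    exact (show Commute a b from hab).zpow_zpow i j
  set ψ := MonoidHom.noncommCoprod (zpowers a).subtype (zpowers b).subtype hcomm with hψ
  have hinj : Function.Injective ψ := by
    rw [injective_iff_map_eq_one]
    rintro ⟨x, y⟩ h
    have h1 : (x : G) = (y : G)⁻¹ := eq_inv_of_mul_eq_one_left h
    by_cases hy : (y : G) = 1
    · rw [hy, inv_one] at h1
      exact Prod.ext (Subtype.ext h1) (Subtype.ext hy)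
    · exfalso
      apply hne
      have hya : (y : G) ∈ zpowers a := by
        rw [← inv_inv (y : G), ← h1]
        exact inv_mem x.2
      rcases eq_or_eq_inv_of_mem_zpowers_three (pow_three_eq_one hb) y.2 hy with h2 | h2
      · rwa [h2] at hya
      · rw [h2] at hya
        exact inv_mem_iff.mp hya
  have hrange : Nat.card ψ.range = 9 := by
    rw [← Nat.card_congr (MonoidHom.ofInjective hinj).toEquiv, Nat.card_prod, Nat.card_zpowers,
      Nat.card_zpowers, ha, hb]
  obtain ⟨S, hS⟩ := exists_sylow_of_card_nine hN hrange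
  have hsup : (S : Subgroup G) = zpowers a ⊔ zpowers b := by
    rw [hS, hψ, MonoidHom.noncommCoprod_range, Subgroup.range_subtype, Subgroup.range_subtype]
  refine ⟨S, hsup ▸ mem_sup_left (mem_zpowers a), hsup ▸ mem_sup_right (mem_zpowers b),
    fun g hga hgb => ?_⟩
  have hle : (S : Subgroup G) ≤ (S : Subgroup G).comap (MulAut.conj g).toMonoidHom := by
    conv_lhs => rw [hsup]
    exact sup_le (zpowers_le.mpr hga) (zpowers_le.mpr hgb)
  exact mem_normalizer_fintype fun x hx => hle hx

/-- The centralizer of an element of order three centralized by an involution. -/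
theorem card_centralizer_three (hN : Nat.card G = 2520) [Fact (Nat.Prime 3)] {a i : G}
    (ha : orderOf a = 3) (hi : orderOf i = 2) (hai : a * i = i * a) :
    Nat.card (centralizer ({a} : Set G)) = 36 ∧
      Nat.card (Sylow 3 (centralizer ({a} : Set G))) = 4 := by
  obtain ⟨S, haS⟩ := exists_sylow_mem_three (G := G) ha
  set C := centralizer ({a} : Set G) with hC
  have hSC : (S : Subgroup G) ≤ C := fun x hx =>
    mem_centralizer_singleton_iff.mpr (commute_of_mem_sylow_three hN S hx haS)
  have hn := card_sylow_mul_normalizer S hSC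
  set D := (normalizer ((S : Subgroup G) : Set G) ⊓ C : Subgroup G) with hD
  have hd36 : Nat.card D ∣ 36 := (card_sylow_three hN S).2 ▸ card_dvd_of_le inf_le_left
  have h9 : 9 ∣ Nat.card D :=
    card_sylow_three_eq hN S ▸ card_dvd_of_le (le_inf le_normalizer hSC)
  have hodd : ¬ 2 ∣ Nat.card D := by
    intro h2
    have := Fact.mk Nat.prime_two
    obtain ⟨v, hv⟩ := exists_prime_orderOf_dvd_card' (G := D) 2 h2
    exact false_of_normalizes hN S (i := (v : G)) (by rw [Subgroup.orderOf_coe, hv]) v.2.1 haS ha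
      (mem_centralizer_singleton_iff.mp v.2.2).symm
  have hD9 : Nat.card D = 9 := by
    have hmem : Nat.card D ∈ Nat.divisors 36 := Nat.mem_divisors.mpr ⟨hd36, by norm_num⟩
    rw [show Nat.divisors 36 = {1, 2, 3, 4, 6, 9, 12, 18, 36} from by decide] at hmem
    simp only [Finset.mem_insert, Finset.mem_singleton] at hmem
    omega
  rw [hD9] at hn
  have hd : Nat.card C ∣ 72 := card_centralizer_dvd hN (Or.inr ha)
  have h2C : 2 ∣ Nat.card C :=
    hi ▸ Subgroup.orderOf_dvd_natCard C (mem_centralizer_singleton_iff.mpr hai.symm)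
  have hmod : Nat.card (Sylow 3 C) % 3 = 1 := card_sylow_modEq_one 3 C
  set q := Nat.card (Sylow 3 C) with hq
  have hq8 : q ∈ Nat.divisors 8 := Nat.mem_divisors.mpr
    ⟨Nat.dvd_of_mul_dvd_mul_right (by norm_num : 0 < 9) (by rw [hn]; simpa using hd), by norm_num⟩
  rw [show Nat.divisors 8 = {1, 2, 4, 8} from by decide] at hq8
  simp only [Finset.mem_insert, Finset.mem_singleton] at hq8
  rcases hq8 with h | h | h | h <;> rw [h] at hn hmod <;> omega

theorem card_inf_centralizer (hN : Nat.card G = 2520) [Fact (Nat.Prime 3)] {a t : G}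
    (ha : orderOf a = 3) (ht : orderOf t = 2) (hat : a * t = t * a) :
    Nat.card (centralizer ({t} : Set G) ⊓ centralizer ({a} : Set G) : Subgroup G) = 12 := by
  have := Fact.mk Nat.prime_two
  set C := centralizer ({a} : Set G) with hC
  set L := (centralizer ({t} : Set G) ⊓ C : Subgroup G) with hL
  have hC36 := (card_centralizer_three hN ha ht hat).1
  have htC : t ∈ C := mem_centralizer_singleton_iff.mpr hat.symm
  obtain ⟨T, hT⟩ := (IsPGroup.of_card (p := 2) (n := 1)
    (by rw [Nat.card_zpowers, Subgroup.orderOf_mk, ht, pow_one] :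
      Nat.card (zpowers (⟨t, htC⟩ : C)) = 2 ^ 1)).exists_le_sylow
  have hT4 : Nat.card (T : Subgroup C) = 4 := by
    simpa using card_sylow_eq (p := 2) 2 9 (by rw [hC36]; norm_num) (by norm_num) T
  have hle : (T : Subgroup C).map C.subtype ≤ L := by
    rintro _ ⟨x, hx, rfl⟩
    refine ⟨mem_centralizer_singleton_iff.mpr ?_, x.2⟩
    exact congrArg (fun z : (T : Subgroup C) => ((z : C) : G))
      ((IsPGroup.isMulCommutative_of_card_eq_prime_sq
        (by rw [hT4]; rfl : Nat.card (T : Subgroup C) = 2 ^ 2)).is_comm.comm ⟨x, hx⟩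
          ⟨⟨t, htC⟩, hT (mem_zpowers _)⟩)
  have h4 : 4 ∣ Nat.card L := by
    have := card_dvd_of_le hle
    rwa [card_map_of_injective C.subtype_injective, hT4] at this
  have h3 : 3 ∣ Nat.card L := ha ▸ Subgroup.orderOf_dvd_natCard L
    ⟨mem_centralizer_singleton_iff.mpr hat, mem_centralizer_singleton_iff.mpr rfl⟩
  have h24 : Nat.card L ∣ 24 := card_centralizer_involution hN ht ▸ card_dvd_of_le inf_le_left
  have h36 : Nat.card L ∣ 36 := hC36 ▸ card_dvd_of_le inf_le_right
  exact Nat.dvd_antisymm (Nat.dvd_gcd h24 h36)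
    (Nat.Coprime.mul_dvd_of_dvd_of_dvd (by norm_num : Nat.Coprime 4 3) h4 h3)

/-- The centralizer of an involution has one subgroup of order three. -/
theorem mem_zpowers_of_commute_involution (hN : Nat.card G = 2520) [Fact (Nat.Prime 3)]
    {a b t : G} (ha : orderOf a = 3) (hb : orderOf b = 3) (ht : orderOf t = 2)
    (hat : a * t = t * a) (hbt : b * t = t * b) : b ∈ zpowers a := by
  set K := centralizer ({t} : Set G) with hK
  set L := (K ⊓ centralizer ({a} : Set G) : Subgroup G) with hL
  have h12 : Nat.card L = 12 := card_inf_centralizer hN ha ht hat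
  have hidx : (L.subgroupOf K).index = 2 := by
    rw [← relIndex]
    have h := relIndex_mul_relIndex ⊥ L K bot_le inf_le_left
    rw [relIndex_bot_left, relIndex_bot_left, h12, card_centralizer_involution hN ht] at h
    omega
  have hbK : b ∈ K := mem_centralizer_singleton_iff.mpr hbt
  have hbL : b ∈ L := by
    have hn := normal_of_index_eq_two hidx
    have h2 : (⟨b, hbK⟩ : K) ^ 2 ∈ L.subgroupOf K := hidx ▸ Subgroup.pow_index_mem _ _
    have h4 := pow_mem h2 2
    rw [← pow_mul] at h4
    have e : ((⟨b, hbK⟩ : K) ^ (2 * 2) : K) = ⟨b, hbK⟩ := Subtype.ext (by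
      show b ^ (2 * 2) = b
      rw [show 2 * 2 = 3 + 1 from rfl, pow_succ, pow_three_eq_one hb, one_mul])
    rw [e] at h4
    exact h4
  by_contra hne
  obtain ⟨S, haS, hbS, -⟩ := exists_sylow_of_pair hN ha hb
    (mem_centralizer_singleton_iff.mp hbL.2).symm hne
  have hle : (S : Subgroup G) ≤ centralizer ({a} : Set G) := fun x hx =>
    mem_centralizer_singleton_iff.mpr (commute_of_mem_sylow_three hN S hx haS)
  -- both generators commute with `t`
  have hSt : ∀ x ∈ (S : Subgroup G), x * t = t * x := by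
    intro x hx
    have hsup : zpowers a ⊔ zpowers b ≤ centralizer ({t} : Set G) :=
      sup_le (zpowers_le.mpr (mem_centralizer_singleton_iff.mpr hat))
        (zpowers_le.mpr (mem_centralizer_singleton_iff.mpr hbt))
    have heq : (S : Subgroup G) = zpowers a ⊔ zpowers b := by
      refine (eq_of_le_of_card_ge (sup_le (zpowers_le.mpr haS) (zpowers_le.mpr hbS)) ?_).symm
      rw [card_sylow_three_eq hN S]
      have h3 : 3 ∣ Nat.card (zpowers a ⊔ zpowers b : Subgroup G) := by
        have := card_dvd_of_le (le_sup_left : zpowers a ≤ zpowers a ⊔ zpowers b)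
        rwa [Nat.card_zpowers, ha] at this
      have hd : Nat.card (zpowers a ⊔ zpowers b : Subgroup G) ∣ 9 :=
        card_sylow_three_eq hN S ▸ card_dvd_of_le (sup_le (zpowers_le.mpr haS) (zpowers_le.mpr hbS))
      have hne3 : Nat.card (zpowers a ⊔ zpowers b : Subgroup G) ≠ 3 := fun h => hne (by
        rw [eq_of_le_of_card_ge (le_sup_left : zpowers a ≤ zpowers a ⊔ zpowers b)
          (by rw [h, Nat.card_zpowers, ha])]
        exact mem_sup_right (mem_zpowers b))
      have hmem : Nat.card (zpowers a ⊔ zpowers b : Subgroup G) ∈ Nat.divisors 9 :=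
        Nat.mem_divisors.mpr ⟨hd, by norm_num⟩
      rw [show Nat.divisors 9 = {1, 3, 9} from by decide] at hmem
      simp only [Finset.mem_insert, Finset.mem_singleton] at hmem
      omega
    exact mem_centralizer_singleton_iff.mp (hsup (heq ▸ hx))
  exact false_of_commute_sylow hN S ht hSt

/-- Conjugation inside the centralizer of an involution fixes or inverts its element of order
three. -/
theorem conj_eq_or_eq_inv (hN : Nat.card G = 2520) [Fact (Nat.Prime 3)] {a t k : G}
    (ha : orderOf a = 3) (ht : orderOf t = 2) (hat : a * t = t * a) (hkt : k * t = t * k) :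
    k * a * k⁻¹ = a ∨ k * a * k⁻¹ = a⁻¹ := by
  have ho : orderOf (k * a * k⁻¹) = 3 := by rw [← ha]; exact MulEquiv.orderOf_eq (MulAut.conj k) a
  refine eq_or_eq_inv_of_mem_zpowers_three (pow_three_eq_one ha)
    (mem_zpowers_of_commute_involution hN ha ho ht hat ?_) (ne_one_of_orderOf ho (by norm_num))
  have hk : Commute k t := hkt
  exact ((hk.mul_left hat).mul_left hk.inv_left).eq

/-- A square root of the involution inverts the element of order three. -/
theorem root_inverts (hN : Nat.card G = 2520) [Fact (Nat.Prime 3)] {a g : G}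
    (ha : orderOf a = 3) (hg : orderOf g = 4) (hag : a * g ^ 2 = g ^ 2 * a) :
    g * a * g⁻¹ = a⁻¹ := by
  have := Fact.mk Nat.prime_two
  have ht : orderOf (g ^ 2) = 2 := by rw [orderOf_pow, hg]; norm_num
  refine (conj_eq_or_eq_inv hN ha ht hag (by rw [← pow_succ', ← pow_succ])).resolve_left
    fun h => ?_
  set C := centralizer ({a} : Set G) with hC
  obtain ⟨hC36, hn4⟩ := card_centralizer_three hN ha ht hag
  rw [← hC] at hC36 hn4
  have hgC : g ∈ C := mem_centralizer_singleton_iff.mpr (mul_inv_eq_iff_eq_mul.mp h)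
  have hzc : Nat.card (zpowers (⟨g, hgC⟩ : C)) = 4 := by
    rw [Nat.card_zpowers, Subgroup.orderOf_mk, hg]
  let T : Sylow 2 C := Sylow.ofCard (zpowers (⟨g, hgC⟩ : C)) (by
    rw [hzc, hC36, show (36 : ℕ) = 2 ^ 2 * 9 from rfl, Nat.factorization_mul (by norm_num)
      (by norm_num), Finsupp.add_apply, Nat.prime_two.factorization_pow, Finsupp.single_eq_same,
      Nat.factorization_eq_zero_of_not_dvd (by norm_num : ¬ 2 ∣ 9)]
    rfl)
  have hcyc : IsCyclic (T : Subgroup C) :=
    inferInstanceAs (IsCyclic (zpowers (⟨g, hgC⟩ : C)))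
  have hnc := hcyc.normalizer_le_centralizer (P := T)
    (by rw [hC36]; exact (Nat.minFac_eq_two_iff 36).mpr (by norm_num))
  have hcompl := MonoidHom.ker_transferSylow_isComplement' T hnc
  set M := (MonoidHom.transferSylow T hnc).ker with hM
  have hM9 : Nat.card M = 9 := by
    have h1 := hcompl.card_mul
    rw [show Nat.card (T : Subgroup C) = 4 from hzc, hC36] at h1
    omega
  let R : Sylow 3 C := Sylow.ofCard M (by
    rw [hM9, hC36, show (36 : ℕ) = 3 ^ 2 * 4 from rfl, Nat.factorization_mul (by norm_num)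
      (by norm_num), Finsupp.add_apply, Nat.prime_three.factorization_pow, Finsupp.single_eq_same,
      Nat.factorization_eq_zero_of_not_dvd (by norm_num : ¬ 3 ∣ 4)]
    rfl)
  haveI : (R : Subgroup C).Normal := inferInstanceAs M.Normal
  haveI := Sylow.unique_of_normal R inferInstance
  rw [Nat.card_unique] at hn4
  omega

/-- An involution inverting a given element of order four and centralizing the element of order
three. -/
theorem exists_dihedral (hN : Nat.card G = 2520) [Fact (Nat.Prime 3)] {a s : G}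
    (ha : orderOf a = 3) (hs : orderOf s = 4) (has : a * s ^ 2 = s ^ 2 * a) :
    ∃ w : G, orderOf w = 2 ∧ w * a = a * w ∧ w * s * w⁻¹ = s⁻¹ := by
  have := Fact.mk Nat.prime_two
  set t := s ^ 2 with ht'
  have ht : orderOf t = 2 := by rw [ht', orderOf_pow, hs]; norm_num
  set K := centralizer ({t} : Set G) with hK
  set L := (K ⊓ centralizer ({a} : Set G) : Subgroup G) with hL
  have hK24 : Nat.card K = 24 := card_centralizer_involution hN ht
  have hsK : s ∈ K := mem_centralizer_singleton_iff.mpr (by rw [ht', ← pow_succ', ← pow_succ])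
  have hidx : (L.subgroupOf K).index = 2 := by
    rw [← relIndex]
    have h := relIndex_mul_relIndex ⊥ L K bot_le inf_le_left
    rw [relIndex_bot_left, relIndex_bot_left, card_inf_centralizer hN ha ht has, hK24] at h
    omega
  have hsL : s ∉ L := fun h => by
    have h1 := root_inverts hN ha hs has
    rw [mem_centralizer_singleton_iff.mp h.2, mul_inv_cancel_right] at h1
    exact ne_inv_of_orderOf_three ha h1
  obtain ⟨T, hT⟩ := (IsPGroup.of_card (p := 2) (n := 2)
    (by rw [Nat.card_zpowers, Subgroup.orderOf_mk, hs]; rfl :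
      Nat.card (zpowers (⟨s, hsK⟩ : K)) = 2 ^ 2)).exists_le_sylow
  set σ : K := ⟨s, hsK⟩ with hσ
  have hσo : orderOf σ = 4 := by rw [hσ, Subgroup.orderOf_mk, hs]
  have hT8 : Nat.card (T : Subgroup K) = 8 := by
    simpa using card_sylow_eq (p := 2) 3 3 (by rw [hK24]; norm_num) (by norm_num) T
  obtain ⟨v, hvT, hvs⟩ : ∃ v ∈ (T : Subgroup K), v ∉ zpowers σ := by
    by_contra hne
    push Not at hne
    have := card_le_of_le (hne : (T : Subgroup K) ≤ zpowers σ)
    rw [hT8, Nat.card_zpowers, hσo] at this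
    omega
  have hσT : σ ∈ (T : Subgroup K) := hT (mem_zpowers σ)
  obtain ⟨w, hwT, hws, hwL⟩ : ∃ w ∈ (T : Subgroup K), w ∉ zpowers σ ∧ w ∈ L.subgroupOf K := by
    by_cases hvL : v ∈ L.subgroupOf K
    · exact ⟨v, hvT, hvs, hvL⟩
    · refine ⟨v * σ, mul_mem hvT hσT, fun h => hvs ?_, ?_⟩
      · have := mul_mem h (inv_mem (mem_zpowers σ))
        rwa [mul_inv_cancel_right] at this
      · rw [mul_mem_iff_of_index_two hidx]
        exact iff_of_false hvL hsL
  have hrel : ((zpowers σ).subgroupOf (T : Subgroup K)).index = 2 := by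
    rw [← relIndex]
    have h := relIndex_mul_relIndex ⊥ _ _ bot_le hT
    rw [relIndex_bot_left, relIndex_bot_left, Nat.card_zpowers, hσo, hT8] at h
    omega
  have hpow : ∀ z ∈ zpowers σ, z = 1 ∨ z = σ ∨ z = σ ^ 2 ∨ z = σ⁻¹ := by
    intro z hz
    obtain ⟨i, hi⟩ := mem_powers_iff_mem_zpowers.mpr hz
    have hi' : σ ^ i = z := hi
    rw [← pow_mod_orderOf, hσo] at hi'
    have : i % 4 < 4 := Nat.mod_lt _ (by norm_num)
    interval_cases h : i % 4
    · exact Or.inl (by rw [← hi', pow_zero])
    · exact Or.inr (Or.inl (by rw [← hi', pow_one]))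
    · exact Or.inr (Or.inr (Or.inl hi'.symm))
    · refine Or.inr (Or.inr (Or.inr ?_))
      rw [← hi', eq_inv_iff_mul_eq_one, ← pow_succ]
      exact orderOf_dvd_iff_pow_eq_one.mp (by rw [hσo])
  have hσ2 : ((σ ^ 2 : K) : G) = t := rfl
  have hwo : orderOf w = 2 := by
    have hd : orderOf w ∣ 8 := hT8 ▸ Subgroup.orderOf_dvd_natCard _ hwT
    have hdL : orderOf w ∣ 12 := by
      have := Subgroup.orderOf_dvd_natCard L (mem_subgroupOf.mp hwL)
      rwa [card_inf_centralizer hN ha ht has, Subgroup.orderOf_coe] at this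
    have hmem : orderOf w ∈ Nat.divisors 4 :=
      Nat.mem_divisors.mpr ⟨Nat.dvd_gcd hd hdL, by norm_num⟩
    rw [show Nat.divisors 4 = {1, 2, 4} from by decide] at hmem
    simp only [Finset.mem_insert, Finset.mem_singleton] at hmem
    rcases hmem with h | h | h
    · exact absurd (by rw [orderOf_eq_one_iff.mp h]; exact one_mem _) hws
    · exact h
    · exfalso
      have hw2 : (⟨w, hwT⟩ : (T : Subgroup K)) ^ 2 ∈ (zpowers σ).subgroupOf (T : Subgroup K) := by
        have := normal_of_index_eq_two hrel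
        have h2 := Subgroup.pow_index_mem ((zpowers σ).subgroupOf (T : Subgroup K)) ⟨w, hwT⟩
        rwa [hrel] at h2
      have hw2o : orderOf (w ^ 2) = 2 := by rw [orderOf_pow, h]; norm_num
      have he : w ^ 2 = σ ^ 2 := by
        have hw2' : w ^ 2 ∈ zpowers σ := hw2
        rcases hpow _ hw2' with h1 | h1 | h1 | h1
        · rw [h1, orderOf_one] at hw2o; omega
        · rw [h1, hσo] at hw2o; omega
        · exact h1
        · rw [h1, orderOf_inv, hσo] at hw2o; omega
      have het : (w : G) ^ 2 = t := (congrArg Subtype.val he).trans hσ2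
      have h1 := root_inverts hN ha (by rw [Subgroup.orderOf_coe, h] : orderOf (w : G) = 4)
        (by rw [het]; exact has)
      rw [mem_centralizer_singleton_iff.mp (mem_subgroupOf.mp hwL).2, mul_inv_cancel_right] at h1
      exact ne_inv_of_orderOf_three ha h1
  have hconj : w * σ * w⁻¹ ∈ zpowers σ := by
    have := normal_of_index_eq_two hrel
    exact this.conj_mem ⟨σ, hσT⟩ (mem_zpowers σ) ⟨w, hwT⟩
  have ho : orderOf (w * σ * w⁻¹) = 4 := by
    rw [← hσo]; exact MulEquiv.orderOf_eq (MulAut.conj w) σ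
  refine ⟨w, by rw [Subgroup.orderOf_coe, hwo],
    mem_centralizer_singleton_iff.mp (mem_subgroupOf.mp hwL).2, ?_⟩
  rcases hpow _ hconj with h | h | h | h
  · rw [h, orderOf_one] at ho; omega
  · -- an abelian Sylow subgroup
    exfalso
    have hwσ : w * σ = σ * w := mul_inv_eq_iff_eq_mul.mp h
    have hwo' : orderOf (w : G) = 2 := by rw [Subgroup.orderOf_coe, hwo]
    have hgen : ∀ z ∈ (T : Subgroup K), ∃ p ∈ zpowers σ, z = p ∨ z = p * w := by
      intro z hz
      by_cases hzs : z ∈ zpowers σ
      · exact ⟨z, hzs, Or.inl rfl⟩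
      · refine ⟨z * w⁻¹, ?_, Or.inr (inv_mul_cancel_right z w).symm⟩
        exact mem_subgroupOf.mp ((mul_mem_iff_of_index_two hrel
          (a := (⟨z, hz⟩ : (T : Subgroup K))) (b := ⟨w⁻¹, inv_mem hwT⟩)).mpr
          (iff_of_false hzs fun h' => hws (inv_mem_iff.mp h')))
    have hcommT : ∀ z ∈ (T : Subgroup K), (z : G) * w = w * z := by
      intro z hz
      obtain ⟨p, ⟨j, rfl⟩, rfl | rfl⟩ := hgen z hz
      · exact congrArg Subtype.val ((show Commute w σ from hwσ).zpow_right j).eq.symm
      · exact congrArg Subtype.val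
          (((show Commute w σ from hwσ).zpow_right j).mul_right (Commute.refl w)).eq.symm
    have hsq : ∀ z ∈ (T : Subgroup K), z ^ 2 = 1 ∨ z ^ 2 = σ ^ 2 := by
      intro z hz
      obtain ⟨p, hp, hzp⟩ := hgen z hz
      have h4 : σ ^ 4 = 1 := orderOf_dvd_iff_pow_eq_one.mp (by rw [hσo])
      have hp2 : p ^ 2 = 1 ∨ p ^ 2 = σ ^ 2 := by
        rcases hpow p hp with rfl | rfl | rfl | rfl
        · exact Or.inl (one_pow 2)
        · exact Or.inr rfl
        · exact Or.inl (by rw [← pow_mul]; exact h4)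
        · refine Or.inr ?_
          rw [inv_pow, inv_eq_iff_mul_eq_one, ← pow_add]
          exact h4
      rcases hzp with rfl | rfl
      · exact hp2
      · have hpw : Commute p w := by
          obtain ⟨j, rfl⟩ := hp
          exact ((show Commute w σ from hwσ).zpow_right j).symm
        rwa [hpw.mul_pow, ← hwo, pow_orderOf_eq_one, mul_one, hwo]
    obtain ⟨g, hg⟩ := isConj_involution hN hs hwo'
    rw [← ht'] at hg
    have hleK : ((T : Subgroup K).map K.subtype).map (MulAut.conj g).toMonoidHom ≤ K := by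
      rintro _ ⟨_, ⟨z, hz, rfl⟩, rfl⟩
      refine mem_centralizer_singleton_iff.mpr ?_
      show g * z * g⁻¹ * t = t * (g * z * g⁻¹)
      rw [← hg]
      calc g * z * g⁻¹ * (g * w * g⁻¹) = g * ((z : G) * w) * g⁻¹ := by group
        _ = g * ((w : G) * z) * g⁻¹ := by rw [hcommT z hz]
        _ = g * w * g⁻¹ * (g * z * g⁻¹) := by group
    set T' := (((T : Subgroup K).map K.subtype).map (MulAut.conj g).toMonoidHom).subgroupOf K
      with hT'
    have hT'c : Nat.card T' = 8 := by
      rw [hT', Nat.card_congr (subgroupOfEquivOfLe hleK).toEquiv,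
        card_map_of_injective (MulAut.conj g).injective, card_map_of_injective K.subtype_injective,
        hT8]
    let T2 : Sylow 2 K := Sylow.ofCard T' (by
      rw [hT'c, hK24, show (24 : ℕ) = 2 ^ 3 * 3 from rfl, Nat.factorization_mul (by norm_num)
        (by norm_num), Finsupp.add_apply, Nat.prime_two.factorization_pow, Finsupp.single_eq_same,
        Nat.factorization_eq_zero_of_not_dvd (by norm_num : ¬ 2 ∣ 3)]
      rfl)
    obtain ⟨k, hk⟩ := MulAction.exists_smul_eq K T2 T
    have hmem : ∀ z ∈ (T : Subgroup K), ∀ hz' : g * (z : G) * g⁻¹ ∈ K,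
        k * ⟨g * z * g⁻¹, hz'⟩ * k⁻¹ ∈ (T : Subgroup K) := by
      intro z hz hz'
      rw [← hk, Sylow.coe_subgroup_smul]
      exact ⟨⟨g * z * g⁻¹, hz'⟩, ⟨z, ⟨z, hz, rfl⟩, rfl⟩, rfl⟩
    set m := (k : G) * g with hm
    have hmw : m * w * m⁻¹ = t := by
      calc m * w * m⁻¹ = (k : G) * (g * w * g⁻¹) * (k : G)⁻¹ := by rw [hm]; group
        _ = t := by rw [hg, mem_centralizer_singleton_iff.mp k.2, mul_inv_cancel_right]
    have hmt : m * t * m⁻¹ = t := by
      have hσK : g * (σ : G) * g⁻¹ ∈ K := hleK ⟨σ, ⟨σ, hσT, rfl⟩, rfl⟩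
      have h2 : ((k : G) * (g * σ * g⁻¹) * (k : G)⁻¹) ^ 2 = m * t * m⁻¹ := by
        rw [conj_pow, conj_pow, hm, show (σ : G) ^ 2 = t from rfl]
        group
      rcases hsq _ (hmem σ hσT hσK) with h1 | h1
      · exfalso
        have h3 : m * t * m⁻¹ = 1 := h2.symm.trans (congrArg Subtype.val h1)
        rw [mul_inv_eq_one, mul_eq_left] at h3
        exact ne_one_of_orderOf ht (by norm_num) h3
      · exact h2.symm.trans (congrArg Subtype.val h1)
    have hwt : (w : G) = t := by
      have := hmw.trans hmt.symm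
      exact mul_left_cancel (mul_right_cancel this)
    exact hws (by
      rw [show w = σ ^ 2 from Subtype.ext hwt]
      exact pow_mem (mem_zpowers σ) 2)
  · rw [h, orderOf_pow, hσo] at ho; norm_num at ho
  · exact congrArg Subtype.val h

/-- There are no elements of order eight. -/
theorem orderOf_ne_eight (hN : Nat.card G = 2520) (g : G) : orderOf g ≠ 8 := by
  intro hg
  have := Fact.mk Nat.prime_two
  have := Fact.mk Nat.prime_three
  have hs : orderOf (g ^ 2) = 4 := by rw [orderOf_pow, hg]; norm_num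
  have ht : orderOf ((g ^ 2) ^ 2) = 2 := by rw [orderOf_pow, hs]; norm_num
  obtain ⟨a, ha⟩ := exists_prime_orderOf_dvd_card'
    (G := centralizer ({(g ^ 2) ^ 2} : Set G)) 3
    (by rw [card_centralizer_involution hN ht]; norm_num)
  obtain ⟨w, hw, -, hws⟩ := exists_dihedral hN
    (by rw [Subgroup.orderOf_coe, ha] : orderOf (a : G) = 3) hs
    (mem_centralizer_singleton_iff.mp a.2)
  set W := closure ({g ^ 2, w} : Set G) with hW
  set C := zpowers g with hC
  have hCc : Nat.card C = 8 := by rw [hC, Nat.card_zpowers, hg]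
  obtain ⟨T, hT⟩ := (IsPGroup.of_card (p := 2) (n := 3) (by rw [hCc]; rfl)).exists_le_sylow
  have hTC : C = (T : Subgroup G) :=
    eq_of_le_of_card_ge hT (by rw [hCc, card_sylow_two_eq hN T])
  -- the dihedral group lies in another Sylow subgroup
  set Y := zpowers (g ^ 2) with hY
  have hwY : zpowers w ≤ normalizer (Y : Set G) := by
    refine zpowers_le.mpr (mem_normalizer_fintype fun x hx => ?_)
    obtain ⟨j, rfl⟩ := hx
    show w * (g ^ 2) ^ j * w⁻¹ ∈ Y
    rw [← conj_zpow, hws]
    exact zpow_mem (inv_mem (mem_zpowers _)) j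
  have hP : IsPGroup 2 (Y ⊔ zpowers w : Subgroup G) :=
    (IsPGroup.of_card (p := 2) (n := 2) (by rw [hY, Nat.card_zpowers, hs]; rfl)).to_sup_of_normal_left'
      (IsPGroup.of_card (p := 2) (n := 1) (by rw [Nat.card_zpowers, hw, pow_one])) hwY
  obtain ⟨R, hR⟩ := hP.exists_le_sylow
  have hcomm : ∀ x ∈ (R : Subgroup G), ∀ y ∈ (R : Subgroup G), x * y = y * x := by
    have e := Sylow.equiv R T
    have hcyc : IsCyclic (T : Subgroup G) := hTC ▸ Subgroup.isCyclic_zpowers g
    have := hcyc.isMulCommutative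
    intro x hx y hy
    have h1 : e ⟨x, hx⟩ * e ⟨y, hy⟩ = e ⟨y, hy⟩ * e ⟨x, hx⟩ := mul_comm' _ _
    rw [← map_mul, ← map_mul] at h1
    exact congrArg Subtype.val (e.injective h1)
  have h1 := hcomm w (hR (mem_sup_right (mem_zpowers w))) (g ^ 2)
    (hR (mem_sup_left (mem_zpowers _)))
  rw [h1, mul_inv_cancel_right] at hws
  have h2 : (g ^ 2) ^ 2 = 1 := by rw [sq (g ^ 2)]; nth_rewrite 1 [hws]; exact inv_mul_cancel _
  rw [h2, orderOf_one] at ht
  omega

end CfsgLib.Small.O2520
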