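import Cfsg.Agent.Lib.Small.Order2520Sylow
import Cfsg.Agent.Lib.Transfer.ThompsonTransfer

/-!
# Simple groups of order 2520: involutions and elements of order three
-/

set_option autoImplicit false
set_option linter.style.haveILetI false
set_option linter.unusedSectionVars false

open Subgroup
open scoped Nat

namespace CfsgLib.Small.O2520

universe u

variable {G : Type u} [Group G] [Finite G]

/-- Orbit and stabilizer for conjugation by a subgroup. -/
theorem card_conjOrbit_mul (H : Subgroup G) (b : G) :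
    Nat.card {g : G // ∃ h ∈ H, h * b * h⁻¹ = g} *
      Nat.card (H ⊓ centralizer ({b} : Set G) : Subgroup G) = Nat.card H := by
  letI : MulAction H G :=
    { smul := fun h g => (h : G) * g * (h : G)⁻¹
      one_smul := fun g => show (1 : G) * g * (1 : G)⁻¹ = g by simp
      mul_smul := fun h k g => show (h : G) * k * g * ((h : G) * k)⁻¹ =
        h * (k * g * (k : G)⁻¹) * (h : G)⁻¹ by group }
  rw [← card_mul_index (MulAction.stabilizer H b), MulAction.index_stabilizer, mul_comm]
  congr 1
  · refine Nat.card_congr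
      ⟨fun x => ⟨⟨x.1, x.2.1⟩, MulAction.mem_stabilizer_iff.mpr
          (show x.1 * b * x.1⁻¹ = b from mul_inv_eq_iff_eq_mul.mpr
            (mem_centralizer_singleton_iff.mp x.2.2))⟩,
        fun x => ⟨x.1.1, x.1.2, mem_centralizer_singleton_iff.mpr
          (mul_inv_eq_iff_eq_mul.mp (MulAction.mem_stabilizer_iff.mp x.2 :
            (x.1 : G) * b * (x.1 : G)⁻¹ = b))⟩,
        fun _ => rfl, fun _ => rfl⟩
  · rw [← Nat.card_coe_set_eq]
    exact Nat.card_congr
      ⟨fun x => ⟨x.1, by obtain ⟨h, hh, e⟩ := x.2; exact ⟨⟨h, hh⟩, e⟩⟩,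
        fun x => ⟨x.1, by obtain ⟨⟨h, hh⟩, e⟩ := x.2; exact ⟨h, hh, e⟩⟩,
        fun _ => rfl, fun _ => rfl⟩

/-- Sylow subgroups of a subgroup containing one of them. -/
theorem card_sylow_mul_normalizer {p : ℕ} [Fact p.Prime] {C : Subgroup G} (S : Sylow p G)
    (hS : (S : Subgroup G) ≤ C) :
    Nat.card (Sylow p C) * Nat.card (normalizer ((S : Subgroup G) : Set G) ⊓ C : Subgroup G) =
      Nat.card C := by
  rw [← card_mul_index ((normalizer ((S : Subgroup G) : Set G)).subgroupOf C), mul_comm]
  congr 1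
  · rw [← inf_subgroupOf_right]
    exact (Nat.card_congr (subgroupOfEquivOfLe inf_le_right).toEquiv).symm
  · rw [(S.subtype hS).card_eq_index_normalizer, subgroupOf_normalizer_eq hS]
    rfl

theorem eq_or_eq_inv_of_mem_zpowers_three {a b : G} (ha : a ^ 3 = 1) (hb : b ∈ zpowers a)
    (hb1 : b ≠ 1) : b = a ∨ b = a⁻¹ := by
  obtain ⟨i, rfl⟩ := hb
  have e : a ^ i = a ^ (i % 3) := by
    conv_lhs => rw [← Int.emod_add_mul_ediv i 3]
    rw [zpow_add, zpow_mul, show a ^ (3 : ℤ) = 1 by exact_mod_cast ha, one_zpow, mul_one]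
  change a ^ i ≠ 1 at hb1
  show a ^ i = a ∨ a ^ i = a⁻¹
  rw [e] at hb1 ⊢
  have h1 : 0 ≤ i % 3 := Int.emod_nonneg i (by norm_num)
  have h2 : i % 3 < 3 := Int.emod_lt_of_pos i (by norm_num)
  interval_cases h : i % 3
  · exact absurd (zpow_zero a) hb1
  · exact Or.inl (zpow_one a)
  · refine Or.inr (eq_inv_of_mul_eq_one_left ?_)
    rw [show a ^ (2 : ℤ) = a ^ 2 by exact_mod_cast rfl, ← pow_succ, ha]

theorem pow_three_eq_one {a : G} (ha : orderOf a = 3) : a ^ 3 = 1 := ha ▸ pow_orderOf_eq_one a

theorem mul_self_eq_one {t : G} (ht : orderOf t = 2) : t * t = 1 := by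
  rw [← sq, ← ht, pow_orderOf_eq_one]

variable [IsSimpleGroup G]

theorem no_commuting_five_seven (hN : Nat.card G = 2520) {g u : G}
    (hu : orderOf u = 5 ∨ orderOf u = 7) (h : u * g = g * u)
    (hg : orderOf g = 2 ∨ orderOf g = 3) : False := by
  obtain ⟨h5, h7, -⟩ := sylow_data hN
  have hmem : g ∈ centralizer ({u} : Set G) := mem_centralizer_singleton_iff.mpr h.symm
  have hd := Subgroup.orderOf_dvd_natCard _ hmem
  rcases hu with hu | hu
  · rw [h5 u hu] at hd
    rcases hg with hg | hg <;> rw [hg] at hd <;> omega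
  · rw [h7 u hu] at hd
    rcases hg with hg | hg <;> rw [hg] at hd <;> omega

theorem card_dvd_72_of_no_five_seven (hN : Nat.card G = 2520) {H : Subgroup G}
    (h : ∀ u ∈ H, orderOf u = 5 ∨ orderOf u = 7 → False) : Nat.card H ∣ 72 := by
  have hd : Nat.card H ∣ 35 * 72 := by
    have := card_subgroup_dvd_card H
    rwa [hN] at this
  refine Nat.Coprime.dvd_of_dvd_mul_left ?_ hd
  have key : ∀ p : ℕ, p.Prime → (p = 5 ∨ p = 7) → ¬ p ∣ Nat.card H := by
    intro p hp hp' hdvd
    have := Fact.mk hp
    obtain ⟨u, hu⟩ := exists_prime_orderOf_dvd_card' (G := H) p hdvd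
    exact h u u.2 (by rw [Subgroup.orderOf_coe, hu]; exact hp')
  rw [show (35 : ℕ) = 5 * 7 from rfl, Nat.coprime_mul_iff_right]
  exact ⟨((Nat.Prime.coprime_iff_not_dvd Nat.prime_five).mpr
      (key 5 Nat.prime_five (Or.inl rfl))).symm,
    ((Nat.Prime.coprime_iff_not_dvd (by norm_num)).mpr (key 7 (by norm_num) (Or.inr rfl))).symm⟩

theorem card_centralizer_dvd (hN : Nat.card G = 2520) {g : G}
    (hg : orderOf g = 2 ∨ orderOf g = 3) : Nat.card (centralizer ({g} : Set G)) ∣ 72 :=
  card_dvd_72_of_no_five_seven hN fun _ hu hu' =>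
    no_commuting_five_seven hN hu' (mem_centralizer_singleton_iff.mp hu) hg

/-- The normalizer of a subgroup of order three or nine. -/
theorem card_normalizer_dvd (hN : Nat.card G = 2520) {H : Subgroup G}
    (hH : Nat.card H = 3 ∨ Nat.card H = 9) : Nat.card (normalizer (H : Set G)) ∣ 72 := by
  refine card_dvd_72_of_no_five_seven hN fun u hu hu' => ?_
  obtain ⟨p, hp, hpo, hp57⟩ : ∃ p, p.Prime ∧ orderOf u = p ∧ (p = 5 ∨ p = 7) :=
    ⟨_, by rcases hu' with h | h <;> rw [h] <;> norm_num, rfl, hu'⟩
  have := Fact.mk hp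
  obtain ⟨a, ha, ha1, hua⟩ := exists_commuting_of_normalizes (p := p)
    (hpo ▸ pow_orderOf_eq_one u) hu (by
      rcases hp57 with rfl | rfl <;> rcases hH with h | h <;> rw [h] <;> decide)
  have hd : orderOf a ∣ Nat.card H := Subgroup.orderOf_dvd_natCard H ha
  have hmem : orderOf a ∈ ({1, 3, 9} : Finset ℕ) := by
    have h9 : orderOf a ∣ 9 := by
      rcases hH with h | h <;> rw [h] at hd
      · exact hd.trans (by norm_num)
      · exact hd
    have : orderOf a ∈ Nat.divisors 9 := Nat.mem_divisors.mpr ⟨h9, by norm_num⟩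
    rwa [show Nat.divisors 9 = {1, 3, 9} from by decide] at this
  simp only [Finset.mem_insert, Finset.mem_singleton] at hmem
  rcases hmem with h | h | h
  · exact ha1 (orderOf_eq_one_iff.mp h)
  · exact no_commuting_five_seven hN hu' hua (Or.inr h)
  · exact no_commuting_five_seven hN hu' (Commute.pow_right hua 3).eq
      (Or.inr (by rw [orderOf_pow, h]; norm_num))

theorem card_sylow_two_eq (hN : Nat.card G = 2520) [Fact (Nat.Prime 2)] (T : Sylow 2 G) :
    Nat.card (T : Subgroup G) = 8 := by
  simpa using card_sylow_eq (p := 2) 3 315 (by rw [hN]; norm_num) (by norm_num) T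

theorem card_sylow_three_eq (hN : Nat.card G = 2520) [Fact (Nat.Prime 3)] (S : Sylow 3 G) :
    Nat.card (S : Subgroup G) = 9 := by
  simpa using card_sylow_eq (p := 3) 2 280 (by rw [hN]; norm_num) (by norm_num) S

/-- A subgroup of order nine is a Sylow subgroup. -/
theorem exists_sylow_of_card_nine (hN : Nat.card G = 2520) [Fact (Nat.Prime 3)]
    {H : Subgroup G} (hH : Nat.card H = 9) : ∃ S : Sylow 3 G, (S : Subgroup G) = H := by
  obtain ⟨S, hS⟩ := (IsPGroup.of_card (p := 3) (n := 2) (by rw [hH]; rfl)).exists_le_sylow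
  exact ⟨S, (eq_of_le_of_card_ge hS (by rw [hH, card_sylow_three_eq hN S])).symm⟩

theorem commute_of_mem_sylow_three (hN : Nat.card G = 2520) [Fact (Nat.Prime 3)] (S : Sylow 3 G)
    {a b : G} (ha : a ∈ (S : Subgroup G)) (hb : b ∈ (S : Subgroup G)) : a * b = b * a :=
  congrArg Subtype.val ((IsPGroup.isMulCommutative_of_card_eq_prime_sq
    (by rw [card_sylow_three_eq hN S]; rfl : Nat.card (S : Subgroup G) = 3 ^ 2)).is_comm.comm
      ⟨a, ha⟩ ⟨b, hb⟩)

theorem card_sylow_three (hN : Nat.card G = 2520) [Fact (Nat.Prime 3)] (S : Sylow 3 G) :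
    Nat.card (Sylow 3 G) = 70 ∧ Nat.card (normalizer ((S : Subgroup G) : Set G)) = 36 := by
  have hG := not_comm hN
  have h9 := card_sylow_three_eq hN S
  have hd := card_normalizer_dvd hN (H := (S : Subgroup G)) (Or.inr h9)
  have hmul := card_normalizer_mul S
  have h9N : 9 ∣ Nat.card (normalizer ((S : Subgroup G) : Set G)) :=
    h9 ▸ card_dvd_of_le le_normalizer
  have hmod : Nat.card (Sylow 3 G) % 3 = 1 := card_sylow_modEq_one 3 G
  rw [hN] at hmul
  obtain ⟨q, hq⟩ := h9N
  rw [hq] at hmul hd ⊢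
  have hq8 : q ∈ Nat.divisors 8 := Nat.mem_divisors.mpr
    ⟨Nat.dvd_of_mul_dvd_mul_left (by norm_num : 0 < 9) (by simpa using hd), by norm_num⟩
  rw [show Nat.divisors 8 = {1, 2, 4, 8} from by decide] at hq8
  simp only [Finset.mem_insert, Finset.mem_singleton] at hq8
  rcases hq8 with rfl | rfl | rfl | rfl
  · exfalso
    refine not_normalizer_le_centralizer hG (by rw [hN]; norm_num) S ?_
    rw [← eq_of_le_of_card_ge (le_normalizer (H := (S : Subgroup G))) (by rw [h9, hq])]
    intro a ha
    exact mem_centralizer_iff.mpr fun b hb => commute_of_mem_sylow_three hN S hb ha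
  all_goals omega

/-- All involutions are conjugate. -/
theorem isConj_involution (hN : Nat.card G = 2520) {s u : G} (hs : orderOf s = 4)
    (hu : orderOf u = 2) : ∃ g : G, g * u * g⁻¹ = s ^ 2 := by
  have := Fact.mk Nat.prime_two
  obtain ⟨T, hT⟩ := (IsPGroup.of_card (p := 2) (n := 2)
    (by rw [Nat.card_zpowers, hs]; rfl : Nat.card (zpowers s) = 2 ^ 2)).exists_le_sylow
  by_contra hno
  push Not at hno
  have hrel : (zpowers s).relIndex (T : Subgroup G) = 2 := by
    have h := relIndex_mul_relIndex ⊥ _ _ bot_le hT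
    rw [relIndex_bot_left, relIndex_bot_left, Nat.card_zpowers, hs, card_sylow_two_eq hN T] at h
    omega
  obtain ⟨M, hMn, hMi, -⟩ := CfsgLib.Transfer.exists_index_two_of_not_conj_mem T hT hrel hu
    (fun g hg => by
      obtain ⟨i, hi⟩ := mem_powers_iff_mem_zpowers.mpr hg
      have hi' : s ^ i = g * u * g⁻¹ := hi
      have ho : orderOf (s ^ i) = 2 := by
        rw [hi', ← hu]
        exact MulEquiv.orderOf_eq (MulAut.conj g) u
      rw [← pow_mod_orderOf, hs] at hi' ho
      have : i % 4 < 4 := Nat.mod_lt _ (by norm_num)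
      interval_cases h : i % 4
      · simp at ho
      · rw [pow_one, hs] at ho; omega
      · exact hno g hi'.symm
      · rw [orderOf_pow, hs] at ho; norm_num at ho)
  rcases hMn.eq_bot_or_eq_top with h | h
  · rw [h, index_bot, hN] at hMi; omega
  · rw [h, index_top] at hMi; omega

theorem exists_order_four (hN : Nat.card G = 2520) :
    ∃ y s : G, orderOf y = 5 ∧ orderOf s = 4 ∧ s * y * s⁻¹ = y ^ 2 ∧
      Nat.card (normalizer ((zpowers y : Subgroup G) : Set G)) = 20 :=
  (sylow_data hN).2.2.2.2

theorem card_centralizer_conj (g a : G) :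
    Nat.card (centralizer ({g * a * g⁻¹} : Set G)) = Nat.card (centralizer ({a} : Set G)) := by
  refine (Nat.card_congr ((MulAut.conj g).toEquiv.subtypeEquiv fun x => ?_)).symm
  rw [mem_centralizer_singleton_iff, mem_centralizer_singleton_iff]
  constructor
  · intro h
    show (MulAut.conj g) x * (MulAut.conj g) a = (MulAut.conj g) a * (MulAut.conj g) x
    rw [← map_mul, ← map_mul, h]
  · intro h
    change (MulAut.conj g) x * (MulAut.conj g) a = (MulAut.conj g) a * (MulAut.conj g) x at h
    rw [← map_mul, ← map_mul] at h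
    exact (MulAut.conj g).injective h

theorem eight_dvd_centralizer (hN : Nat.card G = 2520) {u : G} (hu : orderOf u = 2) :
    8 ∣ Nat.card (centralizer ({u} : Set G)) := by
  obtain ⟨y, s, -, hs, -⟩ := exists_order_four hN
  have := Fact.mk Nat.prime_two
  obtain ⟨T⟩ := (inferInstance : Nonempty (Sylow 2 G))
  have h8 := card_sylow_two_eq hN T
  haveI : Nontrivial (T : Subgroup G) := Finite.one_lt_card_iff_nontrivial.mp (by omega)
  have hc := T.2.center_nontrivial
  obtain ⟨k, hk⟩ := (T.2.to_subgroup (center (T : Subgroup G))).exists_card_eq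
  have h1 : 1 < Nat.card (center (T : Subgroup G)) := Finite.one_lt_card
  obtain ⟨z, hz⟩ := exists_prime_orderOf_dvd_card' (G := center (T : Subgroup G)) 2 (by
    rw [hk] at h1 ⊢
    exact dvd_pow_self 2 (by rintro rfl; omega))
  have hzo : orderOf ((z : (T : Subgroup G)) : G) = 2 := by
    rw [Subgroup.orderOf_coe, Subgroup.orderOf_coe, hz]
  obtain ⟨g, hg⟩ := isConj_involution hN hs hu
  obtain ⟨k', hk'⟩ := isConj_involution hN hs hzo
  rw [← card_centralizer_conj g u, hg, ← hk', card_centralizer_conj, ← h8]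
  refine card_dvd_of_le fun x hx => mem_centralizer_singleton_iff.mpr ?_
  exact congrArg Subtype.val (mem_center_iff.mp z.2 ⟨x, hx⟩)

/-- Conjugating the product of `t` and an element of order five that it inverts. -/
theorem sq_card_inf_centralizer_le (hN : Nat.card G = 2520) {M : Subgroup G} {y t : G}
    (hy : orderOf y = 5) (hyM : y ∈ M) (hty : t * y * t⁻¹ = y⁻¹) :
    Nat.card (M ⊓ centralizer ({t} : Set G) : Subgroup G) ^ 2 ≤ Nat.card M := by
  set K := (M ⊓ centralizer ({t} : Set G) : Subgroup G) with hK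
  rw [sq, ← card_conjOrbit_mul M t]
  refine Nat.mul_le_mul_right _ (Nat.card_le_card_of_injective
    (fun c : K => (⟨(c : G) * y ^ 3 * t * ((c : G) * y ^ 3)⁻¹, (c : G) * y ^ 3,
      mul_mem c.2.1 (pow_mem hyM 3), rfl⟩ : {g : G // ∃ h ∈ M, h * t * h⁻¹ = g})) ?_)
  intro c d h
  have h' : (c : G) * y ^ 3 * t * ((c : G) * y ^ 3)⁻¹ = d * y ^ 3 * t * ((d : G) * y ^ 3)⁻¹ :=
    congrArg Subtype.val h
  have hyt : y ^ 3 * t * (y ^ 3)⁻¹ = y * t := by
    have h5 : y ^ 5 = 1 := hy ▸ pow_orderOf_eq_one y
    have h6 : t * (y ^ 3)⁻¹ * t⁻¹ = y ^ 3 := by rw [← conj_inv, ← conj_pow, hty, inv_pow, inv_inv]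
    calc y ^ 3 * t * (y ^ 3)⁻¹ = y ^ 3 * (t * (y ^ 3)⁻¹ * t⁻¹) * t := by group
      _ = y ^ 6 * t := by rw [h6, ← pow_add]
      _ = y * t := by rw [show (6 : ℕ) = 5 + 1 from rfl, pow_add, h5, one_mul, pow_one]
  set e := (d : G)⁻¹ * c with he
  have hec : e * (y * t) * e⁻¹ = y * t := by
    calc e * (y * t) * e⁻¹ = (d : G)⁻¹ * ((c : G) * y ^ 3 * t * ((c : G) * y ^ 3)⁻¹) * d := by
          rw [he, ← hyt]; group
      _ = (d : G)⁻¹ * ((d : G) * y ^ 3 * t * ((d : G) * y ^ 3)⁻¹) * d := by rw [h']
      _ = y * t := by rw [← hyt]; group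
  have het : e * t = t * e :=
    mem_centralizer_singleton_iff.mp (mul_mem (inv_mem d.2.2) c.2.2)
  have hey : e * y = y * e := by
    have h1 := mul_inv_eq_iff_eq_mul.mp hec
    refine mul_right_cancel (b := t) ?_
    rw [mul_assoc y, het, ← mul_assoc y t e, ← h1, mul_assoc]
  have hmem : e ∈ zpowers y := by
    rw [eq_of_le_of_card_ge (H := zpowers y) (K := centralizer ({y} : Set G))
      (zpowers_le.mpr (mem_centralizer_singleton_iff.mpr rfl))
      (by rw [Nat.card_zpowers, hy, (sylow_data hN).1 y hy])]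
    exact mem_centralizer_singleton_iff.mpr hey
  obtain ⟨i, hi⟩ := hmem
  have hinv : t * e * t⁻¹ = e⁻¹ := by
    rw [← hi, ← conj_zpow, hty, inv_zpow]
  rw [← het, mul_inv_cancel_right] at hinv
  have he2 : e ^ 2 = 1 := by rw [sq]; nth_rewrite 1 [hinv]; exact inv_mul_cancel e
  have he5 : e ^ 5 = 1 := by
    rw [← hi]
    show (y ^ i) ^ 5 = 1
    rw [← zpow_natCast, ← zpow_mul, mul_comm, zpow_mul, zpow_natCast, ← hy, pow_orderOf_eq_one,
      one_zpow]
  have he1 : e = 1 := by
    have : e ^ 5 = (e ^ 2) ^ 2 * e := by rw [← pow_mul, ← pow_succ]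
    rwa [he2, one_pow, one_mul, he5, eq_comm] at this
  exact Subtype.ext (inv_mul_eq_one.mp (he ▸ he1)).symm

theorem inverts_of_root {y s : G} (hy : orderOf y = 5) (hsy : s * y * s⁻¹ = y ^ 2) :
    s ^ 2 * y * (s ^ 2)⁻¹ = y⁻¹ := by
  rw [sq, mul_inv_rev, show s * s * y * (s⁻¹ * s⁻¹) = s * (s * y * s⁻¹) * s⁻¹ by group, hsy,
    ← conj_pow, hsy, ← pow_mul]
  refine eq_inv_of_mul_eq_one_left ?_
  rw [← pow_succ]
  exact orderOf_dvd_iff_pow_eq_one.mp (by rw [hy])

/-- The centralizer of an involution has order `24`. -/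
theorem card_centralizer_involution (hN : Nat.card G = 2520) {u : G} (hu : orderOf u = 2) :
    Nat.card (centralizer ({u} : Set G)) = 24 := by
  classical
  obtain ⟨h5, h7, c5, c7, y, s, hy, hs, hsy, -⟩ := sylow_data hN
  have := Fact.mk Nat.prime_two
  have := Fact.mk Nat.prime_three
  set t := s ^ 2 with htdef
  have hto : orderOf t = 2 := by rw [htdef, orderOf_pow, hs]; norm_num
  have hall : ∀ v : G, orderOf v = 2 →
      Nat.card (centralizer ({v} : Set G)) = Nat.card (centralizer ({t} : Set G)) := fun v hv => by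
    obtain ⟨g, hg⟩ := isConj_involution hN hs hv
    rw [htdef, ← hg, card_centralizer_conj]
  rw [hall u hu]
  set c := Nat.card (centralizer ({t} : Set G)) with hc
  obtain ⟨q, hq⟩ : 8 ∣ c := eight_dvd_centralizer hN hto
  have hd : c ∣ 72 := card_centralizer_dvd hN (Or.inl hto)
  have hq9 : q ∈ Nat.divisors 9 := Nat.mem_divisors.mpr
    ⟨Nat.dvd_of_mul_dvd_mul_left (by norm_num : 0 < 8) (by rw [← hq]; simpa using hd),
      by norm_num⟩
  rw [show Nat.divisors 9 = {1, 3, 9} from by decide] at hq9
  simp only [Finset.mem_insert, Finset.mem_singleton] at hq9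
  rcases hq9 with rfl | rfl | rfl
  · -- order eight: too many elements
    exfalso
    have : Fintype G := Fintype.ofFinite G
    have hI : Nat.card {g : G // orderOf g = 2} = 315 := by
      have h := card_conjOrbit_mul ⊤ t
      rw [top_inf_eq, ← hc, hq, card_top, hN] at h
      have hcongr : Nat.card {g : G // ∃ h ∈ (⊤ : Subgroup G), h * t * h⁻¹ = g} =
          Nat.card {g : G // orderOf g = 2} := by
        refine Nat.card_congr (Equiv.subtypeEquivRight fun g => ⟨?_, fun hg => ?_⟩)
        · rintro ⟨h, -, rfl⟩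
          rw [← hto]
          exact MulEquiv.orderOf_eq (MulAut.conj h) t
        · obtain ⟨k, hk⟩ := isConj_involution hN hs hg
          exact ⟨k⁻¹, mem_top _, by rw [htdef, ← hk]; group⟩
      omega
    have hII : 630 ≤ Nat.card {g : G // orderOf g = 4} := by
      have hroot : ∀ v : {g : G // orderOf g = 2}, ∃ g : G, orderOf g = 4 ∧ g ^ 2 = v := by
        rintro ⟨v, hv⟩
        obtain ⟨k, hk⟩ := isConj_involution hN hs hv
        refine ⟨k⁻¹ * s * k⁻¹⁻¹, ?_, ?_⟩
        · rw [← hs]; exact MulEquiv.orderOf_eq (MulAut.conj k⁻¹) s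
        · rw [conj_pow, ← hk]; group
      choose r hr hr2 using hroot
      let f : {g : G // orderOf g = 2} × Bool → {g : G // orderOf g = 4} := fun p =>
        if p.2 then ⟨r p.1, hr p.1⟩ else ⟨(r p.1)⁻¹, by rw [orderOf_inv]; exact hr p.1⟩
      have hf : Function.Injective f := by
        have hsq : ∀ p, (f p : G) ^ 2 = p.1 := by
          rintro ⟨v, b⟩
          cases b
          · simp only [f, Bool.false_eq_true, if_false]
            rw [inv_pow, hr2, inv_eq_of_mul_eq_one_right (mul_self_eq_one v.2)]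
          · simp only [f, if_true]
            exact hr2 v
        rintro ⟨v, b⟩ ⟨w, b'⟩ h
        obtain rfl : v = w := Subtype.ext (by rw [← hsq (v, b), h, hsq (w, b')])
        have hne : r v ≠ (r v)⁻¹ := by
          intro h'
          have h2 : r v ^ 2 = 1 := by rw [sq]; nth_rewrite 1 [h']; exact inv_mul_cancel _
          have := orderOf_dvd_of_pow_eq_one h2
          rw [hr v] at this
          omega
        cases b <;> cases b'
        · rfl
        · exact absurd (congrArg Subtype.val h).symm hne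
        · exact absurd (congrArg Subtype.val h) hne
        · rfl
      have := Nat.card_le_card_of_injective f hf
      rw [Nat.card_prod, hI, Nat.card_eq_fintype_card (α := Bool), Fintype.card_bool] at this
      omega
    have hodd : ∀ a : G, orderOf a = 3 → Nat.card (centralizer ({a} : Set G)) ∣ 9 := by
      intro a ha
      have hd' := card_centralizer_dvd hN (Or.inr ha : orderOf a = 2 ∨ orderOf a = 3)
      refine Nat.Coprime.dvd_of_dvd_mul_left ?_ (show _ ∣ 8 * 9 from hd')
      rw [show (8 : ℕ) = 2 ^ 3 from rfl]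
      refine Nat.Coprime.pow_right 3 (Nat.Coprime.symm
        ((Nat.Prime.coprime_iff_not_dvd Nat.prime_two).mpr fun h2 => ?_))
      obtain ⟨v, hv⟩ := exists_prime_orderOf_dvd_card' (G := centralizer ({a} : Set G)) 2 h2
      have hvo : orderOf (v : G) = 2 := by rw [Subgroup.orderOf_coe, hv]
      have ha' := Subgroup.orderOf_dvd_natCard (centralizer ({(v : G)} : Set G))
        (mem_centralizer_singleton_iff.mpr (mem_centralizer_singleton_iff.mp v.2).symm)
      rw [hall v hvo, hq, ha] at ha'
      omega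
    have hIII : 560 ≤ Nat.card {g : G // orderOf g = 3 ∨ orderOf g = 9} := by
      have : Fintype (Sylow 3 G) := Fintype.ofFinite _
      have hord : ∀ (S : Sylow 3 G) (g : (S : Subgroup G)), g ≠ 1 →
          orderOf (g : G) = 3 ∨ orderOf (g : G) = 9 := by
        intro S g hg
        have : orderOf (g : G) ∈ Nat.divisors 9 := Nat.mem_divisors.mpr
          ⟨card_sylow_three_eq hN S ▸ Subgroup.orderOf_dvd_natCard _ g.2, by norm_num⟩
        rw [show Nat.divisors 9 = {1, 3, 9} from by decide] at this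
        simp only [Finset.mem_insert, Finset.mem_singleton] at this
        rcases this with h | h
        · exact absurd (Subtype.ext (orderOf_eq_one_iff.mp h)) hg
        · exact h
      let f : (Σ S : Sylow 3 G, {g : (S : Subgroup G) // g ≠ 1}) →
          {g : G // orderOf g = 3 ∨ orderOf g = 9} := fun x => ⟨x.2.1, hord x.1 x.2.1 x.2.2⟩
      have hf : Function.Injective f := by
        rintro ⟨S, g, hg⟩ ⟨R, k, hk⟩ e
        have e' : (g : G) = k := congrArg Subtype.val e
        obtain ⟨a, ha, haS, haR⟩ : ∃ a : G, orderOf a = 3 ∧ a ∈ (S : Subgroup G) ∧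
            a ∈ (R : Subgroup G) := by
          rcases hord S g hg with h | h
          · exact ⟨g, h, g.2, e' ▸ k.2⟩
          · exact ⟨(g : G) ^ 3, by rw [orderOf_pow, h]; norm_num, pow_mem g.2 3,
              pow_mem (e' ▸ k.2) 3⟩
        have heq : ∀ Q : Sylow 3 G, a ∈ (Q : Subgroup G) →
            (Q : Subgroup G) = centralizer ({a} : Set G) := fun Q hQ =>
          eq_of_le_of_card_ge (fun x hx => mem_centralizer_singleton_iff.mpr
            (commute_of_mem_sylow_three hN Q hx hQ))
            (by rw [card_sylow_three_eq hN Q]; exact Nat.le_of_dvd (by norm_num) (hodd a ha))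
        obtain rfl : S = R := Sylow.ext ((heq S haS).trans (heq R haR).symm)
        obtain rfl : g = k := Subtype.ext e'
        rfl
      have hle := Nat.card_le_card_of_injective f hf
      have hfib : ∀ S : Sylow 3 G, Nat.card {g : (S : Subgroup G) // g ≠ 1} = 8 := fun S => by
        rw [Nat.card_eq_fintype_card, Fintype.card_subtype_compl, Fintype.card_subtype_eq,
          ← Nat.card_eq_fintype_card, card_sylow_three_eq hN S]
      obtain ⟨S₀⟩ := (inferInstance : Nonempty (Sylow 3 G))
      rw [Nat.card_sigma, Finset.sum_congr rfl (fun S _ => hfib S), Finset.sum_const,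
        Finset.card_univ, smul_eq_mul, ← Nat.card_eq_fintype_card,
        (card_sylow_three hN S₀).1] at hle
      omega
    simp only [Nat.card_eq_fintype_card, Fintype.card_subtype] at hI hII hIII c5 c7
    let key : G → ℕ := fun g => if orderOf g = 9 then 3 else orderOf g
    have hsum := Finset.card_eq_sum_card_fiberwise (f := key)
      (s := Finset.univ.filter fun g => key g ∈ ({2, 3, 4, 5, 7} : Finset ℕ))
      (t := ({2, 3, 4, 5, 7} : Finset ℕ)) (fun g hg => by simpa using hg)
    have hfibre : ∀ i ∈ ({2, 3, 4, 5, 7} : Finset ℕ),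
        ((Finset.univ.filter fun g => key g ∈ ({2, 3, 4, 5, 7} : Finset ℕ)).filter
          fun g => key g = i) =
        Finset.univ.filter fun g => if i = 3 then orderOf g = 3 ∨ orderOf g = 9 else orderOf g = i := by
      intro i hi
      ext g
      simp only [Finset.mem_insert, Finset.mem_singleton] at hi
      by_cases h9 : orderOf g = 9
      · rcases hi with rfl | rfl | rfl | rfl | rfl <;> simp [key, h9]
      · rcases hi with rfl | rfl | rfl | rfl | rfl <;> simp +contextual [key, h9]
    rw [Finset.sum_congr rfl (fun i hi => congrArg Finset.card (hfibre i hi))] at hsum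
    simp only [Finset.sum_insert, Finset.sum_singleton, Finset.mem_insert, Finset.mem_singleton,
      Nat.reduceEqDiff, or_self, not_false_eq_true, if_true, if_false]
      at hsum
    have hle := Finset.card_le_univ
      (Finset.univ.filter fun g => key g ∈ ({2, 3, 4, 5, 7} : Finset ℕ))
    rw [← Nat.card_eq_fintype_card, hN] at hle
    simp only [Finset.mem_insert, Finset.mem_singleton] at hle
    omega
  · omega
  · exfalso
    have h := sq_card_inf_centralizer_le hN hy (mem_top y) (inverts_of_root hy hsy)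
    rw [top_inf_eq, card_top, hN, ← htdef, ← hc, hq] at h
    norm_num at h

/-- No involution centralizes a subgroup of order nine. -/
theorem false_of_commute_sylow (hN : Nat.card G = 2520) [Fact (Nat.Prime 3)] (S : Sylow 3 G)
    {i : G} (hi : orderOf i = 2) (h : ∀ a ∈ (S : Subgroup G), a * i = i * a) : False := by
  have hd : Nat.card (S : Subgroup G) ∣ Nat.card (centralizer ({i} : Set G)) :=
    card_dvd_of_le fun a ha => mem_centralizer_singleton_iff.mpr (h a ha)
  rw [card_sylow_three_eq hN S, card_centralizer_involution hN hi] at hd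
  omega

theorem orderOf_dvd_nine (hN : Nat.card G = 2520) [Fact (Nat.Prime 3)] (S : Sylow 3 G) {a : G}
    (ha : a ∈ (S : Subgroup G)) : orderOf a ∣ 9 :=
  card_sylow_three_eq hN S ▸ Subgroup.orderOf_dvd_natCard _ ha

/-- An involution normalizing a Sylow `3`-subgroup centralizes none of its elements of order
three. -/
theorem false_of_normalizes (hN : Nat.card G = 2520) [Fact (Nat.Prime 3)] (S : Sylow 3 G)
    {i a : G} (hi : orderOf i = 2) (hiS : i ∈ normalizer ((S : Subgroup G) : Set G))
    (ha : a ∈ (S : Subgroup G)) (hao : orderOf a = 3) (hai : a * i = i * a) : False := by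
  classical
  set N := normalizer ((S : Subgroup G) : Set G) with hNdef
  set C := centralizer ({a} : Set G) with hCdef
  have hN36 : Nat.card N = 36 := (card_sylow_three hN S).2
  have h9 := card_sylow_three_eq hN S
  have hSC : (S : Subgroup G) ≤ C := fun x hx =>
    mem_centralizer_singleton_iff.mpr (commute_of_mem_sylow_three hN S hx ha)
  have hiC : i ∈ C := mem_centralizer_singleton_iff.mpr hai.symm
  have hall : ∀ b ∈ (S : Subgroup G), b ∉ zpowers a → Nat.card (N ⊓ centralizer ({a} : Set G) ⊓
      centralizer ({b} : Set G) : Subgroup G) ∣ 9 := by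
    intro b hb hba
    have hle : (N ⊓ centralizer ({a} : Set G) ⊓ centralizer ({b} : Set G) : Subgroup G) ≤
        centralizer ((S : Subgroup G) : Set G) := by
      intro n hn
      obtain ⟨⟨-, hna⟩, hnb⟩ := hn
      have hSab : (S : Subgroup G) = zpowers a ⊔ zpowers b := by
        refine (eq_of_le_of_card_ge (sup_le (zpowers_le.mpr ha) (zpowers_le.mpr hb)) ?_).symm
        have hd := card_dvd_of_le (sup_le (zpowers_le.mpr ha) (zpowers_le.mpr hb) :
          zpowers a ⊔ zpowers b ≤ (S : Subgroup G))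
        have h3 : 3 ∣ Nat.card (zpowers a ⊔ zpowers b : Subgroup G) := by
          have := card_dvd_of_le (le_sup_left : zpowers a ≤ zpowers a ⊔ zpowers b)
          rwa [Nat.card_zpowers, hao] at this
        have hne : Nat.card (zpowers a ⊔ zpowers b : Subgroup G) ≠ 3 := fun h' => hba (by
          rw [eq_of_le_of_card_ge (le_sup_left : zpowers a ≤ zpowers a ⊔ zpowers b)
            (by rw [h', Nat.card_zpowers, hao])]
          exact mem_sup_right (mem_zpowers b))
        rw [h9] at hd ⊢
        have hmem : Nat.card (zpowers a ⊔ zpowers b : Subgroup G) ∈ Nat.divisors 9 :=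
          Nat.mem_divisors.mpr ⟨hd, by norm_num⟩
        rw [show Nat.divisors 9 = {1, 3, 9} from by decide] at hmem
        simp only [Finset.mem_insert, Finset.mem_singleton] at hmem
        omega
      rw [hSab, mem_centralizer_iff]
      intro x hx
      have hle' : zpowers a ⊔ zpowers b ≤ centralizer ({n} : Set G) :=
        sup_le (zpowers_le.mpr (mem_centralizer_singleton_iff.mpr
            (mem_centralizer_singleton_iff.mp hna).symm))
          (zpowers_le.mpr (mem_centralizer_singleton_iff.mpr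
            (mem_centralizer_singleton_iff.mp hnb).symm))
      exact mem_centralizer_singleton_iff.mp (hle' hx)
    refine (card_dvd_of_le hle).trans ?_
    have hd : Nat.card (centralizer ((S : Subgroup G) : Set G)) ∣ 8 * 9 :=
      (card_dvd_of_le (centralizer_le (Set.singleton_subset_iff.mpr ha))).trans
        (card_centralizer_dvd hN (Or.inr hao))
    refine Nat.Coprime.dvd_of_dvd_mul_left ?_ hd
    rw [show (8 : ℕ) = 2 ^ 3 from rfl]
    refine Nat.Coprime.pow_right 3 (Nat.Coprime.symm
      ((Nat.Prime.coprime_iff_not_dvd Nat.prime_two).mpr fun h2 => ?_))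
    have := Fact.mk Nat.prime_two
    obtain ⟨v, hv⟩ :=
      exists_prime_orderOf_dvd_card' (G := centralizer ((S : Subgroup G) : Set G)) 2 h2
    exact false_of_commute_sylow hN S (i := (v : G)) (by rw [Subgroup.orderOf_coe, hv])
      fun x hx => mem_centralizer_iff.mp v.2 x hx
  -- an element of `S` outside `⟨a⟩`
  obtain ⟨b, hb, hba⟩ : ∃ b ∈ (S : Subgroup G), b ∉ zpowers a := by
    by_contra hne
    push Not at hne
    have := card_le_of_le (hne : (S : Subgroup G) ≤ zpowers a)
    rw [h9, Nat.card_zpowers, hao] at this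
    omega
  set N1 := (N ⊓ C : Subgroup G) with hN1
  have hd1 : Nat.card N1 ∣ 36 := hN36 ▸ card_dvd_of_le inf_le_left
  have h91 : 9 ∣ Nat.card N1 := h9 ▸ card_dvd_of_le (le_inf le_normalizer hSC)
  have h21 : 2 ∣ Nat.card N1 := hi ▸ Subgroup.orderOf_dvd_natCard N1 ⟨hiS, hiC⟩
  -- not every element of `N` centralizes `a`
  have hn36 : Nat.card N1 ≠ 36 := by
    intro h
    have horb : ∀ b ∈ (S : Subgroup G), b ∉ zpowers a →
        4 ≤ Nat.card {g : G // ∃ n ∈ N1, n * b * n⁻¹ = g} := by
      intro b hb hba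
      have hm := card_conjOrbit_mul N1 b
      have := Nat.le_of_dvd (by norm_num) (hall b hb hba)
      rw [h] at hm
      by_contra hlt
      have := Nat.mul_le_mul (Nat.le_of_lt_succ (not_le.mp hlt)) this
      omega
    have hsub : ∀ b ∈ (S : Subgroup G), b ∉ zpowers a → ∀ g,
        (∃ n ∈ N1, n * b * n⁻¹ = g) → g ∈ (S : Subgroup G) ∧ g ∉ zpowers a := by
      rintro b hb hba g ⟨n, hn, rfl⟩
      refine ⟨(mem_normalizer_iff.mp hn.1 b).mp hb, fun hg => hba ?_⟩
      obtain ⟨k, hk⟩ := hg
      refine ⟨k, ?_⟩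
      have hna : Commute n⁻¹ a := Commute.inv_left (mem_centralizer_singleton_iff.mp hn.2)
      calc a ^ k = n⁻¹ * a ^ k * n := by
            rw [(hna.zpow_right k).eq, inv_mul_cancel_right]
        _ = n⁻¹ * (n * b * n⁻¹) * n := by
            rw [show a ^ k = n * b * n⁻¹ from hk]
        _ = b := by group
    have : Fintype G := Fintype.ofFinite G
    set A := (Finset.univ.filter fun g => g ∈ (S : Subgroup G) ∧ g ∉ zpowers a) with hA
    have hAc : A.card = 6 := by
      have : A = (Finset.univ.filter fun g => g ∈ (S : Subgroup G)) \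
          (Finset.univ.filter fun g => g ∈ zpowers a) := by ext; simp [A]
      rw [this, Finset.card_sdiff_of_subset (fun x hx => Finset.mem_filter.mpr ⟨Finset.mem_univ _,
        zpowers_le.mpr ha (Finset.mem_filter.mp hx).2⟩), ← Fintype.card_subtype,
        ← Fintype.card_subtype, ← Nat.card_eq_fintype_card, ← Nat.card_eq_fintype_card]
      change Nat.card (S : Subgroup G) - Nat.card (zpowers a) = 6
      rw [h9, Nat.card_zpowers, hao]
    set O : G → Finset G := fun b => Finset.univ.filter fun g => ∃ n ∈ N1, n * b * n⁻¹ = g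
      with hO
    have hOA : ∀ b ∈ A, O b ⊆ A := fun b hb g hg => by
      simp only [A, O, Finset.mem_filter, Finset.mem_univ, true_and] at hb hg ⊢
      exact hsub b hb.1 hb.2 g hg
    have hOc : ∀ b ∈ A, 4 ≤ (O b).card := fun b hb => by
      simp only [A, Finset.mem_filter, Finset.mem_univ, true_and] at hb
      have := horb b hb.1 hb.2
      rwa [Nat.card_eq_fintype_card, Fintype.card_subtype] at this
    have hbA : b ∈ A := by simp [A, hb, hba]
    have hOb : (O b).card ≠ 6 := by
      intro h6
      have hm := card_conjOrbit_mul N1 b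
      rw [Nat.card_eq_fintype_card, Fintype.card_subtype] at hm
      change (O b).card * _ = _ at hm
      have hd := hall b hb hba
      rw [h6, h] at hm
      change Nat.card (N1 ⊓ centralizer ({b} : Set G) : Subgroup G) ∣ 9 at hd
      rw [show Nat.card (N1 ⊓ centralizer ({b} : Set G) : Subgroup G) = 6 by omega] at hd
      omega
    obtain ⟨b', hb'A, hb'O⟩ : ∃ b' ∈ A, b' ∉ O b := by
      by_contra hne
      push Not at hne
      exact hOb ((Finset.Subset.antisymm (hOA b hbA) hne) ▸ hAc)
    have hdisj : Disjoint (O b) (O b') := by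
      rw [Finset.disjoint_left]
      intro g hg hg'
      simp only [O, Finset.mem_filter, Finset.mem_univ, true_and] at hg hg'
      obtain ⟨n, hn, rfl⟩ := hg
      obtain ⟨m, hm, hm'⟩ := hg'
      refine hb'O ?_
      simp only [O, Finset.mem_filter, Finset.mem_univ, true_and]
      refine ⟨m⁻¹ * n, mul_mem (inv_mem hm) hn, ?_⟩
      calc m⁻¹ * n * b * (m⁻¹ * n)⁻¹ = m⁻¹ * (n * b * n⁻¹) * m := by group
        _ = m⁻¹ * (m * b' * m⁻¹) * m := by rw [hm']
        _ = b' := by group
    have := Finset.card_le_card (Finset.union_subset (hOA b hbA) (hOA b' hb'A))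
    rw [Finset.card_union_of_disjoint hdisj, hAc] at this
    have := hOc b hbA
    have := hOc b' hb'A
    omega
  have hN1c : Nat.card N1 = 18 := by
    have hmem : Nat.card N1 ∈ Nat.divisors 36 := Nat.mem_divisors.mpr ⟨hd1, by norm_num⟩
    rw [show Nat.divisors 36 = {1, 2, 3, 4, 6, 9, 12, 18, 36} from by decide] at hmem
    simp only [Finset.mem_insert, Finset.mem_singleton] at hmem
    omega
  -- some element of `N` inverts `a`
  obtain ⟨n, hn, hna⟩ : ∃ n ∈ N, n * a * n⁻¹ = a⁻¹ := by
    obtain ⟨n, hn, hnC⟩ : ∃ n ∈ N, n ∉ C := by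
      by_contra hne
      push Not at hne
      exact hn36 (by rw [hN1, inf_eq_left.mpr (fun x hx => hne x hx), hN36])
    refine ⟨n, hn, ?_⟩
    by_cases hz : n * a * n⁻¹ ∈ zpowers a
    · rcases eq_or_eq_inv_of_mem_zpowers_three (pow_three_eq_one hao) hz (fun h => by
        rw [mul_inv_eq_one, mul_eq_left] at h
        rw [h, orderOf_one] at hao
        omega) with h | h
      · exact absurd (mem_centralizer_singleton_iff.mpr (mul_inv_eq_iff_eq_mul.mp h)) hnC
      · exact h
    · exfalso
      have hnormal : (N1.subgroupOf N).Normal := normal_of_index_eq_two (by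
        rw [← relIndex]
        have h := relIndex_mul_relIndex ⊥ N1 N bot_le inf_le_left
        rw [relIndex_bot_left, relIndex_bot_left, hN1c, hN36] at h
        omega)
      have hd := hall _ ((mem_normalizer_iff.mp hn a).mp ha) hz
      have heq : N1 ≤ centralizer ({n * a * n⁻¹} : Set G) := by
        intro m hm
        have hconj := hnormal.conj_mem ⟨m, hm.1⟩ hm ⟨n⁻¹, inv_mem hn⟩
        have hmc : n⁻¹ * m * n⁻¹⁻¹ ∈ N1 := hconj
        have hc' := mem_centralizer_singleton_iff.mp hmc.2
        rw [mem_centralizer_singleton_iff]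
        calc m * (n * a * n⁻¹) = n * (n⁻¹ * m * n⁻¹⁻¹ * a) * n⁻¹ := by group
          _ = n * (a * (n⁻¹ * m * n⁻¹⁻¹)) * n⁻¹ := by rw [hc']
          _ = n * a * n⁻¹ * m := by group
      rw [inf_eq_left.mpr heq] at hd
      have := h21.trans hd
      omega
  -- the centralizer of `a`
  set X := zpowers a with hX
  have hXN : C ≤ normalizer (X : Set G) := by
    intro c hc
    rw [hX, zpowers_eq_closure]
    have h1 : c ∈ centralizer ((closure ({a} : Set G) : Subgroup G) : Set G) := by
      rwa [centralizer_closure]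
    exact centralizer_le_normalizer _ h1
  have hnX : n ∈ normalizer (X : Set G) := by
    have hmap : X.map (MulAut.conj n).toMonoidHom = X := by
      rw [hX, MonoidHom.map_zpowers]
      show zpowers (n * a * n⁻¹) = zpowers a
      rw [hna, zpowers_inv]
    rw [mem_normalizer_iff]
    intro x
    constructor
    · intro hx
      rw [← hmap]
      exact ⟨x, hx, rfl⟩
    · intro hx
      rw [← hmap] at hx
      obtain ⟨x', hx', e⟩ := hx
      exact (MulAut.conj n).injective e ▸ hx'
  have hdX := card_normalizer_dvd hN (H := X) (Or.inl (by rw [hX, Nat.card_zpowers, hao]))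
  have hdC := card_centralizer_dvd hN (Or.inr hao : orderOf a = 2 ∨ orderOf a = 3)
  rw [← hCdef] at hdC
  have hlt : 2 * Nat.card C ≤ Nat.card (normalizer (X : Set G)) := by
    obtain ⟨q, hq⟩ := card_dvd_of_le hXN
    have hne : Nat.card (normalizer (X : Set G)) ≠ Nat.card C := fun h => by
      have := eq_of_le_of_card_ge hXN h.le ▸ hnX
      have h1 := mem_centralizer_singleton_iff.mp this
      rw [h1, mul_inv_cancel_right] at hna
      have h2 : a ^ 2 = 1 := by rw [sq]; nth_rewrite 1 [hna]; exact inv_mul_cancel a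
      have := orderOf_dvd_of_pow_eq_one h2
      rw [hao] at this
      omega
    rcases q with _ | _ | q
    · rw [mul_zero] at hq; exact absurd hq Nat.card_pos.ne'
    · exact absurd (by simpa using hq) hne
    · rw [hq, mul_comm 2]; exact Nat.mul_le_mul_left _ (by omega)
  have h72 := Nat.le_of_dvd (by norm_num) hdX
  have h18 : 18 ∣ Nat.card C := hN1c ▸ card_dvd_of_le (inf_le_right : N1 ≤ C)
  have hn3 := card_sylow_mul_normalizer S hSC
  rw [← hN1, hN1c] at hn3
  have hmod : Nat.card (Sylow 3 C) % 3 = 1 := card_sylow_modEq_one 3 C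
  have hC18 : Nat.card C = 18 := by omega
  have hCN : C ≤ N := by
    have : N1 = C := eq_of_le_of_card_ge inf_le_right (by rw [hN1c, hC18])
    exact this ▸ inf_le_left
  have huniq : ∀ x ∈ C, orderOf x ∣ 9 → x ∈ (S : Subgroup G) := by
    intro x hx hx9
    obtain ⟨j, -, hj⟩ := (Nat.dvd_prime_pow Nat.prime_three).mp
      (show orderOf x ∣ 3 ^ 2 by simpa using hx9)
    have hp : IsPGroup 3 (zpowers x) := IsPGroup.of_card (n := j) (by rw [Nat.card_zpowers, hj])
    exact ((hp.inf_normalizer_sylow S).le ⟨mem_zpowers x, hCN hx⟩).2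
  have hXS : normalizer (X : Set G) ≤ N := by
    intro g hg
    have hgC : ∀ x ∈ C, g * x * g⁻¹ ∈ C := by
      intro x hx
      rw [mem_centralizer_singleton_iff]
      have h1 : g⁻¹ * a * g⁻¹⁻¹ ∈ X := (mem_normalizer_iff.mp (inv_mem hg) a).mp (mem_zpowers a)
      obtain ⟨k, hk⟩ := h1
      have hxa : x * (g⁻¹ * a * g⁻¹⁻¹) = g⁻¹ * a * g⁻¹⁻¹ * x := by
        rw [← hk]
        exact ((show Commute x a from mem_centralizer_singleton_iff.mp hx).zpow_right k).eq
      calc g * x * g⁻¹ * a = g * (x * (g⁻¹ * a * g⁻¹⁻¹)) * g⁻¹ := by group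
        _ = g * (g⁻¹ * a * g⁻¹⁻¹ * x) * g⁻¹ := by rw [hxa]
        _ = a * (g * x * g⁻¹) := by group
    refine mem_normalizer_fintype fun x hx => ?_
    refine huniq _ (hgC x (hSC hx)) ?_
    rw [show g * x * g⁻¹ = MulAut.conj g x from rfl, MulEquiv.orderOf_eq]
    exact orderOf_dvd_nine hN S hx
  have hXNeq : normalizer (X : Set G) = N := by
    refine eq_of_le_of_card_ge hXS ?_
    rw [hN36]
    omega
  -- the centralizer of `i`
  set K := centralizer ({i} : Set G) with hKdef
  have hK24 : Nat.card K = 24 := card_centralizer_involution hN hi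
  set D := (N ⊓ K : Subgroup G) with hD
  set H18 := (N1 ⊓ K : Subgroup G) with hH18
  have hdD36 : Nat.card D ∣ 36 := hN36 ▸ card_dvd_of_le inf_le_left
  have hdD24 : Nat.card D ∣ 24 := hK24 ▸ card_dvd_of_le inf_le_right
  have h6 : 6 ∣ Nat.card H18 :=
    Nat.Coprime.mul_dvd_of_dvd_of_dvd (by norm_num : Nat.Coprime 2 3)
      (hi ▸ Subgroup.orderOf_dvd_natCard H18 ⟨⟨hiS, hiC⟩, mem_centralizer_singleton_iff.mpr rfl⟩)
      (hao ▸ Subgroup.orderOf_dvd_natCard H18
        ⟨⟨le_normalizer ha, hSC ha⟩, mem_centralizer_singleton_iff.mpr hai⟩)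
  -- an element of `N` centralizing `i` and inverting `a`
  obtain ⟨m, hm, hma⟩ : ∃ m ∈ D, m ∉ C := by
    have hN1n : (N1.subgroupOf N).Normal := normal_of_index_eq_two (by
      rw [← relIndex]
      have h := relIndex_mul_relIndex ⊥ N1 N bot_le inf_le_left
      rw [relIndex_bot_left, relIndex_bot_left, hN1c, hN36] at h
      omega)
    have := Fact.mk Nat.prime_two
    have hi' : n * i * n⁻¹ ∈ N1 := hN1n.conj_mem ⟨i, hiS⟩ ⟨hiS, hiC⟩ ⟨n, hn⟩
    have hsyl : ∀ v : G, v ∈ N1 → orderOf v = 2 →
        ∃ R : Sylow 2 N1, (R : Subgroup N1) = (zpowers v).subgroupOf N1 := by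
      intro v hv hvo
      have hle : zpowers v ≤ N1 := zpowers_le.mpr hv
      have hc : Nat.card ((zpowers v).subgroupOf N1) = 2 := by
        rw [Nat.card_congr (subgroupOfEquivOfLe hle).toEquiv, Nat.card_zpowers, hvo]
      refine ⟨Sylow.ofCard ((zpowers v).subgroupOf N1) ?_, rfl⟩
      rw [hc, hN1c, show (18 : ℕ) = 2 * 9 from rfl, Nat.factorization_mul two_ne_zero (by norm_num),
        Finsupp.add_apply, Nat.prime_two.factorization_self,
        Nat.factorization_eq_zero_of_not_dvd (by norm_num : ¬ 2 ∣ 9)]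
      rfl
    obtain ⟨R, hR⟩ := hsyl i ⟨hiS, hiC⟩ hi
    obtain ⟨R', hR'⟩ := hsyl _ hi' (by rw [← hi]; exact MulEquiv.orderOf_eq (MulAut.conj n) i)
    obtain ⟨k, hk⟩ := MulAction.exists_smul_eq N1 R' R
    have hmem : k * ⟨n * i * n⁻¹, hi'⟩ * k⁻¹ ∈ (R : Subgroup N1) := by
      rw [← hk, Sylow.coe_subgroup_smul]
      exact ⟨⟨n * i * n⁻¹, hi'⟩, by rw [hR']; exact mem_zpowers _, rfl⟩
    rw [hR, mem_subgroupOf] at hmem
    obtain ⟨j, hj⟩ := hmem
    have hj' : i ^ j = (k : G) * (n * i * n⁻¹) * (k : G)⁻¹ := hj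
    have hne : i ^ j ≠ 1 := by
      rw [hj']
      intro h
      rw [mul_inv_eq_one, mul_eq_left, mul_inv_eq_one, mul_eq_left] at h
      rw [h, orderOf_one] at hi
      omega
    have hij : i ^ j = i := by
      rcases Int.even_or_odd' j with ⟨r, rfl | rfl⟩
      · exact absurd (by rw [zpow_mul, zpow_two, mul_self_eq_one hi, one_zpow]) hne
      · rw [zpow_add, zpow_mul, zpow_two, mul_self_eq_one hi, one_zpow, one_mul, zpow_one]
    rw [hij] at hj'
    refine ⟨(k : G) * n, ⟨mul_mem k.2.1 hn, mem_centralizer_singleton_iff.mpr ?_⟩, fun h => ?_⟩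
    · calc (k : G) * n * i = (k : G) * (n * i * n⁻¹) * (k : G)⁻¹ * ((k : G) * n) := by group
        _ = i * ((k : G) * n) := by rw [← hj']
    · have hnC : n ∈ C := by
        have := C.mul_mem (C.inv_mem k.2.2) h
        rwa [inv_mul_cancel_left] at this
      rw [mem_centralizer_singleton_iff.mp hnC, mul_inv_cancel_right] at hna
      have h2 : a ^ 2 = 1 := by rw [sq]; nth_rewrite 1 [hna]; exact inv_mul_cancel a
      have := orderOf_dvd_of_pow_eq_one h2
      rw [hao] at this
      omega
  have h12 : 12 ≤ Nat.card D := by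
    have hsub : H18 ≤ D := inf_le_inf_right _ inf_le_left
    have hne : Nat.card D ≠ Nat.card H18 := fun h =>
      hma ((eq_of_le_of_card_ge hsub h.le ▸ hm : m ∈ H18).1.2)
    obtain ⟨q, hq⟩ := card_dvd_of_le hsub
    have h6' := Nat.le_of_dvd Nat.card_pos h6
    rcases q with _ | _ | q
    · rw [mul_zero] at hq; exact absurd hq Nat.card_pos.ne'
    · exact absurd (by simpa using hq) hne
    · rw [hq]
      have := Nat.mul_le_mul h6' (show 2 ≤ q + 1 + 1 by omega)
      omega
  -- the normalizer of `X` in `K` is too large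
  set XK := X.subgroupOf K with hXK
  have hXKle : X ≤ K := zpowers_le.mpr (mem_centralizer_singleton_iff.mpr hai)
  have hXKc : Nat.card XK = 3 := by
    rw [hXK, Nat.card_congr (subgroupOfEquivOfLe hXKle).toEquiv, hX, Nat.card_zpowers, hao]
  let PX : Sylow 3 K := Sylow.ofCard XK (by
    rw [hXKc, hK24, show (24 : ℕ) = 3 * 8 from rfl,
      Nat.factorization_mul (by norm_num) (by norm_num), Finsupp.add_apply,
      Nat.prime_three.factorization_self,
      Nat.factorization_eq_zero_of_not_dvd (by norm_num : ¬ 3 ∣ 8)]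
    rfl)
  have hnK : Nat.card (Sylow 3 K) * Nat.card D = 24 := by
    rw [PX.card_eq_index_normalizer]
    change (normalizer (((X.subgroupOf K) : Subgroup K) : Set K)).index * Nat.card D = 24
    rw [← subgroupOf_normalizer_eq hXKle, hXNeq, hD, ← hK24,
      mul_comm, ← card_mul_index (N.subgroupOf K)]
    congr 1
    rw [← inf_subgroupOf_right]
    exact Nat.card_congr (subgroupOfEquivOfLe inf_le_right).toEquiv |>.symm
  have hmodK : Nat.card (Sylow 3 K) % 3 = 1 := card_sylow_modEq_one 3 K
  have : Nat.card (Sylow 3 K) ≤ 2 := by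
    by_contra hlt
    have := Nat.mul_le_mul (not_le.mp hlt) h12
    omega
  have hn1 : Nat.card (Sylow 3 K) = 1 := by omega
  rw [hn1, one_mul] at hnK
  rw [hnK] at hdD36
  omega

end CfsgLib.Small.O2520
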