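import Cfsg.Agent.Lib.Small.Orders6232
import Cfsg.Agent.Lib.Small.Order168
import Cfsg.Agent.S1010

/-!
# Simple groups of order 2520: the primes five and seven
-/

set_option autoImplicit false
set_option linter.style.haveILetI false

open Subgroup
open scoped Nat

namespace CfsgLib.Small.O2520

universe u

variable {G : Type u} [Group G] [Finite G]

theorem centralizer_zpowers_eq (u : G) :
    centralizer ((zpowers u : Subgroup G) : Set G) = centralizer ({u} : Set G) := by
  rw [zpowers_eq_closure, centralizer_closure]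

theorem eq_zpowers_of_mem {p : ℕ} [hp : Fact p.Prime] (P : Sylow p G)
    (hP : Nat.card (P : Subgroup G) = p) {u : G} (hu : orderOf u = p) (hmem : u ∈ (P : Subgroup G)) :
    (P : Subgroup G) = zpowers u :=
  (eq_of_le_of_card_ge (zpowers_le.mpr hmem) (by rw [Nat.card_zpowers, hu, hP])).symm

/-- A `p`-element normalizing `S` centralizes a non-trivial element unless `p ∣ |S| - 1`. -/
theorem exists_commuting_of_normalizes {p : ℕ} [hp : Fact p.Prime] {S : Subgroup G} {u : G}
    (hu : u ^ p = 1) (hS : u ∈ normalizer (S : Set G)) (hdvd : ¬ p ∣ Nat.card S - 1) :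
    ∃ a ∈ S, a ≠ 1 ∧ u * a = a * u := by
  classical
  have hle : zpowers u ≤ normalizer (S : Set G) := zpowers_le.mpr hS
  have hP : IsPGroup p (zpowers u) := fun g => ⟨1, by
    obtain ⟨g, i, rfl⟩ := g
    refine Subtype.ext ?_
    show (u ^ i) ^ p ^ 1 = 1
    rw [pow_one, ← zpow_natCast, ← zpow_mul, mul_comm, zpow_mul, zpow_natCast, hu, one_zpow]⟩
  letI : MulAction (zpowers u) S :=
    MulAction.compHom S (S.normalizerMonoidHom.comp (inclusion hle))
  have hmod := hP.card_modEq_card_fixedPoints S
  by_contra hne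
  push Not at hne
  apply hdvd
  have hfix : MulAction.fixedPoints (zpowers u) S = {1} := by
    ext a
    rw [MulAction.mem_fixedPoints, Set.mem_singleton_iff]
    constructor
    · intro h
      by_contra ha
      refine hne a a.2 (fun h1 => ha (Subtype.ext h1)) ?_
      have : u * (a : G) * u⁻¹ = a := congrArg Subtype.val (h ⟨u, mem_zpowers u⟩)
      exact mul_inv_eq_iff_eq_mul.mp this
    · rintro rfl g
      exact map_one (S.normalizerMonoidHom.comp (inclusion hle) g)
  rw [hfix, Nat.card_coe_set_eq, Set.ncard_singleton] at hmod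
  exact (Nat.modEq_iff_dvd' Nat.card_pos).mp hmod.symm

variable [IsSimpleGroup G]

theorem not_comm (hN : Nat.card G = 2520) : ¬ IsMulCommutative G :=
  not_isMulCommutative_of_card (by rw [hN]; norm_num)

/-- A cyclic group of order `35` acting regularly on `35` of the Sylow `7`-subgroups. -/
theorem false_of_thirty_six (hN : Nat.card G = 2520) [Fact (Nat.Prime 7)] (P : Sylow 7 G)
    (hP : Nat.card (P : Subgroup G) = 7) (hn : Nat.card (Sylow 7 G) = 36)
    (hC : Nat.card (centralizer ((P : Subgroup G) : Set G)) = 35)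
    (hM : Nat.card (normalizer ((P : Subgroup G) : Set G)) = 70)
    (h5 : ∀ b : G, orderOf b = 5 → Odd (Nat.card (centralizer ({b} : Set G)))) : False := by
  classical
  have hG := not_comm hN
  have := Fact.mk Nat.prime_two
  have := Fact.mk Nat.prime_five
  have : Fintype (Sylow 7 G) := Fintype.ofFinite _
  set C := centralizer ((P : Subgroup G) : Set G) with hCdef
  set f := MulAction.toPermHom G (Sylow 7 G) with hf
  have hinj : Function.Injective f :=
    toPermHom_sylow_injective hG (hP ▸ card_subgroup_dvd_card (P : Subgroup G))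
  obtain ⟨a₀, ha₀⟩ := exists_prime_orderOf_dvd_card' (G := (P : Subgroup G)) 7 (by rw [hP])
  have hao : orderOf (a₀ : G) = 7 := by rw [Subgroup.orderOf_coe, ha₀]
  obtain ⟨b₀, hb₀⟩ := exists_prime_orderOf_dvd_card' (G := C) 5 (by rw [hC]; norm_num)
  have hbo : orderOf (b₀ : G) = 5 := by rw [Subgroup.orderOf_coe, hb₀]
  have hcommab : Commute (a₀ : G) b₀ := mem_centralizer_iff.mp b₀.2 a₀ a₀.2
  have hPC : (P : Subgroup G) ≤ C := by
    have := (isCyclic_of_prime_card (α := (P : Subgroup G)) hP).isMulCommutative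
    exact le_centralizer (P : Subgroup G)
  -- `C` is cyclic
  have hgen : zpowers ((a₀ : G) * b₀) = C := by
    refine eq_of_le_of_card_ge (zpowers_le.mpr (mul_mem (hPC a₀.2) b₀.2)) ?_
    rw [hC, Nat.card_zpowers, hcommab.orderOf_mul_eq_mul_orderOf_of_coprime
      (by rw [hao, hbo]; norm_num), hao, hbo]
  have hcomm : ∀ c ∈ C, ∀ d ∈ C, c * d = d * c := by
    intro c hc d hd
    rw [← hgen] at hc hd
    obtain ⟨i, rfl⟩ := hc
    obtain ⟨j, rfl⟩ := hd
    exact ((Commute.refl _).zpow_zpow i j).eq
  obtain ⟨t₀, ht₀⟩ :=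
    exists_prime_orderOf_dvd_card' (G := normalizer ((P : Subgroup G) : Set G)) 2
      (by rw [hM]; norm_num)
  set t := (t₀ : G) with htdef
  have hto : orderOf t = 2 := by rw [htdef, Subgroup.orderOf_coe, ht₀]
  have ht2 : t * t = 1 := by rw [← sq, ← hto, pow_orderOf_eq_one]
  have htinv : t⁻¹ = t := inv_eq_of_mul_eq_one_right ht2
  have htnC : t ∉ C := fun h => by
    have h2 := Subgroup.orderOf_dvd_natCard C h
    rw [hto, hC] at h2
    omega
  -- `t` centralizes nothing in `C`
  have hfree : ∀ c ∈ C, t * c = c * t → c = 1 := by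
    intro c hc hct
    by_contra hc1
    have hdvd : orderOf c ∣ 35 := hC ▸ Subgroup.orderOf_dvd_natCard C hc
    have hmem : orderOf c ∈ Nat.divisors 35 := Nat.mem_divisors.mpr ⟨hdvd, by norm_num⟩
    rw [show Nat.divisors 35 = {1, 5, 7, 35} from by decide] at hmem
    simp only [Finset.mem_insert, Finset.mem_singleton] at hmem
    rcases hmem with h | h | h | h
    · exact hc1 (orderOf_eq_one_iff.mp h)
    · have h1 := Subgroup.orderOf_dvd_natCard (centralizer ({c} : Set G))
        (mem_centralizer_singleton_iff.mpr hct)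
      rw [hto] at h1
      exact Nat.not_even_iff_odd.mpr (h5 c h) (even_iff_two_dvd.mpr h1)
    all_goals
      have hgen' : (P : Subgroup G) ≤ zpowers c := by
        by_cases h7 : orderOf c = 7
        · have hcP : c ∈ (P : Subgroup G) := by
            have hz : IsPGroup 7 (zpowers c) :=
              IsPGroup.of_card (n := 1) (by rw [Nat.card_zpowers, h7, pow_one])
            exact ((hz.inf_normalizer_sylow P).le
              ⟨mem_zpowers c, centralizer_le_normalizer _ hc⟩).2
          exact (eq_zpowers_of_mem P hP h7 hcP).le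
        · exact (eq_of_le_of_card_ge (zpowers_le.mpr hc)
            (by rw [hC, Nat.card_zpowers]; omega)).symm ▸ hPC
      refine htnC (mem_centralizer_iff.mpr fun y hy => ?_)
      obtain ⟨i, rfl⟩ := hgen' hy
      exact (Commute.zpow_left (Commute.symm hct) i).eq
  have hnormC : ∀ c ∈ C, t * c * t ∈ C := by
    intro c hc
    rw [hCdef, mem_centralizer_iff]
    intro y hy
    have h1 : t * y * t ∈ (P : Subgroup G) := by
      have := (mem_normalizer_iff.mp t₀.2 y).mp hy
      rwa [← htdef, htinv] at this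
    have h2 := mem_centralizer_iff.mp hc _ h1
    calc y * (t * c * t) = t * ((t * y * t) * c) * t := by
          simp only [mul_assoc]; rw [← mul_assoc t t, ht2, one_mul]
      _ = t * (c * (t * y * t)) * t := by rw [h2]
      _ = t * c * t * y := by
          simp only [mul_assoc]; rw [ht2, mul_one]
  have hinvert : ∀ c ∈ C, t * c * t = c⁻¹ := by
    intro c hc
    refine eq_inv_of_mul_eq_one_left (hfree _ (mul_mem (hnormC c hc) hc) ?_)
    calc t * (t * c * t * c) = c * (t * c) := by
          simp only [← mul_assoc, ht2, one_mul]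
      _ = c * (t * c * t) * t := by simp only [mul_assoc, ht2, mul_one]
      _ = t * c * t * c * t := by rw [hcomm c hc _ (hnormC c hc)]
  -- regularity on the other Sylow subgroups
  have hstab : ∀ c ∈ C, ∀ Q : Sylow 7 G, Q ≠ P → c • Q = Q → c = 1 := by
    intro c hc Q hQP hcQ
    by_contra hc1
    have hdvd : orderOf c ∣ 35 := hC ▸ Subgroup.orderOf_dvd_natCard C hc
    obtain ⟨d, hd, hdo, hdQ⟩ :
        ∃ d ∈ C, (orderOf d = 5 ∨ orderOf d = 7) ∧ d • Q = Q := by
      have hfix : ∀ k : ℕ, c ^ k • Q = Q := fun k => by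
        induction k with
        | zero => rw [pow_zero, one_smul]
        | succ k ih => rw [pow_succ, mul_smul, hcQ, ih]
      have hmem : orderOf c ∈ Nat.divisors 35 := Nat.mem_divisors.mpr ⟨hdvd, by norm_num⟩
      rw [show Nat.divisors 35 = {1, 5, 7, 35} from by decide] at hmem
      simp only [Finset.mem_insert, Finset.mem_singleton] at hmem
      rcases hmem with h | h | h | h
      · exact absurd (orderOf_eq_one_iff.mp h) hc1
      · exact ⟨c, hc, Or.inl h, hcQ⟩
      · exact ⟨c, hc, Or.inr h, hcQ⟩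
      · exact ⟨c ^ 7, pow_mem hc 7, Or.inl (by rw [orderOf_pow, h]; norm_num), hfix 7⟩
    rcases hdo with h | h
    · obtain ⟨hdiv, hPn⟩ := support_of_centralizing P hP hd
      have ho : orderOf (f d) = 5 := by rw [orderOf_injective _ hinj, h]
      obtain ⟨i, hi⟩ := Equiv.Perm.cycleType_prime_order (ho ▸ Nat.prime_five)
      have hsum := (f d).sum_cycleType
      rw [hi, Multiset.sum_replicate, smul_eq_mul, ho] at hsum
      have h35 : 35 ∣ (f d).support.card :=
        Nat.Coprime.mul_dvd_of_dvd_of_dvd (by norm_num : Nat.Coprime 5 7)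
          ⟨i + 1, by rw [← hsum, mul_comm]⟩ hdiv
      have hsub : (f d).support ⊆ Finset.univ.erase P := fun R hR =>
        Finset.mem_erase.mpr ⟨fun h' => hPn (h' ▸ hR), Finset.mem_univ _⟩
      have hcard : (Finset.univ.erase P : Finset (Sylow 7 G)).card = 35 := by
        rw [Finset.card_erase_of_mem (Finset.mem_univ _), Finset.card_univ,
          ← Nat.card_eq_fintype_card, hn]
      have heq := Finset.eq_of_subset_of_card_le hsub (by
        rw [hcard]
        exact Nat.le_of_dvd (by omega) h35)
      have hQs : Q ∈ (f d).support := heq ▸ Finset.mem_erase.mpr ⟨hQP, Finset.mem_univ _⟩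
      exact Equiv.Perm.mem_support.mp hQs hdQ
    · have hz : IsPGroup 7 (zpowers d) :=
        IsPGroup.of_card (n := 1) (by rw [Nat.card_zpowers, h, pow_one])
      have hdP : d ∈ (P : Subgroup G) :=
        ((hz.inf_normalizer_sylow P).le ⟨mem_zpowers d, centralizer_le_normalizer _ hd⟩).2
      have hdQ' : d ∈ (Q : Subgroup G) :=
        ((hz.inf_normalizer_sylow Q).le ⟨mem_zpowers d,
          Sylow.smul_eq_iff_mem_normalizer.mp hdQ⟩).2
      exact hQP (Sylow.ext (P.3 Q.2 (by
        rw [eq_zpowers_of_mem P hP h hdP]; exact zpowers_le.mpr hdQ')))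
  obtain ⟨Q, hQ⟩ : ∃ Q : Sylow 7 G, Q ≠ P := by
    have : Nontrivial (Sylow 7 G) := Finite.one_lt_card_iff_nontrivial.mp (by omega)
    exact exists_ne P
  have htP : t • P = P := Sylow.smul_eq_iff_mem_normalizer.mpr t₀.2
  have hcP : ∀ c ∈ C, c • P = P := fun c hc =>
    Sylow.smul_eq_iff_mem_normalizer.mpr (centralizer_le_normalizer _ hc)
  let F : C → {R : Sylow 7 G // R ≠ P} := fun c => ⟨(c : G) • Q, fun h => hQ (by
    rw [← hcP c c.2] at h
    exact smul_left_cancel _ h)⟩
  have hFi : Function.Injective F := by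
    intro c d h
    have h1 : (c : G) • Q = (d : G) • Q := congrArg Subtype.val h
    have h2 := hstab ((d : G)⁻¹ * c) (mul_mem (inv_mem d.2) c.2) Q hQ
      (by rw [mul_smul, h1, inv_smul_smul])
    exact Subtype.ext (inv_mul_eq_one.mp h2).symm
  have hFb : Function.Bijective F := (Nat.bijective_iff_injective_and_card F).mpr ⟨hFi, by
    rw [hC, Nat.card_eq_fintype_card, Fintype.card_subtype_compl, Fintype.card_subtype_eq,
      ← Nat.card_eq_fintype_card, hn]⟩
  -- the fixed points of `t`
  obtain ⟨c₁, hc₁⟩ := hFb.2 ⟨t • Q, fun h => hQ (by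
    rw [← htP] at h; exact smul_left_cancel _ h)⟩
  have hc₁' : (c₁ : G) • Q = t • Q := congrArg Subtype.val hc₁
  have hfixC : ∀ c : C, t • ((c : G) • Q) = (c : G) • Q ↔ (c : G) ^ 2 = c₁ := by
    intro c
    have e : t • ((c : G) • Q) = ((c : G)⁻¹ * c₁) • Q := by
      rw [← mul_smul, show t * (c : G) = (c : G)⁻¹ * t by
        rw [← hinvert c c.2]; simp only [mul_assoc, ht2, mul_one], mul_smul, ← hc₁', ← mul_smul]
    rw [e]
    constructor
    · intro h
      have h2 := hstab ((c : G)⁻¹ * ((c : G)⁻¹ * c₁))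
        (mul_mem (inv_mem c.2) (mul_mem (inv_mem c.2) c₁.2)) Q hQ
        (by rw [mul_smul, h, inv_smul_smul])
      rw [inv_mul_eq_one, eq_inv_mul_iff_mul_eq] at h2
      rw [sq, h2]
    · intro h
      rw [← h, sq, inv_mul_cancel_left]
  have hfixcard : (Finset.univ.filter fun R => f t R = R).card = 2 := by
    have hc2 : ∃ c : C, c ^ 2 = c₁ := ⟨c₁ ^ 18, by
      rw [← pow_mul]
      exact (pow_succ' c₁ 35).trans (by rw [show (35 : ℕ) = Nat.card C from hC.symm,
        pow_card_eq_one', mul_one])⟩
    obtain ⟨c₂, hc₂⟩ := hc2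
    have hc₂' : (c₂ : G) ^ 2 = c₁ := by rw [← hc₂]; rfl
    have hset : (Finset.univ.filter fun R => f t R = R) = {P, (c₂ : G) • Q} := by
      ext R
      rw [Finset.mem_filter, Finset.mem_insert, Finset.mem_singleton]
      constructor
      · rintro ⟨-, hR⟩
        by_cases hRP : R = P
        · exact Or.inl hRP
        · right
          obtain ⟨c, hc⟩ := hFb.2 ⟨R, hRP⟩
          have hc' : (c : G) • Q = R := congrArg Subtype.val hc
          have h1 : (c : G) ^ 2 = c₁ := (hfixC c).mp (by rw [hc']; exact hR)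
          have h2 : c = c₂ := by
            have e : c ^ 2 = c₂ ^ 2 := Subtype.ext (h1.trans hc₂'.symm)
            have hco : Nat.Coprime (Nat.card C) 2 := by rw [hC]; norm_num
            exact (powCoprime hco).injective e
          rw [← hc', h2]
      · rintro (rfl | rfl)
        · exact ⟨Finset.mem_univ _, htP⟩
        · exact ⟨Finset.mem_univ _, (hfixC c₂).mpr hc₂'⟩
    rw [hset, Finset.card_pair]
    intro h
    exact (F c₂).2 h.symm
  have h4 := involution_fixed_mod_four hG f (x := t) (by rw [sq, ht2])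
  have hsplit := Finset.card_filter_add_card_filter_not
    (s := (Finset.univ : Finset (Sylow 7 G))) (p := fun R => f t R = R)
  rw [hfixcard, Finset.card_univ, ← Nat.card_eq_fintype_card, hn,
    show (Finset.univ.filter fun R => ¬ f t R = R) = (f t).support from
      Finset.ext fun R => by simp [Equiv.Perm.mem_support]] at hsplit
  omega

/-- The centralizers of the elements of order five and seven. -/
theorem sylow_data (hN : Nat.card G = 2520) :
    (∀ u : G, orderOf u = 5 → Nat.card (centralizer ({u} : Set G)) = 5) ∧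
      (∀ u : G, orderOf u = 7 → Nat.card (centralizer ({u} : Set G)) = 7) ∧
        Nat.card {g : G // orderOf g = 5} = 504 ∧ Nat.card {g : G // orderOf g = 7} = 720 ∧
          ∃ y s : G, orderOf y = 5 ∧ orderOf s = 4 ∧ s * y * s⁻¹ = y ^ 2 ∧
            Nat.card (normalizer ((zpowers y : Subgroup G) : Set G)) = 20 := by
  have hG := not_comm hN
  have := Fact.mk Nat.prime_five
  have := Fact.mk (show Nat.Prime 7 by norm_num)
  obtain ⟨P, n, e, k, hP, hn, hx, hrel, hk, hNP, hnek⟩ :=
    exists_prime_option hG hN 5 504 (by norm_num) (by norm_num) (by norm_num)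
  obtain ⟨R, n', e', k', hR, hn', hy, -, hk', hNR, -⟩ :=
    exists_prime_option hG hN 7 360 (by norm_num) (by norm_num) (by norm_num)
  have hsym : 7 ∣ k → 5 ∣ k' := by
    intro h
    have h1 := dvd_centralizer_symm P hP R hR (hk ▸ dvd_mul_of_dvd_right h 5)
    rw [hk'] at h1
    omega
  have hsym' : 5 ∣ k' → 7 ∣ k := by
    intro h
    have h1 := dvd_centralizer_symm R hR P hP (hk' ▸ dvd_mul_of_dvd_right h 7)
    rw [hk] at h1
    omega
  have hcent : ∀ (p : ℕ) [Fact p.Prime] (S : Sylow p G), Nat.card (S : Subgroup G) = p →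
      ∀ u : G, orderOf u = p → Nat.card (centralizer ({u} : Set G)) =
        Nat.card (centralizer ((S : Subgroup G) : Set G)) := by
    intro p _ S hS u hu
    obtain ⟨T, hT⟩ := (IsPGroup.of_card (p := p) (n := 1)
      (by rw [Nat.card_zpowers, hu, pow_one] : Nat.card (zpowers u) = p ^ 1)).exists_le_sylow
    have hTc : Nat.card (T : Subgroup G) = p := (card_sylow_congr T S).trans hS
    rw [card_centralizer_sylow_eq S T, eq_zpowers_of_mem T hTc hu (hT (mem_zpowers u)),
      centralizer_zpowers_eq]
  have h21 : n ≠ 21 := fun h => Cfsg.Agent.S1010.result (hn.trans h)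
  have key : ∀ x ∈ primeOptions 2520 5 504, x.1 ≠ 21 →
      x = (36, 2, 7) ∨ x = (126, 2, 2) ∨ x = (126, 4, 1) := by decide +kernel
  have key' : ∀ x ∈ primeOptions 2520 7 360, x = (36, 2, 5) ∨ x = (120, 3, 1) := by decide +kernel
  have h7 : n' = 120 ∧ k' = 1 := by
    rcases key' _ hy with h | h
    · exfalso
      simp only [Prod.mk.injEq] at h
      obtain ⟨rfl, rfl, rfl⟩ := h
      have hk7 : 7 ∣ k := hsym' dvd_rfl
      refine false_of_thirty_six hN R hR hn' hk' hNR fun b hb => ?_
      rw [hcent 5 P hP b hb, hk]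
      rcases key _ hx h21 with h | h | h <;> simp only [Prod.mk.injEq] at h <;>
        obtain ⟨-, -, rfl⟩ := h <;> revert hk7 <;> decide
    · simp only [Prod.mk.injEq] at h
      exact ⟨h.1, h.2.2⟩
  have h5 : n = 126 ∧ e = 4 ∧ k = 1 := by
    rcases key _ hx h21 with h | h | h <;> simp only [Prod.mk.injEq] at h
    · have := hsym (by rw [h.2.2])
      rw [h7.2] at this
      omega
    · exfalso
      obtain ⟨-, rfl, rfl⟩ := h
      have hodd := odd_of_no_pair hG (by norm_num) hN P hP hrel (by norm_num) (M := 360)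
        (fun H hH => by
          have := card_mul_le hG hN (i₀ := 7) (by
            intro i hi; interval_cases i <;> decide) hH
          omega)
        (fun L hlen hL hσ hw hsum => by
          obtain ⟨⟨s, v⟩, rfl⟩ := List.length_eq_one_iff.mp hlen
          obtain ⟨hs, hmod, hlt⟩ := hL _ (List.mem_singleton_self _)
          simp only [List.map_cons, List.map_nil, List.sum_cons, List.sum_nil, add_zero] at hσ
          obtain ⟨hmem, hd⟩ : (s.natAbs ≤ 50 ∧ v.natAbs < s.natAbs) ∧ s ∈ signedCands 2520 5 := by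
            have k1 : ∀ s ∈ signedCands 2520 5, s.natAbs ≤ 50 := by decide +kernel
            exact ⟨⟨k1 s hs, hlt⟩, hs⟩
          have k0 : ∀ s ∈ signedCands 2520 5, (1 + s).natAbs ∣ 2520 →
              ∀ i : Fin 101, ¬ ((20 : ℤ) ∣ s - ((i : ℕ) - 50) ∧
                (((i : ℕ) : ℤ) - 50).natAbs < s.natAbs) := by decide +kernel
          refine k0 s hs hσ ⟨(v + 50).toNat, by omega⟩ ?_
          rw [show (((v + 50).toNat : ℕ) : ℤ) - 50 = v by omega]
          exact ⟨by simpa using hmod, hlt⟩)
      rw [hk] at hodd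
      exact absurd hodd (by decide)
    · exact h
  obtain ⟨rfl, rfl, rfl⟩ := h5
  obtain ⟨rfl, rfl⟩ := h7
  refine ⟨fun u hu => by rw [hcent 5 P hP u hu, hk], fun u hu => by rw [hcent 7 R hR u hu, hk'],
    ?_, ?_, ?_⟩
  · rw [card_orderOf_eq_prime (fun Q => (card_sylow_congr Q P).trans hP), hn]
  · rw [card_orderOf_eq_prime (fun Q => (card_sylow_congr Q R).trans hR), hn']
  · obtain ⟨y₀, hy₀⟩ := exists_prime_orderOf_dvd_card' (G := (P : Subgroup G)) 5 (by rw [hP])
    have hyo : orderOf (y₀ : G) = 5 := by rw [Subgroup.orderOf_coe, hy₀]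
    obtain ⟨w, hw, hwy⟩ := exists_conj_eq_pow_of_full P hP (by rw [hk, hNP]) y₀.2
      (j := 2) (by norm_num) (by norm_num)
    set y := (y₀ : G) with hydef
    have hz := eq_zpowers_of_mem P hP hyo y₀.2
    have hN20 : Nat.card (normalizer ((zpowers y : Subgroup G) : Set G)) = 20 := by
      rw [← hz, hNP]
    have hpow : ∀ j : ℕ, w ^ j * y * (w ^ j)⁻¹ = y ^ 2 ^ j := by
      intro j
      induction j with
      | zero => simp
      | succ j ih =>
        rw [pow_succ', mul_inv_rev, show w * w ^ j * y * ((w ^ j)⁻¹ * w⁻¹) =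
          w * (w ^ j * y * (w ^ j)⁻¹) * w⁻¹ by group, ih, ← conj_pow, hwy, ← pow_mul, pow_succ',
          mul_comm]
    have hw20 : w ^ 20 = 1 := by
      have hd := Subgroup.orderOf_dvd_natCard _ hw
      rw [hNP] at hd
      exact orderOf_dvd_iff_pow_eq_one.mp hd
    have hred : y ^ 32 = y ^ 2 := by
      conv_lhs => rw [← pow_mod_orderOf, hyo]
    refine ⟨y, w ^ 5, hyo, ?_, by rw [hpow 5]; exact hred, hN20⟩
    have h4 : (w ^ 5) ^ 4 = 1 := by rw [← pow_mul]; exact hw20
    refine orderOf_eq_prime_pow (p := 2) (n := 1) ?_ h4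
    intro h2
    have h10 := hpow 10
    rw [show w ^ 10 = (w ^ 5) ^ 2 ^ 1 by rw [← pow_mul]; rfl, h2, one_mul, inv_one, mul_one,
      ← pow_mod_orderOf, hyo] at h10
    have h3 : y ^ 3 = 1 := mul_left_cancel (a := y) (by
      rw [mul_one, ← pow_succ']; exact h10.symm)
    have := orderOf_dvd_of_pow_eq_one h3
    rw [hyo] at this
    omega

end CfsgLib.Small.O2520
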