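import Cfsg.Agent.Lib.Small.Count
import Cfsg.Agent.Lib.Base.Transport
import Cfsg.Agent.Lib.Coprime.Basic

/-!
# No simple group has order 459648 = 2^7 * 3^3 * 7 * 19

Elementary: Sylow numbers for 19 and 7, Burnside transfer and an embedding in degree 21.
-/

set_option autoImplicit false

open Subgroup
open scoped Nat

namespace CfsgLib.Small.Order459648

variable {G : Type*} [Group G] [Finite G]

/-- Sylow numbers of a subgroup containing a given Sylow subgroup. -/
theorem card_sylow_sub_mul {p : ℕ} [Fact p.Prime] (P : Sylow p G) (H : Subgroup G)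
    (hP : (P : Subgroup G) ≤ H) :
    Nat.card (Sylow p H) * Nat.card (normalizer ((P : Subgroup G) : Set G) ⊓ H : Subgroup G)
      = Nat.card H := by
  have h := card_normalizer_mul (P.subtype hP)
  rw [Sylow.coe_subtype, ← subgroupOf_normalizer_eq hP, ← inf_subgroupOf_right,
    Nat.card_congr (subgroupOfEquivOfLe (inf_le_right : normalizer _ ⊓ H ≤ H)).toEquiv] at h
  rw [mul_comm]
  exact h

/-- A subgroup with a single Sylow `p`-subgroup lies in its normalizer. -/
theorem le_normalizer_of_card_eq_one {p : ℕ} [Fact p.Prime] (P : Sylow p G) (H : Subgroup G)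
    (hP : (P : Subgroup G) ≤ H) (h : Nat.card (Sylow p H) = 1) :
    H ≤ normalizer ((P : Subgroup G) : Set G) := by
  have := card_sylow_sub_mul P H hP
  rw [h, one_mul] at this
  have heq : normalizer ((P : Subgroup G) : Set G) ⊓ H = H :=
    Subgroup.eq_of_le_of_card_ge inf_le_right this.ge
  exact heq ▸ inf_le_left

theorem card_perm_centralizer {α : Type*} [Fintype α] [DecidableEq α] (hα : Fintype.card α = 21)
    {σ : Equiv.Perm α} (hσ : orderOf σ = 19) : Nat.card (centralizer {σ}) = 38 := by
  have := Fact.mk (by norm_num : Nat.Prime 19)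
  obtain ⟨n, hn⟩ := Equiv.Perm.cycleType_prime_order (hσ.symm ▸ (by norm_num : Nat.Prime 19))
  have hsum := σ.sum_cycleType
  have hle := σ.support.card_le_univ
  rw [hn, Multiset.sum_replicate, smul_eq_mul, hσ] at hsum
  rw [hα, ← hsum] at hle
  have : n = 0 := by omega
  subst this
  rw [Equiv.Perm.nat_card_centralizer, hn, hα, hσ]
  norm_num [Nat.factorial]

section

variable [IsSimpleGroup G]

theorem not_index_twentyone (hG : ¬ IsMulCommutative G) (P : Sylow 19 G)
    (hP : Nat.card (P : Subgroup G) = 19)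
    (hC : 76 ∣ Nat.card (centralizer ((P : Subgroup G) : Set G))) {H : Subgroup G}
    (hH : H.index = 21) : False := by
  classical
  have := Fact.mk (by norm_num : Nat.Prime 19)
  have hHt : H ≠ ⊤ := fun h => by simp [h] at hH
  obtain ⟨f, hf⟩ := exists_embedding_alternating hG H hHt
  let F : G →* Equiv.Perm (Fin H.index) := (alternatingGroup (Fin H.index)).subtype.comp f
  have hF : Function.Injective F := Subtype.val_injective.comp hf
  have : IsCyclic (P : Subgroup G) := isCyclic_of_prime_card hP
  obtain ⟨⟨g, hg⟩, hgen⟩ := this.exists_generator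
  have hord : orderOf g = 19 := by
    rw [← Subgroup.orderOf_mk g hg, orderOf_eq_card_of_forall_mem_zpowers hgen, hP]
  have hgF : orderOf (F g) = 19 := by rw [orderOf_injective F hF, hord]
  have hle : (centralizer ((P : Subgroup G) : Set G)).map F ≤ centralizer {F g} := by
    rintro _ ⟨c, hc, rfl⟩
    rw [mem_centralizer_singleton_iff, ← map_mul, ← map_mul, mem_centralizer_iff.mp hc g hg]
  have h := card_dvd_of_le hle
  rw [card_perm_centralizer (by rw [Fintype.card_fin, hH]) hgF,
    card_map_of_injective hF] at h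
  have := hC.trans h
  norm_num at this

variable (hN : Nat.card G = 459648)
include hN

/-- A subgroup of order `2^7 * 19` is impossible when `N(P)` has order 456. -/
theorem not_card_2432 (hNP : ∀ R : Sylow 19 G,
      Nat.card (normalizer ((R : Subgroup G) : Set G)) = 456) (K : Subgroup G)
    (hK : Nat.card K = 2432) : False := by
  have := Fact.mk (by norm_num : Nat.Prime 19)
  obtain ⟨A, hA⟩ := Sylow.exists_subgroup_card_pow_prime (G := K) 19 (n := 1)
    (by rw [hK]; norm_num)
  have hA' : Nat.card (A.map K.subtype) = 19 := by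
    rw [card_map_of_injective K.subtype_injective, hA, pow_one]
  obtain ⟨R, hR⟩ := (IsPGroup.of_card (n := 1) (by rw [hA', pow_one] : Nat.card (A.map K.subtype) = 19 ^ 1)).exists_le_sylow
  have hRc : Nat.card (R : Subgroup G) = 19 := by
    simpa using card_sylow_eq (p := 19) 1 24192 (by rw [hN]; norm_num) (by norm_num) R
  have heq : A.map K.subtype = (R : Subgroup G) :=
    Subgroup.eq_of_le_of_card_ge hR (by omega)
  have hRK : (R : Subgroup G) ≤ K := heq ▸ map_subtype_le A
  have hd := card_sylow_dvd (p := 19) (G := K) 1 128 (by rw [hK]; norm_num) (by norm_num)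
  have hm : Nat.card (Sylow 19 K) % 19 = 1 := card_sylow_modEq_one 19 K
  have key : ∀ d ∈ Nat.divisors 128, d % 19 = 1 → d = 1 := by decide
  have h1 := key _ (Nat.mem_divisors.mpr ⟨hd, by norm_num⟩) hm
  have := card_dvd_of_le (le_normalizer_of_card_eq_one R K hRK h1)
  rw [hK, hNP R] at this
  norm_num at this

theorem false_of_seven (hG : ¬ IsMulCommutative G) (P : Sylow 19 G)
    (hP : Nat.card (P : Subgroup G) = 19)
    (hn : Nat.card (normalizer ((P : Subgroup G) : Set G)) = 4788) : False := by
  have := Fact.mk (by norm_num : Nat.Prime 19)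
  have := Fact.mk (by norm_num : Nat.Prime 7)
  obtain ⟨e, he1, he, hce⟩ := exists_normalizer_centralizer hG P hP
  set C := centralizer ((P : Subgroup G) : Set G) with hCdef
  set N := normalizer ((P : Subgroup G) : Set G) with hNdef
  have hCN : C ≤ N := centralizer_le_normalizer _
  rw [hn] at hce
  have he18 : e ∈ Nat.divisors 18 := Nat.mem_divisors.mpr ⟨he, by norm_num⟩
  have h7 : 7 ∣ Nat.card C := by
    have : (7 : ℕ).Coprime e := by
      have : e ∣ 18 := he
      exact Nat.Coprime.coprime_dvd_right this (by norm_num)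
    exact this.dvd_of_dvd_mul_right (hce ▸ by norm_num)
  obtain ⟨x, hx⟩ := exists_prime_orderOf_dvd_card' (G := C) 7 h7
  have hQc : Nat.card (zpowers (x : G)) = 7 := by
    rw [Nat.card_zpowers, Subgroup.orderOf_coe, hx]
  obtain ⟨Q, hQ⟩ := (IsPGroup.of_card (n := 1) (by rw [hQc, pow_one] :
    Nat.card (zpowers (x : G)) = 7 ^ 1)).exists_le_sylow
  have hQ7 : Nat.card (Q : Subgroup G) = 7 := by
    simpa using card_sylow_eq (p := 7) 1 65664 (by rw [hN]; norm_num) (by norm_num) Q
  have heq : zpowers (x : G) = (Q : Subgroup G) := Subgroup.eq_of_le_of_card_ge hQ (by omega)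
  have hQC : (Q : Subgroup G) ≤ C := heq ▸ (zpowers_le.mpr x.2)
  -- `Q` is the unique Sylow 7-subgroup of `C`
  have hmul := card_sylow_sub_mul Q C hQC
  have hsup : 133 ∣ Nat.card (normalizer ((Q : Subgroup G) : Set G) ⊓ C : Subgroup G) := by
    have h1 : (Q : Subgroup G) ≤ normalizer ((Q : Subgroup G) : Set G) ⊓ C :=
      le_inf le_normalizer hQC
    have h2 : (P : Subgroup G) ≤ normalizer ((Q : Subgroup G) : Set G) ⊓ C := by
      refine le_inf ?_ ?_
      · exact (le_centralizer_iff.mpr hQC).trans (centralizer_le_normalizer _)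
      · have : IsCyclic (P : Subgroup G) := isCyclic_of_prime_card hP
        have := this.isMulCommutative
        exact le_centralizer (P : Subgroup G)
    have := (by norm_num : Nat.Coprime 7 19).mul_dvd_of_dvd_of_dvd
      (hQ7 ▸ card_dvd_of_le h1) (hP ▸ card_dvd_of_le h2)
    simpa using this
  obtain ⟨k, hk⟩ := hsup
  have hdvd : Nat.card (Sylow 7 C) * k * e = 36 := by
    rw [hk] at hmul
    have : Nat.card (Sylow 7 C) * (133 * k) * e = 4788 := by rw [hmul, hce]
    nlinarith
  have hm : Nat.card (Sylow 7 C) % 7 = 1 := card_sylow_modEq_one 7 C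
  have hn7 : Nat.card (Sylow 7 C) = 1 := by
    have hd : Nat.card (Sylow 7 C) ∈ Nat.divisors 36 :=
      Nat.mem_divisors.mpr ⟨⟨k * e, by rw [← mul_assoc]; exact hdvd.symm⟩, by norm_num⟩
    have key : ∀ d ∈ Nat.divisors 36, d % 7 = 1 → d = 1 ∨ d = 36 := by decide
    rcases key _ hd hm with h | h
    · exact h
    · rw [h] at hdvd
      have : k * e = 1 := by nlinarith
      have := (Nat.eq_one_of_mul_eq_one_left this)
      omega
  have hCle := le_normalizer_of_card_eq_one Q C hQC hn7
  -- `N` permutes the Sylow 7-subgroups of `G` inside `C`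
  have hNQ : N ≤ normalizer ((Q : Subgroup G) : Set G) := by
    intro g hg
    refine Sylow.smul_eq_iff_mem_normalizer.mp ?_
    have hsub : ((g • Q : Sylow 7 G) : Subgroup G) ≤ C := by
      intro y hy
      rw [mem_smul_sylow] at hy
      have hy' := hQC hy
      rw [hCdef, mem_centralizer_iff] at hy' ⊢
      intro z hz
      have hz' : g⁻¹ * z * g ∈ (P : Subgroup G) :=
        (mem_normalizer_iff''.mp (hNdef ▸ hg) z).mp hz
      have h := hy' _ hz'
      calc z * y = g * ((g⁻¹ * z * g) * (g⁻¹ * y * g)) * g⁻¹ := by group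
        _ = g * ((g⁻¹ * y * g) * (g⁻¹ * z * g)) * g⁻¹ := by rw [h]
        _ = y * z := by group
    have hss : Subsingleton (Sylow 7 C) := (Nat.card_eq_one_iff_unique.mp hn7).1
    exact Sylow.subtype_injective (hP := hsub) (hQ := hQC) (Subsingleton.elim _ _)
  have hd := card_dvd_of_le hNQ
  rw [hn] at hd
  have hmulQ := card_normalizer_mul Q
  rw [hN] at hmulQ
  obtain ⟨m, hm'⟩ := hd
  rw [hm'] at hmulQ
  have h96 : Nat.card (Sylow 7 G) ∈ Nat.divisors 96 :=
    Nat.mem_divisors.mpr ⟨⟨m, by nlinarith⟩, by norm_num⟩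
  have hmod : Nat.card (Sylow 7 G) % 7 = 1 := card_sylow_modEq_one 7 G
  have key : ∀ d ∈ Nat.divisors 96, d % 7 = 1 → d = 1 ∨ d = 8 ∨ d = 64 := by decide
  have h7G : 7 ∣ Nat.card G := by rw [hN]; norm_num
  rcases key _ h96 hmod with h | h | h
  · have := one_lt_card_sylow hG h7G; omega
  · have := two_mul_card_dvd_factorial_sylow hG h7G
    rw [h, hN] at this
    norm_num [Nat.factorial] at this
  · rw [h] at h96
    simp at h96

theorem centralizer_le_normalizer_P (hG : ¬ IsMulCommutative G) (P : Sylow 19 G)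
    (hP : Nat.card (P : Subgroup G) = 19)
    (hNP : ∀ R : Sylow 19 G, Nat.card (normalizer ((R : Subgroup G) : Set G)) = 456)
    (T : Subgroup G) [IsMulCommutative T]
    (hT : T ≤ centralizer ((P : Subgroup G) : Set G)) (hT4 : Nat.card T = 4)
    {t : G} (ht : t ∈ T) (ht1 : t ≠ 1) :
    centralizer {t} ≤ normalizer ((P : Subgroup G) : Set G) := by
  have := Fact.mk (by norm_num : Nat.Prime 19)
  set N := normalizer ((P : Subgroup G) : Set G) with hNdef
  set H := centralizer ({t} : Set G) with hHdef
  have hHt : H ≠ ⊤ := by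
    intro h
    have : t ∈ center G := mem_center_iff.mpr fun g =>
      (mem_centralizer_singleton_iff.mp (h ▸ mem_top g : g ∈ H))
    rw [center_eq_bot hG, mem_bot] at this
    exact ht1 this
  have hPH : (P : Subgroup G) ≤ H := fun x hx =>
    mem_centralizer_singleton_iff.mpr (mem_centralizer_iff.mp (hT ht) x hx)
  have hTH : T ≤ H := fun x hx => by
    rw [hHdef, mem_centralizer_singleton_iff]
    exact congrArg Subtype.val (mul_comm' (⟨x, hx⟩ : T) ⟨t, ht⟩)
  have hC76 : 76 ∣ Nat.card (centralizer ((P : Subgroup G) : Set G)) := by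
    have := (by norm_num : Nat.Coprime 19 4).mul_dvd_of_dvd_of_dvd
      (dvd_card_centralizer P hP) (hT4 ▸ card_dvd_of_le hT)
    simpa using this
  have hm76 : 76 ∣ Nat.card (N ⊓ H : Subgroup G) := by
    have h1 : (P : Subgroup G) ≤ N ⊓ H := le_inf le_normalizer hPH
    have h2 : T ≤ N ⊓ H := le_inf (hT.trans (centralizer_le_normalizer _)) hTH
    have := (by norm_num : Nat.Coprime 19 4).mul_dvd_of_dvd_of_dvd
      (hP ▸ card_dvd_of_le h1) (hT4 ▸ card_dvd_of_le h2)
    simpa using this
  have hm456 : Nat.card (N ⊓ H : Subgroup G) ∣ 456 := hNP P ▸ card_dvd_of_le inf_le_left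
  have hmul := card_sylow_sub_mul P H hPH
  by_contra hne
  have hh : Nat.card (Sylow 19 H) ≠ 1 := fun h => hne (le_normalizer_of_card_eq_one P H hPH h)
  have hHd : Nat.card H ∣ 459648 := hN ▸ card_subgroup_dvd_card H
  obtain ⟨j, hj⟩ := hm76
  rw [← hNdef, hj] at hmul
  rw [hj] at hm456
  have hjd : j ∈ Nat.divisors 6 := Nat.mem_divisors.mpr
    ⟨Nat.dvd_of_mul_dvd_mul_left (by norm_num : 0 < 76) (by simpa using hm456), by norm_num⟩
  have hhd : Nat.card (Sylow 19 H) ∈ Nat.divisors 6048 := by
    refine Nat.mem_divisors.mpr ⟨?_, by norm_num⟩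
    have : Nat.card (Sylow 19 H) * 76 ∣ 6048 * 76 :=
      ((Dvd.intro j (by rw [mul_assoc]; exact hmul) : Nat.card (Sylow 19 H) * 76 ∣ Nat.card H)).trans hHd
    exact Nat.dvd_of_mul_dvd_mul_right (by norm_num) this
  have hmod : Nat.card (Sylow 19 H) % 19 = 1 := card_sylow_modEq_one 19 H
  have key : ∀ d ∈ Nat.divisors 6048, d % 19 = 1 → d = 1 ∨ d = 96 ∨ d = 1008 := by decide +kernel
  have key6 : ∀ d ∈ Nat.divisors 6, d = 1 ∨ d = 2 ∨ d = 3 ∨ d = 6 := by decide
  have hidx := H.card_mul_index
  rw [hN] at hidx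
  have hfac : H.index ≤ 6 → False := by
    intro hle
    have := (two_mul_card_dvd_factorial hG hHt).trans (Nat.factorial_dvd_factorial hle)
    rw [hN] at this
    norm_num [Nat.factorial] at this
  rcases key _ hhd hmod with h | h | h
  · exact hh h
  · rw [h] at hmul
    rcases key6 _ hjd with rfl | rfl | rfl | rfl
    · -- `|H| = 7296`: Burnside gives a normal 19-complement
      norm_num at hmul
      have hle : normalizer (((P.subtype hPH) : Subgroup H) : Set H) ≤
          centralizer (((P.subtype hPH) : Subgroup H) : Set H) := by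
        intro x hx
        have hxN : (x : G) ∈ N ⊓ H := by
          refine ⟨?_, x.2⟩
          rw [Sylow.coe_subtype, ← subgroupOf_normalizer_eq hPH] at hx
          exact hx
        have hge : N ⊓ H ≤ centralizer ((P : Subgroup G) : Set G) := by
          have hPC : (P : Subgroup G) ≤ centralizer ((P : Subgroup G) : Set G) := by
            have : IsCyclic (P : Subgroup G) := isCyclic_of_prime_card hP
            have := this.isMulCommutative
            exact le_centralizer (P : Subgroup G)
          have hsup : (P : Subgroup G) ⊔ T = N ⊓ H := by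
            refine Subgroup.eq_of_le_of_card_ge (sup_le (le_inf le_normalizer hPH)
              (le_inf (hT.trans (centralizer_le_normalizer _)) hTH)) ?_
            have := (by norm_num : Nat.Coprime 19 4).mul_dvd_of_dvd_of_dvd
              (hP ▸ card_dvd_of_le (le_sup_left : (P : Subgroup G) ≤ _ ⊔ T))
              (hT4 ▸ card_dvd_of_le (le_sup_right : T ≤ (P : Subgroup G) ⊔ T))
            have := Nat.le_of_dvd Nat.card_pos this
            omega
          exact hsup ▸ sup_le hPC hT
        rw [mem_centralizer_iff]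
        intro y hy
        exact Subtype.ext (mem_centralizer_iff.mp (hge hxN) y hy)
      set M := (MonoidHom.transferSylow (P.subtype hPH) hle).ker with hM
      have hc := (MonoidHom.ker_transferSylow_isComplement' (P.subtype hPH) hle).card_mul_card
      rw [← hM, Sylow.coe_subtype, Nat.card_congr (subgroupOfEquivOfLe hPH).toEquiv, hP,
        ← hmul] at hc
      have hM384 : Nat.card M = 384 := by omega
      have := Fact.mk Nat.prime_two
      obtain ⟨S⟩ := (inferInstance : Nonempty (Sylow 2 M))
      have hS : Nat.card (S : Subgroup M) = 128 := by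
        simpa using card_sylow_eq (p := 2) 7 3 (by rw [hM384]; norm_num) (by norm_num) S
      have hfr := Sylow.normalizer_sup_eq_top S
      set X := normalizer (((S : Subgroup M).map M.subtype) : Set H) with hX
      have hcard := CfsgLib.Base.card_sup_dvd X M
      rw [hfr, card_top, hM384, ← hmul] at hcard
      have h19 : 19 ∣ Nat.card X :=
        (by norm_num : Nat.Coprime 19 384).dvd_of_dvd_mul_right
          ((by norm_num : 19 ∣ 7296).trans hcard)
      obtain ⟨x, hx⟩ := exists_prime_orderOf_dvd_card' (G := X) 19 h19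
      have hxc : Nat.card (zpowers (x : H)) = 19 := by
        rw [Nat.card_zpowers, Subgroup.orderOf_coe, hx]
      have hS' : Nat.card ((S : Subgroup M).map M.subtype) = 128 := by
        rw [card_map_of_injective M.subtype_injective, hS]
      have hK : Nat.card ((S : Subgroup M).map M.subtype ⊔ zpowers (x : H) : Subgroup H)
          = 2432 := by
        have hdisj : zpowers (x : H) ⊓ (S : Subgroup M).map M.subtype = ⊥ :=
          (disjoint_of_coprime_natCard (by rw [hS', hxc]; norm_num)).eq_bot
        rw [sup_comm, CfsgLib.Coprime.card_sup_of_inf_eq_bot (zpowers_le.mpr x.2) hdisj, hS', hxc]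
      exact not_card_2432 hN hNP
        (((S : Subgroup M).map M.subtype ⊔ zpowers (x : H)).map H.subtype)
        (by rw [card_map_of_injective H.subtype_injective, hK])
    · norm_num at hmul
      rw [← hmul] at hHd
      norm_num at hHd
    · norm_num at hmul
      rw [← hmul] at hidx
      exact not_index_twentyone hG P hP hC76 (H := H) (by omega)
    · norm_num at hmul
      rw [← hmul] at hHd
      norm_num at hHd
  · rw [h] at hmul
    apply hfac
    rcases key6 _ hjd with rfl | rfl | rfl | rfl <;> norm_num at hmul <;>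
      rw [← hmul] at hidx <;> omega

theorem false_of_1008 (hG : ¬ IsMulCommutative G) (P : Sylow 19 G)
    (hP : Nat.card (P : Subgroup G) = 19)
    (hNP : ∀ R : Sylow 19 G, Nat.card (normalizer ((R : Subgroup G) : Set G)) = 456) : False := by
  have := Fact.mk (by norm_num : Nat.Prime 19)
  have := Fact.mk Nat.prime_two
  obtain ⟨e, he1, he, hce⟩ := exists_normalizer_centralizer hG P hP
  set C := centralizer ((P : Subgroup G) : Set G) with hCdef
  set N := normalizer ((P : Subgroup G) : Set G) with hNdef
  have hCN : C ≤ N := centralizer_le_normalizer _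
  have hN456 : Nat.card N = 456 := hNP P
  rw [hN456] at hce
  have h4 : 2 ^ 2 ∣ Nat.card C := by
    have hed : e ∈ Nat.divisors 18 := Nat.mem_divisors.mpr ⟨he, by norm_num⟩
    have key : ∀ d ∈ Nat.divisors 18, d = 1 ∨ d = 2 ∨ d = 3 ∨ d = 6 ∨ d = 9 ∨ d = 18 := by decide
    rcases key _ hed with rfl | rfl | rfl | rfl | rfl | rfl <;> omega
  obtain ⟨T₀, hT₀⟩ := Sylow.exists_subgroup_card_pow_prime (G := C) 2 h4
  set T := T₀.map C.subtype with hTdef
  have hT4 : Nat.card T = 4 := by rw [hTdef, card_map_of_injective C.subtype_injective, hT₀]; rfl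
  have hTC : T ≤ C := map_subtype_le T₀
  have : IsMulCommutative T := IsPGroup.isMulCommutative_of_card_eq_prime_sq (p := 2) (by rw [hT4]; rfl)
  have hTN : T ≤ N := hTC.trans hCN
  -- a Sylow 2-subgroup `R` of `N` containing `T`
  have hTp : IsPGroup 2 (T.subgroupOf N) :=
    IsPGroup.of_card (n := 2) (by rw [Nat.card_congr (subgroupOfEquivOfLe hTN).toEquiv, hT4]; rfl)
  obtain ⟨R₀, hR₀⟩ := hTp.exists_le_sylow
  have hR₀c : Nat.card (R₀ : Subgroup N) = 8 := by
    simpa using card_sylow_eq (p := 2) 3 57 (by rw [hN456]; norm_num) (by norm_num) R₀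
  set R := (R₀ : Subgroup N).map N.subtype with hRdef
  have hR8 : Nat.card R = 8 := by rw [hRdef, card_map_of_injective N.subtype_injective, hR₀c]
  have hRN : R ≤ N := map_subtype_le _
  have hTR : T ≤ R := fun x hx => ⟨⟨x, hTN hx⟩, hR₀ (mem_subgroupOf.mpr hx), rfl⟩
  have hRp : IsPGroup 2 R := IsPGroup.of_card (n := 3) (by rw [hR8]; rfl)
  obtain ⟨S, hRS⟩ := hRp.exists_le_sylow
  have hS : Nat.card (S : Subgroup G) = 128 := by
    simpa using card_sylow_eq (p := 2) 7 3591 (by rw [hN]; norm_num) (by norm_num) S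
  have : Group.IsNilpotent (S : Subgroup G) := S.2.isNilpotent
  have hlt : R.subgroupOf (S : Subgroup G) < ⊤ := by
    refine lt_of_le_of_ne le_top fun h => ?_
    have := card_dvd_of_le (subgroupOf_eq_top.mp h)
    rw [hS, hR8] at this
    norm_num at this
  obtain ⟨y, hyN, hyR⟩ := SetLike.exists_of_lt (Group.normalizerCondition_of_isNilpotent
    (R.subgroupOf (S : Subgroup G)) hlt)
  rw [← subgroupOf_normalizer_eq hRS, mem_subgroupOf] at hyN
  rw [mem_subgroupOf] at hyR
  -- `y` is not in `N`
  have hyN' : (y : G) ∉ N := by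
    intro hy
    apply hyR
    have hR2 : IsPGroup 2 (((S : Subgroup G) ⊓ N).subgroupOf N) :=
      S.2.comap_of_injective N.subtype N.subtype_injective |>.to_le (by
        intro z hz; exact (mem_subgroupOf.mp hz).1)
    have hle : (R₀ : Subgroup N) ≤ ((S : Subgroup G) ⊓ N).subgroupOf N := fun z hz =>
      mem_subgroupOf.mpr ⟨hRS ⟨z, hz, rfl⟩, z.2⟩
    have heq := R₀.3 hR2 hle
    exact ⟨⟨y, hy⟩, heq ▸ mem_subgroupOf.mpr ⟨y.2, hy⟩, rfl⟩
  -- `T` and its conjugate meet nontrivially
  set T' := T.map (MulAut.conj (y : G)).toMonoidHom with hT'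
  have hT'R : T' ≤ R := by
    rintro _ ⟨z, hz, rfl⟩
    simpa using (mem_normalizer_iff.mp hyN z).mp (hTR hz)
  have hT'4 : Nat.card T' = 4 := by
    rw [hT', card_map_of_injective (MulAut.conj (y : G)).injective, hT4]
  obtain ⟨t, ht, ht1⟩ : ∃ t ∈ T ⊓ T', t ≠ 1 := by
    by_contra hcon
    push Not at hcon
    have hinj : Function.Injective fun z : T × T' => (⟨z.1 * z.2,
        R.mul_mem (hTR z.1.2) (hT'R z.2.2)⟩ : R) := by
      rintro ⟨a, b⟩ ⟨c, d⟩ h
      have h' : (a : G) * b = c * d := congrArg Subtype.val h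
      have h2 : (c : G)⁻¹ * a = d * (b : G)⁻¹ := by
        rw [eq_mul_inv_iff_mul_eq, mul_assoc, h', inv_mul_cancel_left]
      have h3 := hcon _ ⟨T.mul_mem (T.inv_mem c.2) a.2, h2 ▸ T'.mul_mem d.2 (T'.inv_mem b.2)⟩
      have hac : (a : G) = c := (inv_mul_eq_one.mp h3).symm
      rw [hac] at h'
      exact Prod.ext (Subtype.ext hac) (Subtype.ext (mul_left_cancel h'))
    have := Nat.card_le_card_of_injective _ hinj
    rw [Nat.card_prod, hT4, hT'4, hR8] at this
    omega
  obtain ⟨u, hu, hut⟩ := ht.2
  have hHN := centralizer_le_normalizer_P hN hG P hP hNP T hTC hT4 ht.1 ht1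
  have hconj : (((y : G) • P : Sylow 19 G) : Subgroup G) ≤ N := by
    refine le_trans ?_ hHN
    intro z hz
    rw [mem_smul_sylow] at hz
    rw [mem_centralizer_singleton_iff, ← hut]
    have h := mem_centralizer_iff.mp (hTC hu) _ hz
    simp only [MulEquiv.coe_toMonoidHom, MulAut.conj_apply]
    calc z * ((y : G) * u * (y : G)⁻¹)
        = (y : G) * (((y : G)⁻¹ * z * y) * u) * (y : G)⁻¹ := by group
      _ = (y : G) * (u * ((y : G)⁻¹ * z * y)) * (y : G)⁻¹ := by rw [h]
      _ = (y : G) * u * (y : G)⁻¹ * z := by group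
  apply hyN'
  refine Sylow.smul_eq_iff_mem_normalizer.mp ?_
  have hPN : (P : Subgroup G) ≤ N := le_normalizer
  have : (P.subtype hPN : Subgroup N).Normal := by
    rw [Sylow.coe_subtype]; exact normal_in_normalizer
  have hone := Sylow.unique_of_normal (P.subtype hPN) this
  exact Sylow.subtype_injective (hP := hconj) (hQ := hPN) (Subsingleton.elim _ _)

/-- There is no simple group of order 459648. -/
theorem main : False := by
  have hnp : ¬ (Nat.card G).Prime := by rw [hN]; norm_num
  have hG := not_isMulCommutative_of_card hnp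
  have := Fact.mk (by norm_num : Nat.Prime 19)
  have hsyl : ∀ R : Sylow 19 G, Nat.card (R : Subgroup G) = 19 := fun R => by
    simpa using card_sylow_eq (p := 19) 1 24192 (by rw [hN]; norm_num) (by norm_num) R
  obtain ⟨P⟩ := (inferInstance : Nonempty (Sylow 19 G))
  have hd := card_sylow_dvd (p := 19) (G := G) 1 24192 (by rw [hN]; norm_num) (by norm_num)
  have hm : Nat.card (Sylow 19 G) % 19 = 1 := card_sylow_modEq_one 19 G
  have key : ∀ d ∈ Nat.divisors 24192, d % 19 = 1 → d = 1 ∨ d = 96 ∨ d = 1008 := by decide +kernel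
  have h1 := one_lt_card_sylow hG (p := 19) (by rw [hN]; norm_num)
  rcases key _ (Nat.mem_divisors.mpr ⟨hd, by norm_num⟩) hm with h | h | h
  · omega
  · have := card_normalizer_mul P
    rw [h, hN] at this
    exact false_of_seven hN hG P (hsyl P) (by omega)
  · refine false_of_1008 hN hG P (hsyl P) fun R => ?_
    have := card_normalizer_mul R
    rw [h, hN] at this
    omega

end

end CfsgLib.Small.Order459648
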