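import Cfsg.Agent.Lib.Small.Order5616Three
import Cfsg.Agent.Lib.Small.L33.CentralizerRecog

/-!
# Simple groups of order 5616: the centralizer of an involution is `GL(2, 3)`
-/

set_option autoImplicit false
set_option linter.style.haveILetI false
set_option linter.unusedSectionVars false

open Subgroup

namespace CfsgLib.Small.O5616

open CfsgLib.Small.L33 (klein mem_klein card_klein klein_conj klein_centralizer klein_transitive)

universe u

theorem klein_of_sq_of_sign : ∀ σ : Equiv.Perm (Fin 4), σ * σ = 1 → Equiv.Perm.sign σ = 1 →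
    σ * σ = 1 ∧ (σ = 1 ∨ ∀ i, σ i ≠ i) := by decide +kernel

theorem sign_of_klein : ∀ σ : Equiv.Perm (Fin 4), σ * σ = 1 ∧ (σ = 1 ∨ ∀ i, σ i ≠ i) →
    Equiv.Perm.sign σ = 1 := by decide +kernel

theorem exists_three_cycle : ∀ σ : Equiv.Perm (Fin 4), σ * σ = 1 ∧ (σ = 1 ∨ ∀ i, σ i ≠ i) →
    σ ≠ 1 → ∃ τ : Equiv.Perm (Fin 4), τ * τ * τ = 1 ∧ τ ≠ 1 ∧ Equiv.Perm.sign τ = 1 ∧
      σ * (τ * σ * τ⁻¹) = τ * τ * σ * (τ * τ)⁻¹ := by decide +kernel

theorem transposition_conj : ∀ a b : Equiv.Perm (Fin 4), a * a = 1 →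
    ¬ (a * a = 1 ∧ (a = 1 ∨ ∀ i, a i ≠ i)) → b * b = 1 →
    ¬ (b * b = 1 ∧ (b = 1 ∨ ∀ i, b i ≠ i)) →
      ∃ σ : Equiv.Perm (Fin 4), σ * a * σ⁻¹ = b := by decide +kernel

theorem card_sq_one : Nat.card {σ : Equiv.Perm (Fin 4) // σ * σ = 1} = 10 := by
  rw [Nat.card_eq_fintype_card]; decide +kernel

variable {G : Type u} [Group G] [Finite G]

section

variable [IsSimpleGroup G] (hG : Nat.card G = 5616)

include hG

theorem iso_centralizer {t : G} (ht : t * t = 1) (ht1 : t ≠ 1) :
    Nonempty (centralizer ({t} : Set G) ≃* GL23.H) := by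
  classical
  haveI := Fact.mk Nat.prime_three
  haveI := Fact.mk Nat.prime_two
  set C := centralizer ({t} : Set G) with hCdef
  have hK : Nat.card C = 48 := card_centralizer hG ht ht1
  have htC : t ∈ C := mem_centralizer_singleton_iff.2 rfl
  set v : C := ⟨t, htC⟩ with hv
  have hvc : ∀ k : C, k * v = v * k := fun k => Subtype.ext (mem_centralizer_singleton_iff.1 k.2)
  have hv1 : v ≠ 1 := fun h => ht1 (congrArg Subtype.val h)
  have hv2 : v * v = 1 := Subtype.ext ht
  have hov : orderOf v = 2 := orderOf_eq_prime (by rw [sq, hv2]) hv1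
  -- the number of square roots of one
  have hN : Nat.card {x : C // x * x = 1} = 10 ∨ Nat.card {x : C // x * x = 1} = 14 ∨
      Nat.card {x : C // x * x = 1} = 18 := by
    set T := {s : G | s * s = 1 ∧ s ≠ 1 ∧ s ≠ t ∧ Commute s t} with hT
    have hT2 : Nat.card T = 8 ∨ Nat.card T = 12 ∨ Nat.card T = 16 := card_twins hG ht ht1
    have e : {x : C // x * x = 1} ≃ (insert 1 (insert t T) : Set G) := by
      refine Equiv.ofBijective (fun x => ⟨((x.1 : C) : G), ?_⟩) ⟨?_, ?_⟩
      · by_cases h1 : (x.1 : G) = 1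
        · simp [h1]
        by_cases h2 : (x.1 : G) = t
        · simp [h2]
        exact Or.inr (Or.inr ⟨congrArg Subtype.val x.2, h1, h2,
          mem_centralizer_singleton_iff.1 x.1.2⟩)
      · exact fun a b h => Subtype.ext (Subtype.ext (Subtype.mk.inj h))
      · rintro ⟨g, hg⟩
        rcases hg with hg | hg | hg
        · exact ⟨⟨1, one_mul 1⟩, Subtype.ext hg.symm⟩
        · exact ⟨⟨v, hv2⟩, Subtype.ext (show t = g from (Set.mem_singleton_iff.1 hg).symm)⟩
        · exact ⟨⟨⟨g, mem_centralizer_singleton_iff.2 hg.2.2.2⟩, Subtype.ext hg.1⟩, rfl⟩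
    rw [Nat.card_congr e, Nat.card_coe_set_eq,
      Set.ncard_insert_of_notMem (by simp [hT, Ne.symm ht1]),
      Set.ncard_insert_of_notMem (by simp [hT]), ← Nat.card_coe_set_eq]
    omega
  -- four Sylow 3-subgroups
  have hS3 : ∀ P : Sylow 3 C, Nat.card (P : Subgroup C) = 3 := fun P => by
    simpa using card_sylow_eq (p := 3) 1 16 (by rw [hK]; rfl) (by norm_num) P
  obtain ⟨y, hy⟩ := exists_prime_orderOf_dvd_card' 3 (G := C) (by rw [hK]; norm_num)
  have hn : Nat.card (Sylow 3 C) = 4 := by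
    obtain ⟨P⟩ : Nonempty (Sylow 3 C) := inferInstance
    have hd : Nat.card (Sylow 3 C) ∣ 16 :=
      card_sylow_dvd (p := 3) 1 16 (by rw [hK]; rfl) (by norm_num)
    have hm : Nat.card (Sylow 3 C) % 3 = 1 := card_sylow_modEq_one 3 C
    have hcases : Nat.card (Sylow 3 C) = 1 ∨ Nat.card (Sylow 3 C) = 4 ∨
        Nat.card (Sylow 3 C) = 16 := by
      have hle := Nat.le_of_dvd (by norm_num) hd
      generalize Nat.card (Sylow 3 C) = n at hd hm hle ⊢
      interval_cases n <;> omega
    rcases hcases with h | h | h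
    · exfalso
      obtain ⟨Q, hQ⟩ := (IsPGroup.of_card (p := 3) (n := 1)
        (by rw [Nat.card_zpowers, hy, pow_one]) : IsPGroup 3 (zpowers y)).exists_le_sylow
      have hQy : (Q : Subgroup C) = zpowers y :=
        (eq_of_le_of_card_ge hQ (by rw [hS3, Nat.card_zpowers, hy])).symm
      haveI : Subsingleton (Sylow 3 C) := (Nat.card_eq_one_iff_unique.1 h).1
      haveI : (Q : Subgroup C).Normal := Q.normal_of_subsingleton
      obtain ⟨c, hct, hc⟩ := exists_not_normalized hG ht ht1 (y := (y : G))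
        (by rw [Subgroup.orderOf_coe, hy]) (mem_centralizer_singleton_iff.1 y.2)
      refine hc ?_
      have hm := hQy ▸ (‹(Q : Subgroup C).Normal›.conj_mem y (hQy ▸ mem_zpowers y)
        ⟨c, mem_centralizer_singleton_iff.2 hct⟩)
      obtain ⟨i, hi⟩ := mem_zpowers_iff.1 hm
      exact ⟨i, by simpa using congrArg Subtype.val hi⟩
    · exact h
    · exfalso
      have hN := (Sylow.card_eq_index_normalizer P).symm.trans h
      have h2 := (normalizer ((P : Subgroup C) : Set C)).card_mul_index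
      have hN3 : Nat.card (normalizer ((P : Subgroup C) : Set C)) = 3 := by
        change (normalizer ((P : Subgroup C) : Set C)).index = 16 at hN
        rw [hN, hK] at h2
        omega
      have hvN : v ∈ normalizer ((P : Subgroup C) : Set C) := by
        rw [mem_normalizer_iff]
        intro z
        rw [show v * z * v⁻¹ = z by rw [← hvc z, mul_inv_cancel_right]]
      have := hov ▸ Subgroup.orderOf_dvd_natCard _ hvN
      omega
  let ψ : C →* Equiv.Perm (Fin 4) :=
    ((Finite.equivFinOfCardEq hn).permCongrHom.toMonoidHom).comp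
      (MulAction.toPermHom C (Sylow 3 C))
  set M := ψ.ker with hM
  have hMfix : ∀ m ∈ M, ∀ P : Sylow 3 C, m • P = P := fun m hm P => by
    have h : MulAction.toPermHom C (Sylow 3 C) m = 1 :=
      (Finite.equivFinOfCardEq hn).permCongrHom.injective
        ((MonoidHom.mem_ker.1 hm).trans (map_one _).symm)
    exact DFunLike.congr_fun h P
  have hvM : v ∈ M := by
    rw [hM, MonoidHom.mem_ker]
    have h : MulAction.toPermHom C (Sylow 3 C) v = 1 := Equiv.ext fun P => by
      show v • P = P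
      rw [Sylow.smul_eq_iff_mem_normalizer]
      show v ∈ normalizer ((P : Subgroup C) : Set C)
      rw [mem_normalizer_iff]
      intro z
      rw [show v * z * v⁻¹ = z by rw [← hvc z, mul_inv_cancel_right]]
    show (Finite.equivFinOfCardEq hn).permCongrHom (MulAction.toPermHom C (Sylow 3 C) v) = 1
    rw [h, map_one]
  obtain ⟨P, hP⟩ := (IsPGroup.of_card (p := 3) (n := 1)
    (by rw [Nat.card_zpowers, hy, pow_one]) : IsPGroup 3 (zpowers y)).exists_le_sylow
  have h3M : ¬ 3 ∣ Nat.card M := fun h => by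
    obtain ⟨z, hz⟩ := exists_prime_orderOf_dvd_card' 3 (G := M) h
    have hzo : orderOf (z : C) = 3 := by rwa [Subgroup.orderOf_coe]
    have hzP : ∀ Q : Sylow 3 C, (z : C) ∈ (Q : Subgroup C) := fun Q => by
      have hzN : (z : C) ∈ normalizer ((Q : Subgroup C) : Set C) :=
        Sylow.smul_eq_iff_mem_normalizer.1 (hMfix _ z.2 Q)
      have hle : zpowers (z : C) ≤ zpowers (z : C) ⊓ normalizer ((Q : Subgroup C) : Set C) :=
        le_inf le_rfl (zpowers_le.2 hzN)
      have hinf := IsPGroup.inf_normalizer_sylow (IsPGroup.of_card (p := 3) (n := 1)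
        (by rw [Nat.card_zpowers, hzo, pow_one]) : IsPGroup 3 (zpowers (z : C))) Q
      exact (le_inf_iff.1 (hle.trans hinf.le)).2 (mem_zpowers _)
    have heq : ∀ Q : Sylow 3 C, (Q : Subgroup C) = zpowers (z : C) := fun Q =>
      (eq_of_le_of_card_ge (zpowers_le.2 (hzP Q)) (by rw [hS3, Nat.card_zpowers, hzo])).symm
    haveI : Subsingleton (Sylow 3 C) := ⟨fun a b => Sylow.ext ((heq a).trans (heq b).symm)⟩
    have := Nat.card_unique (α := Sylow 3 C)
    omega
  have hMdvd : Nat.card M ∣ 12 := by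
    have hle : M ≤ normalizer ((P : Subgroup C) : Set C) := fun m hm =>
      Sylow.smul_eq_iff_mem_normalizer.1 (hMfix m hm P)
    have h := Subgroup.card_dvd_of_le hle
    have h2 := (normalizer ((P : Subgroup C) : Set C)).card_mul_index
    have hi := (Sylow.card_eq_index_normalizer P).symm.trans hn
    change (normalizer ((P : Subgroup C) : Set C)).index = 4 at hi
    rw [hi, hK] at h2
    rwa [show Nat.card (normalizer ((P : Subgroup C) : Set C)) = 12 by omega] at h
  -- elements of order three centralize the kernel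
  have hcomm : ∀ u : C, orderOf u = 3 → ∀ m ∈ M, Commute m u := fun u hu m hm => by
    obtain ⟨Q, hQ⟩ := (IsPGroup.of_card (p := 3) (n := 1)
      (by rw [Nat.card_zpowers, hu, pow_one]) : IsPGroup 3 (zpowers u)).exists_le_sylow
    have hQu : (Q : Subgroup C) = zpowers u :=
      (eq_of_le_of_card_ge hQ (by rw [hS3, Nat.card_zpowers, hu])).symm
    have hPN : (m * u * m⁻¹ * u⁻¹) ∈ (Q : Subgroup C) := by
      have hmN := mem_normalizer_iff.1 (Sylow.smul_eq_iff_mem_normalizer.1 (hMfix m hm Q)) u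
      exact mul_mem (hmN.1 (hQu ▸ mem_zpowers u)) (inv_mem (hQu ▸ mem_zpowers u))
    have hMn : (m * u * m⁻¹ * u⁻¹) ∈ M := by
      rw [show m * u * m⁻¹ * u⁻¹ = m * (u * m⁻¹ * u⁻¹) by group]
      exact mul_mem hm ((MonoidHom.normal_ker ψ).conj_mem _ (inv_mem hm) u)
    have h3 := hS3 Q ▸ Subgroup.orderOf_dvd_natCard _ hPN
    have h1 := Subgroup.orderOf_dvd_natCard _ hMn
    have hd := Nat.eq_one_of_dvd_coprimes ((Nat.prime_three.coprime_iff_not_dvd).2 h3M) h3 h1
    rw [orderOf_eq_one_iff, mul_inv_eq_one, mul_inv_eq_iff_eq_mul] at hd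
    exact hd
  have hM24 : Nat.card M = 2 ∨ Nat.card M = 4 := by
    have h2 : 2 ∣ Nat.card M := hov ▸ Subgroup.orderOf_dvd_natCard _ hvM
    have hle := Nat.le_of_dvd (by norm_num) hMdvd
    generalize Nat.card M = c at h2 h3M hMdvd hle ⊢
    interval_cases c <;> omega
  have hMmul := M.card_mul_index
  rw [hM, index_ker, hK] at hMmul
  rw [← hM] at hMmul
  haveI : klein.Normal := ⟨fun τ hτ σ => klein_conj σ τ hτ⟩
  have hkerfib : ∀ x₀ : C, Nat.card {x : C // ψ x = ψ x₀} = Nat.card M := fun x₀ =>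
    Nat.card_congr ⟨fun x => ⟨x₀⁻¹ * x.1, by
        rw [hM, MonoidHom.mem_ker, map_mul, map_inv, x.2, inv_mul_cancel]⟩,
      fun m => ⟨x₀ * m.1, by rw [map_mul, MonoidHom.mem_ker.1 m.2, mul_one]⟩,
      fun x => Subtype.ext (mul_inv_cancel_left x₀ x.1),
      fun m => Subtype.ext (inv_mul_cancel_left x₀ m.1)⟩
  -- the kernel has order two
  have hM2 : Nat.card M = 2 := by
    refine hM24.resolve_right fun h4 => ?_
    rw [h4] at hMmul
    have hr : Nat.card ψ.range = 12 := by omega
    have hA : ψ.range = alternatingGroup (Fin 4) := by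
      refine Equiv.Perm.eq_alternatingGroup_of_index_eq_two ?_
      have h := ψ.range.card_mul_index
      rw [hr, Nat.card_perm, Nat.card_fin, show Nat.factorial 4 = 24 from rfl] at h
      omega
    have hsign : ∀ x : C, Equiv.Perm.sign (ψ x) = 1 := fun x =>
      Equiv.Perm.mem_alternatingGroup.1 (hA ▸ ⟨x, rfl⟩ : ψ x ∈ alternatingGroup (Fin 4))
    have hMab : ∀ a ∈ M, ∀ b ∈ M, a * b = b * a := fun a ha b hb =>
      congrArg Subtype.val ((IsPGroup.isMulCommutative_of_card_eq_prime_sq (p := 2)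
        (G := M) (by rw [h4]; norm_num)).is_comm.comm ⟨a, ha⟩ ⟨b, hb⟩)
    have hcentral : ∀ o : C, ψ o ∈ klein → ∀ m ∈ M, o * m = m * o := by
      intro o ho m hm
      by_cases ho1 : ψ o = 1
      · exact hMab o (MonoidHom.mem_ker.2 ho1) m hm
      obtain ⟨τ, hτ3, hτ1, hτs, hτeq⟩ := exists_three_cycle _ ho ho1
      obtain ⟨u₀, hu₀⟩ : τ ∈ ψ.range := hA ▸ Equiv.Perm.mem_alternatingGroup.2 hτs
      -- a preimage of order three
      have hu16 : (u₀ ^ 16) ^ 3 = 1 := by
        rw [← pow_mul, show 16 * 3 = Nat.card C by rw [hK], pow_card_eq_one']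
      set u := u₀ ^ 16 with hu
      have hψu : ψ u = τ := by
        rw [hu, map_pow, hu₀, show (16 : ℕ) = 3 * 5 + 1 by rfl, pow_succ, pow_mul,
          show τ ^ 3 = 1 by rw [pow_succ, sq, hτ3], one_pow, one_mul]
      have hou : orderOf u = 3 :=
        orderOf_eq_prime hu16 fun h => hτ1 (by rw [← hψu, h, map_one])
      have hnorm : ∀ (g : C), ∀ n ∈ M, g * n * g⁻¹ ∈ M := fun g n hn =>
        (MonoidHom.normal_ker ψ).conj_mem n hn g
      have hufix : ∀ n ∈ M, u * n * u⁻¹ = n := fun n hn => by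
        rw [← (hcomm u hou n hn).eq, mul_inv_cancel_right]
      have huufix : ∀ n ∈ M, (u * u)⁻¹ * n * (u * u) = n := fun n hn => by
        rw [show (u * u)⁻¹ * n * (u * u) = u⁻¹ * (u⁻¹ * n * u) * u by group,
          show u⁻¹ * n * u = n by rw [mul_assoc, (hcomm u hou n hn).eq, inv_mul_cancel_left],
          mul_assoc, (hcomm u hou n hn).eq, inv_mul_cancel_left]
      set o' := u * o * u⁻¹ with ho'
      set o'' := u * u * o * (u * u)⁻¹ with ho''
      have hk : o''⁻¹ * (o * o') ∈ M := by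
        rw [hM, MonoidHom.mem_ker]
        simp only [ho', ho'', map_mul, map_inv, hψu, hτeq, inv_mul_cancel]
      set k := o''⁻¹ * (o * o') with hkdef
      have h1 : ∀ n ∈ M, o' * n * o'⁻¹ = o * n * o⁻¹ := fun n hn => by
        rw [ho', show u * o * u⁻¹ * n * (u * o * u⁻¹)⁻¹ = u * (o * (u⁻¹ * n * u) * o⁻¹) * u⁻¹ by
          group, show u⁻¹ * n * u = n by rw [mul_assoc, (hcomm u hou n hn).eq, inv_mul_cancel_left],
          hufix _ (hnorm o n hn)]
      have h2 : ∀ n ∈ M, o'' * n * o''⁻¹ = o * n * o⁻¹ := fun n hn => by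
        rw [ho'', show u * u * o * (u * u)⁻¹ * n * (u * u * o * (u * u)⁻¹)⁻¹ =
          u * (u * (o * ((u * u)⁻¹ * n * (u * u)) * o⁻¹) * u⁻¹) * u⁻¹ by
            simp only [mul_inv_rev, inv_inv, mul_assoc], huufix n hn,
          hufix _ (hnorm o n hn), hufix _ (hnorm o n hn)]
      have hoo : o * o ∈ M := by
        rw [hM, MonoidHom.mem_ker, map_mul]
        exact ho.1
      have h3 : (o * o') * m * (o * o')⁻¹ = m := by
        rw [show o * o' * m * (o * o')⁻¹ = o * (o' * m * o'⁻¹) * o⁻¹ by group, h1 m hm,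
          show o * (o * m * o⁻¹) * o⁻¹ = o * o * m * (o * o)⁻¹ by group, hMab _ hoo m hm,
          mul_inv_cancel_right]
      have h4' : (o * o') * m * (o * o')⁻¹ = o * m * o⁻¹ := by
        rw [show o * o' = o'' * k by rw [hkdef, mul_inv_cancel_left],
          show o'' * k * m * (o'' * k)⁻¹ = o'' * (k * m * k⁻¹) * o''⁻¹ by group,
          hMab k hk m hm, mul_inv_cancel_right, h2 m hm]
      exact mul_inv_eq_iff_eq_mul.1 (h4'.symm.trans h3)
    set r := Nat.card {m : M // m * m = 1} with hr'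
    have hr24 : r = 2 ∨ r = 4 := by
      have hsub : r = Nat.card ({m : M | m * m = 1} : Set M) := rfl
      let S : Subgroup M :=
        { carrier := {m | m * m = 1}
          one_mem' := one_mul 1
          mul_mem' := fun {a b} (ha : a * a = 1) (hb : b * b = 1) => by
            show a * b * (a * b) = 1
            rw [show a * b * (a * b) = a * (b * a) * b by group,
              show b * a = a * b from Subtype.ext (hMab _ b.2 _ a.2),
              show a * (a * b) * b = (a * a) * (b * b) by group, ha, hb, one_mul]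
          inv_mem' := fun {a} (ha : a * a = 1) => by
            show a⁻¹ * a⁻¹ = 1
            rw [← mul_inv_rev, ha, inv_one] }
      have h := Subgroup.card_subgroup_dvd_card S
      rw [h4] at h
      have h2 : 1 < Nat.card S := Finite.one_lt_card_iff_nontrivial.2
        ⟨⟨⟨⟨v, hvM⟩, Subtype.ext hv2⟩, 1, fun h => hv1 (congrArg (fun q : S => ((q.1 : M) : C)) h)⟩⟩
      change r ∣ 4 at h
      change 1 < r at h2
      have := Nat.le_of_dvd (by norm_num) h
      interval_cases r <;> omega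
    have hfib : ∀ σ : klein, Nat.card {x : {x : C // x * x = 1} // ψ x.1 = σ.1} = 0 ∨
        Nat.card {x : {x : C // x * x = 1} // ψ x.1 = σ.1} = r := by
      intro σ
      rcases isEmpty_or_nonempty {x : {x : C // x * x = 1} // ψ x.1 = σ.1} with h | h
      · exact Or.inl Nat.card_of_isEmpty
      right
      obtain ⟨⟨x₀, hx₀⟩, hxσ⟩ := h
      dsimp only at hxσ
      have hx₀k : ψ x₀ ∈ klein := hxσ ▸ σ.2
      refine Nat.card_congr ⟨fun x => ⟨⟨x₀⁻¹ * x.1.1, ?_⟩, Subtype.ext ?_⟩,
        fun m => ⟨⟨x₀ * m.1.1, ?_⟩, ?_⟩,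
        fun x => Subtype.ext (Subtype.ext (mul_inv_cancel_left x₀ x.1.1)),
        fun m => Subtype.ext (Subtype.ext (inv_mul_cancel_left x₀ m.1.1))⟩
      · rw [hM, MonoidHom.mem_ker, map_mul, map_inv, x.2, hxσ, inv_mul_cancel]
      · show x₀⁻¹ * x.1.1 * (x₀⁻¹ * x.1.1) = 1
        have hm : x₀⁻¹ * x.1.1 ∈ M := by
          rw [hM, MonoidHom.mem_ker, map_mul, map_inv, x.2, hxσ, inv_mul_cancel]
        generalize hmdef : x₀⁻¹ * x.1.1 = m at hm
        have hxm : x.1.1 = x₀ * m := by rw [← hmdef, mul_inv_cancel_left]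
        have hsq := x.1.2
        rw [hxm, show x₀ * m * (x₀ * m) = x₀ * (m * x₀) * m by group, ← hcentral x₀ hx₀k m hm,
          show x₀ * (x₀ * m) * m = (x₀ * x₀) * (m * m) by group, hx₀, one_mul] at hsq
        exact hsq
      · have hmm : m.1.1 * m.1.1 = 1 := congrArg Subtype.val m.2
        rw [show x₀ * m.1.1 * (x₀ * m.1.1) = x₀ * (m.1.1 * x₀) * m.1.1 by group,
          ← hcentral x₀ hx₀k m.1.1 m.1.2,
          show x₀ * (x₀ * m.1.1) * m.1.1 = (x₀ * x₀) * (m.1.1 * m.1.1) by group, hx₀, hmm, one_mul]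
      · show ψ (x₀ * m.1.1) = σ.1
        rw [map_mul, MonoidHom.mem_ker.1 m.1.2, mul_one, hxσ]
    have hk : ∀ x : {x : C // x * x = 1}, ψ x.1 ∈ klein := fun x =>
      klein_of_sq_of_sign _ (by rw [← map_mul, x.2, map_one]) (hsign _)
    haveI := Fintype.ofFinite klein
    have hsum : Nat.card {x : C // x * x = 1} =
        ∑ σ : klein, Nat.card {x : {x : C // x * x = 1} // ψ x.1 = σ.1} := by
      rw [← Nat.card_sigma]
      refine Nat.card_congr ((Equiv.sigmaFiberEquiv fun x : {x : C // x * x = 1} =>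
        (⟨ψ x.1, hk x⟩ : klein)).symm.trans (Equiv.sigmaCongrRight fun σ =>
          Equiv.subtypeEquivRight fun x => Subtype.ext_iff))
    have hdvd : r ∣ Nat.card {x : C // x * x = 1} := hsum ▸ Finset.dvd_sum fun σ _ => by
      rcases hfib σ with h | h <;> rw [h] <;> simp
    have hle : Nat.card {x : C // x * x = 1} ≤ 4 * r := by
      rw [hsum]
      refine (Finset.sum_le_card_nsmul _ _ r fun σ _ => ?_).trans_eq ?_
      · rcases hfib σ with h | h <;> omega
      · rw [Finset.card_univ, ← Nat.card_eq_fintype_card, card_klein, smul_eq_mul]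
    rcases hr24 with h | h <;> rw [h] at hdvd hle <;> omega
  have hker : ∀ k : C, ψ k = 1 → k = 1 ∨ k = v := fun k hk => by
    have heq : zpowers v = M := eq_of_le_of_card_ge (zpowers_le.2 hvM)
      (by rw [hM2, Nat.card_zpowers, hov])
    have hm : k ∈ zpowers v := heq ▸ MonoidHom.mem_ker.2 hk
    rw [mem_zpowers_iff_mem_range_orderOf, hov] at hm
    simp only [Finset.mem_image, Finset.mem_range] at hm
    obtain ⟨i, hi, rfl⟩ := hm
    interval_cases i <;> simp
  have hψv : ψ v = 1 := MonoidHom.mem_ker.1 hvM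
  have hψ : Function.Surjective ψ := by
    rw [hM2] at hMmul
    refine MonoidHom.range_eq_top.1 (eq_top_of_card_eq _ ?_)
    rw [Nat.card_perm, Nat.card_fin, show Nat.factorial 4 = 24 from rfl]
    omega
  set Q := klein.comap ψ with hQdef
  haveI hQn : Q.Normal := inferInstanceAs (klein.comap ψ).Normal
  have hQ8 : Nat.card Q = 8 := by
    have h1 := Q.card_mul_index
    have h2 := klein.card_mul_index
    rw [card_klein, Nat.card_perm, Nat.card_fin] at h2
    simp [Nat.factorial] at h2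
    rw [hQdef, index_comap_of_surjective _ hψ, hK, show klein.index = 6 by omega] at h1
    rw [hQdef]
    omega
  have hvQ : v ∈ Q := by
    show ψ v ∈ klein
    rw [hψv]
    exact one_mem _
  have hcount : ∀ S : Set (Equiv.Perm (Fin 4)),
      Nat.card {x : C // ψ x ∈ S} = 2 * Nat.card S := by
    intro S
    haveI := Fintype.ofFinite S
    rw [Nat.card_congr (Equiv.sigmaFiberEquiv fun x : {x : C // ψ x ∈ S} =>
      (⟨ψ x.1, x.2⟩ : S)).symm, Nat.card_sigma, Finset.sum_congr rfl (fun σ _ => ?_ :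
        ∀ σ ∈ (Finset.univ : Finset S), _ = 2), Finset.sum_const, Finset.card_univ,
      ← Nat.card_eq_fintype_card, smul_eq_mul, mul_comm]
    obtain ⟨x₀, hx₀⟩ := hψ σ.1
    rw [← hM2, ← hkerfib x₀]
    exact Nat.card_congr ⟨fun x => ⟨x.1.1, (congrArg Subtype.val x.2).trans hx₀.symm⟩,
      fun x => ⟨⟨x.1, by rw [x.2, hx₀]; exact σ.2⟩, Subtype.ext (x.2.trans hx₀)⟩,
      fun x => rfl, fun x => rfl⟩
  have hconjsq : ∀ (g x₀ x : C), x₀ * x₀ = 1 → ψ (g * x₀ * g⁻¹) = ψ x → x * x = 1 := by
    intro g x₀ x h2 hψx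
    have hk : ψ ((g * x₀ * g⁻¹)⁻¹ * x) = 1 := by
      rw [map_mul, map_inv, hψx, inv_mul_cancel]
    have hkq : (g * x₀ * g⁻¹) * (g * x₀ * g⁻¹) = 1 := by
      rw [show g * x₀ * g⁻¹ * (g * x₀ * g⁻¹) = g * (x₀ * x₀) * g⁻¹ by group, h2]
      group
    rcases hker _ hk with h | h
    · rw [inv_mul_eq_one] at h
      rw [← h, hkq]
    · rw [inv_mul_eq_iff_eq_mul] at h
      rw [h, Commute.mul_mul_mul_comm ((hvc _).symm : Commute v _), hkq, hv2, one_mul]
  -- only one involution in `Q`
  have huniq : ∀ q ∈ Q, q * q = 1 → q = 1 ∨ q = v := by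
    by_contra hcon
    push Not at hcon
    obtain ⟨q₀, hq₀Q, hq₀2, hq₀1, hq₀v⟩ := hcon
    have hψq : ψ q₀ ≠ 1 := fun h => (hker q₀ h).elim hq₀1 hq₀v
    have hexp : ∀ q ∈ Q, q * q = 1 := by
      intro q hq
      by_cases hq1 : ψ q = 1
      · rcases hker q hq1 with rfl | rfl
        · exact one_mul 1
        · exact hv2
      obtain ⟨σ, hσ⟩ := klein_transitive _ _ hq₀Q hψq hq hq1
      obtain ⟨k, rfl⟩ := hψ σ
      exact hconjsq k q₀ q hq₀2 (by simp only [map_mul, map_inv, hσ])
    by_cases hout : ∃ x : C, x * x = 1 ∧ ψ x ∉ klein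
    · obtain ⟨x₀, hx₀, hx₀k⟩ := hout
      have e : {x : C // x * x = 1} ≃ {x : C // ψ x ∈ {σ | σ * σ = 1}} := by
        refine Equiv.subtypeEquivRight fun x => ⟨fun h => ?_, fun h => ?_⟩
        · show ψ x * ψ x = 1
          rw [← map_mul, h, map_one]
        · by_cases hxk : ψ x ∈ klein
          · exact hexp x hxk
          obtain ⟨σ, hσ⟩ := transposition_conj (ψ x₀) (ψ x) (by rw [← map_mul, hx₀, map_one])
            hx₀k h hxk
          obtain ⟨k, rfl⟩ := hψ σ
          exact hconjsq k x₀ x hx₀ (by simp only [map_mul, map_inv, hσ])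
      rw [Nat.card_congr e, hcount, show Nat.card ({σ | σ * σ = 1} : Set (Equiv.Perm (Fin 4))) = 10
        from card_sq_one] at hN
      omega
    · push Not at hout
      have e : {x : C // x * x = 1} ≃ Q :=
        Equiv.subtypeEquivRight fun x => ⟨fun h => hout x h, fun h => hexp x h⟩
      rw [Nat.card_congr e, hQ8] at hN
      omega
  obtain ⟨x, hxx, hxQ⟩ : ∃ x : C, x * x = 1 ∧ x ∉ Q := by
    by_contra hcon
    push Not at hcon
    have hle : Nat.card {x : C // x * x = 1} ≤ 2 := by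
      refine (Nat.card_le_card_of_injective (fun x => (⟨x.1, ?_⟩ : ({1, v} : Set C)))
        (fun a b h => Subtype.ext (Subtype.mk.inj h))).trans ?_
      · rcases huniq _ (hcon _ x.2) x.2 with h | h <;> simp [h]
      · rw [Nat.card_coe_set_eq]
        exact (Set.ncard_insert_le _ _).trans (by simp)
    omega
  obtain ⟨eQ⟩ : Nonempty (Q ≃* QuaternionGroup 2) := by
    rcases CfsgLib.PGroups.isCyclic_or_quaternion_of_unique (p := 2)
      (IsPGroup.of_card (n := 3) hQ8) (z := (⟨v, hvQ⟩ : Q))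
      (Subtype.ext (by rw [SubgroupClass.coe_pow, sq]; exact hv2))
      (fun a ha => by
        rcases huniq a a.2 (by rw [← sq]; exact congrArg Subtype.val ha) with h | h
        · rw [show a = 1 from Subtype.ext h]; exact one_mem _
        · rw [show a = ⟨v, hvQ⟩ from Subtype.ext h]; exact mem_zpowers _) with hcyc | ⟨-, n, hn1, ⟨eq⟩⟩
    · exfalso
      obtain ⟨a, ha⟩ := IsCyclic.exists_ofOrder_eq_natCard (α := Q)
      rw [hQ8] at ha
      have hsq' : ψ (((a : Q) : C) * a) = 1 := by rw [map_mul]; exact a.2.1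
      have h4 : ((a : C) * a) * (a * a) = 1 := by
        rcases hker _ hsq' with h | h <;> rw [h]
        · exact one_mul 1
        · exact hv2
      have := orderOf_dvd_of_pow_eq_one (x := a) (n := 4) (Subtype.ext (by
        rw [SubgroupClass.coe_pow]
        calc (a : C) ^ 4 = (a : C) * a * (a * a) := by simp [pow_succ, mul_assoc]
          _ = 1 := h4))
      rw [ha] at this
      omega
    · have h := Nat.card_congr eq.toEquiv
      rw [hQ8, Nat.card_eq_fintype_card, QuaternionGroup.card] at h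
      have h2 : n < 2 := by
        by_contra hlt
        have := Nat.pow_le_pow_right (show 0 < 2 by norm_num) (show 2 ≤ n by omega)
        omega
      obtain rfl : n = 1 := by omega
      exact ⟨eq⟩
  have hCQ : centralizer (Q : Set C) ≤ Q := fun k hk => klein_centralizer (ψ k) fun τ hτ => by
    obtain ⟨q, rfl⟩ := hψ τ
    rw [← map_mul, ← map_mul, hk q hτ]
  obtain ⟨e₁⟩ := Q8Ext.nonempty_iso eQ hCQ hK (t₀ := x) (by rw [sq, hxx]) hxQ
  obtain ⟨e₂⟩ := Q8Ext.GLThree.iso_model
  exact ⟨e₁.trans e₂.symm⟩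

end

end CfsgLib.Small.O5616
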