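import Cfsg.Prelude.Def_DegreeGraph
import Cfsg.Agent.Lib.Small.Order5616Local
import Cfsg.Agent.Lib.Small.L33.Main

/-!
# Simple groups of order 5616
-/

set_option autoImplicit false
set_option linter.style.haveILetI false

open Cfsg CfsgLib.Chars

namespace CfsgLib.Small

universe u v

attribute [local instance] irrFintype

/-- A simple group of order 5616 is isomorphic to `PSL(3, 3)`. -/
theorem iso_PSL_of_card_5616 {G : Type u} [Group G] [Finite G] [IsSimpleGroup G]
    (hG : Nat.card G = 5616) :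
    Nonempty (G ≃* Matrix.ProjectiveSpecialLinearGroup (Fin 3) (ZMod 3)) := by
  haveI := Fact.mk Nat.prime_two
  haveI := Fintype.ofFinite G
  obtain ⟨t, ht⟩ := exists_prime_orderOf_dvd_card' 2 (G := G) (by rw [hG]; norm_num)
  obtain ⟨e⟩ := O5616.iso_centralizer hG (t := t) (by rw [← sq, ← ht, pow_orderOf_eq_one])
    (fun h => by rw [h, orderOf_one] at ht; omega)
  obtain ⟨u, s, B⟩ := L33.exists_base hG ht e
  exact L33.iso_PSL B

/-- All simple groups of order 5616 are isomorphic. -/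
theorem iso_of_card_5616 {G : Type u} [Group G] [Finite G] [IsSimpleGroup G]
    {H : Type v} [Group H] [Finite H] [IsSimpleGroup H]
    (hG : Nat.card G = 5616) (hH : Nat.card H = 5616) : Nonempty (G ≃* H) := by
  obtain ⟨e⟩ := iso_PSL_of_card_5616 hG
  obtain ⟨f⟩ := iso_PSL_of_card_5616 hH
  exact ⟨e.trans f.symm⟩

/-- Three and thirteen divide character degrees of a simple group of order 5616. -/
theorem degreePrimes_5616 {G : Type u} [Group G] [Finite G] [IsSimpleGroup G]
    (hG : Nat.card G = 5616) :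
    3 ∈ Cfsg.degreePrimes G ∧ 13 ∈ Cfsg.degreePrimes G := by
  classical
  haveI := Fintype.ofFinite G
  obtain ⟨D⟩ := O5616.nonempty_data hG
  have mem : ∀ χ : IrrCharacter G, charDegree (χ : G → ℂ) ∈ charDegrees G := fun χ =>
    ⟨χ, rfl⟩
  refine ⟨⟨Nat.prime_three, _, mem D.a, by rw [D.ha]; norm_num⟩, by norm_num, ?_⟩
  suffices hne : D.F.Nonempty by
    obtain ⟨χ, hχ⟩ := hne
    exact ⟨_, mem χ, D.hF χ hχ⟩
  rw [Finset.nonempty_iff_ne_empty]
  intro h0
  have h := D.sum_all (fun χ => ((charDegree (χ : G → ℂ) ^ 2 : ℕ) : ℂ))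
  rw [← Nat.cast_sum, CharApps.sum_degree_sq_nat, h0, Finset.sum_empty, add_zero,
    O5616.principal_degree hG, D.ha, D.hb,
    Finset.sum_congr rfl (fun θ hθ => by rw [D.hθ θ hθ] :
      ∀ θ ∈ D.Y, ((charDegree (θ : G → ℂ) ^ 2 : ℕ) : ℂ) = ((16 ^ 2 : ℕ) : ℂ)),
    Finset.sum_const, D.hY, hG] at h
  norm_num at h

end CfsgLib.Small
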