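import Cfsg.Agent.Lib.Small.Order7920
import Cfsg.Agent.Lib.Chars.DefectZero
import Cfsg.Agent.Lib.CharApps.PermIndicator

/-!
# Simple groups of order 5616: the principal block at the prime 13
-/

set_option autoImplicit false
set_option linter.style.haveILetI false
set_option linter.unusedSectionVars false

open Cfsg CfsgLib.Chars CfsgLib.CharApps CfsgLib.Blocks

namespace CfsgLib.Small.O5616

universe u

attribute [local instance] irrFintype

variable {G : Type u} [Group G] [Finite G]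

/-- The irreducible characters of a simple group of order 5616 as seen from the prime 13. -/
structure Data (G : Type u) [Group G] [Finite G] where
  a : IrrCharacter G
  b : IrrCharacter G
  Y : Finset (IrrCharacter G)
  F : Finset (IrrCharacter G)
  ha : charDegree (a : G → ℂ) = 12
  hb : charDegree (b : G → ℂ) = 27
  hY : Y.card = 4
  hθ : ∀ θ ∈ Y, charDegree (θ : G → ℂ) = 16
  reg : ∀ θ ∈ Y, ∀ g : G, ¬ 13 ∣ orderOf g →
    (θ : G → ℂ) g = 1 - (a : G → ℂ) g + (b : G → ℂ) g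
  hF : ∀ χ ∈ F, 13 ∣ charDegree (χ : G → ℂ)
  sum_all : ∀ H : IrrCharacter G → ℂ,
    ∑ χ, H χ = H (principal G) + H a + H b + ∑ θ ∈ Y, H θ + ∑ χ ∈ F, H χ
  invol : ∀ t : G, t * t = 1 → t ≠ 1 → ∀ A B : ℤ, (A : ℂ) = (a : G → ℂ) t →
    (B : ℂ) = (b : G → ℂ) t → 432 - 36 * A ^ 2 + 16 * B ^ 2 - 27 * (1 - A + B) ^ 2 = 0

section

variable [IsSimpleGroup G] (hG : Nat.card G = 5616)

include hG

theorem nonabelian : ¬ IsMulCommutative G := not_isMulCommutative_of_card (by rw [hG]; norm_num)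

theorem principal_degree : charDegree (principal G : G → ℂ) = 1 :=
  (deg_eq_one_iff (principal G)).mp (principal_apply _)

theorem eq_principal {χ : IrrCharacter G} (h : charDegree (χ : G → ℂ) = 1) : χ = principal G :=
  eq_of_degree_one (nonabelian hG) h (principal_degree hG)

theorem degree_lt (χ : IrrCharacter G) : charDegree (χ : G → ℂ) < 75 := by
  classical
  by_cases hne : χ = principal G
  · rw [hne, principal_degree hG]; norm_num
  · have h := sum_degree_sq_nat (G := G)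
    rw [← Finset.add_sum_erase _ _ (Finset.mem_univ χ), hG] at h
    by_contra hlt
    have := Nat.pow_le_pow_left (not_lt.1 hlt) 2
    norm_num at this
    omega

theorem signed_degree (χ : IrrCharacter G) (hne : χ ≠ principal G) {s : ℤ}
    (hs : s = 1 ∨ s = -1) (h : s * (charDegree (χ : G → ℂ) : ℤ) ≡ 1 [ZMOD 13]) :
    charDegree (χ : G → ℂ) = 12 ∧ s = -1 ∨ charDegree (χ : G → ℂ) = 27 ∧ s = 1 := by
  have hlt := degree_lt hG χ
  have hdvd : charDegree (χ : G → ℂ) ∣ 5616 := hG ▸ charDegree_dvd_card χ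
  have key : ∀ d < 75, d ∣ 5616 → ((d % 13 = 1 → d = 1 ∨ d = 27) ∧
      (d % 13 = 12 → d = 12)) := by decide +kernel
  obtain ⟨k1, k2⟩ := key _ hlt hdvd
  have h1 : charDegree (χ : G → ℂ) ≠ 1 := fun h => hne (eq_principal hG h)
  rw [Int.modEq_iff_dvd] at h
  rcases hs with rfl | rfl <;> omega

/-- An integral value at an involution. -/
theorem involution_value {t : G} (ht : t * t = 1) (ht1 : t ≠ 1) (χ : IrrCharacter G)
    (hne : charDegree (χ : G → ℂ) ≠ 1) :
    ∃ m : ℤ, (m : ℂ) = (χ : G → ℂ) t ∧ (4 : ℤ) ∣ (charDegree (χ : G → ℂ) : ℤ) - m ∧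
      -(charDegree (χ : G → ℂ) : ℤ) ≤ m ∧ m < (charDegree (χ : G → ℂ) : ℤ) := by
  haveI := Fintype.ofFinite G
  obtain ⟨m, hm⟩ := exists_int_apply_involution ht χ
  have hK : ∀ K : Subgroup G, K.Normal → t ∈ K → K = ⊤ := fun K hK htK =>
    hK.eq_bot_or_eq_top.resolve_left fun h => ht1 (by rwa [h, Subgroup.mem_bot] at htK)
  have h1 := apply_ne_degree hK χ (fun h => hne (h ▸ principal_degree hG))
  rw [← hm, deg_eq] at h1
  have h2 := char_norm_le (isCharacter_of_irr χ.2) t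
  rw [← hm, deg_eq, Complex.norm_intCast, Complex.natCast_re] at h2
  have h3 : |m| ≤ (charDegree (χ : G → ℂ) : ℤ) := by exact_mod_cast h2
  have h4 : m ≠ (charDegree (χ : G → ℂ) : ℤ) := fun h =>
    h1 (by exact_mod_cast congrArg (Int.cast : ℤ → ℂ) h)
  obtain ⟨h5, h6⟩ := abs_le.1 h3
  exact ⟨m, hm, four_dvd_degree_sub (commutator_eq_top (nonabelian hG)) χ ht hm, h5,
    lt_of_le_of_ne h6 h4⟩

theorem nonempty_data : Nonempty (Data G) := by
  classical
  haveI := Fact.mk (show Nat.Prime 13 by norm_num)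
  haveI := Fintype.ofFinite G
  have hn := nonabelian hG
  obtain ⟨P, e, hP, he, he1, hed, hen, hnm, -⟩ := exists_index_three_prime (G := G) hn
    (q := 2) (r := 3) (p := 13) (a := 4) (b := 3) Nat.prime_two Nat.prime_three
    (by norm_num) (by norm_num) (by rw [hG]; norm_num)
  have hC : Subgroup.centralizer ((P : Subgroup G) : Set G) = (P : Subgroup G) :=
    CfsgLib.Blocks.centralizer_sylow_three_prime (p := 2) (q := 3) (a := 4) (b := 3) Nat.prime_two
      Nat.prime_three (by norm_num) (by norm_num) (by rw [hG]; norm_num) P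
  obtain ⟨he3, hn144⟩ : e = 3 ∧ Nat.card (Sylow 13 G) = 144 := by
    have := Nat.le_of_dvd (by norm_num) hed
    norm_num [-Nat.card_eq_fintype_card] at hen hed this
    interval_cases e <;> omega
  subst he3
  have hN : Nat.card (Subgroup.normalizer ((P : Subgroup G) : Set G)) = 39 := by
    have h := (Subgroup.normalizer ((P : Subgroup G) : Set G)).card_mul_index
    have h' := P.card_eq_index_normalizer.symm.trans hn144
    change (Subgroup.normalizer ((P : Subgroup G) : Set G)).index = 144 at h'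
    rw [h', hG] at h
    omega
  obtain ⟨M, hM⟩ := CharApps.exists_pModular (p := 13)
  haveI := hM.2.1.isPrime
  obtain ⟨X, Y, σ, ε, hB, hdisj, hX, hY, hXp, hε, hYd, hYeq, hrel⟩ :=
    O7920.exists_block_data (by norm_num) hM P hP he
  norm_num at hY
  have h13one : ¬ 13 ∣ orderOf (1 : G) := by rw [orderOf_one]; norm_num
  have hprin : principal G ∈ X := by
    rcases (hB _).1 (CfsgLib.Blocks.principal_mem_principalBlock M) with h | h
    · exact h
    exfalso
    obtain ⟨a, ha, b, hb, hab⟩ := Finset.one_lt_card.1 (show 1 < Y.card by omega)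
    have key : ∀ ψ ∈ Y, ψ = principal G := fun ψ hψ => by
      have h1 := hYeq ψ hψ _ h 1 h13one
      rw [deg_eq, principal_apply, Nat.cast_eq_one] at h1
      exact eq_principal hG h1
    exact hab ((key a ha).trans (key b hb).symm)
  have hσp : σ (principal G) = 1 := by
    have h := (hXp _ hprin).2.1
    rw [principal_degree hG, Int.modEq_iff_dvd] at h
    rcases (hXp _ hprin).1 with h' | h' <;> rw [h'] at h ⊢ <;> omega
  have hX'c : (X.erase (principal G)).card = 2 := by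
    rw [Finset.card_erase_of_mem hprin, hX]
  have hX'd : ∀ χ ∈ X.erase (principal G),
      charDegree (χ : G → ℂ) = 12 ∧ σ χ = -1 ∨ charDegree (χ : G → ℂ) = 27 ∧ σ χ = 1 := by
    intro χ hχ
    rw [Finset.mem_erase] at hχ
    exact signed_degree hG χ hχ.1 (hXp χ hχ.2).1 (hXp χ hχ.2).2.1
  have hsumX : ∀ H : IrrCharacter G → ℂ,
      ∑ χ ∈ X, H χ = H (principal G) + ∑ χ ∈ X.erase (principal G), H χ := fun H =>
    (Finset.add_sum_erase _ _ hprin).symm
  obtain ⟨θ₀, hθ₀⟩ : Y.Nonempty := Finset.card_pos.1 (by omega)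
  -- one character of each signed degree
  obtain ⟨a, b, hab, hXab, ha, hb, hsa, hsb⟩ : ∃ a b, a ≠ b ∧
      X.erase (principal G) = {a, b} ∧ charDegree (a : G → ℂ) = 12 ∧
      charDegree (b : G → ℂ) = 27 ∧ σ a = -1 ∧ σ b = 1 := by
    obtain ⟨a, b, hab, he2⟩ := Finset.card_eq_two.1 hX'c
    have ha := hX'd a (by rw [he2]; simp)
    have hb := hX'd b (by rw [he2]; simp)
    have hT : ε * (charDegree (θ₀ : G → ℂ) : ℤ) =
        1 + σ a * (charDegree (a : G → ℂ) : ℤ) + σ b * (charDegree (b : G → ℂ) : ℤ) := by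
      have h := hrel θ₀ hθ₀ 1 h13one
      rw [hsumX, he2, Finset.sum_pair hab] at h
      simp only [deg_eq, principal_degree hG, hσp] at h
      push_cast at h
      rw [← add_assoc, one_mul] at h
      exact_mod_cast h
    have hdvd : charDegree (θ₀ : G → ℂ) ∣ 5616 := hG ▸ charDegree_dvd_card θ₀
    rcases ha with ⟨ha1, ha2⟩ | ⟨ha1, ha2⟩ <;> rcases hb with ⟨hb1, hb2⟩ | ⟨hb1, hb2⟩ <;>
      rw [ha1, ha2, hb1, hb2] at hT
    · exfalso
      have : charDegree (θ₀ : G → ℂ) = 23 := by rcases hε with rfl | rfl <;> omega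
      rw [this] at hdvd
      norm_num at hdvd
    · exact ⟨a, b, hab, he2, ha1, hb1, ha2, hb2⟩
    · exact ⟨b, a, hab.symm, by rw [he2, Finset.pair_comm], hb1, ha1, hb2, ha2⟩
    · exfalso
      have : charDegree (θ₀ : G → ℂ) = 55 := by rcases hε with rfl | rfl <;> omega
      rw [this] at hdvd
      norm_num at hdvd
  have hrel' : ∀ θ ∈ Y, ∀ g : G, ¬ 13 ∣ orderOf g →
      (ε : ℂ) * (θ : G → ℂ) g = 1 - (a : G → ℂ) g + (b : G → ℂ) g := by
    intro θ hθ g hg
    rw [hrel θ hθ g hg, hsumX, hXab, Finset.sum_pair hab, hσp, hsa, hsb, principal_apply]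
    push_cast
    ring
  have hdeg : ∀ θ ∈ Y, ε * (charDegree (θ : G → ℂ) : ℤ) = 16 := by
    intro θ hθ
    have h := hrel' θ hθ 1 h13one
    simp only [deg_eq, ha, hb] at h
    norm_num at h
    exact_mod_cast h
  have hε1 : ε = 1 := by
    have h := hdeg θ₀ hθ₀
    rcases hε with h' | h'
    · exact h'
    · rw [h'] at h; omega
  subst hε1
  have hθd : ∀ θ ∈ Y, charDegree (θ : G → ℂ) = 16 := fun θ hθ => by
    have := hdeg θ hθ
    omega
  have hout : ∀ χ ∈ (X ∪ Y)ᶜ, 13 ∣ charDegree (χ : G → ℂ) := by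
    intro χ hχ
    by_contra h
    rw [Finset.mem_compl, Finset.mem_union] at hχ
    exact hχ ((hB χ).1 (mem_principalBlock_of_selfCentral hM P hP hC χ h))
  have hsum : ∀ H : IrrCharacter G → ℂ, ∑ χ, H χ =
      H (principal G) + H a + H b + ∑ θ ∈ Y, H θ + ∑ χ ∈ (X ∪ Y)ᶜ, H χ := fun H => by
    rw [← Finset.sum_add_sum_compl (X ∪ Y), Finset.sum_union hdisj, hsumX, hXab,
      Finset.sum_pair hab, ← add_assoc]
  refine ⟨⟨a, b, Y, (X ∪ Y)ᶜ, ha, hb, hY, hθd, fun θ hθ g hg => by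
    simpa using hrel' θ hθ g hg, hout, hsum, fun t ht ht1 A B hA hB' => ?_⟩⟩
  obtain ⟨w, hwP, hw⟩ : ∃ w ∈ (P : Subgroup G), w ≠ 1 :=
    (Subgroup.bot_or_exists_ne_one (P : Subgroup G)).resolve_left fun h => by
      rw [h, Subgroup.card_bot] at hP
      omega
  have hwo : orderOf w = 13 := by
    rcases (Nat.dvd_prime (show Nat.Prime 13 by norm_num)).1
      (hP ▸ Subgroup.orderOf_dvd_natCard _ hwP) with h | h
    · exact absurd (orderOf_eq_one_iff.1 h) hw
    · exact h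
  have hPw : Subgroup.zpowers w = (P : Subgroup G) :=
    CfsgLib.Blocks.zpowers_eq_of_prime_card hP hwP hw
  haveI : IsEmpty {ab : G × G // (ab.1 * t * ab.1⁻¹) * (ab.2 * t * ab.2⁻¹) = w⁻¹} := by
    refine ⟨fun ⟨⟨c, d⟩, hcd⟩ => ?_⟩
    simp only at hcd
    have h1 : (c * t * c⁻¹) * (c * t * c⁻¹) = 1 := by
      rw [← sq, conj_pow, sq, ht, mul_one, mul_inv_cancel]
    have h2 : (d * t * d⁻¹) * (d * t * d⁻¹) = 1 := by
      rw [← sq, conj_pow, sq, ht, mul_one, mul_inv_cancel]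
    have h3 : c * t * c⁻¹ ≠ 1 := fun h => ht1 (conj_eq_one_iff.1 h)
    generalize c * t * c⁻¹ = u at hcd h1 h3
    generalize d * t * d⁻¹ = v at hcd h2
    have hu : u⁻¹ = u := inv_eq_of_mul_eq_one_left h1
    have hv : v⁻¹ = v := inv_eq_of_mul_eq_one_left h2
    have hw' : u * w * u⁻¹ = w⁻¹ := by
      have hwe : w = v * u := by rw [← inv_inv w, ← hcd, mul_inv_rev, hu, hv]
      rw [← hcd, hwe, hu, mul_assoc, mul_assoc, h1, mul_one]
    have hmap : ∀ y ∈ Subgroup.zpowers w, u * y * u⁻¹ ∈ Subgroup.zpowers w := fun y hy => by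
      obtain ⟨k, rfl⟩ := Subgroup.mem_zpowers_iff.1 hy
      rw [← conj_zpow, hw']
      exact Subgroup.zpow_mem _ (Subgroup.inv_mem _ (Subgroup.mem_zpowers w)) k
    have hmem : u ∈ Subgroup.normalizer ((P : Subgroup G) : Set G) := by
      rw [← hPw, Subgroup.mem_normalizer_iff]
      refine fun y => ⟨hmap y, fun hy => ?_⟩
      have h := hmap _ hy
      rw [hu] at h
      simpa [mul_assoc, h1, ← mul_assoc u u] using h
    have h4 := Subgroup.orderOf_dvd_natCard _ hmem
    rw [hN] at h4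
    have h5 : orderOf u ∣ 2 := orderOf_dvd_of_pow_eq_one (by rw [sq, h1])
    exact h3 (orderOf_eq_one_iff.1 (Nat.eq_one_of_dvd_coprimes (by norm_num) h4 h5))
  have h := card_conj_mul_conj t t w⁻¹
  rw [inv_inv, Nat.card_of_isEmpty, Nat.cast_zero, eq_comm, mul_eq_zero] at h
  have h0 := h.resolve_left (Chars.card_ne_zero G)
  have hz0 : ∀ χ ∈ (X ∪ Y)ᶜ, (χ : G → ℂ) w = 0 := fun χ hχ =>
    eq_zero_of_dvd_orderOf χ.2 (n := 1) (p := 13) (by norm_num) (deg_eq χ)
      (by rw [hG]; norm_num) (by rw [pow_one]; exact hout χ hχ) (by rw [hwo])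
  have hat : (a : G → ℂ) w = -1 := by
    rw [(hXp a (Finset.mem_of_mem_erase (by rw [hXab]; simp : a ∈ X.erase (principal G)))).2.2 w
      hwP hw, hsa]
    norm_num
  have hbt : (b : G → ℂ) w = 1 := by
    rw [(hXp b (Finset.mem_of_mem_erase (by rw [hXab]; simp : b ∈ X.erase (principal G)))).2.2 w
      hwP hw, hsb]
    norm_num
  have hY1 : ∀ θ ∈ Y, (θ : G → ℂ) 1 = 16 := fun θ hθ => by
    rw [deg_eq, hθd θ hθ]; norm_num
  have hcol := sum_degree_mul (G := G) w
  rw [if_neg hw, hsum, Finset.sum_eq_zero (s := (X ∪ Y)ᶜ) (fun χ hχ => by simp [hz0 χ hχ]),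
    add_zero, Finset.sum_congr rfl (fun θ hθ => by rw [hY1 θ hθ] :
      ∀ θ ∈ Y, (θ : G → ℂ) 1 * (θ : G → ℂ) w = 16 * (θ : G → ℂ) w), ← Finset.mul_sum,
    principal_apply, principal_apply, deg_eq, deg_eq, ha, hb, hat, hbt] at hcol
  have h13t : ¬ 13 ∣ orderOf t := fun hdvd => by
    have h2 : orderOf t ∣ 2 := orderOf_dvd_of_pow_eq_one (by rw [sq, ht])
    have := Nat.le_of_dvd two_pos (hdvd.trans h2)
    omega
  rw [hsum, Finset.sum_eq_zero (s := (X ∪ Y)ᶜ) (fun χ hχ => by simp [hz0 χ hχ]),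
    add_zero, Finset.sum_congr rfl (fun θ hθ => by
      rw [hY1 θ hθ, show (θ : G → ℂ) t = 1 - (A : ℂ) + (B : ℂ) by
        rw [hA, hB']; simpa using hrel' θ hθ t h13t]; ring :
      ∀ θ ∈ Y, (θ : G → ℂ) t * (θ : G → ℂ) t * (θ : G → ℂ) w / (θ : G → ℂ) 1 =
        (1 - (A : ℂ) + (B : ℂ)) ^ 2 / 16 * (θ : G → ℂ) w), ← Finset.mul_sum,
    principal_apply, principal_apply, principal_apply, deg_eq, deg_eq, ha, hb, hat, hbt,
    ← hA, ← hB'] at h0
  push_cast at h0 hcol
  have h2 : ((432 - 36 * A ^ 2 + 16 * B ^ 2 - 27 * (1 - A + B) ^ 2 : ℤ) : ℂ) =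
      ((0 : ℤ) : ℂ) := by
    push_cast
    linear_combination 432 * h0 - 27 / 16 * (1 - (A : ℂ) + (B : ℂ)) ^ 2 * hcol
  exact Int.cast_injective h2

end

end CfsgLib.Small.O5616
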