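import Cfsg.Agent.Lib.Small.Order5616Chars

/-!
# Simple groups of order 5616: one class of involutions, with centralizers of order 48
-/

set_option autoImplicit false
set_option linter.style.haveILetI false
set_option linter.unusedSectionVars false

open Cfsg CfsgLib.Chars CfsgLib.CharApps CfsgLib.Blocks

namespace CfsgLib.Small.O5616

universe u

attribute [local instance] irrFintype

variable {G : Type u} [Group G] [Finite G]

theorem value_cases : ∀ A ∈ Finset.Ico (-12 : ℤ) 12, ∀ B ∈ Finset.Ico (-27 : ℤ) 27,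
    A % 4 = 0 → B % 4 = 3 → 432 - 36 * A ^ 2 + 16 * B ^ 2 - 27 * (1 - A + B) ^ 2 = 0 →
      1 + A ^ 2 + B ^ 2 + 4 * (1 - A + B) ^ 2 ≤ 432 → A = 4 ∧ B = 3 ∨ A = 0 ∧ B = -9 := by
  decide +kernel

theorem type_cases : ∀ k ∈ Finset.Icc (1 : ℤ) 4, ∀ x ∈ Finset.Icc (-4 : ℤ) 4, (x - k) % 4 = 0 →
    k * (12 * x ^ 3 / k) = 12 * x ^ 3 ∧ (k, x) ∈ ({((1 : ℤ), (-3 : ℤ)), (1, 1), (2, -2), (2, 2),
      (3, -1), (3, 3), (4, -4), (4, 0), (4, 4)} : Finset (ℤ × ℤ)) := by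
  decide +kernel

theorem twin_arith (n₁ n₂ n₃ n₄ n₅ n₆ n₇ n₈ n₉ N : ℕ)
    (h1 : n₁ + n₂ + 4 * n₃ + 4 * n₄ + 9 * n₅ + 9 * n₆ + 16 * n₇ + 16 * n₈ + 16 * n₉ = 22)
    (h2 : 9 * n₁ + n₂ + 4 * n₃ + 4 * n₄ + n₅ + 9 * n₆ + 16 * n₇ + 16 * n₉ = 22)
    (h3 : -3 * (n₁ : ℤ) + n₂ - 4 * n₃ + 4 * n₄ - 3 * n₅ + 9 * n₆ - 16 * n₇ + 16 * n₉ = -10)
    (h4 : 64 * (N : ℤ) = 1144 + (-324 * (n₁ : ℤ) + 12 * n₂ - 48 * n₃ + 48 * n₄ - 4 * n₅ +
      108 * n₆ - 192 * n₇ + 192 * n₉)) :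
    N = 7 ∨ N = 8 ∨ N = 12 ∨ N = 16 := by
  have b1 : n₁ ≤ 2 := by omega
  have b6 : n₆ ≤ 2 := by omega
  have b7 : n₇ ≤ 1 := by omega
  have b9 : n₉ ≤ 1 := by omega
  interval_cases n₁ <;> interval_cases n₆ <;> interval_cases n₇ <;> interval_cases n₉ <;> omega

section

variable [IsSimpleGroup G] (hG : Nat.card G = 5616)

include hG

theorem card_centralizer_dvd {t : G} (ht : t * t = 1) (ht1 : t ≠ 1) :
    Nat.card (Subgroup.centralizer ({t} : Set G)) ∣ 432 := by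
  haveI := Fact.mk (show Nat.Prime 13 by norm_num)
  have hd : Nat.card (Subgroup.centralizer ({t} : Set G)) ∣ 13 * 432 := by
    rw [show 13 * 432 = Nat.card G by rw [hG]]
    exact Subgroup.card_subgroup_dvd_card _
  refine Nat.Coprime.dvd_of_dvd_mul_left (Nat.Coprime.symm ?_) hd
  refine (Nat.Prime.coprime_iff_not_dvd (by norm_num)).2 fun h => ?_
  obtain ⟨⟨w, hwC⟩, hwo⟩ := exists_prime_orderOf_dvd_card' 13 h
  rw [Subgroup.orderOf_mk] at hwo
  obtain ⟨P, hP⟩ := (IsPGroup.of_card (p := 13) (n := 1)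
    (by rw [Nat.card_zpowers, hwo, pow_one]) : IsPGroup 13 (Subgroup.zpowers w)).exists_le_sylow
  have hC := CfsgLib.Blocks.centralizer_sylow_three_prime (p := 2) (q := 3) (a := 4) (b := 3)
    Nat.prime_two Nat.prime_three (by norm_num) (by norm_num) (by rw [hG]; norm_num) P
  have hPc : Nat.card (P : Subgroup G) = 13 := by
    simpa using card_sylow_eq (p := 13) 1 432 (by rw [hG]; rfl) (by norm_num) P
  have hPw : Subgroup.zpowers w = (P : Subgroup G) :=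
    Subgroup.eq_of_le_of_card_ge hP (by rw [hPc, Nat.card_zpowers, hwo])
  have htP : t ∈ (P : Subgroup G) := by
    rw [← hC]
    change t ∈ Subgroup.centralizer ((P : Subgroup G) : Set G)
    rw [← hPw, Subgroup.zpowers_eq_closure, Subgroup.centralizer_closure]
    exact Subgroup.mem_centralizer_singleton_iff.2
      (Subgroup.mem_centralizer_singleton_iff.1 hwC).symm
  have h1 := Subgroup.orderOf_dvd_natCard _ htP
  rw [hPc] at h1
  have h2 : orderOf t ∣ 2 := orderOf_dvd_of_pow_eq_one (by rw [sq, ht])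
  exact ht1 (orderOf_eq_one_iff.1 (Nat.eq_one_of_dvd_coprimes (by norm_num) h1 h2))

/-- The degrees and values of the characters at an involution. -/
theorem values (D : Data G) {t : G} (ht : t * t = 1) (ht1 : t ≠ 1) (x : IrrCharacter G → ℤ)
    (hx : ∀ χ, (x χ : ℂ) = (χ : G → ℂ) t) :
    x D.a = 4 ∧ x D.b = 3 ∧ (∀ θ ∈ D.Y, x θ = 0) ∧
      Nat.card (Subgroup.centralizer ({t} : Set G)) = 48 ∧
      ∑ χ ∈ D.F, ((charDegree (χ : G → ℂ) / 13 : ℕ) : ℤ) ^ 2 = 22 ∧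
      ∑ χ ∈ D.F, x χ ^ 2 = 22 ∧
      ∑ χ ∈ D.F, ((charDegree (χ : G → ℂ) / 13 : ℕ) : ℤ) * x χ = -10 := by
  classical
  haveI := Fintype.ofFinite G
  set A := x D.a with hAdef
  set B := x D.b with hBdef
  set k : IrrCharacter G → ℤ := fun χ => ((charDegree (χ : G → ℂ) / 13 : ℕ) : ℤ) with hk
  have hkd : ∀ χ ∈ D.F, (χ : G → ℂ) 1 = ((13 * k χ : ℤ) : ℂ) := fun χ hχ => by
    rw [deg_eq, hk]
    have h : (13 : ℤ) * ((charDegree (χ : G → ℂ) / 13 : ℕ) : ℤ) = (charDegree (χ : G → ℂ) : ℤ) := by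
      exact_mod_cast Nat.mul_div_cancel' (D.hF χ hχ)
    simp only [h, Int.cast_natCast]
  have h13t : ¬ 13 ∣ orderOf t := fun hdvd => by
    have h2 : orderOf t ∣ 2 := orderOf_dvd_of_pow_eq_one (by rw [sq, ht])
    have := Nat.le_of_dvd two_pos (hdvd.trans h2)
    omega
  have hθx : ∀ θ ∈ D.Y, x θ = 1 - A + B := fun θ hθ => by
    have h := D.reg θ hθ t h13t
    rw [← hx, ← hx, ← hx] at h
    exact_mod_cast h
  have hp : x (principal G) = 1 := by
    have h := hx (principal G)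
    rw [principal_apply] at h
    exact_mod_cast h
  -- degrees
  have hsq : ∑ χ ∈ D.F, k χ ^ 2 = 22 := by
    have h : ((Nat.card G : ℤ) : ℂ) = ∑ χ : IrrCharacter G, (χ : G → ℂ) 1 * (χ : G → ℂ) 1 := by
      rw [sum_degree_mul, if_pos rfl]; simp
    rw [D.sum_all, principal_apply, Finset.sum_congr rfl (fun θ hθ => by
      rw [deg_eq, D.hθ θ hθ] : ∀ θ ∈ D.Y, (θ : G → ℂ) 1 * (θ : G → ℂ) 1 = ((16 : ℕ) : ℂ) * (16 : ℕ)),
      Finset.sum_congr rfl (fun χ hχ => by rw [hkd χ hχ]; push_cast; ring :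
        ∀ χ ∈ D.F, (χ : G → ℂ) 1 * (χ : G → ℂ) 1 = 169 * ((k χ ^ 2 : ℤ) : ℂ)),
      Finset.sum_const, D.hY, deg_eq, deg_eq, D.ha, D.hb, ← Finset.mul_sum, hG] at h
    have h2 : ((∑ χ ∈ D.F, k χ ^ 2 : ℤ) : ℂ) = ((22 : ℤ) : ℂ) := by
      push_cast
      push_cast at h
      simp only [nsmul_eq_mul] at h
      norm_num at h
      linear_combination (-1 / 169 : ℂ) * h
    exact Int.cast_injective h2
  -- orthogonality with the identity
  have hone : 1 + 12 * A + 27 * B + 64 * (1 - A + B) + 13 * ∑ χ ∈ D.F, k χ * x χ = 0 := by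
    have h : (0 : ℂ) = ∑ χ : IrrCharacter G, (χ : G → ℂ) 1 * (χ : G → ℂ) t := by
      rw [sum_degree_mul, if_neg ht1]
    rw [D.sum_all, principal_apply, principal_apply, Finset.sum_congr rfl (fun θ hθ => by
      rw [deg_eq, D.hθ θ hθ, ← hx, hθx θ hθ] :
        ∀ θ ∈ D.Y, (θ : G → ℂ) 1 * (θ : G → ℂ) t = ((16 : ℕ) : ℂ) * ((1 - A + B : ℤ) : ℂ)),
      Finset.sum_congr rfl (fun χ hχ => by rw [hkd χ hχ, ← hx]; push_cast; ring :
        ∀ χ ∈ D.F, (χ : G → ℂ) 1 * (χ : G → ℂ) t = 13 * ((k χ * x χ : ℤ) : ℂ)),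
      Finset.sum_const, D.hY, deg_eq, deg_eq, D.ha, D.hb, ← hx, ← hx, ← Finset.mul_sum] at h
    have h2 : ((1 + 12 * A + 27 * B + 64 * (1 - A + B) + 13 * ∑ χ ∈ D.F, k χ * x χ : ℤ) : ℂ) =
        ((0 : ℤ) : ℂ) := by
      push_cast
      push_cast at h
      simp only [nsmul_eq_mul] at h
      norm_num at h
      linear_combination (-1 : ℂ) * h
    exact Int.cast_injective h2
  -- the norm
  set c := Nat.card (Subgroup.centralizer ({t} : Set G)) with hc
  have hnorm : (c : ℤ) = 1 + A ^ 2 + B ^ 2 + 4 * (1 - A + B) ^ 2 + ∑ χ ∈ D.F, x χ ^ 2 := by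
    have h := second_orthogonality t t
    rw [if_pos (IsConj.refl t), Finset.sum_congr rfl (fun χ _ => by
      rw [← hx, map_intCast]; push_cast; ring :
        ∀ χ ∈ (Finset.univ : Finset (IrrCharacter G)), (χ : G → ℂ) t * (starRingEnd ℂ) ((χ : G → ℂ) t) =
          ((x χ ^ 2 : ℤ) : ℂ)), D.sum_all, hp,
      Finset.sum_congr rfl (fun θ hθ => by rw [hθx θ hθ] :
        ∀ θ ∈ D.Y, ((x θ ^ 2 : ℤ) : ℂ) = (((1 - A + B) ^ 2 : ℤ) : ℂ)),
      Finset.sum_const, D.hY, ← hc] at h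
    have h2 : ((c : ℤ) : ℂ) =
        ((1 + A ^ 2 + B ^ 2 + 4 * (1 - A + B) ^ 2 + ∑ χ ∈ D.F, x χ ^ 2 : ℤ) : ℂ) := by
      push_cast
      push_cast at h
      simp only [nsmul_eq_mul] at h
      norm_num at h
      linear_combination (-1 : ℂ) * h
    exact Int.cast_injective h2
  have hcd : c ∣ 432 := card_centralizer_dvd hG ht ht1
  have hc432 : c ≤ 432 := Nat.le_of_dvd (by norm_num) hcd
  have hR0 : 0 ≤ ∑ χ ∈ D.F, x χ ^ 2 := Finset.sum_nonneg fun χ _ => sq_nonneg _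
  have hCS := Finset.sum_mul_sq_le_sq_mul_sq D.F k x
  rw [hsq] at hCS
  obtain ⟨A', hA', hA4, hAlo, hAhi⟩ := involution_value hG ht ht1 D.a (by rw [D.ha]; norm_num)
  obtain ⟨B', hB', hB4, hBlo, hBhi⟩ := involution_value hG ht ht1 D.b (by rw [D.hb]; norm_num)
  obtain rfl : A' = A := by rw [hAdef]; exact_mod_cast hA'.trans (hx _).symm
  obtain rfl : B' = B := by rw [hBdef]; exact_mod_cast hB'.trans (hx _).symm
  rw [D.ha] at hA4 hAlo hAhi
  rw [D.hb] at hB4 hBlo hBhi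
  rcases value_cases A (Finset.mem_Ico.2 ⟨by omega, by omega⟩) B
    (Finset.mem_Ico.2 ⟨by omega, by omega⟩) (by omega) (by omega)
    (D.invol t ht ht1 A B (hx _) (hx _)) (by linarith [show (c : ℤ) ≤ 432 by exact_mod_cast hc432])
    with ⟨hA, hB⟩ | ⟨hA, hB⟩
  swap
  · exfalso
    rw [hA, hB] at hone hnorm
    norm_num at hnorm
    rw [show ∑ χ ∈ D.F, k χ * x χ = 58 by omega] at hCS
    omega
  rw [hA, hB] at hone hnorm
  norm_num at hnorm
  have hZ : ∑ χ ∈ D.F, k χ * x χ = -10 := by omega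
  rw [hZ] at hCS
  -- nine does not divide the order of the centralizer
  have h9 : ¬ 9 ∣ c := by
    intro h9
    haveI := Fact.mk Nat.prime_three
    obtain ⟨Q, hQ⟩ := Sylow.exists_subgroup_card_pow_prime (G := Subgroup.centralizer ({t} : Set G))
      3 (n := 2) h9
    set Q' := Q.map (Subgroup.centralizer ({t} : Set G)).subtype with hQ'
    have hQ'c : Nat.card Q' = 9 := by
      rw [hQ', Subgroup.card_map_of_injective (Subgroup.subtype_injective _), hQ]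
      norm_num
    have hord : orderOf t = 2 := orderOf_eq_prime (by rw [sq, ht]) ht1
    let T := Subgroup.zpowers t
    have hTc : Nat.card T = 2 := by rw [Nat.card_zpowers, hord]
    have hcomm : ∀ (m : Q') (n : T), Commute (m : G) n := by
      rintro ⟨m, hm⟩ ⟨n, hn⟩
      obtain ⟨m', -, rfl⟩ := hm
      obtain ⟨i, rfl⟩ := Subgroup.mem_zpowers_iff.1 hn
      exact Commute.zpow_right (Subgroup.mem_centralizer_singleton_iff.1 m'.2) i
    let φ : Q' × T →* G := MonoidHom.noncommCoprod Q'.subtype T.subtype hcomm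
    have hφ : Function.Injective φ := by
      rw [injective_iff_map_eq_one]
      rintro ⟨m, n⟩ hmn
      have h1 : (m : G) = (n : G)⁻¹ := eq_inv_of_mul_eq_one_left hmn
      have h2 := Subgroup.orderOf_dvd_natCard Q' m.2
      rw [h1, orderOf_inv, hQ'c] at h2
      have h3 := Subgroup.orderOf_dvd_natCard T n.2
      rw [hTc] at h3
      have h4 : (n : G) = 1 :=
        orderOf_eq_one_iff.1 (Nat.eq_one_of_dvd_coprimes (by norm_num) h2 h3)
      rw [h4, inv_one] at h1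
      exact Prod.ext (Subtype.ext h1) (Subtype.ext h4)
    have hzero : ∀ (m : Q') (n : T), m ≠ 1 → (D.b : G → ℂ) (φ (m, n)) = 0 := by
      intro m n hm
      refine eq_zero_of_dvd_orderOf D.b.2 (n := 3) (p := 3) (by norm_num) (deg_eq D.b)
        (by rw [hG]; norm_num) (by rw [D.hb]; norm_num) ?_
      rw [orderOf_injective φ hφ, Prod.orderOf]
      refine dvd_trans ?_ (Nat.dvd_lcm_left _ _)
      have h := orderOf_dvd_natCard m
      rw [hQ'c, show (9 : ℕ) = 3 ^ 2 by rfl] at h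
      obtain ⟨i, -, hi⟩ := (Nat.dvd_prime_pow Nat.prime_three).1 h
      show 3 ∣ orderOf m
      rw [hi]
      refine dvd_pow_self 3 fun h0 => hm (orderOf_eq_one_iff.1 ?_)
      rw [hi, h0, pow_zero]
    haveI := Fintype.ofFinite Q'
    haveI := Fintype.ofFinite T
    obtain ⟨n, hn⟩ := inner_char_nat (G := Q' × T)
      (isCharacter_comp φ (isCharacter_of_irr D.b.2)) isCharacter_one
    have hu : (Finset.univ : Finset T) = {1, ⟨t, Subgroup.mem_zpowers t⟩} := by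
      symm
      refine Finset.eq_univ_of_card _ ?_
      rw [Finset.card_pair (fun h => ht1 (congrArg Subtype.val h).symm),
        ← Nat.card_eq_fintype_card, hTc]
    have hsum : ∑ g : Q' × T, (D.b : G → ℂ) (φ g) = 30 := by
      rw [Fintype.sum_prod_type, Finset.sum_eq_single (1 : Q')
        (fun m _ hm => Finset.sum_eq_zero fun n _ => hzero m n hm) (by simp), hu,
        Finset.sum_pair (fun h => ht1 (congrArg Subtype.val h).symm)]
      rw [show φ (1, 1) = 1 from map_one φ, show φ (1, ⟨t, Subgroup.mem_zpowers t⟩) = t from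
        one_mul t]
      rw [deg_eq, D.hb, ← hx, ← hBdef, hB]
      norm_num
    have hcard : Nat.card (Q' × T) = 18 := by rw [Nat.card_prod, hQ'c, hTc]
    simp only [inner_def, map_one, mul_one, hsum, hcard] at hn
    have h18 : ((30 : ℕ) : ℂ) = ((18 * n : ℕ) : ℂ) := by
      push_cast
      push_cast at hn
      linear_combination 18 * hn
    have := Nat.cast_injective h18
    omega
  have hc48 : c = 48 := by
    have key : ∀ d < 433, d ∣ 432 → ¬ 9 ∣ d → 31 ≤ d → d = 48 := by decide +kernel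
    refine key c (by omega) hcd h9 ?_
    omega
  refine ⟨hA, hB, fun θ hθ => by rw [hθx θ hθ, hA, hB]; norm_num, hc48, hsq, ?_, hZ⟩
  rw [hc48] at hnorm
  omega

theorem exists_values {t : G} (ht : t * t = 1) :
    ∃ x : IrrCharacter G → ℤ, ∀ χ, (x χ : ℂ) = (χ : G → ℂ) t := by
  haveI := Fintype.ofFinite G
  choose x hx using fun χ => exists_int_apply_involution ht χ
  exact ⟨x, hx⟩

theorem card_centralizer {t : G} (ht : t * t = 1) (ht1 : t ≠ 1) :
    Nat.card (Subgroup.centralizer ({t} : Set G)) = 48 := by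
  obtain ⟨D⟩ := nonempty_data hG
  obtain ⟨x, hx⟩ := exists_values hG ht
  exact (values hG D ht ht1 x hx).2.2.2.1

theorem isConj_of_involution {t s : G} (ht : t * t = 1) (ht1 : t ≠ 1) (hs : s * s = 1)
    (hs1 : s ≠ 1) : IsConj t s := by
  classical
  obtain ⟨D⟩ := nonempty_data hG
  obtain ⟨x, hx⟩ := exists_values hG ht
  obtain ⟨y, hy⟩ := exists_values hG hs
  obtain ⟨hA, hB, hY, -, -, hR, -⟩ := values hG D ht ht1 x hx
  obtain ⟨hA', hB', hY', -, -, hR', -⟩ := values hG D hs hs1 y hy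
  by_contra hne
  have hp : ∀ (g : G) (z : IrrCharacter G → ℤ), (∀ χ, (z χ : ℂ) = (χ : G → ℂ) g) →
      z (principal G) = 1 := fun g z hz => by
    have h := hz (principal G)
    rw [principal_apply] at h
    exact_mod_cast h
  have h := second_orthogonality t s
  rw [if_neg (fun h => hne h.symm), Finset.sum_congr rfl (fun χ _ => by
    rw [← hx, ← hy, map_intCast]; push_cast; ring :
      ∀ χ ∈ (Finset.univ : Finset (IrrCharacter G)), (χ : G → ℂ) t *
        (starRingEnd ℂ) ((χ : G → ℂ) s) = ((x χ * y χ : ℤ) : ℂ)), D.sum_all, hp t x hx, hp s y hy,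
    hA, hA', hB, hB', Finset.sum_eq_zero (s := D.Y) (fun θ hθ => by rw [hY θ hθ]; simp)] at h
  have h2 : ((26 + ∑ χ ∈ D.F, x χ * y χ : ℤ) : ℂ) = ((0 : ℤ) : ℂ) := by
    push_cast
    push_cast at h
    linear_combination h
  have h3 := Int.cast_injective h2
  have hCS := Finset.sum_mul_sq_le_sq_mul_sq D.F x y
  rw [hR, hR', show ∑ χ ∈ D.F, x χ * y χ = -26 by omega] at hCS
  norm_num at hCS

/-- The number of further involutions in the centralizer of an involution. -/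
theorem card_twins {t : G} (ht : t * t = 1) (ht1 : t ≠ 1) :
    Nat.card {s : G // s * s = 1 ∧ s ≠ 1 ∧ s ≠ t ∧ Commute s t} = 8 ∨
      Nat.card {s : G // s * s = 1 ∧ s ≠ 1 ∧ s ≠ t ∧ Commute s t} = 12 ∨
      Nat.card {s : G // s * s = 1 ∧ s ≠ 1 ∧ s ≠ t ∧ Commute s t} = 16 := by
  classical
  haveI := Fintype.ofFinite G
  obtain ⟨D⟩ := nonempty_data hG
  obtain ⟨x, hx⟩ := exists_values hG ht
  obtain ⟨hA, hB, hY, h48, hK, hR, hZ⟩ := values hG D ht ht1 x hx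
  set S := {s : G // s * s = 1 ∧ s ≠ 1 ∧ s ≠ t ∧ Commute s t}
  have hinv : ∀ {v : G}, v * v = 1 → v⁻¹ = v := fun h => inv_eq_of_mul_eq_one_left h
  -- parity
  have htw : ∀ s : S, (s.1 * t) * (s.1 * t) = 1 ∧ s.1 * t ≠ 1 ∧ s.1 * t ≠ t ∧
      Commute (s.1 * t) t := by
    rintro ⟨s, hs, hs1, hst, hc⟩
    dsimp only
    refine ⟨?_, fun h => hst ?_, fun h => hs1 (mul_eq_right.1 h), hc.mul_left (Commute.refl t)⟩
    · rw [hc.symm.mul_mul_mul_comm, hs, ht, one_mul]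
    · rw [eq_inv_of_mul_eq_one_left h, hinv ht]
  let f : S → S := fun s => ⟨s.1 * t, htw s⟩
  have hf : Function.Involutive f := fun s => Subtype.ext (by
    show s.1 * t * t = s.1
    rw [mul_assoc, ht, mul_one])
  have heven : 2 ∣ Nat.card S := by
    haveI := Fintype.ofFinite S
    have h := Equiv.Perm.two_dvd_card_support (σ := hf.toPerm f)
      (Equiv.ext fun s => by rw [sq, Equiv.Perm.mul_apply]; exact hf s)
    rwa [show (hf.toPerm f).support = Finset.univ from Finset.eq_univ_of_forall fun s =>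
      Equiv.Perm.mem_support.2 fun h => ht1 (mul_eq_left.1 (congrArg Subtype.val h)),
      Finset.card_univ, ← Nat.card_eq_fintype_card] at h
  -- pairs
  have hfib : ∀ v : G, v * v = 1 → v ≠ 1 → Nat.card {a : G // a * t * a⁻¹ = v} = 48 := by
    intro v hv hv1
    obtain ⟨a₀, ha₀⟩ := isConj_iff.1 (isConj_of_involution hG ht ht1 hv hv1)
    rw [← h48]
    refine Nat.card_congr ⟨fun a => ⟨a₀⁻¹ * a.1, ?_⟩, fun c => ⟨a₀ * c.1, ?_⟩, fun a => ?_,
      fun c => ?_⟩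
    · rw [Subgroup.mem_centralizer_singleton_iff]
      have h : a.1 * t * a.1⁻¹ = a₀ * t * a₀⁻¹ := a.2.trans ha₀.symm
      rw [mul_inv_eq_iff_eq_mul] at h
      rw [mul_assoc, h]
      group
    · have hc := Subgroup.mem_centralizer_singleton_iff.1 c.2
      refine Eq.trans ?_ ha₀
      rw [mul_assoc a₀, hc]
      group
    · exact Subtype.ext (mul_inv_cancel_left a₀ a.1)
    · exact Subtype.ext (inv_mul_cancel_left a₀ c.1)
  have hconj : ∀ a : G, (a * t * a⁻¹) * (a * t * a⁻¹) = 1 ∧ a * t * a⁻¹ ≠ 1 := fun a =>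
    ⟨by rw [← sq, conj_pow, sq, ht, mul_one, mul_inv_cancel],
      fun h => ht1 (conj_eq_one_iff.1 h)⟩
  have hmem : ∀ ab : {ab : G × G // (ab.1 * t * ab.1⁻¹) * (ab.2 * t * ab.2⁻¹) = t},
      ab.1.1 * t * ab.1.1⁻¹ * (ab.1.1 * t * ab.1.1⁻¹) = 1 ∧ ab.1.1 * t * ab.1.1⁻¹ ≠ 1 ∧
      ab.1.1 * t * ab.1.1⁻¹ ≠ t ∧ Commute (ab.1.1 * t * ab.1.1⁻¹) t ∧
      ab.1.2 * t * ab.1.2⁻¹ = ab.1.1 * t * ab.1.1⁻¹ * t := by
    rintro ⟨⟨a, b⟩, hab⟩
    simp only at hab ⊢
    obtain ⟨ha, ha1⟩ := hconj a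
    obtain ⟨hb, hb1⟩ := hconj b
    generalize a * t * a⁻¹ = u at hab ha ha1 ⊢
    generalize b * t * b⁻¹ = v at hab hb hb1 ⊢
    have hv : v = u * t := by rw [← hab, ← mul_assoc, ha, one_mul]
    refine ⟨ha, ha1, fun h => hb1 (by rw [hv, h, ht]), ?_, hv⟩
    rw [hv] at hb
    have h := eq_inv_of_mul_eq_one_left hb
    rwa [mul_inv_rev, hinv ha, hinv ht] at h
  let e : {ab : G × G // (ab.1 * t * ab.1⁻¹) * (ab.2 * t * ab.2⁻¹) = t} ≃
      Σ s : S, {a : G // a * t * a⁻¹ = s.1} × {b : G // b * t * b⁻¹ = s.1 * t} :=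
    { toFun := fun ab => ⟨⟨ab.1.1 * t * ab.1.1⁻¹, (hmem ab).1, (hmem ab).2.1, (hmem ab).2.2.1,
        (hmem ab).2.2.2.1⟩, ⟨ab.1.1, rfl⟩, ⟨ab.1.2, (hmem ab).2.2.2.2⟩⟩
      invFun := fun s => ⟨(s.2.1.1, s.2.2.1), by
        rw [s.2.1.2, s.2.2.2, ← mul_assoc, s.1.2.1, one_mul]⟩
      left_inv := fun ab => rfl
      right_inv := by
        rintro ⟨⟨s, hs⟩, ⟨a, ha⟩, ⟨b, hb⟩⟩
        obtain rfl : a * t * a⁻¹ = s := ha
        rfl }
  have hpairs : Nat.card {ab : G × G // (ab.1 * t * ab.1⁻¹) * (ab.2 * t * ab.2⁻¹) = t} =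
      2304 * Nat.card S := by
    haveI := Fintype.ofFinite S
    rw [Nat.card_congr e, Nat.card_sigma, Finset.sum_congr rfl (fun s _ => by
      rw [Nat.card_prod, hfib _ s.2.1 s.2.2.1, hfib _ (htw s).1 (htw s).2.1] :
        ∀ s ∈ (Finset.univ : Finset S), Nat.card ({a : G // a * t * a⁻¹ = s.1} ×
          {b : G // b * t * b⁻¹ = s.1 * t}) = 48 * 48), Finset.sum_const, Finset.card_univ,
      ← Nat.card_eq_fintype_card, smul_eq_mul]
    ring
  -- types
  set k : IrrCharacter G → ℤ := fun χ => ((charDegree (χ : G → ℂ) / 13 : ℕ) : ℤ) with hk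
  let w : ℤ × ℤ → ℤ := fun τ => 12 * τ.2 ^ 3 / τ.1
  have htype : ∀ χ ∈ D.F, 1 ≤ k χ ∧ k χ * w (k χ, x χ) = 12 * x χ ^ 3 ∧
      (χ : G → ℂ) 1 = ((13 * k χ : ℤ) : ℂ) ∧
      (k χ, x χ) ∈ ({((1 : ℤ), (-3 : ℤ)), (1, 1), (2, -2), (2, 2),
        (3, -1), (3, 3), (4, -4), (4, 0), (4, 4)} : Finset (ℤ × ℤ)) := by
    intro χ hχ
    have hd0 := CfsgLib.Blocks.charDegree_pos χ
    have hdd := D.hF χ hχ
    have hd : (13 : ℤ) * k χ = (charDegree (χ : G → ℂ) : ℤ) := by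
      simp only [hk]; exact_mod_cast Nat.mul_div_cancel' hdd
    have hk1 : 1 ≤ k χ := by omega
    have hk4 := Finset.single_le_sum (f := fun ψ => k ψ ^ 2) (fun ψ _ => sq_nonneg _) hχ
    have hx4 := Finset.single_le_sum (f := fun ψ => x ψ ^ 2) (fun ψ _ => sq_nonneg _) hχ
    rw [hK] at hk4
    rw [hR] at hx4
    have hk4' : k χ ≤ 4 := by nlinarith
    have hxlo : -4 ≤ x χ := by nlinarith
    have hxhi : x χ ≤ 4 := by nlinarith
    obtain ⟨m, hm, h4, -, -⟩ := involution_value hG ht ht1 χ (by omega)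
    obtain rfl : m = x χ := by exact_mod_cast hm.trans (hx _).symm
    obtain ⟨h5, h6⟩ := type_cases (k χ) (Finset.mem_Icc.2 ⟨hk1, hk4'⟩) (x χ)
      (Finset.mem_Icc.2 ⟨hxlo, hxhi⟩) (by omega)
    exact ⟨hk1, h5, by rw [deg_eq, hd, Int.cast_natCast], h6⟩
  have hW : 64 * (Nat.card S : ℤ) = 1144 + ∑ χ ∈ D.F, w (k χ, x χ) := by
    have h := card_conj_mul_conj t t t
    have hp : (principal G : G → ℂ) t = 1 := principal_apply _
    rw [hpairs, hinv ht, D.sum_all, principal_apply, principal_apply,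
      Finset.sum_eq_zero (s := D.Y) (fun θ hθ => by rw [← hx, hY θ hθ]; simp),
      Finset.sum_congr rfl (fun χ hχ => by
        obtain ⟨h1, h2, h3, -⟩ := htype χ hχ
        have h4 : ((k χ : ℤ) : ℂ) ≠ 0 := Int.cast_ne_zero.2 (by omega)
        have h2' : ((k χ : ℤ) : ℂ) * (w (k χ, x χ) : ℂ) = 12 * (x χ : ℂ) ^ 3 := by
          exact_mod_cast h2
        rw [← hx, h3]
        push_cast
        field_simp
        linear_combination (-13 : ℂ) * h2' :
          ∀ χ ∈ D.F, (χ : G → ℂ) t * (χ : G → ℂ) t * (χ : G → ℂ) t / (χ : G → ℂ) 1 =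
            ((w (k χ, x χ) : ℤ) : ℂ) / 156),
      ← Finset.sum_div, ← hx, ← hx, hA, hB, deg_eq, deg_eq, D.ha, D.hb, hG] at h
    have h2 : ((64 * (Nat.card S : ℤ) : ℤ) : ℂ) =
        ((1144 + ∑ χ ∈ D.F, w (k χ, x χ) : ℤ) : ℂ) := by
      push_cast
      push_cast at h
      linear_combination (1 / 36 : ℂ) * h
    exact Int.cast_injective h2
  set T : Finset (ℤ × ℤ) := {((1 : ℤ), (-3 : ℤ)), (1, 1), (2, -2), (2, 2),
    (3, -1), (3, 3), (4, -4), (4, 0), (4, 4)}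
  set n : ℤ × ℤ → ℕ := fun τ => (D.F.filter fun χ => (k χ, x χ) = τ).card with hn
  have hsum : ∀ F : ℤ × ℤ → ℤ, ∑ χ ∈ D.F, F (k χ, x χ) = ∑ τ ∈ T, (n τ : ℤ) * F τ := by
    intro F
    rw [← Finset.sum_fiberwise_of_maps_to' (g := fun χ => (k χ, x χ)) (t := T)
      (fun χ hχ => (htype χ hχ).2.2.2) F]
    refine Finset.sum_congr rfl fun τ _ => ?_
    rw [Finset.sum_const, nsmul_eq_mul]
  have e1 := (hsum fun τ => τ.1 ^ 2).symm.trans hK
  have e2 := (hsum fun τ => τ.2 ^ 2).symm.trans hR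
  have e3 := (hsum fun τ => τ.1 * τ.2).symm.trans hZ
  rw [hsum w] at hW
  simp only [T, w] at e1 e2 e3 hW
  repeat rw [Finset.sum_insert (by decide)] at e1 e2 e3 hW
  rw [Finset.sum_singleton] at e1 e2 e3 hW
  norm_num [-Nat.card_eq_fintype_card] at e1 e2 e3 hW
  have key := twin_arith (n (1, -3)) (n (1, 1)) (n (2, -2)) (n (2, 2)) (n (3, -1)) (n (3, 3))
    (n (4, -4)) (n (4, 0)) (n (4, 4)) (Nat.card S) (by omega) (by omega) (by omega) (by omega)
  omega

end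

end CfsgLib.Small.O5616
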