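import Cfsg.Agent.Lib.Small.Order5616Invol
import Cfsg.Agent.Lib.Chars.PermChar

/-!
# Simple groups of order 5616: no subgroup of order three is normal in an involution centralizer
-/

set_option autoImplicit false
set_option linter.style.haveILetI false
set_option linter.unusedSectionVars false

open Cfsg CfsgLib.Chars CfsgLib.CharApps CfsgLib.Blocks

namespace CfsgLib.Small.O5616

universe u

attribute [local instance] irrFintype

variable {G : Type u} [Group G] [Finite G]

/-- A subgroup conjugating `z` into a two-element set has the stabilizer of `z` of index at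
most two. -/
theorem card_le_two_mul (L : Subgroup G) (z a b : G)
    (h : ∀ e ∈ L, e * z * e⁻¹ = a ∨ e * z * e⁻¹ = b) :
    Nat.card L ≤ 2 * Nat.card (L ⊓ Subgroup.centralizer ({z} : Set G) : Subgroup G) := by
  classical
  set C := Subgroup.centralizer ({z} : Set G) with hC
  set S := C.subgroupOf L with hS
  have hSc : Nat.card S = Nat.card (L ⊓ C : Subgroup G) := by
    refine Nat.card_congr ⟨fun q => ⟨q.1.1, q.1.2, q.2⟩, fun q => ⟨⟨q.1, q.2.1⟩, q.2.2⟩,
      fun q => rfl, fun q => rfl⟩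
  have hidx : S.index ≤ 2 := by
    rw [Subgroup.index_eq_card]
    refine (Nat.card_le_card_of_injective (fun q : L ⧸ S => (⟨(q.out : G) * z * (q.out : G)⁻¹,
      by rcases h _ q.out.2 with h' | h' <;> simp [h']⟩ : ({a, b} : Set G))) fun c d hcd => ?_).trans ?_
    · have h' := congrArg Subtype.val hcd
      simp only at h'
      refine (QuotientGroup.out_eq' c).symm.trans
        ((QuotientGroup.eq.2 ?_).trans (QuotientGroup.out_eq' d))
      refine Subgroup.mem_centralizer_singleton_iff.2 ?_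
      simp only [Subgroup.coe_subtype, Subgroup.coe_mul, Subgroup.coe_inv]
      calc (c.out : G)⁻¹ * d.out * z =
          (c.out : G)⁻¹ * ((d.out : G) * z * (d.out : G)⁻¹) * d.out := by group
        _ = (c.out : G)⁻¹ * ((c.out : G) * z * (c.out : G)⁻¹) * d.out := by rw [h']
        _ = z * ((c.out : G)⁻¹ * d.out) := by group
    · rw [Nat.card_coe_set_eq]
      exact (Set.ncard_insert_le _ _).trans (by simp)
  have h2 := S.card_mul_index
  rw [hSc] at h2
  rw [← h2, mul_comm]
  exact Nat.mul_le_mul_right _ hidx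

theorem pow_mem_conj {y g : G} (h : g * y * g⁻¹ ∈ Subgroup.zpowers y) {v : G}
    (hv : v ∈ Subgroup.zpowers y) : g * v * g⁻¹ ∈ Subgroup.zpowers y := by
  obtain ⟨i, rfl⟩ := Subgroup.mem_zpowers_iff.1 hv
  rw [← conj_zpow]
  exact Subgroup.zpow_mem _ h i

theorem eq_or_eq_sq_of_order_three {y v : G} (hy : orderOf y = 3)
    (hv : v ∈ Subgroup.zpowers y) : v = 1 ∨ v = y ∨ v = y ^ 2 := by
  classical
  rw [mem_zpowers_iff_mem_range_orderOf, hy] at hv
  simp only [Finset.mem_image, Finset.mem_range] at hv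
  obtain ⟨i, hi, rfl⟩ := hv
  interval_cases i <;> simp

section

variable [IsSimpleGroup G] (hG : Nat.card G = 5616)

include hG

theorem false_of_index_thirteen {K : Subgroup G} (hK : K.index = 13) {y t : G}
    (hy : orderOf y = 3) (ht : t * t = 1) (ht1 : t ≠ 1) (hyK : y ∈ K) (htK : t ∈ K)
    (hyt : Commute y t) (hnorm : ∀ g ∈ K, g * y * g⁻¹ ∈ Subgroup.zpowers y) : False := by
  classical
  haveI := Fintype.ofFinite G
  obtain ⟨D⟩ := nonempty_data hG
  obtain ⟨x, hx⟩ := exists_values hG ht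
  obtain ⟨hA, -⟩ := values hG D ht ht1 x hx
  have hX : Nat.card (G ⧸ K) = 13 := by rw [← Subgroup.index_eq_card, hK]
  set π : G → ℂ := fun g => (Nat.card (MulAction.fixedBy (G ⧸ K) g) : ℂ) with hπ
  have hπc : IsCharacter G π := isCharacter_fixedBy
  choose m hm using fun χ : IrrCharacter G =>
    inner_char_nat hπc (isCharacter_of_irr χ.2)
  have hdec : ∀ g : G, π g = ∑ χ : IrrCharacter G, (m χ : ℂ) * (χ : G → ℂ) g := fun g => by
    conv_lhs => rw [classFun_eq_sum (isClassFunction_of_isCharacter hπc)]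
    simp [Finset.sum_apply, hm]
  have hm1 : m (principal G) = 1 := by
    have h := hm (principal G)
    rw [show (principal G : G → ℂ) = fun _ => 1 from funext fun g => principal_apply g, hπ,
      inner_fixedBy_one] at h
    have horb : Nat.card (MulAction.orbitRel.Quotient G (G ⧸ K)) = 1 := by
      rw [Nat.card_eq_one_iff_unique]
      refine ⟨⟨fun a b => ?_⟩, ⟨Quotient.mk'' (QuotientGroup.mk 1)⟩⟩
      obtain ⟨a, rfl⟩ := Quotient.mk''_surjective a
      obtain ⟨b, rfl⟩ := Quotient.mk''_surjective b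
      rw [Quotient.eq'', MulAction.orbitRel_apply, MulAction.mem_orbit_iff]
      exact MulAction.exists_smul_eq G b a
    rw [horb] at h
    exact_mod_cast h.symm
  have h13 : (13 : ℕ) = 1 + 12 * m D.a + 27 * m D.b + 16 * ∑ θ ∈ D.Y, m θ +
      ∑ χ ∈ D.F, m χ * charDegree (χ : G → ℂ) := by
    have h := hdec 1
    have h1 : π 1 = 13 := by
      rw [hπ]
      simp only
      rw [show MulAction.fixedBy (G ⧸ K) (1 : G) = Set.univ from
        Set.eq_univ_of_forall fun p => one_smul G p, Nat.card_univ, hX]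
      norm_num
    rw [h1, D.sum_all, hm1] at h
    simp only [deg_eq, principal_degree hG, D.ha, D.hb] at h
    rw [Finset.sum_congr rfl (fun θ hθ => by rw [D.hθ θ hθ] :
      ∀ θ ∈ D.Y, (m θ : ℂ) * (charDegree (θ : G → ℂ) : ℂ) = (m θ : ℂ) * ((16 : ℕ) : ℂ)),
      ← Finset.sum_mul, mul_comm (∑ θ ∈ D.Y, (m θ : ℂ))] at h
    norm_cast at h
    omega
  have hF0 : ∀ χ ∈ D.F, m χ = 0 := by
    intro χ hχ
    by_contra h0
    have h := Finset.single_le_sum (f := fun ψ => m ψ * charDegree (ψ : G → ℂ))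
      (fun _ _ => Nat.zero_le _) hχ
    obtain ⟨c, hc⟩ := D.hF χ hχ
    have hd0 := CfsgLib.Blocks.charDegree_pos χ
    have : 13 ≤ m χ * charDegree (χ : G → ℂ) := by
      rw [hc] at hd0 ⊢
      calc 13 = 1 * (13 * 1) := by norm_num
        _ ≤ m χ * (13 * c) := Nat.mul_le_mul (by omega) (by omega)
    omega
  have hY0 : ∀ θ ∈ D.Y, m θ = 0 := by
    intro θ hθ
    have h := Finset.single_le_sum (f := m) (fun _ _ => Nat.zero_le _) hθ
    omega
  have hFs : ∑ χ ∈ D.F, m χ * charDegree (χ : G → ℂ) = 0 :=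
    Finset.sum_eq_zero fun χ hχ => by rw [hF0 χ hχ, zero_mul]
  have hval : ∀ g : G, π g = 1 + (D.a : G → ℂ) g := by
    intro g
    rw [hdec g, D.sum_all, hm1, Finset.sum_eq_zero (s := D.Y) (fun θ hθ => by rw [hY0 θ hθ]; simp),
      Finset.sum_eq_zero (s := D.F) (fun χ hχ => by rw [hF0 χ hχ]; simp),
      show m D.a = 1 by omega, show m D.b = 0 by omega, principal_apply]
    simp
  have h2 : MulAction.IsMultiplyPretransitive G (G ⧸ K) 2 := by
    refine (isIrr_fixedBy_sub_one_iff (G := G) (X := G ⧸ K) (by omega)).1 ?_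
    have : (fun g : G => (Nat.card (MulAction.fixedBy (G ⧸ K) g) : ℂ) - 1) =
        (D.a : G → ℂ) := funext fun g => by rw [show (Nat.card _ : ℂ) = π g from rfl, hval g]; ring
    rw [this]
    exact D.a.2
  set x₀ : G ⧸ K := QuotientGroup.mk 1 with hx₀
  have hstab : ∀ g : G, g • x₀ = x₀ ↔ g ∈ K := fun g => by
    rw [hx₀, MulAction.Quotient.smul_mk, smul_eq_mul, mul_one, QuotientGroup.eq, mul_one,
      inv_mem_iff]
  have hfix : ∀ p : G ⧸ K, y • p = p → p = x₀ := by
    intro p hp
    by_contra hne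
    have hy1 : y = 1 := by
      refine toPermHom_injective (H := K) (fun h => by rw [h, Subgroup.index_top] at hK; omega) ?_
      refine (Equiv.ext fun q => ?_).trans (map_one _).symm
      show y • q = q
      by_cases hq : q = x₀
      · rw [hq, hstab]; exact hyK
      obtain ⟨g, hg0, hgp⟩ := MulAction.is_two_pretransitive_iff.1 h2 (Ne.symm hne) (Ne.symm hq)
      have hg : g⁻¹ * y * g⁻¹⁻¹ ∈ Subgroup.zpowers y := hnorm _ (inv_mem ((hstab g).1 hg0))
      rw [inv_inv] at hg
      have h3 : (g⁻¹ * y * g) • p = p :=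
        (Subgroup.zpowers_le (H := MulAction.stabilizer G p)).2 hp hg
      rw [← hgp, ← mul_smul]
      conv_rhs => rw [← h3, ← mul_smul]
      congr 1
      group
    rw [hy1, orderOf_one] at hy
    omega
  have hfix5 : Nat.card (MulAction.fixedBy (G ⧸ K) t) = 5 := by
    have h := hval t
    rw [← hx, hA, hπ] at h
    refine Nat.cast_injective (R := ℂ) (h.trans ?_)
    norm_num
  haveI := Fintype.ofFinite (MulAction.fixedBy (G ⧸ K) t)
  let f : Function.End (MulAction.fixedBy (G ⧸ K) t) := fun p => ⟨y • p.1, by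
    show t • (y • p.1) = y • p.1
    rw [← mul_smul, ← hyt.eq, mul_smul, show t • p.1 = p.1 from p.2]⟩
  have hf : f ^ (3 ^ 1) = 1 := funext fun p => Subtype.ext (by
    show y • y • y • p.1 = p.1
    rw [← mul_smul, ← mul_smul, show y * y * y = y ^ 3 by rw [pow_succ, sq], ← hy, pow_orderOf_eq_one,
      one_smul])
  haveI := Fact.mk Nat.prime_three
  have h := Equiv.Perm.card_fixedPoints_modEq hf
  rw [← Nat.card_eq_fintype_card, ← Nat.card_eq_fintype_card, hfix5] at h
  have h1 : Nat.card (Function.fixedPoints f) = 1 := by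
    rw [Nat.card_eq_one_iff_unique]
    refine ⟨⟨fun p q => ?_⟩, ⟨⟨⟨x₀, (hstab t).2 htK⟩, Subtype.ext ((hstab y).2 hyK)⟩⟩⟩
    exact Subtype.ext (Subtype.ext ((hfix _ (congrArg Subtype.val p.2)).trans
      (hfix _ (congrArg Subtype.val q.2)).symm))
  rw [h1] at h
  simp [Nat.ModEq] at h

/-- No subgroup of order three is normal in the centralizer of an involution. -/
theorem exists_not_normalized {t : G} (ht : t * t = 1) (ht1 : t ≠ 1) {y : G} (hy : orderOf y = 3)
    (hyt : Commute y t) :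
    ∃ c : G, Commute c t ∧ c * y * c⁻¹ ∉ Subgroup.zpowers y := by
  classical
  by_contra hcon
  push Not at hcon
  haveI := Fact.mk Nat.prime_three
  haveI := Fact.mk Nat.prime_two
  set Y := Subgroup.zpowers y with hY
  set C := Subgroup.centralizer ({t} : Set G) with hC
  have hC48 : Nat.card C = 48 := card_centralizer hG ht ht1
  set K := Subgroup.normalizer (Y : Set G) with hK
  have hKiff : ∀ g : G, g ∈ K ↔ g * y * g⁻¹ ∈ Y := by
    intro g
    refine ⟨fun h => (Subgroup.mem_normalizer_iff.1 h y).1 (Subgroup.mem_zpowers y),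
      fun h => Subgroup.mem_normalizer_iff.2 fun v => ⟨pow_mem_conj h, fun hv => ?_⟩⟩
    have hinj : Function.Injective fun v : Y => (⟨g * v.1 * g⁻¹, pow_mem_conj h v.2⟩ : Y) :=
      fun a b hab => Subtype.ext (by simpa using congrArg Subtype.val hab)
    obtain ⟨⟨v', hv'⟩, hv''⟩ := (Finite.injective_iff_surjective.1 hinj) ⟨_, hv⟩
    obtain rfl : v' = v := by simpa using congrArg Subtype.val hv''
    exact hv'
  have hmemC : ∀ g : G, g ∈ C ↔ Commute g t := fun g => Subgroup.mem_centralizer_singleton_iff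
  have hCK : C ≤ K := fun g hg => (hKiff g).2 (hcon g ((hmemC g).1 hg))
  have hyC : y ∈ C := (hmemC y).2 hyt
  have htC : t ∈ C := (hmemC t).2 (Commute.refl t)
  set Cy := Subgroup.centralizer ({y} : Set G) with hCy
  have hmemY : ∀ g : G, g ∈ Cy ↔ Commute g y := fun g => Subgroup.mem_centralizer_singleton_iff
  have hCyK : Cy ≤ K := fun g hg => (hKiff g).2 (by
    rw [((hmemY g).1 hg).eq, mul_inv_cancel_right]; exact Subgroup.mem_zpowers y)
  -- a subgroup of order nine centralizing `y`
  have h9 : 9 ∣ Nat.card Cy := by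
    obtain ⟨P, hP⟩ := (IsPGroup.of_card (p := 3) (n := 1)
      (by rw [Nat.card_zpowers, hy, pow_one]) : IsPGroup 3 Y).exists_le_sylow
    have hPc : Nat.card (P : Subgroup G) = 27 := by
      simpa using card_sylow_eq (p := 3) 3 208 (by rw [hG]; rfl) (by norm_num) P
    set Q := (P : Subgroup G) ⊓ Cy with hQ
    have hQd : Nat.card Q ∣ 3 ^ 3 :=
      (Subgroup.card_dvd_of_le (inf_le_left : Q ≤ P)).trans (by rw [hPc]; norm_num)
    obtain ⟨i, hi3, hi⟩ := (Nat.dvd_prime_pow Nat.prime_three).1 hQd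
    have hQC : Nat.card Q ∣ Nat.card Cy := Subgroup.card_dvd_of_le inf_le_right
    rw [hi] at hQC
    have hYQ : Y ≤ Q := le_inf hP (Subgroup.zpowers_le.2 ((hmemY y).2 (Commute.refl y)))
    have h3 := Subgroup.card_dvd_of_le hYQ
    rw [Nat.card_zpowers, hy, hi] at h3
    rcases Nat.lt_or_ge i 2 with hlt | hge
    · exfalso
      obtain rfl : i = 1 := by
        rcases i with _ | _ | i
        · norm_num at h3
        · rfl
        · omega
      have hQY : Q = Y := (Subgroup.eq_of_le_of_card_ge hYQ (by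
        rw [hi, Nat.card_zpowers, hy]; norm_num)).symm
      haveI : Nontrivial (P : Subgroup G) := Finite.one_lt_card_iff_nontrivial.1 (by omega)
      haveI := P.isPGroup'.center_nontrivial
      obtain ⟨⟨⟨z, hzP⟩, hz⟩, hz1⟩ := exists_ne (1 : Subgroup.center (P : Subgroup G))
      have hzc : ∀ p ∈ (P : Subgroup G), p * z = z * p := fun p hp =>
        congrArg Subtype.val (Subgroup.mem_center_iff.1 hz ⟨p, hp⟩)
      have hzY : z ∈ Y := hQY ▸ ⟨hzP, (hmemY z).2 (hzc y (hP (Subgroup.mem_zpowers y))).symm⟩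
      have hyz : Commute y z → ∀ p ∈ (P : Subgroup G), Commute p y := by
        intro _ p hp
        have hc : Commute p z := hzc p hp
        rcases eq_or_eq_sq_of_order_three hy hzY with h | h | h
        · exact absurd (Subtype.ext (Subtype.ext h)) hz1
        · exact h ▸ hc
        · have h4 : y = z ^ 2 := by
            rw [h, ← pow_mul, show 2 * 2 = 3 + 1 by rfl, pow_succ, ← hy, pow_orderOf_eq_one,
              one_mul]
          rw [h4]
          exact hc.pow_right 2
      have hPQ : (P : Subgroup G) ≤ Q := le_inf le_rfl fun p hp =>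
        (hmemY p).2 (hyz (hzc y (hP (Subgroup.mem_zpowers y))) p hp)
      have := Subgroup.card_dvd_of_le hPQ
      rw [hPc, hi] at this
      norm_num at this
    · exact (pow_dvd_pow 3 hge).trans hQC
  obtain ⟨A', hA'⟩ := Sylow.exists_subgroup_card_pow_prime (G := Cy) 3 (n := 2) h9
  -- the order of the normalizer
  have hK144 : 144 ∣ Nat.card K :=
    Nat.lcm_dvd (m := 48) (n := 9) (hC48 ▸ Subgroup.card_dvd_of_le hCK)
      (h9.trans (Subgroup.card_dvd_of_le hCyK))
  have hKmul := K.card_mul_index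
  rw [hG] at hKmul
  have hidx : Nat.card K = 144 ∨ Nat.card K = 432 ∧ K.index = 13 := by
    obtain ⟨q, hq⟩ := hK144
    rw [hq] at hKmul
    have hd : K.index ∣ 39 := ⟨q, by
      have : 144 * (q * K.index) = 5616 := by rw [← mul_assoc]; exact hKmul
      rw [mul_comm]; omega⟩
    have key : ∀ d < 40, d ∣ 39 → d = 1 ∨ d = 3 ∨ d = 13 ∨ d = 39 := by decide +kernel
    rcases key _ (Nat.lt_succ_of_le (Nat.le_of_dvd (by norm_num) hd)) hd with h | h | h | h
    · exfalso
      rw [Subgroup.index_eq_one, hK] at h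
      rcases (Subgroup.normalizer_eq_top_iff.1 h).eq_bot_or_eq_top with h' | h'
      · have : Nat.card Y = 3 := by rw [Nat.card_zpowers, hy]
        rw [h', Subgroup.card_bot] at this
        omega
      · have : Nat.card Y = 3 := by rw [Nat.card_zpowers, hy]
        rw [h', Subgroup.card_top, hG] at this
        omega
    · exfalso
      have h' := two_mul_card_dvd_factorial (nonabelian hG) (H := K)
        (fun h' => by rw [h', Subgroup.index_top] at h; omega)
      rw [hG, h] at h'
      norm_num [Nat.factorial] at h'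
    · exact Or.inr ⟨by rw [h] at hKmul; omega, h⟩
    · exact Or.inl (by rw [h] at hKmul; omega)
  rcases hidx with hK144' | ⟨-, h13⟩
  swap
  · exact false_of_index_thirteen hG h13 hy ht ht1 (hCK hyC) (hCK htC) hyt
      fun g hg => (hKiff g).1 hg
  -- the involutions centralizing `y`
  have huniq : ∀ v : G, orderOf v = 3 → Commute v t → v ∈ Y := by
    intro v hv hvt
    have hYC : Y ≤ C := Subgroup.zpowers_le.2 hyC
    haveI : (Y.subgroupOf C).Normal := Subgroup.normal_subgroupOf_of_le_normalizer hCK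
    have hcq : Nat.card (C ⧸ Y.subgroupOf C) = 16 := by
      have h := (Y.subgroupOf C).card_mul_index
      rw [Nat.card_congr (Subgroup.subgroupOfEquivOfLe hYC).toEquiv, Nat.card_zpowers, hy, hC48,
        Subgroup.index_eq_card] at h
      omega
    set q : C ⧸ Y.subgroupOf C := QuotientGroup.mk' _ ⟨v, (hmemC v).2 hvt⟩ with hq
    have h1 : orderOf q ∣ 3 := by
      refine (orderOf_map_dvd _ _).trans ?_
      rw [Subgroup.orderOf_mk, hv]
    have h2 : orderOf q ∣ 16 := hcq ▸ orderOf_dvd_natCard q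
    have h3 := orderOf_eq_one_iff.1 (Nat.eq_one_of_dvd_coprimes (by norm_num) h1 h2)
    exact (QuotientGroup.eq_one_iff (N := Y.subgroupOf C) _).1 h3
  let inM : G → Prop := fun s => s * s = 1 ∧ s ≠ 1 ∧ Commute s y
  have hMK : ∀ s, inM s → ∃ g ∈ K, g * t * g⁻¹ = s := by
    rintro s ⟨hs, hs1, hsy⟩
    obtain ⟨g, hg⟩ := isConj_iff.1 (isConj_of_involution hG ht ht1 hs hs1)
    refine ⟨g, ?_, hg⟩
    have hv : g⁻¹ * y * g ∈ Y := by
      refine huniq _ ?_ ?_
      · rw [← hy]
        simpa using (MulEquiv.orderOf_eq (MulAut.conj g⁻¹) y)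
      · have h : t = g⁻¹ * s * g := by rw [← hg]; group
        rw [h, Commute, SemiconjBy]
        calc g⁻¹ * y * g * (g⁻¹ * s * g) = g⁻¹ * (y * s) * g := by group
          _ = g⁻¹ * (s * y) * g := by rw [hsy.eq]
          _ = g⁻¹ * s * g * (g⁻¹ * y * g) := by group
    exact inv_mem_iff.1 ((hKiff g⁻¹).2 (by rw [inv_inv]; exact hv))
  have hKM : ∀ g ∈ K, ∀ s, inM s → inM (g * s * g⁻¹) := by
    rintro g hg s ⟨hs, hs1, hsy⟩
    refine ⟨by rw [← sq, conj_pow, sq, hs, mul_one, mul_inv_cancel],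
      fun h => hs1 (conj_eq_one_iff.1 h), ?_⟩
    have hv : g⁻¹ * y * g ∈ Y := by
      have h := (hKiff g⁻¹).1 (inv_mem hg)
      rwa [inv_inv] at h
    obtain ⟨i, hi⟩ := Subgroup.mem_zpowers_iff.1 hv
    have h := (hsy.zpow_right i)
    rw [hi] at h
    rw [Commute, SemiconjBy]
    calc g * s * g⁻¹ * y = g * (s * (g⁻¹ * y * g)) * g⁻¹ := by group
      _ = g * (g⁻¹ * y * g * s) * g⁻¹ := by rw [h.eq]
      _ = y * (g * s * g⁻¹) := by group
  have htM : inM t := ⟨ht, ht1, hyt.symm⟩
  have hM3 : Nat.card {s : G // inM s} = 3 := by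
    haveI := Fintype.ofFinite {s : G // inM s}
    let φ : K → {s : G // inM s} := fun g => ⟨g.1 * t * g.1⁻¹, hKM _ g.2 t htM⟩
    have hfib : ∀ s, Nat.card {g : K // φ g = s} = 48 := by
      rintro ⟨s, hs⟩
      obtain ⟨g₀, hg₀, hgs⟩ := hMK s hs
      rw [← hC48]
      refine Nat.card_congr ⟨fun a => ⟨g₀⁻¹ * a.1.1, (hmemC _).2 ?_⟩,
        fun c => ⟨⟨g₀ * c.1, mul_mem hg₀ (hCK c.2)⟩, Subtype.ext ?_⟩,
        fun a => Subtype.ext (Subtype.ext (mul_inv_cancel_left g₀ a.1.1)),
        fun c => Subtype.ext (inv_mul_cancel_left g₀ c.1)⟩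
      · have h : a.1.1 * t * a.1.1⁻¹ = g₀ * t * g₀⁻¹ :=
          (congrArg Subtype.val a.2).trans hgs.symm
        rw [mul_inv_eq_iff_eq_mul] at h
        rw [Commute, SemiconjBy, mul_assoc, h]
        group
      · refine Eq.trans ?_ hgs
        show g₀ * c.1 * t * (g₀ * c.1)⁻¹ = g₀ * t * g₀⁻¹
        rw [mul_assoc g₀, ((hmemC _).1 c.2).eq]
        group
    have h := Nat.card_congr (Equiv.sigmaFiberEquiv φ)
    rw [Nat.card_sigma, Finset.sum_congr rfl (fun s _ => hfib s), Finset.sum_const,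
      Finset.card_univ, ← Nat.card_eq_fintype_card, hK144', smul_eq_mul] at h
    omega
  set M := {s : G | inM s} with hMdef
  have hMn : M.ncard = 3 := by rw [← Nat.card_coe_set_eq]; exact hM3
  obtain ⟨t₁, t₂, ht12, ht1', ht2', hMeq⟩ : ∃ t₁ t₂, t₁ ≠ t₂ ∧ t₁ ≠ t ∧ t₂ ≠ t ∧
      M = {t, t₁, t₂} := by
    have h2 : (M \ {t}).ncard = 2 := by
      rw [Set.ncard_diff_singleton_of_mem (show t ∈ M from htM), hMn]
    obtain ⟨t₁, t₂, h12, he⟩ := Set.ncard_eq_two.1 h2
    refine ⟨t₁, t₂, h12, ?_, ?_, ?_⟩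
    · exact fun h => (he.symm ▸ Set.mem_insert _ _ : t₁ ∈ M \ {t}).2 h
    · exact fun h => (he.symm ▸ Set.mem_insert_of_mem _ rfl : t₂ ∈ M \ {t}).2 h
    · rw [← he, Set.insert_diff_self_of_mem (show t ∈ M from htM)]
  have hMcases : ∀ s, inM s → s = t ∨ s = t₁ ∨ s = t₂ := fun s hs => by
    have : s ∈ ({t, t₁, t₂} : Set G) := hMeq ▸ hs
    simpa using this
  have hM1 : inM t₁ := show t₁ ∈ M by rw [hMeq]; simp
  have hM2 : inM t₂ := show t₂ ∈ M by rw [hMeq]; simp
  -- the part of the centralizer of `t` centralizing `y`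
  set E := C ⊓ Cy with hE
  have hmemE : ∀ e : G, e ∈ E ↔ Commute e t ∧ Commute e y := fun e => by
    rw [hE, Subgroup.mem_inf, hmemC, hmemY]
  have hE24 : 24 ≤ Nat.card E := by
    have h := card_le_two_mul C y y (y ^ 2) fun e he => by
      have h := hcon e ((hmemC e).1 he)
      rcases eq_or_eq_sq_of_order_three hy h with h | h | h
      · rw [conj_eq_one_iff] at h
        rw [h, orderOf_one] at hy
        omega
      · exact Or.inl h
      · exact Or.inr h
    rw [hC48, ← hCy, ← hE] at h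
    omega
  have hEdvd : Nat.card E ∣ 48 := hC48 ▸ Subgroup.card_dvd_of_le inf_le_left
  have hEK : E ≤ K := inf_le_left.trans hCK
  have hEperm : ∀ e ∈ E, e * t₁ * e⁻¹ = t₁ ∨ e * t₁ * e⁻¹ = t₂ := by
    intro e he
    rcases hMcases _ (hKM e (hEK he) t₁ hM1) with h | h | h
    · exfalso
      apply ht1'
      have h' : e * t * e⁻¹ = t := by rw [((hmemE e).1 he).1.eq, mul_inv_cancel_right]
      exact mul_left_cancel (mul_right_cancel (h.trans h'.symm))
    · exact Or.inl h
    · exact Or.inr h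
  -- the involutions of `M` commute
  have hfix1 : ∀ e ∈ E, Commute e t₁ → Commute e t₂ := by
    intro e he h1
    rcases hMcases _ (hKM e (hEK he) t₂ hM2) with h | h | h
    · exfalso
      apply ht2'
      have h' : e * t * e⁻¹ = t := by rw [((hmemE e).1 he).1.eq, mul_inv_cancel_right]
      exact mul_left_cancel (mul_right_cancel (h.trans h'.symm))
    · exfalso
      apply ht12
      have h' : e * t₁ * e⁻¹ = t₁ := by rw [h1.eq, mul_inv_cancel_right]
      exact (mul_left_cancel (mul_right_cancel (h.trans h'.symm))).symm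
    · exact mul_inv_eq_iff_eq_mul.1 h
  obtain ⟨s₀, hs₀, hs₀all⟩ : ∃ s₀, inM s₀ ∧ ∀ s, inM s → Commute s₀ s := by
    set W := E ⊓ Subgroup.centralizer ({t₁} : Set G) with hW
    have hW2 : 2 ∣ Nat.card W := by
      have h := card_le_two_mul E t₁ t₁ t₂ hEperm
      rw [← hW] at h
      have h' := (Subgroup.card_dvd_of_le (inf_le_left : W ≤ E)).trans hEdvd
      have key : ∀ d < 49, d ∣ 48 → 12 ≤ d → 2 ∣ d := by decide +kernel
      exact key _ (Nat.lt_succ_of_le (Nat.le_of_dvd (by norm_num) h')) h' (by omega)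
    obtain ⟨⟨s, hsW⟩, hso⟩ := exists_prime_orderOf_dvd_card' 2 hW2
    rw [Subgroup.orderOf_mk] at hso
    obtain ⟨hsE, hs1⟩ := Subgroup.mem_inf.1 hsW
    have hs1' : Commute s t₁ := Subgroup.mem_centralizer_singleton_iff.1 hs1
    have hsM : inM s := ⟨by rw [← sq, ← hso, pow_orderOf_eq_one],
      fun h => by rw [h, orderOf_one] at hso; omega, ((hmemE s).1 hsE).2⟩
    refine ⟨s, hsM, fun v hv => ?_⟩
    rcases hMcases v hv with rfl | rfl | rfl
    · exact ((hmemE s).1 hsE).1
    · exact hs1'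
    · exact hfix1 s hsE hs1'
  have hMcomm : ∀ a b, inM a → inM b → Commute a b := by
    intro a b ha hb
    obtain ⟨g₁, hg₁, hg₁s⟩ := hMK a ha
    obtain ⟨g₀, hg₀, hg₀s⟩ := hMK s₀ hs₀
    set g := g₁ * g₀⁻¹ with hgdef
    have hgK : g ∈ K := mul_mem hg₁ (inv_mem hg₀)
    have hga : g * s₀ * g⁻¹ = a := by rw [hgdef, ← hg₀s, ← hg₁s]; group
    have hb' : inM (g⁻¹ * b * g⁻¹⁻¹) := hKM _ (inv_mem hgK) b hb
    have h := hs₀all _ hb'
    rw [← hga, Commute, SemiconjBy]
    calc g * s₀ * g⁻¹ * b = g * (s₀ * (g⁻¹ * b * g⁻¹⁻¹)) * g⁻¹ := by group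
      _ = g * (g⁻¹ * b * g⁻¹⁻¹ * s₀) * g⁻¹ := by rw [h.eq]
      _ = b * (g * s₀ * g⁻¹) := by group
  have htt : t * t₁ = t₂ := by
    have hc := hMcomm t t₁ htM hM1
    rcases hMcases (t * t₁) ⟨by rw [hc.symm.mul_mul_mul_comm, ht, hM1.1, one_mul],
      fun h => ht1' (by rw [eq_inv_of_mul_eq_one_right h, inv_eq_of_mul_eq_one_left ht]),
      htM.2.2.mul_left hM1.2.2⟩ with h | h | h
    · exact absurd (mul_eq_left.1 h) hM1.2.1
    · exact absurd (mul_eq_right.1 h) ht1
    · exact h
  -- `E` is proper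
  have hEne : Nat.card E = 24 := by
    have key : ∀ d < 49, d ∣ 48 → 24 ≤ d → d = 24 ∨ d = 48 := by decide +kernel
    refine (key _ (Nat.lt_succ_of_le (Nat.le_of_dvd (by norm_num) hEdvd)) hEdvd hE24).resolve_right
      fun h48 => ?_
    have hEC : E = C := Subgroup.eq_of_le_of_card_ge inf_le_left (by rw [hC48, h48])
    have hle : Nat.card {s : G // s * s = 1 ∧ s ≠ 1 ∧ s ≠ t ∧ Commute s t} ≤ 2 := by
      refine (Nat.card_le_card_of_injective (fun s => (⟨s.1, ?_⟩ : ({t₁, t₂} : Set G)))
        (fun a b h => Subtype.ext (Subtype.mk.inj h))).trans ?_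
      · have hsE : s.1 ∈ E := by rw [hEC]; exact (hmemC _).2 s.2.2.2.2
        rcases hMcases _ ⟨s.2.1, s.2.2.1, ((hmemE _).1 hsE).2⟩ with h | h | h
        · exact absurd h s.2.2.2.1
        · simp [h]
        · simp [h]
      · rw [Nat.card_coe_set_eq]
        exact (Set.ncard_insert_le _ _).trans (by simp)
    rcases card_twins hG ht ht1 with h | h | h <;> omega
  -- every element of `E` fixes `M`
  have hinM : ∀ {v : G}, v ∈ E → v * v = 1 → v ≠ 1 → inM v := fun hv h h1 =>
    ⟨h, h1, ((hmemE _).1 hv).2⟩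
  have ht1E : t₁ ∈ E := (hmemE _).2 ⟨hMcomm t₁ t hM1 htM, hM1.2.2⟩
  have hEfix : ∀ e ∈ E, Commute e t₁ := by
    by_contra hne
    push Not at hne
    obtain ⟨e, heE, he⟩ := hne
    have hswap : ∀ v ∈ E, v * t₁ * v⁻¹ = t₂ → v * t₂ * v⁻¹ = t₁ := by
      intro v hv h
      rw [← htt, show v * (t * t₁) * v⁻¹ = v * t * v⁻¹ * (v * t₁ * v⁻¹) by group, h,
        show v * t * v⁻¹ = t by rw [((hmemE v).1 hv).1.eq, mul_inv_cancel_right], ← htt,
        ← mul_assoc, ht, one_mul]
    have he₂ : e * t₁ * e⁻¹ = t₂ :=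
      (hEperm e heE).resolve_left fun h => he (mul_inv_eq_iff_eq_mul.1 h)
    set d := e ^ 3 with hd
    have hdE : d ∈ E := pow_mem heE 3
    have hd₂ : d * t₁ * d⁻¹ = t₂ := by
      rw [hd, show e ^ 3 * t₁ * (e ^ 3)⁻¹ = e * (e * (e * t₁ * e⁻¹) * e⁻¹) * e⁻¹ by
        simp only [pow_succ, pow_zero, one_mul, mul_inv_rev, mul_assoc], he₂,
        hswap e heE he₂, he₂]
    have hd8 : d ^ 8 = 1 := by
      rw [hd, ← pow_mul]
      have h := pow_card_eq_one' (x := (⟨e, heE⟩ : E))
      rw [hEne] at h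
      exact congrArg Subtype.val h
    have hdd : d ^ 2 * t₁ = t₁ * d ^ 2 := by
      refine mul_inv_eq_iff_eq_mul.1 ?_
      rw [show d ^ 2 * t₁ * (d ^ 2)⁻¹ = d * (d * t₁ * d⁻¹) * d⁻¹ by
        simp only [pow_succ, pow_zero, one_mul, mul_inv_rev, mul_assoc], hd₂,
        hswap d hdE hd₂]
    have hnc : ¬ Commute d t₁ := fun h => ht12 (by
      rw [← hd₂, h.eq, mul_inv_cancel_right])
    have hd21 : d * d ≠ 1 := fun h => by
      by_cases h1 : d = 1
      · exact hnc (h1 ▸ Commute.one_left t₁)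
      · exact hnc (hMcomm d t₁ (hinM hdE h h1) hM1)
    by_cases hd4 : d ^ 4 = 1
    · have hq : inM (d * d) := hinM (mul_mem hdE hdE) (by
        rw [← hd4]; simp only [pow_succ, pow_zero, one_mul, mul_assoc]) hd21
      rcases hMcases _ hq with h | h | h
      · have hv2 : d * t₁ * (d * t₁) = 1 := by
          have h5 : d * t₁ = t₂ * d := mul_inv_eq_iff_eq_mul.1 hd₂
          calc d * t₁ * (d * t₁) = t₂ * (d * d) * t₁ := by
                nth_rewrite 1 [h5]; group
            _ = t₂ * t * t₁ := by rw [h]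
            _ = 1 := by rw [mul_assoc, htt, hM2.1]
        have hv1 : d * t₁ ≠ 1 := fun h' => hnc (by
          rw [eq_inv_of_mul_eq_one_left h']; exact (Commute.refl t₁).inv_left)
        have hvc := hMcomm _ t₁ (hinM (mul_mem hdE ht1E) hv2 hv1) hM1
        exact hnc (mul_right_cancel (b := t₁) (by rw [hvc.eq, mul_assoc]))
      · apply hnc
        rw [← h]
        exact ((Commute.refl d).mul_right (Commute.refl d))
      · apply ht12
        have h6 : d * t₂ * d⁻¹ = t₂ := by rw [← h]; group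
        rw [← hswap d hdE hd₂, h6]
    · have hdo : orderOf d = 2 ^ 3 := orderOf_eq_prime_pow (by simpa using hd4) (by simpa using hd8)
      haveI := Fintype.ofFinite E
      let S : Sylow 2 E := Sylow.ofCard (Subgroup.zpowers (⟨d, hdE⟩ : E)) (by
        rw [Nat.card_zpowers, Subgroup.orderOf_mk, hdo, hEne, show (24 : ℕ) = 2 ^ 3 * 3 by rfl,
          Nat.factorization_mul (by norm_num) (by norm_num), Nat.Prime.factorization_pow Nat.prime_two]
        simp [show (3 : ℕ).factorization 2 = 0 from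
          Nat.factorization_eq_zero_of_not_dvd (by norm_num)])
      have ho1 : orderOf (⟨t₁, ht1E⟩ : E) = 2 :=
        orderOf_eq_prime (Subtype.ext (by rw [SubgroupClass.coe_pow, sq]; exact hM1.1))
          (fun h => hM1.2.1 (congrArg Subtype.val h))
      obtain ⟨Q, hQ⟩ := (IsPGroup.of_card (p := 2) (n := 1) (by rw [Nat.card_zpowers, ho1, pow_one]) :
        IsPGroup 2 (Subgroup.zpowers (⟨t₁, ht1E⟩ : E))).exists_le_sylow
      obtain ⟨g, hg⟩ := MulAction.exists_smul_eq E Q S
      have hmem : g * ⟨t₁, ht1E⟩ * g⁻¹ ∈ (S : Subgroup E) := by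
        rw [← hg, Sylow.smul_def]
        exact ⟨_, hQ (Subgroup.mem_zpowers _), rfl⟩
      rw [Sylow.coe_ofCard, mem_zpowers_iff_mem_range_orderOf, Subgroup.orderOf_mk, hdo] at hmem
      simp only [Finset.mem_image, Finset.mem_range] at hmem
      obtain ⟨i, hi, hig⟩ := hmem
      have hig' : d ^ i = g.1 * t₁ * g.1⁻¹ := congrArg Subtype.val hig
      have hsq : d ^ (2 * i) = 1 := by
        rw [two_mul, pow_add, hig']
        rw [← sq, conj_pow, sq, hM1.1, mul_one, mul_inv_cancel]
      have h8 := orderOf_dvd_of_pow_eq_one hsq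
      rw [hdo] at h8
      have hi4 : i = 0 ∨ i = 4 := by
        obtain ⟨c, hc⟩ := h8
        norm_num at hi hc
        omega
      rcases hi4 with rfl | rfl
      · rw [pow_zero, eq_comm, conj_eq_one_iff] at hig'
        exact hM1.2.1 hig'
      · have hc4 : Commute (d ^ 4) d := (Commute.refl d).pow_left 4
        have hd4M : inM (d ^ 4) := hinM (pow_mem hdE 4) (by rw [← pow_add]; exact hd8) hd4
        rcases hMcases _ hd4M with h | h | h
        · apply ht1'
          rw [h] at hig'
          have hgt : g.1 * t * g.1⁻¹ = t := by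
            rw [((hmemE g.1).1 g.2).1.eq, mul_inv_cancel_right]
          exact mul_left_cancel (mul_right_cancel (hig'.symm.trans hgt.symm))
        · exact hnc (h ▸ hc4.symm)
        · apply ht12
          rw [← hswap d hdE hd₂, ← h, hc4.symm.eq, mul_inv_cancel_right]
  have hEall : ∀ e ∈ E, ∀ s, inM s → Commute e s := by
    intro e he s hs
    rcases hMcases s hs with rfl | rfl | rfl
    · exact ((hmemE e).1 he).1
    · exact hEfix e he
    · exact hfix1 e he (hEfix e he)
  -- the Sylow two-subgroup of `E`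
  obtain ⟨S⟩ : Nonempty (Sylow 2 E) := inferInstance
  have hS8 : Nat.card (S : Subgroup E) = 8 := by
    simpa using card_sylow_eq (p := 2) 3 3 (by rw [hEne]; rfl) (by norm_num) S
  have hyE : y ∈ E := (hmemE y).2 ⟨hyt, Commute.refl y⟩
  have hSn : (S : Subgroup E).Normal := by
    rw [← Subgroup.normalizer_eq_top_iff]
    refine Subgroup.eq_top_of_card_eq _ ?_
    have h1 := Subgroup.card_dvd_of_le (Subgroup.le_normalizer (H := (S : Subgroup E)))
    have hyN : (⟨y, hyE⟩ : E) ∈ Subgroup.normalizer ((S : Subgroup E) : Set E) := by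
      rw [Subgroup.mem_normalizer_iff]
      intro v
      rw [show (⟨y, hyE⟩ : E) * v * (⟨y, hyE⟩ : E)⁻¹ = v from Subtype.ext (by
        show y * v.1 * y⁻¹ = v.1
        rw [← ((hmemE v.1).1 v.2).2.eq, mul_inv_cancel_right])]
    have h2 := Subgroup.orderOf_dvd_natCard _ hyN
    rw [Subgroup.orderOf_mk, hy] at h2
    rw [hS8] at h1
    have h3 := Subgroup.card_subgroup_dvd_card (Subgroup.normalizer ((S : Subgroup E) : Set E))
    have h4 := Nat.lcm_dvd h1 h2
    exact Nat.dvd_antisymm h3 (by rw [hEne]; exact h4)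
  haveI := hSn
  haveI : Subsingleton (Sylow 2 E) := ⟨fun a b => by
    obtain ⟨g, hga⟩ := MulAction.exists_smul_eq E S a
    obtain ⟨g', hgb⟩ := MulAction.exists_smul_eq E S b
    rw [Sylow.smul_eq_of_normal] at hga hgb
    rw [← hga, ← hgb]⟩
  have hinS : ∀ v : E, v ^ 8 = 1 → v ∈ (S : Subgroup E) := by
    intro v hv
    obtain ⟨k, -, hk⟩ := (Nat.dvd_prime_pow Nat.prime_two).1
      (show orderOf v ∣ 2 ^ 3 from orderOf_dvd_of_pow_eq_one hv)
    obtain ⟨Q, hQ⟩ := (IsPGroup.of_card (p := 2) (n := k) (by rw [Nat.card_zpowers, hk]) :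
      IsPGroup 2 (Subgroup.zpowers v)).exists_le_sylow
    rw [← Subsingleton.elim Q S]
    exact hQ (Subgroup.mem_zpowers v)
  -- the squares
  set V : Set (S : Subgroup E) := {v | ((v.1 : E) : G) = 1 ∨ inM ((v.1 : E) : G)} with hV
  have hV1 : ∀ v : (S : Subgroup E), v ∈ V ↔ v * v = 1 := by
    intro v
    constructor
    · rintro (h | h)
      · exact Subtype.ext (Subtype.ext (by
          show (v.1 : G) * (v.1 : G) = 1
          rw [h, one_mul]))
      · exact Subtype.ext (Subtype.ext h.1)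
    · intro h
      by_cases h1 : ((v.1 : E) : G) = 1
      · exact Or.inl h1
      · exact Or.inr (hinM v.1.2 (congrArg (fun q : (S : Subgroup E) => ((q.1 : E) : G)) h) h1)
  have hVcomm : ∀ a ∈ V, ∀ b : (S : Subgroup E), Commute a b := by
    intro a ha b
    refine Subtype.ext (Subtype.ext ?_)
    show (a.1 : G) * (b.1 : G) = (b.1 : G) * (a.1 : G)
    rcases ha with h | h
    · rw [h, one_mul, mul_one]
    · exact (hEall _ b.1.2 _ h).eq.symm
  let VS : Subgroup (S : Subgroup E) :=
    { carrier := V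
      one_mem' := (hV1 1).2 (one_mul 1)
      mul_mem' := fun {a b} ha hb => (hV1 _).2 (by
        rw [(hVcomm b hb a).mul_mul_mul_comm, (hV1 a).1 ha, (hV1 b).1 hb, one_mul])
      inv_mem' := fun {a} ha => (hV1 _).2 (by rw [← mul_inv_rev, (hV1 a).1 ha, inv_one]) }
  have hVS : Nat.card VS = 4 := by
    have e : VS ≃ ({1, t, t₁, t₂} : Set G) := by
      refine Equiv.ofBijective (fun v => ⟨((v.1.1 : E) : G), ?_⟩) ⟨?_, ?_⟩
      · rcases v.2 with h | h
        · simp [h]
        · rcases hMcases _ h with h | h | h <;> simp [h]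
      · intro a b h
        exact Subtype.ext (Subtype.ext (Subtype.ext (Subtype.mk.inj h)))
      · rintro ⟨g, hg⟩
        have hg' : g = 1 ∨ inM g := by
          simp only [Set.mem_insert_iff, Set.mem_singleton_iff] at hg
          rcases hg with rfl | rfl | rfl | rfl
          exacts [Or.inl rfl, Or.inr htM, Or.inr hM1, Or.inr hM2]
        have hgE : g ∈ E := by
          rcases hg' with rfl | h
          · exact one_mem _
          · exact (hmemE g).2 ⟨hMcomm g t h htM, h.2.2⟩
        have hgS : (⟨g, hgE⟩ : E) ∈ (S : Subgroup E) := hinS _ (Subtype.ext (by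
          rw [SubgroupClass.coe_pow]
          rcases hg' with rfl | h
          · exact one_pow 8
          · rw [show (8 : ℕ) = 2 * 4 from rfl, pow_mul, sq, h.1]; exact one_pow 4))
        exact ⟨⟨⟨⟨g, hgE⟩, hgS⟩, hg'⟩, rfl⟩
    rw [Nat.card_congr e, Nat.card_coe_set_eq]
    rw [Set.ncard_insert_of_notMem (by simp [ht1.symm, hM1.2.1.symm, hM2.2.1.symm]),
      Set.ncard_insert_of_notMem (by simp [ht1'.symm, ht2'.symm]), Set.ncard_pair ht12]
  have hVi : VS.index = 2 := by
    have h := VS.card_mul_index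
    rw [hVS, hS8] at h
    omega
  obtain ⟨d, hd⟩ : ∃ d : (S : Subgroup E), d ∉ VS := by
    by_contra h
    push Not at h
    rw [show VS = ⊤ from eq_top_iff.2 fun v _ => h v, Subgroup.index_top] at hVi
    omega
  have hsquare : ∀ v : (S : Subgroup E), v ∉ VS → v * v = d * d := by
    intro v hv
    have hm : d⁻¹ * v ∈ VS := by
      rw [Subgroup.mul_mem_iff_of_index_two hVi]
      simp [hd, hv]
    have hc := hVcomm _ hm d
    calc v * v = d * (d⁻¹ * v * d) * (d⁻¹ * v) := by group
      _ = d * (d * (d⁻¹ * v)) * (d⁻¹ * v) := by rw [hc.eq]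
      _ = d * d * ((d⁻¹ * v) * (d⁻¹ * v)) := by group
      _ = d * d := by rw [(hV1 _).1 hm, mul_one]
  set q : G := ((d.1 : E) : G) * ((d.1 : E) : G) with hq
  have hqM : inM q := by
    have h1 : d * d ≠ 1 := fun h => hd ((hV1 d).2 h)
    have hm : d * d ∈ VS := Subgroup.mul_self_mem_of_index_two hVi d
    rcases hm with h | h
    · exact absurd (Subtype.ext (Subtype.ext h)) h1
    · exact h
  -- an element of three-power order moving every member of `M`
  obtain ⟨⟨w, hwCy⟩, hwA, hwt⟩ : ∃ w : Cy, w ∈ A' ∧ ¬ Commute (w : G) t := by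
    by_contra h
    push Not at h
    have hle : A'.map Cy.subtype ≤ C := by
      rintro _ ⟨w, hw, rfl⟩
      exact (hmemC _).2 (h w hw)
    have h' := Subgroup.card_dvd_of_le hle
    rw [Subgroup.card_map_of_injective Cy.subtype_injective, hA', hC48] at h'
    norm_num at h'
  have hw9 : w ^ 9 = 1 := by
    have h := Subgroup.orderOf_dvd_natCard _ hwA
    rw [hA', Subgroup.orderOf_mk] at h
    exact orderOf_dvd_iff_pow_eq_one.1 h
  have hwK : w ∈ K := hCyK hwCy
  have hwy : Commute w y := (hmemY w).1 hwCy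
  have hwfix : ∀ s, inM s → w * s * w⁻¹ ≠ s := by
    intro s hs hfix
    apply hwt
    show Commute w t
    have hcs : Commute w s := mul_inv_eq_iff_eq_mul.1 hfix
    have hMcases' : ∀ a b c : G, inM a → inM b → inM c → a ≠ b → b ≠ c → a ≠ c →
        w * a * w⁻¹ = a → Commute (w ^ 2) b := by
      intro a b c ha hb hc hab hbc hac hfa
      have himg : ∀ v, inM v → v ≠ a → w * v * w⁻¹ = b ∨ w * v * w⁻¹ = c := by
        intro v hv hva
        have h1 := hKM w hwK v hv
        have h2 : ∀ r, inM r → r = a ∨ r = b ∨ r = c := by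
          intro r hr
          have hsub : ({a, b, c} : Set G) ⊆ M := by
            intro q hq
            simp only [Set.mem_insert_iff, Set.mem_singleton_iff] at hq
            rcases hq with rfl | rfl | rfl
            exacts [ha, hb, hc]
          have heq : ({a, b, c} : Set G) = M := Set.eq_of_subset_of_ncard_le hsub (by
            rw [hMn, Set.ncard_insert_of_notMem (by simp [hab, hac]), Set.ncard_pair hbc])
            (Set.toFinite _)
          have : r ∈ ({a, b, c} : Set G) := heq ▸ hr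
          simpa using this
        rcases h2 _ h1 with h | h | h
        · exact absurd (mul_left_cancel (mul_right_cancel (h.trans hfa.symm))) hva
        · exact Or.inl h
        · exact Or.inr h
      have e2 : w ^ 2 * b * (w ^ 2)⁻¹ = w * (w * b * w⁻¹) * w⁻¹ := by
        simp only [pow_succ, pow_zero, one_mul, mul_inv_rev, mul_assoc]
      refine mul_inv_eq_iff_eq_mul.1 ?_
      rw [e2]
      rcases himg b hb (Ne.symm hab) with h | h
      · rw [h, h]
      · rw [h]
        rcases himg c hc (Ne.symm hac) with h' | h'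
        · exact h'
        · exfalso
          exact hbc (mul_left_cancel (mul_right_cancel (h.trans h'.symm)))
    have hw2 : Commute (w ^ 2) t := by
      rcases hMcases s hs with rfl | rfl | rfl
      · exact hcs.pow_left 2
      · exact hMcases' _ t t₂ hM1 htM hM2 ht1' (Ne.symm ht2') ht12 hfix
      · exact hMcases' _ t t₁ hM2 htM hM1 ht2' (Ne.symm ht1') (Ne.symm ht12) hfix
    have h5 : w = (w ^ 2) ^ 5 := by
      rw [← pow_mul, show 2 * 5 = 9 + 1 by rfl, pow_succ, hw9, one_mul]
    rw [h5]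
    exact hw2.pow_left 5
  -- but it fixes the square
  set d' : G := w * ((d.1 : E) : G) * w⁻¹ with hd'
  have hdy : Commute ((d.1 : E) : G) y := ((hmemE _).1 d.1.2).2
  have hd'E : d' ∈ E := by
    refine (hmemE d').2 ⟨?_, ?_⟩
    · have ht' : inM (w⁻¹ * t * w) := by
        have h := hKM w⁻¹ (inv_mem hwK) t htM
        rwa [inv_inv] at h
      have h := hEall _ d.1.2 _ ht'
      rw [hd', Commute, SemiconjBy]
      calc w * ((d.1 : E) : G) * w⁻¹ * t = w * (((d.1 : E) : G) * (w⁻¹ * t * w)) * w⁻¹ := by group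
        _ = w * (w⁻¹ * t * w * ((d.1 : E) : G)) * w⁻¹ := by rw [h.eq]
        _ = t * (w * ((d.1 : E) : G) * w⁻¹) := by group
    · exact (hwy.mul_left hdy).mul_left hwy.inv_left
  have hd'S : (⟨d', hd'E⟩ : E) ∈ (S : Subgroup E) := hinS _ (Subtype.ext (by
    rw [SubgroupClass.coe_pow]
    show d' ^ 8 = 1
    have h := congrArg Subtype.val (pow_card_eq_one' (x := d))
    rw [hS8] at h
    have h' : ((d.1 : E) : G) ^ 8 = 1 := by
      have h'' := congrArg Subtype.val h
      simpa using h''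
    rw [hd', conj_pow, h', mul_one, mul_inv_cancel]))
  have hnot : (⟨⟨d', hd'E⟩, hd'S⟩ : (S : Subgroup E)) ∉ VS := fun h => by
    have h1 := congrArg (fun v : (S : Subgroup E) => ((v.1 : E) : G)) ((hV1 _).1 h)
    simp only [Subgroup.coe_mul, Subgroup.coe_one, hd'] at h1
    rw [← sq, conj_pow, conj_eq_one_iff, sq, ← hq] at h1
    exact hqM.2.1 h1
  have h1 := congrArg (fun v : (S : Subgroup E) => ((v.1 : E) : G)) (hsquare _ hnot)
  simp only [Subgroup.coe_mul, hd'] at h1
  rw [← sq, conj_pow, sq, ← hq] at h1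
  exact hwfix q hqM h1

end

end CfsgLib.Small.O5616
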