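import Cfsg.Agent.Lib.Small.Order7920Graph

/-!
# Simple groups of order 7920 have a subgroup of index eleven
-/

set_option autoImplicit false
set_option linter.style.haveILetI false
set_option linter.unusedSectionVars false

open Cfsg

namespace CfsgLib.Small.O7920

open scoped Pointwise

variable {G : Type*} [Group G] [Finite G] [IsSimpleGroup G] (hG : Nat.card G = 7920)

include hG

/-- The common neighbours. -/
theorem ncard_common_adj {P Q P' Q' : Sylow 3 G} (h : Adj P Q) (h' : Adj P' Q') :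
    {V | Adj P V ∧ Adj Q V}.ncard = {V | Adj P' V ∧ Adj Q' V}.ncard := by
  obtain ⟨g, rfl, rfl⟩ := exists_map_adj hG h h'
  rw [show {V | Adj (g • P) V ∧ Adj (g • Q) V} = (g • ·) '' {V | Adj P V ∧ Adj Q V} by
    ext V
    constructor
    · rintro ⟨h1, h2⟩
      exact ⟨g⁻¹ • V, ⟨by simpa using h1.smul g⁻¹, by simpa using h2.smul g⁻¹⟩, smul_inv_smul g V⟩
    · rintro ⟨W, ⟨h1, h2⟩, rfl⟩
      exact ⟨h1.smul g, h2.smul g⟩, Set.ncard_image_of_injective _ (MulAction.injective g)]

theorem ncard_common_far {P U P' U' : Sylow 3 G} (hne : P ≠ U) (h : ¬ Adj P U) (hne' : P' ≠ U')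
    (h' : ¬ Adj P' U') :
    {V | Adj P V ∧ Adj U V}.ncard = {V | Adj P' V ∧ Adj U' V}.ncard := by
  obtain ⟨g, rfl, rfl⟩ := exists_map_far hG hne h hne' h'
  rw [show {V | Adj (g • P) V ∧ Adj (g • U) V} = (g • ·) '' {V | Adj P V ∧ Adj U V} by
    ext V
    constructor
    · rintro ⟨h1, h2⟩
      exact ⟨g⁻¹ • V, ⟨by simpa using h1.smul g⁻¹, by simpa using h2.smul g⁻¹⟩, smul_inv_smul g V⟩
    · rintro ⟨W, ⟨h1, h2⟩, rfl⟩
      exact ⟨h1.smul g, h2.smul g⟩, Set.ncard_image_of_injective _ (MulAction.injective g)]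

/-- The configuration at an edge: the pointwise stabilizer of a triangle. -/
theorem edge_data {P Q R : Sylow 3 G} {t : G} (hP : IP P t) (hQ : IP Q t) (hR : IP R t)
    (hPQ : P ≠ Q) (hPR : P ≠ R) (hQR : Q ≠ R) :
    ∃ K : Subgroup G, Nat.card K = 8 ∧ (∀ k ∈ K, k • P = P ∧ k • Q = Q ∧ k • R = R) ∧
      (∀ x ∈ (P : Subgroup G), x ≠ 1 → ∀ x' ∈ (P : Subgroup G), x' ≠ 1 →
        ∃ k ∈ K, k * x * k⁻¹ = x') ∧
      ∃ d : G, d • P = P ∧ d • Q = R := by
  classical
  haveI := Fact.mk Nat.prime_three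
  set D := Subgroup.centralizer ({t} : Set G) ⊓
    Subgroup.normalizer ((P : Subgroup G) : Set G) with hD
  have hT : {S : Sylow 3 G | IP S t} = {P, Q, R} := by
    refine (Set.eq_of_subset_of_ncard_le ?_ ?_ (Set.toFinite _)).symm
    · rintro x (rfl | rfl | rfl) <;> assumption
    · rw [ncard_T hG hP, Set.ncard_eq_three.2 ⟨_, _, _, hPQ, hPR, hQR, rfl⟩]
  have himg : ∀ c ∈ Subgroup.centralizer ({t} : Set G), ∀ {S : Sylow 3 G}, IP S t →
      c • S = P ∨ c • S = Q ∨ c • S = R := by
    intro c hc S hS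
    have h : c • S ∈ {S : Sylow 3 G | IP S t} := by
      have := hS.conj c
      rwa [conj_centralizer hG hc] at this
    rw [hT] at h
    exact h
  obtain ⟨d, hd, hdQ⟩ := exists_swap hG hP hQ hPQ
  have hdP : d • P = P := mem_normalizer_inv hG hd.2
  have hdR : d • Q = R := by
    rcases himg d hd.1 hQ with e | e | e
    · exact absurd (MulAction.injective d (e.trans hdP.symm)) hPQ.symm
    · exact absurd e hdQ
    · exact e
  set K := D ⊓ Subgroup.normalizer ((Q : Subgroup G) : Set G) with hK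
  have hK8 : Nat.card K = 8 := by
    have h := ncard_smul_orbit D Q
    have hO : {V : Sylow 3 G | ∃ c ∈ D, c • Q = V} = {Q, R} := by
      ext V
      constructor
      · rintro ⟨c, hc, rfl⟩
        rcases himg c hc.1 hQ with e | e | e
        · exact absurd (MulAction.injective c (e.trans (mem_normalizer_inv hG hc.2).symm)) hPQ.symm
        · exact Or.inl e
        · exact Or.inr e
      · rintro (rfl | rfl)
        · exact ⟨1, one_mem _, one_smul _ _⟩
        · exact ⟨d, hd, hdR⟩
    rw [hO, Set.ncard_pair hQR, (ncard_IP hG hP).2, ← hK] at h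
    omega
  have hfix : ∀ k ∈ K, k • P = P ∧ k • Q = Q ∧ k • R = R := by
    intro k hk
    have e1 := mem_normalizer_inv hG hk.1.2
    have e2 := mem_normalizer_inv hG hk.2
    refine ⟨e1, e2, ?_⟩
    rcases himg k hk.1.1 hR with e | e | e
    · exact absurd (MulAction.injective k (e.trans e1.symm)) hPR.symm
    · exact absurd (MulAction.injective k (e.trans e2.symm)) hQR.symm
    · exact e
  have hnormal : ∀ c ∈ Subgroup.centralizer ({t} : Set G), ∀ k ∈ K, c * k * c⁻¹ ∈ K := by
    intro c hc k hk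
    have hci : c⁻¹ ∈ Subgroup.centralizer ({t} : Set G) := Subgroup.inv_mem _ hc
    have hall : ∀ S : Sylow 3 G, IP S t → (c * k * c⁻¹) • S = S := by
      intro S hS
      have h' : k • (c⁻¹ • S) = c⁻¹ • S := by
        rcases himg _ hci hS with e | e | e <;> rw [e]
        exacts [(hfix k hk).1, (hfix k hk).2.1, (hfix k hk).2.2]
      rw [mul_smul, mul_smul, h', smul_inv_smul]
    exact ⟨⟨Subgroup.mul_mem _ (Subgroup.mul_mem _ hc hk.1.1) hci, (smul_sylow_iff P _).1 (hall P hP)⟩,
      (smul_sylow_iff Q _).1 (hall Q hQ)⟩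
  have htK : t ∈ K :=
    ⟨⟨Subgroup.mem_centralizer_singleton_iff.2 rfl, hP.normalizes⟩, hQ.normalizes⟩
  have htt : t * t = 1 := by rw [← sq, ← hP.1, pow_orderOf_eq_one]
  have hreg : ∀ x ∈ (P : Subgroup G), x ≠ 1 → ∀ k ∈ K, k * x = x * k → k = 1 := by
    intro x hx hx1 s hs hsx
    by_contra hs1
    have hss : s * s = 1 := by
      have h8 := Subgroup.orderOf_dvd_natCard _ hs
      rw [hK8] at h8
      have h18 := card_centralizer_three hG P hx hx1 ▸ Subgroup.orderOf_dvd_natCard _
        (Subgroup.mem_centralizer_singleton_iff.2 hsx)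
      have h2 : orderOf s ∣ Nat.gcd 8 18 := Nat.dvd_gcd h8 h18
      rw [← sq]
      exact orderOf_dvd_iff_pow_eq_one.1 h2
    have hst : s ≠ t := fun e => by
      have := hP.2 x hx
      rw [← e, mul_inv_eq_iff_eq_mul.2 hsx] at this
      have h2 : x ^ 2 = 1 := by rw [sq]; nth_rw 1 [this]; exact inv_mul_cancel x
      have h3 := exponent_three hG P hx
      rw [pow_succ, h2, one_mul] at h3
      exact hx1 h3
    obtain ⟨u, hu, ho⟩ := exists_order_three hG hP.1
    obtain ⟨U, hU⟩ := exists_sylow_of_orderOf hG ho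
    have hu1 : u ≠ 1 := fun e => by rw [e, orderOf_one] at ho; norm_num at ho
    have hu3 : u ^ 3 = 1 := ho ▸ pow_orderOf_eq_one u
    have hcK : ∀ v ∈ K, u * v = v * u → v = 1 ∨ v = t := by
      intro v hv hvu
      by_contra hn
      push Not at hn
      have hsub : ({1, t, v} : Set G) ⊆ (K ⊓ Subgroup.centralizer ({u} : Set G) : Subgroup G) := by
        rintro w (rfl | rfl | rfl)
        · exact one_mem _
        · exact ⟨htK, Subgroup.mem_centralizer_singleton_iff.2
            (Subgroup.mem_centralizer_singleton_iff.1 hu).symm⟩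
        · exact ⟨hv, Subgroup.mem_centralizer_singleton_iff.2 hvu.symm⟩
      have ht1 : t ≠ 1 := fun e => by have := hP.1; rw [e, orderOf_one] at this; norm_num at this
      have h3 := Set.ncard_le_ncard hsub (Set.toFinite _)
      rw [Set.ncard_eq_three.2 ⟨1, t, v, ht1.symm, hn.1.symm, hn.2.symm, rfl⟩] at h3
      have h8 := hK8 ▸ Subgroup.card_dvd_of_le
        (inf_le_left : K ⊓ Subgroup.centralizer ({u} : Set G) ≤ K)
      have h18 := card_centralizer_three hG U hU hu1 ▸ Subgroup.card_dvd_of_le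
        (inf_le_right : K ⊓ Subgroup.centralizer ({u} : Set G) ≤ _)
      have h2 := Nat.le_of_dvd (by norm_num) (Nat.dvd_gcd h8 h18)
      rw [show Nat.gcd 8 18 = 2 from rfl] at h2
      rw [← Nat.card_coe_set_eq] at h3
      exact absurd (h3.trans h2) (by norm_num)
    -- the eight elements
    set s₁ := u * s * u⁻¹ with hs₁
    set s₂ := u * s₁ * u⁻¹ with hs₂
    have hs₃ : u * s₂ * u⁻¹ = s := by
      rw [hs₂, hs₁]
      calc u * (u * (u * s * u⁻¹) * u⁻¹) * u⁻¹ = u ^ 3 * s * (u ^ 3)⁻¹ := by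
            simp [pow_succ, mul_assoc]
        _ = s := by rw [hu3, one_mul, inv_one, mul_one]
    have htc : ∀ v ∈ K, t * v = v * t := fun v hv =>
      (Subgroup.mem_centralizer_singleton_iff.1 hv.1.1).symm
    have m1 := hnormal u hu s hs
    have m2 := hnormal u hu _ m1
    have inj : ∀ a b : G, u * a * u⁻¹ = u * b * u⁻¹ → a = b := fun a b h => by simpa using h
    have hconjt : ∀ v : G, u * (t * v) * u⁻¹ = t * (u * v * u⁻¹) := fun v => by
      rw [← mul_assoc, Subgroup.mem_centralizer_singleton_iff.1 hu]; group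
    have d1 : s ≠ s₁ := fun e => by
      rcases hcK s hs (mul_inv_eq_iff_eq_mul.1 e.symm) with h | h
      exacts [hs1 h, hst h]
    have d2 : s ≠ t * s₁ := fun e => by
      have e' : u * s * u⁻¹ = t * s := by
        have : s₁ = t * s := by rw [e, ← mul_assoc, htt, one_mul]
        exact this
      have : s₂ = s := by rw [hs₂, hs₁, e', hconjt, e', ← mul_assoc, htt, one_mul]
      rw [this] at hs₃
      exact d1 hs₃.symm
    have hK' : ∀ v ∈ K, v * v = 1 := by
      let e : Fin 4 × Bool → G := fun v => ![1, s, s₁, s₂] v.1 * (if v.2 then t else 1)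
      have he : ∀ v, e v ∈ K := by
        rintro ⟨i, b⟩
        refine mul_mem ?_ ?_
        · fin_cases i
          exacts [one_mem _, hs, m1, m2]
        · cases b
          exacts [one_mem _, htK]
      have hinj : Function.Injective e := by
        have ne1 : s₁ ≠ 1 := fun h => hs1 (conj_eq_one_iff.1 h)
        have ne2 : s₂ ≠ 1 := fun h => ne1 (conj_eq_one_iff.1 h)
        have net1 : s₁ ≠ t := fun h => hst (inj _ _ (by
          rw [← hs₁, h, Subgroup.mem_centralizer_singleton_iff.1 hu, mul_inv_cancel_right]))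
        have net2 : s₂ ≠ t := fun h => net1 (inj _ _ (by
          rw [← hs₂, h, Subgroup.mem_centralizer_singleton_iff.1 hu, mul_inv_cancel_right]))
        have d3 : s₁ ≠ s₂ := fun h => d1 (inj _ _ h)
        have d4 : s₁ ≠ t * s₂ := fun h => d2 (inj _ _ (by rw [hconjt]; exact h))
        have d5 : s₂ ≠ s := fun h => d3 (inj _ _ (by rw [← hs₂, hs₃, h]))
        have d6 : s₂ ≠ t * s := fun h => d4 (inj _ _ (by rw [← hs₂, hconjt, hs₃, h]))
        have ht1 : t ≠ 1 := fun e => by have := hP.1; rw [e, orderOf_one] at this; norm_num at this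
        have c0 := htc s hs
        have c1 := htc s₁ m1
        have c2 := htc s₂ m2
        have flip : ∀ a b : G, a ≠ t * b → b ≠ t * a := fun a b h e => h (by
          rw [e, ← mul_assoc, htt, one_mul])
        have := flip _ _ d2; have := flip _ _ d4; have := flip _ _ d6
        let f : Fin 4 → G := ![1, s, s₁, s₂]
        have hfK : ∀ i, t * f i = f i * t := by
          intro i
          fin_cases i
          exacts [by simp [f], c0, c1, c2]
        have hts : ∀ v : G, 1 = t * v → v = t := fun v hv => by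
          calc v = t * t * v := by rw [htt, one_mul]
            _ = t := by rw [mul_assoc, ← hv, mul_one]
        have hlt : ∀ i j : Fin 4, i < j → f i ≠ f j ∧ f i ≠ t * f j := by
          intro i j hij
          fin_cases i <;> fin_cases j <;> first
            | exact absurd hij (by decide)
            | exact ⟨hs1 ∘ Eq.symm, fun h => hst (hts _ h)⟩
            | exact ⟨ne1.symm, fun h => net1 (hts _ h)⟩
            | exact ⟨ne2.symm, fun h => net2 (hts _ h)⟩
            | exact ⟨d1, d2⟩
            | exact ⟨d5.symm, flip _ _ d6⟩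
            | exact ⟨d3, d4⟩
        have hne : ∀ i j : Fin 4, f i = f j → i = j := by
          intro i j h
          rcases lt_trichotomy i j with hl | hl | hl
          exacts [absurd h (hlt i j hl).1, hl, absurd h.symm (hlt j i hl).1]
        have hnt : ∀ i j : Fin 4, f i ≠ t * f j := by
          intro i j h
          rcases lt_trichotomy i j with hl | hl | hl
          · exact (hlt i j hl).2 h
          · subst hl; exact ht1 (mul_eq_right.1 h.symm)
          · exact flip _ _ (hlt j i hl).2 h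
        rintro ⟨i, b⟩ ⟨j, b'⟩ h
        cases b <;> cases b' <;> simp only [e, Bool.false_eq_true, if_false, if_true, mul_one] at h
        · rw [hne i j h]
        · exact absurd (h.trans (hfK j).symm) (hnt i j)
        · exact absurd (h.symm.trans (hfK i).symm) (hnt j i)
        · rw [hne i j (mul_right_cancel h)]
      have hb : ∀ v ∈ K, ∃ w, e w = v := by
        intro v hv
        have := ((Nat.bijective_iff_injective_and_card (fun w => (⟨e w, he w⟩ : K))).2
          ⟨fun a b h => hinj (congrArg Subtype.val h), by simp [hK8]⟩).2 ⟨v, hv⟩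
        obtain ⟨w, hw⟩ := this
        exact ⟨w, congrArg Subtype.val hw⟩
      intro v hv
      obtain ⟨⟨i, b⟩, rfl⟩ := hb v hv
      have sq1 : s₁ * s₁ = 1 := by
        rw [hs₁, show u * s * u⁻¹ * (u * s * u⁻¹) = u * (s * s) * u⁻¹ by group, hss]; simp
      have sq2 : s₂ * s₂ = 1 := by
        rw [hs₂, show u * s₁ * u⁻¹ * (u * s₁ * u⁻¹) = u * (s₁ * s₁) * u⁻¹ by group, sq1]; simp
      have key : ∀ w ∈ K, w * w = 1 → ∀ c : Bool,
          w * (if c then t else 1) * (w * (if c then t else 1)) = 1 := by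
        intro w hw hww c
        cases c
        · simpa using hww
        · simp only [if_true]
          rw [mul_assoc, ← mul_assoc t, htc w hw, mul_assoc, htt, mul_one, hww]
      fin_cases i
      exacts [key _ (one_mem _) (one_mul 1) b, key _ hs hss b, key _ m1 sq1 b, key _ m2 sq2 b]
    have hcomm : ∀ v ∈ K, v * s = s * v := fun v hv => by
      have h1 := hK' _ (mul_mem hv hs)
      calc v * s = (v * v) * (v * s) * (s * s) := by rw [hK' v hv, hss, one_mul, mul_one]
        _ = v * (v * v) * s * s * s := by group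
        _ = v * 1 * s * s * s := by rw [hK' v hv]
        _ = (v * s * (v * s)) * (v * s)⁻¹ * (s * s) := by group
        _ = (v * s)⁻¹ := by rw [h1, hss, one_mul, mul_one]
        _ = s * v := by
          rw [_root_.mul_inv_rev, inv_eq_of_mul_eq_one_right hss,
            inv_eq_of_mul_eq_one_right (hK' v hv)]
    -- hence every element of `K` maps `x` to itself or to its inverse
    have hline : ∀ v ∈ K, v * x * v⁻¹ = x ∨ v * x * v⁻¹ = x⁻¹ := by
      intro v hv
      have hy : v * x * v⁻¹ ∈ (P : Subgroup G) :=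
        (Subgroup.mem_normalizer_iff.1 hv.1.2 x).1 hx
      have hyc : s * (v * x * v⁻¹) = v * x * v⁻¹ * s :=
        (((show Commute s v from (hcomm v hv).symm).mul_right hsx).mul_right
          (show Commute s v from (hcomm v hv).symm).inv_right).eq
      have hyX : v * x * v⁻¹ ∈ Subgroup.zpowers x := by
        by_contra hn
        have := eq_one_of_fix hG P (a := s)
          (by rw [show (16 : ℕ) = 2 * 8 from rfl, pow_mul, sq, hss, one_pow])
          (fun p hp => by
            obtain ⟨i, j, rfl⟩ := eq_pow_mul_pow hG P hx hx1 hy hn hp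
            exact ((Commute.pow_right (show Commute s x from hsx) _).mul_right
              (Commute.pow_right (show Commute s (v * x * v⁻¹) from hyc) _)).eq)
        exact hs1 this
      obtain ⟨k, hk⟩ := hyX
      have hk' : x ^ k = v * x * v⁻¹ := hk
      have ox := orderOf_three hG P hx hx1
      rw [← hk', ← zpow_mod_orderOf x k, ox]
      have hne : k % 3 ≠ 0 := by
        intro h
        rw [← zpow_mod_orderOf x k, ox, show ((3 : ℕ) : ℤ) = 3 from rfl, h, zpow_zero] at hk'
        exact hx1 (conj_eq_one_iff.1 hk'.symm)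
      rcases (show k % 3 = 1 ∨ k % 3 = 2 by omega) with h | h
      · left; push_cast; rw [h, zpow_one]
      · right; push_cast; rw [h]
        refine eq_inv_of_mul_eq_one_left ?_
        rw [← zpow_add_one]; exact_mod_cast exponent_three hG P hx
    have hc := ncard_conj K x
    rw [← Subgroup.inf_relIndex_right] at hc
    have hmul := Subgroup.relIndex_mul_relIndex ⊥ (Subgroup.centralizer ({x} : Set G) ⊓ K) K bot_le
      inf_le_right
    rw [Subgroup.relIndex_bot_left, Subgroup.relIndex_bot_left, ← hc, hK8] at hmul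
    have h2 : {y : G | ∃ v ∈ K, v * x * v⁻¹ = y}.ncard ≤ 2 := by
      refine (Set.ncard_le_ncard (t := {x, x⁻¹}) ?_ (Set.toFinite _)).trans
        ((Set.ncard_insert_le _ _).trans (by simp))
      rintro _ ⟨v, hv, rfl⟩
      exact hline v hv
    have h8 := hK8 ▸ Subgroup.card_dvd_of_le
      (inf_le_right : Subgroup.centralizer ({x} : Set G) ⊓ K ≤ K)
    have h18 := card_centralizer_three hG P hx hx1 ▸ Subgroup.card_dvd_of_le
      (inf_le_left : Subgroup.centralizer ({x} : Set G) ⊓ K ≤ _)
    have hle := Nat.le_of_dvd (by norm_num) (Nat.dvd_gcd h8 h18)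
    rw [show Nat.gcd 8 18 = 2 from rfl] at hle
    have := Nat.mul_le_mul hle h2
    omega
  refine ⟨K, hK8, hfix, fun x hx hx1 x' hx' hx'1 => ?_, d, hdP, hdR⟩
  set f : K → G := fun k => (k : G) * x * (k : G)⁻¹ with hf
  have hinj : Function.Injective f := by
    intro a b h
    have h' : ((b : G)⁻¹ * a) * x = x * ((b : G)⁻¹ * a) := by
      have : (a : G) * x * (a : G)⁻¹ = (b : G) * x * (b : G)⁻¹ := h
      calc (b : G)⁻¹ * a * x = (b : G)⁻¹ * ((a : G) * x * (a : G)⁻¹) * a := by group
        _ = _ := by rw [this]; group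
    have := hreg x hx hx1 _ (mul_mem (inv_mem b.2) a.2) h'
    exact Subtype.ext (inv_mul_eq_one.1 this).symm
  have hsub : Set.range f ⊆ ((P : Subgroup G) : Set G) \ {1} := by
    rintro _ ⟨k, rfl⟩
    exact ⟨(Subgroup.mem_normalizer_iff.1 k.2.1.2 x).1 hx, fun h => hx1 (conj_eq_one_iff.1 h)⟩
  have hP8 : (((P : Subgroup G) : Set G) \ {1}).ncard = 8 := by
    rw [Set.ncard_sdiff_singleton_of_mem (one_mem _), ← Nat.card_coe_set_eq]
    show Nat.card (P : Subgroup G) - 1 = 8
    rw [card_three hG P]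
  have heq := Set.eq_of_subset_of_ncard_le hsub
    (by rw [hP8, ← Set.image_univ, Set.ncard_image_of_injective _ hinj, Set.ncard_univ, hK8])
    (Set.toFinite _)
  obtain ⟨k, hk⟩ := heq.ge ⟨hx', hx'1⟩
  exact ⟨k, k.2, hk⟩

/-- The spectral contradiction. -/
theorem false_of_spectrum {ι : Type*} [Fintype ι] [DecidableEq ι] (h55 : Fintype.card ι = 55)
    (A : Matrix ι ι ℝ) (J : Matrix ι ι ℝ) (hJJ : J * J = (55 : ℝ) • J)
    (hAJ : A * J = (18 : ℝ) • J) (hJA : J * A = (18 : ℝ) • J)
    (hAA : A * A = (10 : ℝ) • 1 - (7 : ℝ) • A + (8 : ℝ) • J) (htA : A.trace = 0)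
    (htJ : J.trace = 55) : False := by
  set N : Matrix ι ι ℝ := (2 : ℝ) • A + (7 : ℝ) • 1 - (43 / 55 : ℝ) • J with hN
  set W : Matrix ι ι ℝ := 1 - (1 / 55 : ℝ) • J with hW
  have hNN : N * N = (89 : ℝ) • W := by
    simp only [hN, hW, mul_sub, sub_mul, mul_add, add_mul, Matrix.smul_mul, Matrix.mul_smul,
      one_mul, mul_one, hJJ, hAJ, hJA, hAA, smul_add, smul_sub, smul_smul]
    module
  have hNW : N * W = N := by
    simp only [hN, hW, mul_sub, sub_mul, add_mul, Matrix.smul_mul, Matrix.mul_smul, one_mul,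
      mul_one, hJJ, hAJ, smul_add, smul_sub, smul_smul]
    module
  have hWN : W * N = N := by
    simp only [hN, hW, mul_sub, sub_mul, mul_add, Matrix.smul_mul, Matrix.mul_smul, one_mul,
      mul_one, hJJ, hJA, smul_add, smul_sub, smul_smul]
    module
  have hWW : W * W = W := by
    simp only [hW, mul_sub, sub_mul, Matrix.smul_mul, Matrix.mul_smul, one_mul, mul_one, hJJ,
      smul_sub, smul_smul]
    module
  set r := Real.sqrt 89 with hr
  have hr2 : r * r = 89 := Real.mul_self_sqrt (by norm_num)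
  have hr0 : r ≠ 0 := fun h => by rw [h] at hr2; norm_num at hr2
  set E : Matrix ι ι ℝ := (1 / 2 : ℝ) • (W + r⁻¹ • N) with hE
  have hEE : E * E = E := by
    have h89 : r⁻¹ * r⁻¹ * 89 = 1 := by
      rw [← hr2]; field_simp
    simp only [hE, mul_add, add_mul, Matrix.smul_mul, Matrix.mul_smul, hWW, hWN, hNW, hNN,
      smul_add, smul_smul]
    match_scalars
    all_goals first
      | linear_combination (1 / 4 : ℝ) * h89
      | linear_combination (-1 / 220 : ℝ) * h89
      | ring
  have htr : E.trace = (1 / 2 : ℝ) * (54 + r⁻¹ * 342) := by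
    simp only [hE, hW, hN, Matrix.trace_smul, Matrix.trace_add, Matrix.trace_sub, Matrix.trace_one,
      h55, htA, htJ, smul_eq_mul]
    norm_num
  have hid : IsIdempotentElem (Matrix.toLin' E) := by
    show Matrix.toLin' E * Matrix.toLin' E = Matrix.toLin' E
    rw [Module.End.mul_eq_comp, ← Matrix.toLin'_mul, hEE]
  have hproj := (LinearMap.isProj_range_iff_isIdempotentElem _).2 hid
  have htrace := hproj.trace
  rw [Matrix.trace_toLin'_eq] at htrace
  rw [htr] at htrace
  set n := Module.finrank ℝ (LinearMap.range (Matrix.toLin' E))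
  have h1 : r⁻¹ * 342 = 2 * (n : ℝ) - 54 := by linarith
  have h2 : ((342 : ℤ) * 342 : ℝ) = (89 : ℤ) * ((2 * (n : ℤ) - 54) * (2 * (n : ℤ) - 54) : ℤ) := by
    push_cast
    rw [← h1, ← hr2]
    field_simp
  have h3 : (342 : ℤ) * 342 = 89 * ((2 * (n : ℤ) - 54) * (2 * (n : ℤ) - 54)) := by exact_mod_cast h2
  generalize (2 * (n : ℤ) - 54) * (2 * (n : ℤ) - 54) = k at h3
  omega

/-- A subgroup of index eleven. -/
theorem exists_index_eleven : ∃ H : Subgroup G, H.index = 11 := by
  classical
  haveI := Fact.mk Nat.prime_three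
  haveI := Fintype.ofFinite (Sylow 3 G)
  obtain ⟨P⟩ := (inferInstance : Nonempty (Sylow 3 G))
  obtain ⟨t, ht⟩ := exists_IP hG P
  obtain ⟨Q, R, hPQ, hPR, hQR, hQ, hR⟩ : ∃ Q R, P ≠ Q ∧ P ≠ R ∧ Q ≠ R ∧ IP Q t ∧ IP R t := by
    obtain ⟨a, b, c, hab, hac, hbc, e⟩ := Set.ncard_eq_three.1 (ncard_T hG ht)
    have hm : ∀ x, x ∈ ({a, b, c} : Set (Sylow 3 G)) → IP x t := fun x hx => (Set.ext_iff.1 e x).2 hx
    have hP' : P ∈ ({a, b, c} : Set (Sylow 3 G)) := (Set.ext_iff.1 e P).1 ht
    rcases hP' with rfl | rfl | rfl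
    · exact ⟨b, c, hab, hac, hbc, hm b (by simp), hm c (by simp)⟩
    · exact ⟨a, c, hab.symm, hbc, hac, hm a (by simp), hm c (by simp)⟩
    · exact ⟨a, b, hac.symm, hbc.symm, hab, hm a (by simp), hm b (by simp)⟩
  obtain ⟨K, hK8, hKfix, hKtr, d, hdP, hdR⟩ := edge_data hG ht hQ hR hPQ hPR hQR
  have hPfix : ∀ p ∈ (P : Subgroup G), p • P = P := fun p hp =>
    mem_normalizer_inv hG (Subgroup.le_normalizer hp)
  have hfree : ∀ p ∈ (P : Subgroup G), ∀ V : Sylow 3 G, V ≠ P → p • V = V → p = 1 := by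
    intro p hp V hV e
    by_contra hp1
    exact hV (eq_of_mem_of_mem hG
      (mem_three_of_normalizes hG V ((smul_sylow_iff V p).1 e) (pow_nine hG P hp)) hp hp1)
  set A : Set (Sylow 3 G) := {V | ∃ p ∈ (P : Subgroup G), p • Q = V} with hA
  set B : Set (Sylow 3 G) := {V | ∃ p ∈ (P : Subgroup G), p • R = V} with hB
  have hAdjQ : ∀ p ∈ (P : Subgroup G), Adj P (p • Q) := fun p hp =>
    hPfix p hp ▸ (show Adj P Q from ⟨hPQ, t, ht, hQ⟩).smul p
  have hAdjR : ∀ p ∈ (P : Subgroup G), Adj P (p • R) := fun p hp =>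
    hPfix p hp ▸ (show Adj P R from ⟨hPR, t, ht, hR⟩).smul p
  have hT : {S : Sylow 3 G | IP S t} = {P, Q, R} := by
    refine (Set.eq_of_subset_of_ncard_le ?_ ?_ (Set.toFinite _)).symm
    · rintro x (rfl | rfl | rfl) <;> assumption
    · rw [ncard_T hG ht, Set.ncard_eq_three.2 ⟨_, _, _, hPQ, hPR, hQR, rfl⟩]
  have hnbr : {V | Adj P V} = A ∪ B := by
    ext V
    constructor
    · rintro ⟨hne, t', ht', hV⟩
      obtain ⟨p, hp, rfl⟩ := IP_conj_exists hG ht ht'
      have h : p⁻¹ • V ∈ {S : Sylow 3 G | IP S t} := by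
        have := hV.conj p⁻¹
        simpa [mul_assoc] using this
      rw [hT] at h
      rcases h with e | e | e
      · exact absurd (by rw [← smul_inv_smul p V, e, hPfix p hp]) hne.symm
      · exact Or.inl ⟨p, hp, by rw [← e, smul_inv_smul]⟩
      · exact Or.inr ⟨p, hp, by rw [← e, smul_inv_smul]⟩
    · rintro (⟨p, hp, rfl⟩ | ⟨p, hp, rfl⟩)
      exacts [hAdjQ p hp, hAdjR p hp]
  have hRA : R ∉ A := by
    rintro ⟨p, hp, e⟩
    have h1 : IP R (p * t * p⁻¹) := e ▸ hQ.conj p
    have h2 : IP P (p * t * p⁻¹) := hPfix p hp ▸ ht.conj p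
    have h3 := IP_unique hG hPR ht h2 hR.normalizes h1.normalizes
    have hp1 : p = 1 := conj_inj hG ht hp (one_mem _) (by rw [← h3]; simp)
    rw [hp1, one_smul] at e
    exact hQR e
  have hAB : ∀ p ∈ (P : Subgroup G), ∀ p' ∈ (P : Subgroup G), p • Q ≠ p' • R := fun p hp p' hp' e =>
    hRA ⟨p'⁻¹ * p, mul_mem (inv_mem hp') hp, by rw [mul_smul, e, inv_smul_smul]⟩
  have cardA : ∀ V : Sylow 3 G, V ≠ P → {W | ∃ p ∈ (P : Subgroup G), p • V = W}.ncard = 9 := by
    intro V hV
    rw [show {W | ∃ p ∈ (P : Subgroup G), p • V = W} =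
      (fun p : (P : Subgroup G) => (p : G) • V) '' Set.univ by ext W; simp]
    rw [Set.ncard_image_of_injective _ (fun a b e => Subtype.ext (inv_mul_eq_one.1 (hfree _
      (mul_mem (inv_mem b.2) a.2) V hV (by
        rw [mul_smul]; exact inv_smul_eq_iff.2 e))).symm), Set.ncard_univ, card_three hG P]
  have h18 : ∀ X : Sylow 3 G, {V | Adj X V}.ncard = 18 := by
    have h0 : {V | Adj P V}.ncard = 18 := by
      rw [hnbr, Set.ncard_union_eq (by
        rw [Set.disjoint_left]
        rintro _ ⟨p, hp, rfl⟩ ⟨p', hp', e⟩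
        exact hAB p hp p' hp' e.symm) (Set.toFinite _) (Set.toFinite _), cardA Q hPQ.symm,
        cardA R hPR.symm]
    intro X
    obtain ⟨g, rfl⟩ := MulAction.exists_smul_eq G P X
    rw [← h0, ← Set.ncard_image_of_injective {V | Adj P V} (MulAction.injective g)]
    congr 1
    ext V
    constructor
    · exact fun h => ⟨g⁻¹ • V, by simpa using h.smul g⁻¹, smul_inv_smul g V⟩
    · rintro ⟨W, hW, rfl⟩
      exact hW.smul g
  obtain ⟨p₀, hp₀, hp₀1⟩ := (Subgroup.nontrivial_iff_exists_ne_one _).1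
    (Finite.one_lt_card_iff_nontrivial.1 (by rw [card_three hG P]; norm_num) :
      Nontrivial (P : Subgroup G))
  have hKmove : ∀ S : Sylow 3 G, (∀ k ∈ K, k • S = S) → ∀ p ∈ (P : Subgroup G), p ≠ 1 →
      (Adj Q (p • S) ↔ Adj Q (p₀ • S)) := by
    intro S hS p hp hp1
    obtain ⟨k, hk, e⟩ := hKtr p₀ hp₀ hp₀1 p hp hp1
    have : k • (p₀ • S) = p • S := by
      conv_lhs => rw [← hS k⁻¹ (inv_mem hk)]
      rw [← e, mul_smul, mul_smul]
    rw [← this, ← (adj_smul_iff (P := Q) (Q := p₀ • S) k), (hKfix k hk).2.1]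
  have hAQ := hKmove Q fun k hk => (hKfix k hk).2.1
  have hBR := hKmove R fun k hk => (hKfix k hk).2.2
  have hQR' : Adj Q R := ⟨hQR, t, hQ, hR⟩
  set C : Set (Sylow 3 G) := {V | Adj P V ∧ Adj Q V} with hC
  have hl : ∀ X Y, Adj X Y → {V | Adj X V ∧ Adj Y V}.ncard = C.ncard := fun X Y h =>
    ncard_common_adj hG h ⟨hPQ, t, ht, hQ⟩
  obtain ⟨U₀, hU₀P, hU₀⟩ : ∃ U, P ≠ U ∧ ¬ Adj P U := by
    by_contra hcon
    push Not at hcon
    have h1 : (Set.univ : Set (Sylow 3 G)) ⊆ insert P {V | Adj P V} := fun V _ => by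
      by_cases h : P = V
      · exact Or.inl h.symm
      · exact Or.inr (hcon V h)
    have h2 := (Set.ncard_le_ncard h1 (Set.toFinite _)).trans (Set.ncard_insert_le _ _)
    rw [Set.ncard_univ, card_sylow_three hG, h18] at h2
    omega
  set m := {V | Adj P V ∧ Adj U₀ V}.ncard with hm
  have hfar : ∀ X Y, X ≠ Y → ¬ Adj X Y → {V | Adj X V ∧ Adj Y V}.ncard = m := fun X Y h1 h2 =>
    ncard_common_far hG h1 h2 hU₀P hU₀
  -- the adjacency matrix
  let M : Matrix (Sylow 3 G) (Sylow 3 G) ℝ := Matrix.of fun X Y => if Adj X Y then 1 else 0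
  let J : Matrix (Sylow 3 G) (Sylow 3 G) ℝ := Matrix.of fun _ _ => 1
  have hrow : ∀ X, ∑ V, M X V = 18 := by
    intro X
    simp only [M, Matrix.of_apply, Finset.sum_boole]
    rw [← Set.ncard_coe_finset]
    simp [h18 X]
  have hM2 : ∀ X Y, (M * M) X Y = if X = Y then (18 : ℝ) else
      if Adj X Y then (C.ncard : ℝ) else (m : ℝ) := by
    intro X Y
    have hs : (M * M) X Y = ({V | Adj X V ∧ Adj Y V}.ncard : ℝ) := by
      simp only [Matrix.mul_apply, M, Matrix.of_apply, ite_mul, one_mul, zero_mul, ← ite_and, Finset.sum_boole]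
      rw [← Set.ncard_coe_finset]
      congr 2
      ext V
      simp only [Finset.coe_filter, Finset.mem_univ, true_and, Set.mem_setOf_eq]
      exact and_congr_right fun _ => ⟨Adj.symm, Adj.symm⟩
    rw [hs]
    split_ifs with h1 h2
    · subst h1; simp [h18 X]
    · rw [hl X Y h2]
    · rw [hfar X Y h1 h2]
  have hcount : C.ncard * 18 + 36 * m = 306 := by
    have h1 : ∑ Y, (M * M) P Y = 324 := by
      simp only [Matrix.mul_apply]
      rw [Finset.sum_comm]
      simp only [← Finset.mul_sum, hrow, ← Finset.sum_mul]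
      norm_num
    have h2 : ∀ Y, (M * M) P Y =
        ((18 : ℝ) - m) * (if P = Y then 1 else 0) + ((C.ncard : ℝ) - m) * M P Y + m := by
      intro Y
      rw [hM2]
      simp only [M, Matrix.of_apply]
      split_ifs with h3 h4 <;> simp_all [Adj]
    simp only [h2, Finset.sum_add_distrib, ← Finset.mul_sum, hrow, Finset.sum_ite_eq,
      Finset.mem_univ, if_true, Finset.sum_const, Finset.card_univ] at h1
    rw [← Nat.card_eq_fintype_card, card_sylow_three hG, nsmul_eq_mul] at h1
    have : ((C.ncard * 18 + 36 * m : ℕ) : ℝ) = (306 : ℕ) := by push_cast; push_cast at h1; linarith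
    exact_mod_cast this
  -- the neighbours of `Q` among those of `P`
  have hCmem : ∀ V, V ∈ C ↔ V = R ∨ (V ∈ A ∧ V ≠ Q ∧ Adj Q (p₀ • Q)) ∨
      (V ∈ B ∧ V ≠ R ∧ Adj Q (p₀ • R)) := by
    intro V
    constructor
    · rintro ⟨h1, h2⟩
      have h1' : V ∈ A ∪ B := hnbr ▸ (show V ∈ {V | Adj P V} from h1)
      rcases h1' with ⟨p, hp, rfl⟩ | ⟨p, hp, rfl⟩
      · by_cases hp1 : p = 1
        · rw [hp1, one_smul] at h2; exact absurd rfl h2.1
        · exact Or.inr (Or.inl ⟨⟨p, hp, rfl⟩, fun e => hp1 (hfree p hp Q hPQ.symm e),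
            (hAQ p hp hp1).1 h2⟩)
      · by_cases hp1 : p = 1
        · rw [hp1, one_smul]; exact Or.inl rfl
        · exact Or.inr (Or.inr ⟨⟨p, hp, rfl⟩, fun e => hp1 (hfree p hp R hPR.symm e),
            (hBR p hp hp1).1 h2⟩)
    · rintro (rfl | ⟨⟨p, hp, rfl⟩, hne, h⟩ | ⟨⟨p, hp, rfl⟩, hne, h⟩)
      · exact ⟨⟨hPR, t, ht, hR⟩, hQR'⟩
      · exact ⟨hAdjQ p hp, (hAQ p hp fun e => hne (by rw [e, one_smul])).2 h⟩
      · exact ⟨hAdjR p hp, (hBR p hp fun e => hne (by rw [e, one_smul])).2 h⟩
  by_cases ha : Adj Q (p₀ • Q)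
  swap
  · exfalso
    by_cases hb : Adj Q (p₀ • R)
    · -- then two members of `A` share too many neighbours
      have hC9 : C.ncard = 9 := by
        rw [show C = B by
          ext V
          rw [hCmem V]
          constructor
          · rintro (rfl | ⟨-, -, h⟩ | ⟨h, -, -⟩)
            exacts [⟨1, one_mem _, one_smul _ _⟩, absurd h ha, h]
          · intro h
            by_cases hV : V = R
            exacts [Or.inl hV, Or.inr (Or.inr ⟨h, hV, hb⟩)]]
        exact cardA R hPR.symm
      have hm4 : m = 4 := by omega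
      have hne : Q ≠ p₀ • Q := fun e => hp₀1 (hfree p₀ hp₀ Q hPQ.symm e.symm)
      have hsub : insert P B ⊆ {V | Adj Q V ∧ Adj (p₀ • Q) V} := by
        have hQB : ∀ p ∈ (P : Subgroup G), Adj Q (p • R) := fun p hp => by
          by_cases hp1 : p = 1
          · rw [hp1, one_smul]; exact hQR'
          · exact (hBR p hp hp1).2 hb
        rintro V (rfl | ⟨p, hp, rfl⟩)
        · exact ⟨(show Adj V Q from ⟨hPQ, t, ht, hQ⟩).symm, (hAdjQ p₀ hp₀).symm⟩
        · refine ⟨hQB p hp, ?_⟩
          have := (hQB (p₀⁻¹ * p) (mul_mem (inv_mem hp₀) hp)).smul p₀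
          rwa [mul_smul, smul_inv_smul] at this
      have h10 := Set.ncard_le_ncard hsub (Set.toFinite _)
      rw [Set.ncard_insert_of_notMem (fun h => (show Adj P P by
        obtain ⟨p, hp, e⟩ := h; exact e ▸ hAdjR p hp).1 rfl) (Set.toFinite _), cardA R hPR.symm,
        hfar Q (p₀ • Q) hne ha, hm4] at h10
      omega
    · -- then the adjacency matrix has irrational eigenvalues with unequal multiplicities
      have hC1 : C.ncard = 1 := by
        rw [show C = {R} by
          ext V
          rw [hCmem V, Set.mem_singleton_iff]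
          constructor
          · rintro (rfl | ⟨-, -, h⟩ | ⟨-, -, h⟩)
            exacts [rfl, absurd h ha, absurd h hb]
          · exact Or.inl, Set.ncard_singleton]
      have hm8 : m = 8 := by omega
      have hcol : ∀ Y, ∑ V, M V Y = 18 := fun Y => by
        rw [← hrow Y]
        refine Finset.sum_congr rfl fun V _ => ?_
        simp only [M, Matrix.of_apply]
        exact if_congr ⟨Adj.symm, Adj.symm⟩ rfl rfl
      refine false_of_spectrum hG (ι := Sylow 3 G)
        (by rw [← Nat.card_eq_fintype_card, card_sylow_three hG]) M J ?_ ?_ ?_ ?_ ?_ ?_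
      · ext X Y
        simp [J, Matrix.mul_apply, ← Nat.card_eq_fintype_card, card_sylow_three hG]
      · ext X Y
        simp [J, Matrix.mul_apply, hrow X]
      · ext X Y
        simp [J, Matrix.mul_apply, hcol Y]
      · ext X Y
        rw [hM2 X Y, hC1, hm8]
        by_cases h3 : X = Y
        · subst h3
          simp [M, J, Adj]
          norm_num
        · by_cases h4 : Adj X Y
          · simp [M, J, h3, h4]; norm_num
          · simp [M, J, h3, h4]
      · simp [Matrix.trace, M, Adj]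
      · simp [Matrix.trace, J, ← Nat.card_eq_fintype_card, card_sylow_three hG]
  by_cases hb : Adj Q (p₀ • R)
  · exfalso
    -- then adjacency is an equivalence with classes of size nineteen
    have hC17 : C.ncard = 17 := by
      have hCeq : C = (A \ {Q}) ∪ B := by
        ext V
        rw [hCmem V]
        constructor
        · rintro (rfl | ⟨h, h', -⟩ | ⟨h, -, -⟩)
          exacts [Or.inr ⟨1, one_mem _, one_smul _ _⟩, Or.inl ⟨h, h'⟩, Or.inr h]
        · rintro (⟨h, h'⟩ | h)
          · exact Or.inr (Or.inl ⟨h, h', ha⟩)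
          · by_cases hV : V = R
            exacts [Or.inl hV, Or.inr (Or.inr ⟨h, hV, hb⟩)]
      rw [hCeq, Set.ncard_union_eq (by
        rw [Set.disjoint_left]
        rintro _ ⟨⟨p, hp, rfl⟩, -⟩ ⟨p', hp', e⟩
        exact hAB p hp p' hp' e.symm) (Set.toFinite _) (Set.toFinite _),
        Set.ncard_sdiff_singleton_of_mem (show Q ∈ A from ⟨1, one_mem _, one_smul _ _⟩), cardA Q hPQ.symm,
        cardA R hPR.symm]
    have hm0 : m = 0 := by omega
    let S : Setoid (Sylow 3 G) :=
      { r := fun X Y => X = Y ∨ Adj X Y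
        iseqv :=
          { refl := fun X => Or.inl rfl
            symm := fun {X Y} h => h.elim (fun e => Or.inl e.symm) fun e => Or.inr e.symm
            trans := fun {X Y Z} h1 h2 => by
              rcases h1 with rfl | h1
              · exact h2
              rcases h2 with rfl | h2
              · exact Or.inr h1
              by_cases hXZ : X = Z
              · exact Or.inl hXZ
              by_contra hn
              push Not at hn
              have := hfar X Z hXZ hn.2
              rw [hm0, Set.ncard_eq_zero (Set.toFinite _)] at this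
              exact (this ▸ (show Y ∈ {V | Adj X V ∧ Adj Z V} from ⟨h1, h2.symm⟩) :
                Y ∈ (∅ : Set (Sylow 3 G))) } }
    have hclass : ∀ X : Sylow 3 G, (Finset.univ.filter fun Y => Quotient.mk S Y = Quotient.mk S X).card
        = 19 := by
      intro X
      rw [← Set.ncard_coe_finset]
      have : ((Finset.univ.filter fun Y => Quotient.mk S Y = Quotient.mk S X : Finset _) :
          Set (Sylow 3 G)) = insert X {V | Adj X V} := by
        ext Y
        simp only [Finset.coe_filter, Finset.mem_univ, true_and, Set.mem_setOf_eq,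
          Set.mem_insert_iff, Quotient.eq]
        exact ⟨fun h => h.elim Or.inl fun e => Or.inr e.symm,
          fun h => h.elim Or.inl fun e => Or.inr e.symm⟩
      rw [this, Set.ncard_insert_of_notMem (fun h => h.1 rfl) (Set.toFinite _), h18]
    have hdvd : 19 ∣ Fintype.card (Sylow 3 G) := by
      rw [← Finset.card_univ, Finset.card_eq_sum_card_image (Quotient.mk S) Finset.univ]
      refine Finset.dvd_sum fun q hq => ?_
      obtain ⟨X, -, rfl⟩ := Finset.mem_image.1 hq
      rw [hclass X]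
    rw [← Nat.card_eq_fintype_card, card_sylow_three hG] at hdvd
    norm_num at hdvd
  -- the line through `P` and `Q`
  set L : Set (Sylow 3 G) := insert P A with hL
  set H : Subgroup G := MulAction.stabilizer G L with hH
  have hmem : ∀ g : G, (∀ V ∈ L, g • V ∈ L) → g ∈ H := by
    intro g hg
    rw [hH, MulAction.mem_stabilizer_iff]
    refine Set.eq_of_subset_of_ncard_le ?_ ?_ (Set.toFinite _)
    · rintro _ ⟨V, hV, rfl⟩
      exact hg V hV
    · rw [← Set.image_smul, Set.ncard_image_of_injective _ (MulAction.injective g)]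
  have hLH : ∀ g ∈ H, ∀ V ∈ L, g • V ∈ L := fun g hg V hV => by
    have := Set.smul_mem_smul_set (a := g) hV
    rwa [show g • L = L from hg] at this
  have hPH : ∀ p ∈ (P : Subgroup G), p ∈ H := fun p hp => hmem p (by
    rintro V (rfl | ⟨q, hq, rfl⟩)
    · exact Or.inl (hPfix p hp)
    · exact Or.inr ⟨p * q, mul_mem hp hq, mul_smul _ _ _⟩)
  have hKH : K ≤ H := fun k hk => hmem k (by
    rintro V (rfl | ⟨q, hq, rfl⟩)
    · exact Or.inl (hKfix k hk).1
    · refine Or.inr ⟨k * q * k⁻¹,
        (Subgroup.mem_normalizer_iff.1 ((smul_sylow_iff P k).1 (hKfix k hk).1) q).1 hq, ?_⟩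
      rw [mul_smul, mul_smul, (hKfix k⁻¹ (inv_mem hk)).2.1])
  obtain ⟨g, hgP, hgQ⟩ := exists_map_adj hG (show Adj P Q from ⟨hPQ, t, ht, hQ⟩)
    (show Adj P Q from ⟨hPQ, t, ht, hQ⟩).symm
  have hgR : g • R = R := by
    have h1 : IP Q (g * t * g⁻¹) := hgP ▸ ht.conj g
    have h2 : IP P (g * t * g⁻¹) := hgQ ▸ hQ.conj g
    have h3 : g * t * g⁻¹ = t :=
      IP_unique hG hPQ h2 ht h1.normalizes hQ.normalizes
    have h4 : g • R ∈ {S : Sylow 3 G | IP S t} := by
      have := hR.conj g
      rwa [h3] at this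
    rw [hT] at h4
    rcases h4 with e | e | e
    · exact absurd (MulAction.injective g (e.trans hgQ.symm)) hQR.symm
    · exact absurd (MulAction.injective g (e.trans hgP.symm)) hPR.symm
    · exact e
  have hgH : g ∈ H := hmem g (by
    rintro V (rfl | ⟨p, hp, rfl⟩)
    · exact Or.inr ⟨1, one_mem _, by rw [one_smul, hgP]⟩
    · by_cases hp1 : p = 1
      · rw [hp1, one_smul, hgQ]; exact Or.inl rfl
      have h1 : g • (p • Q) ∈ C :=
        ⟨hgQ ▸ ((hAQ p hp hp1).2 ha).smul g, hgP ▸ (hAdjQ p hp).smul g⟩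
      rcases (hCmem _).1 h1 with e | ⟨h, -, -⟩ | ⟨-, -, h⟩
      · exact absurd ⟨p, hp, MulAction.injective g (e.trans hgR.symm)⟩ hRA
      · exact Or.inr h
      · exact absurd h hb)
  have horb : {V : Sylow 3 G | ∃ h ∈ H, h • P = V} = L := by
    ext V
    constructor
    · rintro ⟨h, hh, rfl⟩
      exact hLH h hh P (Or.inl rfl)
    · rintro (rfl | ⟨p, hp, rfl⟩)
      · exact ⟨1, one_mem _, one_smul _ _⟩
      · exact ⟨p * g, mul_mem (hPH p hp) hgH, by rw [mul_smul, hgP]⟩
  set S := H ⊓ Subgroup.normalizer ((P : Subgroup G) : Set G) with hS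
  have hS72 : Nat.card S = 72 := by
    have h9 := card_three hG P ▸ Subgroup.card_dvd_of_le
      (show (P : Subgroup G) ≤ S from fun p hp => ⟨hPH p hp, Subgroup.le_normalizer hp⟩)
    have h8 := hK8 ▸ Subgroup.card_dvd_of_le
      (show K ≤ S from fun k hk => ⟨hKH hk, (smul_sylow_iff P k).1 (hKfix k hk).1⟩)
    have h72 : 72 ∣ Nat.card S :=
      Nat.Coprime.mul_dvd_of_dvd_of_dvd (by norm_num : Nat.Coprime 9 8) h9 h8
    have h144 := card_normalizer_sylow_three hG P ▸
      Subgroup.card_dvd_of_le (inf_le_right : S ≤ Subgroup.normalizer ((P : Subgroup G) : Set G))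
    have hlt : Nat.card S < 144 := by
      refine lt_of_le_of_ne (Nat.le_of_dvd (by norm_num) h144) fun e => ?_
      have heq : S = Subgroup.normalizer ((P : Subgroup G) : Set G) :=
        Subgroup.eq_of_le_of_card_ge inf_le_right (by rw [e, card_normalizer_sylow_three hG P])
      have hdH : d ∈ H := (heq.ge ((smul_sylow_iff P d).1 hdP)).1
      rcases hLH d hdH Q (Or.inr ⟨1, one_mem _, one_smul _ _⟩) with e' | e'
      · exact hPR (hdR ▸ e').symm
      · exact hRA (hdR ▸ e')
    obtain ⟨j, hj⟩ := h72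
    have := Nat.card_pos (α := S)
    omega
  have hcard := ncard_smul_orbit H P
  rw [horb, hL, Set.ncard_insert_of_notMem (fun h => by
    obtain ⟨p, hp, e⟩ := h; exact (hAdjQ p hp).1 e.symm) (Set.toFinite _), hA,
    cardA Q hPQ.symm, ← hS, hS72] at hcard
  refine ⟨H, ?_⟩
  have := H.card_mul_index
  rw [← hcard, hG] at this
  omega

end CfsgLib.Small.O7920
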