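import Cfsg.Agent.Lib.Small.Order7920Local
import Mathlib.LinearAlgebra.Trace
import Mathlib.Analysis.Real.Sqrt

/-!
# Simple groups of order 7920: the graph on the fifty-five Sylow subgroups of order nine
-/

set_option autoImplicit false
set_option linter.style.haveILetI false
set_option linter.unusedSectionVars false

open Cfsg

namespace CfsgLib.Small.O7920

open scoped Pointwise

variable {G : Type*} [Group G] [Finite G]

/-- Two Sylow subgroups inverted by a common involution. -/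
def Adj (P Q : Sylow 3 G) : Prop := P ≠ Q ∧ ∃ t, IP P t ∧ IP Q t

theorem Adj.symm {P Q : Sylow 3 G} (h : Adj P Q) : Adj Q P := by
  obtain ⟨hne, t, h1, h2⟩ := h
  exact ⟨hne.symm, t, h2, h1⟩

theorem Adj.smul {P Q : Sylow 3 G} (h : Adj P Q) (g : G) : Adj (g • P) (g • Q) := by
  obtain ⟨hne, t, h1, h2⟩ := h
  exact ⟨fun e => hne (MulAction.injective g e), _, h1.conj g, h2.conj g⟩

theorem adj_smul_iff {P Q : Sylow 3 G} (g : G) : Adj (g • P) (g • Q) ↔ Adj P Q :=
  ⟨fun h => by simpa using h.smul g⁻¹, fun h => h.smul g⟩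

theorem smul_sylow_iff (Q : Sylow 3 G) (h : G) :
    h • Q = Q ↔ h ∈ Subgroup.normalizer ((Q : Subgroup G) : Set G) :=
  Sylow.smul_eq_iff_mem_normalizer

theorem ncard_smul_orbit (H : Subgroup G) (P : Sylow 3 G) :
    {Q : Sylow 3 G | ∃ h ∈ H, h • P = Q}.ncard *
      Nat.card (H ⊓ Subgroup.normalizer ((P : Subgroup G) : Set G) : Subgroup G) = Nat.card H := by
  have horb : MulAction.orbit H P = {Q : Sylow 3 G | ∃ h ∈ H, h • P = Q} := by
    ext Q
    exact ⟨fun ⟨h, e⟩ => ⟨h, h.2, e⟩, fun ⟨h, hh, e⟩ => ⟨⟨h, hh⟩, e⟩⟩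
  have hst : MulAction.stabilizer H P =
      (H ⊓ Subgroup.normalizer ((P : Subgroup G) : Set G)).subgroupOf H := by
    ext n
    rw [MulAction.mem_stabilizer_iff, Subgroup.mem_subgroupOf, Subgroup.mem_inf, ← smul_sylow_iff]
    exact ⟨fun h => ⟨n.2, h⟩, fun h => h.2⟩
  have h := (MulAction.stabilizer H P).card_mul_index
  rw [MulAction.index_stabilizer, horb, hst,
    Nat.card_congr (Subgroup.subgroupOfEquivOfLe inf_le_left).toEquiv] at h
  rw [mul_comm, h]

variable [IsSimpleGroup G] (hG : Nat.card G = 7920)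

include hG

theorem card_sylow_three : Nat.card (Sylow 3 G) = 55 := by
  haveI := Fact.mk Nat.prime_three
  obtain ⟨P⟩ := (inferInstance : Nonempty (Sylow 3 G))
  have := card_normalizer_mul P
  rw [card_normalizer_sylow_three hG P, hG] at this
  omega

theorem IP_mul_mem {P : Sylow 3 G} {t t' : G} (h : IP P t) (h' : IP P t') :
    t' * t ∈ (P : Subgroup G) := by
  refine mem_of_centralizes hG P fun x hx => ?_
  have e1 := h.2 x hx
  have e2 := h'.2 x⁻¹ (inv_mem hx)
  rw [inv_inv] at e2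
  calc t' * t * x = t' * (t * x * t⁻¹) * t := by group
    _ = t' * x⁻¹ * t := by rw [e1]
    _ = t' * x⁻¹ * t'⁻¹ * (t' * t) := by group
    _ = x * (t' * t) := by rw [e2]

theorem IP_unique {P Q : Sylow 3 G} {t t' : G} (hne : P ≠ Q) (h : IP P t) (h' : IP P t')
    (ht : t ∈ Subgroup.normalizer ((Q : Subgroup G) : Set G))
    (ht' : t' ∈ Subgroup.normalizer ((Q : Subgroup G) : Set G)) : t = t' := by
  have hw := IP_mul_mem hG h h'
  by_contra hne'
  refine hne (eq_of_mem_of_mem hG hw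
    (mem_three_of_normalizes hG Q (mul_mem ht' ht) (pow_nine hG P hw)) fun e => hne' ?_)
  have htt : t * t = 1 := by rw [← sq, ← h.1, pow_orderOf_eq_one]
  calc t = t' * t * t := by rw [e, one_mul]
    _ = t' := by rw [mul_assoc, htt, mul_one]

theorem IP_conj_exists {P : Sylow 3 G} {t t' : G} (h : IP P t) (h' : IP P t') :
    ∃ p ∈ (P : Subgroup G), p * t * p⁻¹ = t' := by
  have hw := IP_mul_mem hG h h'
  refine ⟨(t' * t) ^ 2, pow_mem hw _, ?_⟩
  have e := h.2 _ (inv_mem (pow_mem hw 2))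
  rw [inv_inv] at e
  have htt : t * t = 1 := by rw [← sq, ← h.1, pow_orderOf_eq_one]
  calc (t' * t) ^ 2 * t * ((t' * t) ^ 2)⁻¹
      = (t' * t) ^ 2 * (t * ((t' * t) ^ 2)⁻¹ * t⁻¹) * t := by group
    _ = (t' * t) ^ (2 + 2) * t := by rw [e, pow_add]
    _ = t' * t * t := by rw [pow_succ', exponent_three hG P hw, mul_one]
    _ = t' := by rw [mul_assoc, htt, mul_one]

theorem conj_inj {P : Sylow 3 G} {t p p' : G} (h : IP P t) (hp : p ∈ (P : Subgroup G))
    (hp' : p' ∈ (P : Subgroup G)) (e : p * t * p⁻¹ = p' * t * p'⁻¹) : p = p' := by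
  have hq : p'⁻¹ * p ∈ (P : Subgroup G) := mul_mem (inv_mem hp') hp
  have hc : t * (p'⁻¹ * p) * t⁻¹ = p'⁻¹ * p := by
    calc t * (p'⁻¹ * p) * t⁻¹ = p'⁻¹ * (p' * t * p'⁻¹) * p * t⁻¹ := by group
      _ = p'⁻¹ * (p * t * p⁻¹) * p * t⁻¹ := by rw [e]
      _ = _ := by group
  rw [h.2 _ hq] at hc
  have h2 : (p'⁻¹ * p) ^ 2 = 1 := by rw [sq]; nth_rw 1 [← hc]; exact inv_mul_cancel _
  have h1 : p'⁻¹ * p = 1 := by
    have := exponent_three hG P hq
    rw [pow_succ, h2, one_mul] at this
    exact this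
  exact (inv_mul_eq_one.1 h1).symm

theorem ncard_IP {P : Sylow 3 G} {t : G} (h : IP P t) :
    {t' | IP P t'}.ncard = 9 ∧
      Nat.card (Subgroup.centralizer ({t} : Set G) ⊓
        Subgroup.normalizer ((P : Subgroup G) : Set G) : Subgroup G) = 16 := by
  set N := Subgroup.normalizer ((P : Subgroup G) : Set G) with hN
  have hO : {y : G | ∃ n ∈ N, n * t * n⁻¹ = y} = {t' | IP P t'} := by
    ext t'
    constructor
    · rintro ⟨n, hn, rfl⟩
      have := h.conj n
      rwa [(smul_sylow_iff P n).2 hn] at this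
    · intro ht'
      obtain ⟨p, hp, e⟩ := IP_conj_exists hG h ht'
      exact ⟨p, Subgroup.le_normalizer hp, e⟩
  have h9 : {t' | IP P t'}.ncard = 9 := by
    have e : {t' | IP P t'} = (fun p : (P : Subgroup G) => (p : G) * t * (p : G)⁻¹) '' Set.univ := by
      ext t'
      constructor
      · intro ht'
        obtain ⟨p, hp, e⟩ := IP_conj_exists hG h ht'
        exact ⟨⟨p, hp⟩, trivial, e⟩
      · rintro ⟨p, -, rfl⟩
        have := h.conj (p : G)
        rwa [(smul_sylow_iff P _).2 (Subgroup.le_normalizer p.2)] at this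
    rw [e, Set.ncard_image_of_injective _ (fun a b hab => Subtype.ext (conj_inj hG h a.2 b.2 hab)),
      Set.ncard_univ, card_three hG P]
  refine ⟨h9, ?_⟩
  have hc := ncard_conj N t
  rw [hO, h9, ← Subgroup.inf_relIndex_right] at hc
  have := Subgroup.relIndex_mul_relIndex ⊥ (Subgroup.centralizer ({t} : Set G) ⊓ N) N bot_le
    inf_le_right
  rw [Subgroup.relIndex_bot_left, Subgroup.relIndex_bot_left, ← hc,
    show Nat.card N = 144 from card_normalizer_sylow_three hG P] at this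
  omega

theorem exists_conj_fix {P Q : Sylow 3 G} {t : G} (h : IP P t) (hQ : IP Q t) :
    ∃ c ∈ Subgroup.centralizer ({t} : Set G), c • P = Q := by
  haveI := Fact.mk Nat.prime_three
  obtain ⟨g, rfl⟩ := MulAction.exists_smul_eq G P Q
  have h2 := hQ.conj g⁻¹
  rw [inv_smul_smul, inv_inv] at h2
  obtain ⟨p, hp, e⟩ := IP_conj_exists hG h h2
  refine ⟨g * p, Subgroup.mem_centralizer_singleton_iff.2 (mul_inv_eq_iff_eq_mul.1 ?_), ?_⟩
  · calc g * p * t * (g * p)⁻¹ = g * (p * t * p⁻¹) * g⁻¹ := by group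
      _ = t := by rw [e]; group
  · rw [mul_smul, (smul_sylow_iff P p).2 (Subgroup.le_normalizer hp)]

theorem conj_centralizer {g t : G} (hg : g ∈ Subgroup.centralizer ({t} : Set G)) :
    g * t * g⁻¹ = t :=
  mul_inv_eq_iff_eq_mul.2 (Subgroup.mem_centralizer_singleton_iff.1 hg)

theorem ncard_T {P : Sylow 3 G} {t : G} (h : IP P t) : {Q : Sylow 3 G | IP Q t}.ncard = 3 := by
  have hset : {Q : Sylow 3 G | ∃ c ∈ Subgroup.centralizer ({t} : Set G), c • P = Q} =
      {Q | IP Q t} := by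
    ext Q
    constructor
    · rintro ⟨c, hc, rfl⟩
      have := h.conj c
      rwa [conj_centralizer hG hc] at this
    · exact exists_conj_fix hG h
  have h1 := ncard_smul_orbit (Subgroup.centralizer ({t} : Set G)) P
  rw [hset, (ncard_IP hG h).2, card_centralizer_involution hG h.1] at h1
  omega

/-- An element of order three centralising an involution that normalises but does not invert. -/
theorem exists_fixed {U : Sylow 3 G} {t : G} (ht : orderOf t = 2)
    (hn : t ∈ Subgroup.normalizer ((U : Subgroup G) : Set G)) (hU : ¬ IP U t) :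
    ∃ u ∈ (U : Subgroup G), u ≠ 1 ∧ t * u = u * t := by
  by_contra hcon
  push Not at hcon
  refine hU ⟨ht, fun x hx => ?_⟩
  have htt : t * t = 1 := by rw [← sq, ← ht, pow_orderOf_eq_one]
  have ht' : t⁻¹ = t := inv_eq_of_mul_eq_one_right htt
  have hy : t * x * t⁻¹ ∈ (U : Subgroup G) := (Subgroup.mem_normalizer_iff.1 hn x).1 hx
  have hfix : t * (x * (t * x * t⁻¹)) = (x * (t * x * t⁻¹)) * t := by
    rw [ht'] at hy ⊢
    calc t * (x * (t * x * t)) = t * ((t * x * t) * x) := by rw [three_comm hG U hx hy]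
      _ = (t * t) * x * t * x := by group
      _ = x * t * x * (t * t) := by rw [htt, one_mul, mul_one]
      _ = x * (t * x * t) * t := by group
  exact eq_inv_of_mul_eq_one_right (by
    by_contra h1
    exact hcon _ (mul_mem hx hy) h1 hfix)

theorem F_transitive {U U' : Sylow 3 G} {t : G} (ht : orderOf t = 2)
    (hn : t ∈ Subgroup.normalizer ((U : Subgroup G) : Set G)) (hU : ¬ IP U t)
    (hn' : t ∈ Subgroup.normalizer ((U' : Subgroup G) : Set G)) (hU' : ¬ IP U' t) :
    ∃ c ∈ Subgroup.centralizer ({t} : Set G), c • U = U' := by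
  haveI := Fact.mk Nat.prime_three
  set C := Subgroup.centralizer ({t} : Set G) with hC
  obtain ⟨u, hu, hu1, huc⟩ := exists_fixed hG ht hn hU
  obtain ⟨u', hu', hu1', huc'⟩ := exists_fixed hG ht hn' hU'
  have mk : ∀ {V : Sylow 3 G} {v : G} (hv : v ∈ (V : Subgroup G)) (hv1 : v ≠ 1)
      (hvc : v ∈ C), ∃ S : Sylow 3 C, (S : Subgroup C) = Subgroup.zpowers ⟨v, hvc⟩ := by
    intro V v hv hv1 hvc
    refine ⟨Sylow.ofCard (Subgroup.zpowers (⟨v, hvc⟩ : C)) ?_, Sylow.coe_ofCard _ _⟩
    rw [Nat.card_zpowers, Subgroup.orderOf_mk, orderOf_three hG V hv hv1, hC,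
      card_centralizer_involution hG ht, show 48 = 3 * 16 from rfl,
      Nat.factorization_mul (by norm_num) (by norm_num)]
    simp [Nat.Prime.factorization_self Nat.prime_three,
      Nat.factorization_eq_zero_of_not_dvd (show ¬ 3 ∣ 16 by norm_num)]
  obtain ⟨S, hS⟩ := mk hu hu1 (Subgroup.mem_centralizer_singleton_iff.2 huc.symm)
  obtain ⟨S', hS'⟩ := mk hu' hu1' (Subgroup.mem_centralizer_singleton_iff.2 huc'.symm)
  obtain ⟨c, rfl⟩ := MulAction.exists_smul_eq C S S'
  refine ⟨c, c.2, ?_⟩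
  have hmem : c * ⟨u, Subgroup.mem_centralizer_singleton_iff.2 huc.symm⟩ * c⁻¹ ∈
      Subgroup.zpowers (⟨u', Subgroup.mem_centralizer_singleton_iff.2 huc'.symm⟩ : C) := by
    rw [← hS', Sylow.coe_subgroup_smul, Subgroup.mem_pointwise_smul_iff_inv_smul_mem, hS]
    simp [MulAut.smul_def, mul_assoc]
  obtain ⟨k, hk⟩ := hmem
  have hk' : u' ^ k = (c : G) * u * (c : G)⁻¹ := congrArg Subtype.val hk
  refine eq_of_mem_of_mem hG (x := (c : G) * u * (c : G)⁻¹) ?_ (hk' ▸ zpow_mem hu' k)
    (fun e => hu1 (conj_eq_one_iff.1 e))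
  rw [mem_smul_sylow]
  simpa [mul_assoc] using hu

theorem F_bounds {U : Sylow 3 G} {t : G} (ht : orderOf t = 2)
    (hn : t ∈ Subgroup.normalizer ((U : Subgroup G) : Set G)) (hU : ¬ IP U t) :
    Nat.card (Subgroup.centralizer ({t} : Set G) ⊓
        Subgroup.normalizer ((U : Subgroup G) : Set G) : Subgroup G) ≤ 12 ∧
      4 ≤ {V : Sylow 3 G | t ∈ Subgroup.normalizer ((V : Subgroup G) : Set G) ∧ ¬ IP V t}.ncard ∧
      {V : Sylow 3 G | t ∈ Subgroup.normalizer ((V : Subgroup G) : Set G) ∧ ¬ IP V t}.ncard *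
        Nat.card (Subgroup.centralizer ({t} : Set G) ⊓
          Subgroup.normalizer ((U : Subgroup G) : Set G) : Subgroup G) = 48 := by
  obtain ⟨u, hu, hu1, huc⟩ := exists_fixed hG ht hn hU
  set C := Subgroup.centralizer ({t} : Set G) with hC
  set M := C ⊓ Subgroup.normalizer ((U : Subgroup G) : Set G) with hM
  have ou := orderOf_three hG U hu hu1
  have hline : ∀ v ∈ (U : Subgroup G), t * v = v * t → v ∈ Subgroup.zpowers u := by
    intro v hv hvc
    by_contra hnv
    have := eq_one_of_fix hG U (a := t)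
      (by rw [show (16 : ℕ) = orderOf t * 8 by rw [ht], pow_mul, pow_orderOf_eq_one, one_pow])
      (fun p hp => by
        obtain ⟨i, j, rfl⟩ := eq_pow_mul_pow hG U hu hu1 hv hnv hp
        exact ((Commute.pow_right (show Commute t u from huc) _).mul_right
          (Commute.pow_right (show Commute t v from hvc) _)).eq)
    rw [this, orderOf_one] at ht
    norm_num at ht
  have himg : {y : G | ∃ m ∈ M, m * u * m⁻¹ = y} ⊆ {u, u⁻¹} := by
    rintro _ ⟨m, hm, rfl⟩
    have hv : m * u * m⁻¹ ∈ (U : Subgroup G) := (Subgroup.mem_normalizer_iff.1 hm.2 u).1 hu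
    have hmt : Commute t m := (Subgroup.mem_centralizer_singleton_iff.1 hm.1).symm
    obtain ⟨k, hk⟩ := hline _ hv ((hmt.mul_right huc).mul_right hmt.inv_right).eq
    have hk' : u ^ k = m * u * m⁻¹ := hk
    rw [← hk', ← zpow_mod_orderOf u k, ou]
    have hne : k % 3 ≠ 0 := by
      intro h
      rw [← zpow_mod_orderOf u k, ou, show ((3 : ℕ) : ℤ) = 3 from rfl, h, zpow_zero] at hk'
      exact hu1 (conj_eq_one_iff.1 hk'.symm)
    rcases (show k % 3 = 1 ∨ k % 3 = 2 by omega) with h | h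
    · left; push_cast; rw [h, zpow_one]
    · right; push_cast; rw [h]
      refine eq_inv_of_mul_eq_one_left ?_
      rw [← zpow_add_one]; exact_mod_cast exponent_three hG U hu
  have hle : Nat.card (Subgroup.centralizer ({u} : Set G) ⊓ M : Subgroup G) ≤ 6 := by
    have h18 := card_centralizer_three hG U hu hu1 ▸
      Subgroup.card_dvd_of_le (inf_le_left : Subgroup.centralizer ({u} : Set G) ⊓ M ≤ _)
    have h48 := card_centralizer_involution hG ht ▸
      Subgroup.card_dvd_of_le ((inf_le_right.trans inf_le_left) :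
        Subgroup.centralizer ({u} : Set G) ⊓ M ≤ C)
    exact Nat.le_of_dvd (by norm_num) (show _ ∣ Nat.gcd 18 48 from Nat.dvd_gcd h18 h48)
  have hc := ncard_conj M u
  rw [← Subgroup.inf_relIndex_right] at hc
  have hmul := Subgroup.relIndex_mul_relIndex ⊥ (Subgroup.centralizer ({u} : Set G) ⊓ M) M bot_le
    inf_le_right
  rw [Subgroup.relIndex_bot_left, Subgroup.relIndex_bot_left, ← hc] at hmul
  have h2 : {y : G | ∃ m ∈ M, m * u * m⁻¹ = y}.ncard ≤ 2 :=
    (Set.ncard_le_ncard himg (Set.toFinite _)).trans ((Set.ncard_insert_le _ _).trans (by simp))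
  have h12 : Nat.card M ≤ 12 := by rw [← hmul]; exact Nat.mul_le_mul hle h2
  have hset : {V : Sylow 3 G | ∃ c ∈ C, c • U = V} =
      {V : Sylow 3 G | t ∈ Subgroup.normalizer ((V : Subgroup G) : Set G) ∧ ¬ IP V t} := by
    ext V
    constructor
    · rintro ⟨c, hc, rfl⟩
      refine ⟨?_, fun h => hU ?_⟩
      · have := mem_smul_normalizer (g := c) hn
        rwa [conj_centralizer hG hc] at this
      · have := h.conj c⁻¹
        rwa [inv_smul_smul, conj_centralizer hG (inv_mem hc)] at this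
    · rintro ⟨h1, h2⟩
      exact F_transitive hG ht hn hU h1 h2
  have h1 := ncard_smul_orbit C U
  rw [hset, ← hM, hC, card_centralizer_involution hG ht] at h1
  refine ⟨h12, ?_, h1⟩
  nlinarith

theorem exists_order_three {t : G} (ht : orderOf t = 2) :
    ∃ u : G, u ∈ Subgroup.centralizer ({t} : Set G) ∧ orderOf u = 3 := by
  haveI := Fact.mk Nat.prime_three
  obtain ⟨⟨u, hu⟩, ho⟩ := exists_prime_orderOf_dvd_card'
    (G := Subgroup.centralizer ({t} : Set G)) 3
    (by rw [card_centralizer_involution hG ht]; norm_num)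
  exact ⟨u, hu, by rwa [Subgroup.orderOf_mk] at ho⟩

theorem exists_sylow_of_orderOf {u : G} (hu : orderOf u = 3) :
    ∃ U : Sylow 3 G, u ∈ (U : Subgroup G) := by
  haveI := Fact.mk Nat.prime_three
  obtain ⟨U, hU⟩ := (IsPGroup.of_card (n := 1) (G := Subgroup.zpowers u)
    (by rw [Nat.card_zpowers, hu, pow_one])).exists_le_sylow
  exact ⟨U, hU (Subgroup.mem_zpowers u)⟩

theorem not_IP_of_commute {U : Sylow 3 G} {t u : G} (hu : u ∈ (U : Subgroup G)) (hu1 : u ≠ 1)
    (h : t * u = u * t) : ¬ IP U t := fun hIP => by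
  have h1 := hIP.2 u hu
  rw [mul_inv_eq_iff_eq_mul.2 h] at h1
  have h2 : u ^ 2 = 1 := by rw [sq]; nth_rw 1 [h1]; exact inv_mul_cancel u
  have := exponent_three hG U hu
  rw [pow_succ, h2, one_mul] at this
  exact hu1 this

theorem normalizes_of_commute {U : Sylow 3 G} {t u : G} (hu : u ∈ (U : Subgroup G)) (hu1 : u ≠ 1)
    (h : t * u = u * t) : t ∈ Subgroup.normalizer ((U : Subgroup G) : Set G) := by
  rw [← smul_sylow_iff]
  refine eq_of_mem_of_mem hG (x := u) ?_ hu hu1
  rw [mem_smul_sylow, mul_assoc, ← h, inv_mul_cancel_left]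
  exact hu

/-- The nine involutions inverting `P` cut the other points into nine sets of six. -/
theorem partition (P : Sylow 3 G) :
    (∀ U, U ≠ P → ∃ t, IP P t ∧ t ∈ Subgroup.normalizer ((U : Subgroup G) : Set G)) ∧
      ∀ t, IP P t →
        {V : Sylow 3 G | t ∈ Subgroup.normalizer ((V : Subgroup G) : Set G) ∧ ¬ IP V t}.ncard =
          4 := by
  classical
  haveI := Fintype.ofFinite G
  haveI := Fintype.ofFinite (Sylow 3 G)
  obtain ⟨t₀, ht₀⟩ := exists_IP hG P
  set I : Finset G := {t' | IP P t'}.toFinset with hI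
  have hI9 : I.card = 9 := by
    rw [hI, ← Set.ncard_eq_toFinset_card', (ncard_IP hG ht₀).1]
  let S : G → Finset (Sylow 3 G) := fun t =>
    {V : Sylow 3 G | t ∈ Subgroup.normalizer ((V : Subgroup G) : Set G) ∧ V ≠ P}.toFinset
  have hS : ∀ t, IP P t → (S t).card = 2 +
      {V : Sylow 3 G | t ∈ Subgroup.normalizer ((V : Subgroup G) : Set G) ∧ ¬ IP V t}.ncard := by
    intro t ht
    have hT := ncard_T hG ht
    rw [← Set.ncard_sdiff_singleton_add_one (show P ∈ {Q : Sylow 3 G | IP Q t} from ht)] at hT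
    have e : {V : Sylow 3 G | t ∈ Subgroup.normalizer ((V : Subgroup G) : Set G) ∧ V ≠ P} =
        ({Q : Sylow 3 G | IP Q t} \ {P}) ∪
          {V : Sylow 3 G | t ∈ Subgroup.normalizer ((V : Subgroup G) : Set G) ∧ ¬ IP V t} := by
      ext V
      simp only [Set.mem_setOf_eq, Set.mem_union, Set.mem_sdiff, Set.mem_singleton_iff]
      constructor
      · rintro ⟨h1, h2⟩
        by_cases h : IP V t
        · exact Or.inl ⟨h, h2⟩
        · exact Or.inr ⟨h1, h⟩
      · rintro (⟨h1, h2⟩ | ⟨h1, h2⟩)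
        · exact ⟨h1.normalizes, h2⟩
        · exact ⟨h1, fun e => h2 (e ▸ ht)⟩
    show _ = _
    simp only [S, ← Set.ncard_eq_toFinset_card', e]
    rw [Set.ncard_union_eq (by
      rw [Set.disjoint_left]
      exact fun V h1 h2 => h2.2 h1.1) (Set.toFinite _) (Set.toFinite _)]
    omega
  have hdis : (I : Set G).PairwiseDisjoint S := by
    intro a ha b hb hab
    rw [Function.onFun, Finset.disjoint_left]
    intro V hVa hVb
    simp only [S, Set.mem_toFinset, Set.mem_setOf_eq] at hVa hVb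
    simp only [hI, Set.coe_toFinset, Set.mem_setOf_eq] at ha hb
    exact hab (IP_unique hG hVa.2.symm ha hb hVa.1 hVb.1)
  have hsub : I.biUnion S ⊆ Finset.univ.erase P := by
    intro V hV
    obtain ⟨t, -, hVt⟩ := Finset.mem_biUnion.1 hV
    simp only [S, Set.mem_toFinset, Set.mem_setOf_eq] at hVt
    exact Finset.mem_erase.2 ⟨hVt.2, Finset.mem_univ _⟩
  have h54 : (Finset.univ.erase P).card = 54 := by
    rw [Finset.card_erase_of_mem (Finset.mem_univ _), Finset.card_univ, ← Nat.card_eq_fintype_card,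
      card_sylow_three hG]
  have h6 : ∀ t ∈ I, 6 ≤ (S t).card := by
    intro t ht
    rw [hI, Set.mem_toFinset] at ht
    obtain ⟨u, hu, ho⟩ := exists_order_three hG ht.1
    obtain ⟨U, hU⟩ := exists_sylow_of_orderOf hG ho
    have hu1 : u ≠ 1 := fun e => by rw [e, orderOf_one] at ho; norm_num at ho
    have huc := (Subgroup.mem_centralizer_singleton_iff.1 hu).symm
    have := (F_bounds hG ht.1 (normalizes_of_commute hG hU hu1 huc)
      (not_IP_of_commute hG hU hu1 huc)).2.1
    rw [hS t ht]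
    omega
  have hle := (Finset.card_biUnion hdis ▸ Finset.card_le_card hsub)
  rw [h54] at hle
  have heq : ∀ t ∈ I, (S t).card = 6 := by
    by_contra h
    push Not at h
    obtain ⟨t, ht, hne⟩ := h
    have h1 : ∑ _x ∈ I, 6 < ∑ x ∈ I, (S x).card :=
      Finset.sum_lt_sum h6 ⟨t, ht, lt_of_le_of_ne (h6 t ht) (Ne.symm hne)⟩
    rw [Finset.sum_const, hI9] at h1
    simp at h1
    omega
  have hall : I.biUnion S = Finset.univ.erase P := by
    refine Finset.eq_of_subset_of_card_le hsub ?_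
    rw [h54, Finset.card_biUnion hdis, Finset.sum_congr rfl heq, Finset.sum_const, hI9]
    rfl
  refine ⟨fun U hU => ?_, fun t ht => ?_⟩
  · obtain ⟨t, ht, hUt⟩ := Finset.mem_biUnion.1
      (hall.symm ▸ Finset.mem_erase.2 ⟨hU, Finset.mem_univ U⟩ : U ∈ I.biUnion S)
    rw [hI, Set.mem_toFinset] at ht
    simp only [S, Set.mem_toFinset, Set.mem_setOf_eq] at hUt
    exact ⟨t, ht, hUt.1⟩
  · have := heq t (by rw [hI, Set.mem_toFinset]; exact ht)
    rw [hS t ht] at this
    omega

theorem card_stab_F {P U : Sylow 3 G} {t : G} (h : IP P t)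
    (hn : t ∈ Subgroup.normalizer ((U : Subgroup G) : Set G)) (hU : ¬ IP U t) :
    ∀ V : Sylow 3 G, t ∈ Subgroup.normalizer ((V : Subgroup G) : Set G) → ¬ IP V t →
      ∃ d ∈ Subgroup.centralizer ({t} : Set G) ⊓
        Subgroup.normalizer ((P : Subgroup G) : Set G), d • U = V := by
  classical
  intro V hV1 hV2
  set D := Subgroup.centralizer ({t} : Set G) ⊓
    Subgroup.normalizer ((P : Subgroup G) : Set G) with hD
  set F := {V : Sylow 3 G | t ∈ Subgroup.normalizer ((V : Subgroup G) : Set G) ∧ ¬ IP V t} with hF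
  have hF4 : F.ncard = 4 := (partition hG P).2 t h
  obtain ⟨-, -, hb⟩ := F_bounds hG h.1 hn hU
  rw [← hF, hF4] at hb
  set O := {V : Sylow 3 G | ∃ d ∈ D, d • U = V} with hO
  have hOF : O ⊆ F := by
    rintro _ ⟨d, hd, rfl⟩
    refine ⟨?_, fun h' => hU ?_⟩
    · have := mem_smul_normalizer (g := d) hn
      rwa [conj_centralizer hG hd.1] at this
    · have := h'.conj d⁻¹
      rwa [inv_smul_smul, conj_centralizer hG (inv_mem hd.1)] at this
  have horb := ncard_smul_orbit D U
  rw [← hO, (ncard_IP hG h).2] at horb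
  have h12 := Subgroup.card_dvd_of_le (show D ⊓ Subgroup.normalizer ((U : Subgroup G) : Set G) ≤
    Subgroup.centralizer ({t} : Set G) ⊓ Subgroup.normalizer ((U : Subgroup G) : Set G) from
      inf_le_inf_right _ inf_le_left)
  have h16 := (ncard_IP hG h).2 ▸ Subgroup.card_dvd_of_le
    (inf_le_left : D ⊓ Subgroup.normalizer ((U : Subgroup G) : Set G) ≤ D)
  have hst := Nat.le_of_dvd (by norm_num) (show _ ∣ Nat.gcd 12 16 from Nat.dvd_gcd
    ((show Nat.card (Subgroup.centralizer ({t} : Set G) ⊓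
      Subgroup.normalizer ((U : Subgroup G) : Set G) : Subgroup G) = 12 by omega) ▸ h12) h16)
  rw [show Nat.gcd 12 16 = 4 from rfl] at hst
  have h4 : 4 ≤ O.ncard := by nlinarith
  have := Set.eq_of_subset_of_ncard_le hOF (by rw [hF4]; exact h4) (Set.toFinite _)
  exact this.ge ⟨hV1, hV2⟩

theorem mem_normalizer_inv {g : G} {P : Sylow 3 G}
    (h : g ∈ Subgroup.normalizer ((P : Subgroup G) : Set G)) : g • P = P :=
  (smul_sylow_iff P g).2 h

/-- The stabilizer of a point in the centralizer moves the other two points of the triangle. -/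
theorem exists_swap {P Q : Sylow 3 G} {t : G} (h : IP P t) (hQ : IP Q t) (hne : P ≠ Q) :
    ∃ d ∈ Subgroup.centralizer ({t} : Set G) ⊓ Subgroup.normalizer ((P : Subgroup G) : Set G),
      d • Q ≠ Q := by
  classical
  haveI := Fact.mk Nat.prime_three
  set D := Subgroup.centralizer ({t} : Set G) ⊓
    Subgroup.normalizer ((P : Subgroup G) : Set G) with hD
  by_contra hcon
  push Not at hcon
  have hall : ∀ d ∈ D, ∀ S : Sylow 3 G, IP S t → d • S = S := by
    intro d hd S hS
    by_cases hSP : S = P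
    · rw [hSP, mem_normalizer_inv hG hd.2]
    by_cases hSQ : S = Q
    · rw [hSQ, hcon d hd]
    have hT : {Q : Sylow 3 G | IP Q t} = {P, Q, S} := by
      refine (Set.eq_of_subset_of_ncard_le ?_ ?_ (Set.toFinite _)).symm
      · rintro x (rfl | rfl | rfl) <;> assumption
      · rw [ncard_T hG h, Set.ncard_eq_three.2 ⟨P, Q, S, hne, Ne.symm hSP, Ne.symm hSQ, rfl⟩]
    have hm : d • S ∈ {Q : Sylow 3 G | IP Q t} := by
      have := hS.conj d
      rwa [conj_centralizer hG hd.1] at this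
    rw [hT] at hm
    rcases hm with e | e | e
    · exact absurd (MulAction.injective d (e.trans (mem_normalizer_inv hG hd.2).symm)) hSP
    · exact absurd (MulAction.injective d (e.trans (hcon d hd).symm)) hSQ
    · exact e
  obtain ⟨u, hu, ho⟩ := exists_order_three hG h.1
  have hnorm : ∀ d ∈ D, u * d * u⁻¹ ∈ D := by
    intro d hd
    refine ⟨Subgroup.mul_mem _ (Subgroup.mul_mem _ hu hd.1) (Subgroup.inv_mem _ hu),
      (smul_sylow_iff P _).1 ?_⟩
    have hS : IP (u⁻¹ • P) t := by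
      have := h.conj u⁻¹
      rwa [conj_centralizer hG (inv_mem hu)] at this
    rw [mul_smul, mul_smul, hall d hd _ hS, smul_inv_smul]
  have hnorm' : ∀ (h : Subgroup.zpowers u) (y : D), (h : G) * y * (h : G)⁻¹ ∈ D := by
    rintro ⟨w, hw⟩ y
    obtain ⟨k, hk⟩ := (isOfFinOrder_of_finite u).mem_powers_iff_mem_zpowers.2 hw
    show w * y * w⁻¹ ∈ D
    rw [← hk]
    clear hk
    induction k with
    | zero => simp
    | succ k ih =>
      show u ^ (k + 1) * y * (u ^ (k + 1))⁻¹ ∈ D
      have := hnorm _ ih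
      convert this using 1
      rw [pow_succ']; group
  letI : MulAction (Subgroup.zpowers u) D :=
    { smul := fun h y => ⟨(h : G) * y * (h : G)⁻¹, hnorm' h y⟩
      one_smul := fun y => Subtype.ext (by
        show ((1 : Subgroup.zpowers u) : G) * y * ((1 : Subgroup.zpowers u) : G)⁻¹ = y
        simp)
      mul_smul := fun a b y => Subtype.ext (by
        show ((a * b : Subgroup.zpowers u) : G) * y * ((a * b : Subgroup.zpowers u) : G)⁻¹ =
          (a : G) * ((b : G) * y * (b : G)⁻¹) * (a : G)⁻¹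
        simp [mul_assoc]) }
  have hp : IsPGroup 3 (Subgroup.zpowers u) :=
    IsPGroup.of_card (n := 1) (by rw [Nat.card_zpowers, ho, pow_one])
  have hmod := hp.card_modEq_card_fixedPoints (α := D)
  obtain ⟨U, hU⟩ := exists_sylow_of_orderOf hG ho
  have hu1 : u ≠ 1 := fun e => by rw [e, orderOf_one] at ho; norm_num at ho
  have hfix : MulAction.fixedPoints (Subgroup.zpowers u) D =
      {y : D | (y : G) ∈ Subgroup.centralizer ({u} : Set G)} := by
    ext y
    constructor
    · intro hy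
      have e : u * (y : G) * u⁻¹ = y :=
        congrArg Subtype.val (hy ⟨u, Subgroup.mem_zpowers u⟩)
      exact Subgroup.mem_centralizer_singleton_iff.2 (mul_inv_eq_iff_eq_mul.1 e).symm
    · rintro hy ⟨w, k, rfl⟩
      refine Subtype.ext ?_
      show u ^ k * (y : G) * (u ^ k)⁻¹ = y
      exact mul_inv_eq_iff_eq_mul.2
        ((show Commute u (y : G) from (Subgroup.mem_centralizer_singleton_iff.1 hy).symm).zpow_left k).eq
  have hcard : Nat.card (MulAction.fixedPoints (Subgroup.zpowers u) D) =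
      Nat.card (D ⊓ Subgroup.centralizer ({u} : Set G) : Subgroup G) := by
    rw [hfix]
    exact Nat.card_congr
      { toFun := fun y => ⟨(y.1 : G), y.1.2, y.2⟩
        invFun := fun y => ⟨⟨(y : G), y.2.1⟩, y.2.2⟩
        left_inv := fun _ => rfl
        right_inv := fun _ => rfl }
  rw [hcard, (ncard_IP hG h).2] at hmod
  have h2 : 2 ∣ Nat.card (D ⊓ Subgroup.centralizer ({u} : Set G) : Subgroup G) := by
    rw [← h.1]
    exact Subgroup.orderOf_dvd_natCard _ ⟨⟨Subgroup.mem_centralizer_singleton_iff.2 rfl,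
      h.normalizes⟩, Subgroup.mem_centralizer_singleton_iff.2
      (Subgroup.mem_centralizer_singleton_iff.1 hu).symm⟩
  have h16 := (ncard_IP hG h).2 ▸ Subgroup.card_dvd_of_le
    (inf_le_left : D ⊓ Subgroup.centralizer ({u} : Set G) ≤ D)
  have h18 := card_centralizer_three hG U hU hu1 ▸ Subgroup.card_dvd_of_le
    (inf_le_right : D ⊓ Subgroup.centralizer ({u} : Set G) ≤ _)
  have hg := Nat.le_of_dvd (by norm_num) (show _ ∣ Nat.gcd 16 18 from Nat.dvd_gcd h16 h18)
  rw [show Nat.gcd 16 18 = 2 from rfl] at hg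
  have := Nat.le_of_dvd Nat.card_pos h2
  rw [Nat.ModEq] at hmod
  omega

theorem exists_map_adj {P Q P' Q' : Sylow 3 G} (h : Adj P Q) (h' : Adj P' Q') :
    ∃ g : G, g • P = P' ∧ g • Q = Q' := by
  classical
  haveI := Fact.mk Nat.prime_three
  obtain ⟨g₀, rfl⟩ := MulAction.exists_smul_eq G P P'
  have h'' := h'.smul g₀⁻¹
  rw [inv_smul_smul] at h''
  suffices hh : ∀ Q'', Adj P Q'' → ∃ g : G, g • P = P ∧ g • Q = Q'' by
    obtain ⟨g, g1, g2⟩ := hh _ h''
    exact ⟨g₀ * g, by rw [mul_smul, g1], by rw [mul_smul, g2, smul_inv_smul]⟩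
  obtain ⟨hne, t, ht, htQ⟩ := h
  rintro Q'' ⟨hne'', t', ht', htQ''⟩
  obtain ⟨p, hp, rfl⟩ := IP_conj_exists hG ht ht'
  have hpP : p • P = P := mem_normalizer_inv hG (Subgroup.le_normalizer hp)
  have hS : IP (p⁻¹ • Q'') t := by
    have := htQ''.conj p⁻¹
    simpa [mul_assoc] using this
  have hSP : p⁻¹ • Q'' ≠ P := fun e => hne'' (by rw [← hpP, ← e, smul_inv_smul])
  by_cases hSQ : p⁻¹ • Q'' = Q
  · exact ⟨p, hpP, by rw [← hSQ, smul_inv_smul]⟩
  obtain ⟨d, hd, hdQ⟩ := exists_swap hG ht htQ hne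
  refine ⟨p * d, by rw [mul_smul, mem_normalizer_inv hG hd.2, hpP], ?_⟩
  have hT : {Q : Sylow 3 G | IP Q t} = {P, Q, p⁻¹ • Q''} := by
    refine (Set.eq_of_subset_of_ncard_le ?_ ?_ (Set.toFinite _)).symm
    · rintro x (rfl | rfl | rfl) <;> assumption
    · rw [ncard_T hG ht, Set.ncard_eq_three.2 ⟨_, _, _, hne, Ne.symm hSP, Ne.symm hSQ, rfl⟩]
  have hm : d • Q ∈ {Q : Sylow 3 G | IP Q t} := by
    have := htQ.conj d
    rwa [conj_centralizer hG hd.1] at this
  rw [hT] at hm
  rcases hm with e | e | e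
  · exact absurd (MulAction.injective d (e.trans (mem_normalizer_inv hG hd.2).symm)) (Ne.symm hne)
  · exact absurd e hdQ
  · rw [mul_smul, show d • Q = p⁻¹ • Q'' from e, smul_inv_smul]

theorem exists_map_far {P U P' U' : Sylow 3 G} (hne : P ≠ U) (h : ¬ Adj P U) (hne' : P' ≠ U')
    (h' : ¬ Adj P' U') : ∃ g : G, g • P = P' ∧ g • U = U' := by
  haveI := Fact.mk Nat.prime_three
  obtain ⟨g₀, rfl⟩ := MulAction.exists_smul_eq G P P'
  suffices hh : ∀ U'', P ≠ U'' → ¬ Adj P U'' → ∃ g : G, g • P = P ∧ g • U = U'' by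
    obtain ⟨g, g1, g2⟩ := hh (g₀⁻¹ • U') (fun e => hne' (by rw [e, smul_inv_smul]))
      (fun e => h' (by simpa using e.smul g₀))
    exact ⟨g₀ * g, by rw [mul_smul, g1], by rw [mul_smul, g2, smul_inv_smul]⟩
  intro U'' hne'' hn''
  obtain ⟨t, ht, htU⟩ := (partition hG P).1 U hne.symm
  obtain ⟨t', ht', htU''⟩ := (partition hG P).1 U'' hne''.symm
  obtain ⟨p, hp, rfl⟩ := IP_conj_exists hG ht ht'
  have hpP : p • P = P := mem_normalizer_inv hG (Subgroup.le_normalizer hp)
  have hnS : t ∈ Subgroup.normalizer (((p⁻¹ • U'' : Sylow 3 G) : Subgroup G) : Set G) := by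
    have := mem_smul_normalizer (g := p⁻¹) htU''
    simpa [mul_assoc] using this
  obtain ⟨d, hd, hdU⟩ := card_stab_F hG ht htU (fun e => h ⟨hne, t, ht, e⟩) _ hnS
    (fun e => hn'' ⟨hne'', p * t * p⁻¹, ht', by simpa using e.conj p⟩)
  exact ⟨p * d, by rw [mul_smul, mem_normalizer_inv hG hd.2, hpP],
    by rw [mul_smul, hdU, smul_inv_smul]⟩

end CfsgLib.Small.O7920
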