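import Cfsg.Agent.Lib.Small.Order7920Five

/-!
# Simple groups of order 7920: centralizers of involutions
-/

set_option autoImplicit false
set_option linter.style.haveILetI false
set_option linter.unusedSectionVars false

open Cfsg CfsgLib.Chars CfsgLib.CharApps

namespace CfsgLib.Small.O7920

universe u

variable {G : Type u} [Group G] [Finite G]

def valuesTen : List ℤ := [-10, -6, -2, 2, 6]

def valuesFortyFive : List ℤ :=
  [-43, -39, -35, -31, -27, -23, -19, -15, -11, -7, -3, 1, 5, 9, 13, 17, 21, 25, 29, 33, 37, 41]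

set_option maxRecDepth 10000 in
theorem invol_arith : ∀ a ∈ valuesTen, ∀ b ∈ valuesTen, ∀ c ∈ valuesTen, ∀ j ∈ valuesFortyFive,
    -16 ≤ 1 + j - (a + b + c) → 1 + j - (a + b + c) < 16 →
    720 + 16 * j ^ 2 - 72 * (a ^ 2 + b ^ 2 + c ^ 2) - 45 * (1 + j - (a + b + c)) ^ 2 = 0 →
    j = -3 ∧ a + b + c = -2 ∧ a ^ 2 + b ^ 2 + c ^ 2 = 12 := by
  decide +kernel

variable [IsSimpleGroup G] (hG : Nat.card G = 7920)

include hG

theorem card_centralizer_involution {t : G} (ht : orderOf t = 2) :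
    Nat.card (Subgroup.centralizer ({t} : Set G)) = 48 := by
  classical
  haveI := Fact.mk (show Nat.Prime 11 by norm_num)
  haveI := Fintype.ofFinite G
  haveI := irrFintype G
  obtain ⟨T⟩ := exists_table hG
  have htt : t * t = 1 := by rw [← sq, ← ht, pow_orderOf_eq_one]
  have ht1 : t ≠ 1 := fun h => by rw [h, orderOf_one] at ht; omega
  have hv : ∀ i : Fin 10, degs i ≠ 1 → ∃ m : ℤ, (m : ℂ) = (T.c i : G → ℂ) t ∧
      (4 : ℤ) ∣ (degs i : ℤ) - m ∧ -(degs i : ℤ) ≤ m ∧ m < (degs i : ℤ) := by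
    intro i hi
    obtain ⟨m, hm, h⟩ := involution_value hG htt ht1 (T.c i) (by rwa [T.deg i])
    rw [T.deg i] at h
    exact ⟨m, hm, h⟩
  obtain ⟨b, hb, hb4, hbl, hbh⟩ := hv 1 (by decide)
  obtain ⟨a₁, ha₁, ha₁4, ha₁l, ha₁h⟩ := hv 2 (by decide)
  obtain ⟨a₂, ha₂, ha₂4, ha₂l, ha₂h⟩ := hv 3 (by decide)
  obtain ⟨a₃, ha₃, ha₃4, ha₃l, ha₃h⟩ := hv 4 (by decide)
  obtain ⟨u, hu, hu4, hul, huh⟩ := hv 5 (by decide)
  obtain ⟨r, hr, hr4, hrl, hrh⟩ := hv 7 (by decide)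
  obtain ⟨w, hw, hw4, hwl, hwh⟩ := hv 8 (by decide)
  obtain ⟨z, hz, hz4, hzl, hzh⟩ := hv 9 (by decide)
  simp only [degs, show ((![1, 45, 10, 10, 10, 16, 16, 11, 44, 55] : Fin 10 → ℕ) 1) = 45 from rfl,
    show ((![1, 45, 10, 10, 10, 16, 16, 11, 44, 55] : Fin 10 → ℕ) 2) = 10 from rfl,
    show ((![1, 45, 10, 10, 10, 16, 16, 11, 44, 55] : Fin 10 → ℕ) 3) = 10 from rfl,
    show ((![1, 45, 10, 10, 10, 16, 16, 11, 44, 55] : Fin 10 → ℕ) 4) = 10 from rfl,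
    show ((![1, 45, 10, 10, 10, 16, 16, 11, 44, 55] : Fin 10 → ℕ) 5) = 16 from rfl,
    show ((![1, 45, 10, 10, 10, 16, 16, 11, 44, 55] : Fin 10 → ℕ) 7) = 11 from rfl,
    show ((![1, 45, 10, 10, 10, 16, 16, 11, 44, 55] : Fin 10 → ℕ) 8) = 44 from rfl,
    show ((![1, 45, 10, 10, 10, 16, 16, 11, 44, 55] : Fin 10 → ℕ) 9) = 55 from rfl]
    at hb4 hbl hbh ha₁4 ha₁l ha₁h ha₂4 ha₂l ha₂h ha₃4 ha₃l ha₃h hu4 hul huh hr4 hrl hrh hw4 hwl hwh
      hz4 hzl hzh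
  push_cast at hb4 hbl hbh ha₁4 ha₁l ha₁h ha₂4 ha₂l ha₂h ha₃4 ha₃l ha₃h hu4 hul huh hr4 hrl hrh
  have hreg : ∀ p : ℕ, 2 < p → ¬ p ∣ orderOf t := fun p hp h => by
    have := Nat.le_of_dvd two_pos (ht ▸ h)
    omega
  obtain ⟨h65, h5⟩ := T.rel11 t (hreg 11 (by norm_num))
  have hu6 : (T.c 6 : G → ℂ) t = (u : ℂ) := by rw [h65, hu]
  rw [← hu, ← hb, ← ha₁, ← ha₂, ← ha₃] at h5
  have hRu : u = 1 + b - (a₁ + a₂ + a₃) := by exact_mod_cast h5
  have h8 := T.rel5 t (hreg 5 (by norm_num))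
  rw [hu6, ← hu, ← hr, ← hw] at h8
  have hRw : 1 + u + u + r - w = 0 := by exact_mod_cast h8
  have hinv := T.invol t htt ht1
  rw [← hb, ← ha₁, ← ha₂, ← ha₃, ← hu] at hinv
  have hRi : 720 + 16 * b ^ 2 - 72 * (a₁ ^ 2 + a₂ ^ 2 + a₃ ^ 2) - 45 * u ^ 2 = 0 := by
    exact_mod_cast hinv
  have hv0 : (T.c 0 : G → ℂ) t = 1 := by rw [T.principal, principal_apply]
  have hcol := sum_degree_mul (G := G) t
  rw [if_neg ht1, ← Equiv.sum_comp T.c] at hcol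
  simp only [deg_eq, T.deg, Fin.sum_univ_succ, Fin.sum_univ_zero, degs, Matrix.cons_val_zero,
    Matrix.cons_val_succ] at hcol
  change (1 : ℕ) * (T.c 0 : G → ℂ) t + ((45 : ℕ) * (T.c 1 : G → ℂ) t + ((10 : ℕ) * (T.c 2 : G → ℂ) t
    + ((10 : ℕ) * (T.c 3 : G → ℂ) t + ((10 : ℕ) * (T.c 4 : G → ℂ) t + ((16 : ℕ) * (T.c 5 : G → ℂ) t
    + ((16 : ℕ) * (T.c 6 : G → ℂ) t + ((11 : ℕ) * (T.c 7 : G → ℂ) t + ((44 : ℕ) * (T.c 8 : G → ℂ) t
    + ((55 : ℕ) * (T.c 9 : G → ℂ) t + 0))))))))) = 0 at hcol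
  rw [hv0, hu6, ← hb, ← ha₁, ← ha₂, ← ha₃, ← hu, ← hr, ← hw, ← hz] at hcol
  have hRc : 1 + 45 * b + 10 * (a₁ + a₂ + a₃) + 32 * u + 11 * r + 44 * w + 55 * z = 0 := by
    apply Int.cast_injective (α := ℂ)
    push_cast at hcol ⊢
    linear_combination hcol
  have hnorm := second_orthogonality (G := G) t t
  rw [if_pos (IsConj.refl t), ← Equiv.sum_comp T.c] at hnorm
  simp only [Fin.sum_univ_succ, Fin.sum_univ_zero] at hnorm
  change (T.c 0 : G → ℂ) t * (starRingEnd ℂ) ((T.c 0 : G → ℂ) t) +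
    ((T.c 1 : G → ℂ) t * (starRingEnd ℂ) ((T.c 1 : G → ℂ) t) +
    ((T.c 2 : G → ℂ) t * (starRingEnd ℂ) ((T.c 2 : G → ℂ) t) +
    ((T.c 3 : G → ℂ) t * (starRingEnd ℂ) ((T.c 3 : G → ℂ) t) +
    ((T.c 4 : G → ℂ) t * (starRingEnd ℂ) ((T.c 4 : G → ℂ) t) +
    ((T.c 5 : G → ℂ) t * (starRingEnd ℂ) ((T.c 5 : G → ℂ) t) +
    ((T.c 6 : G → ℂ) t * (starRingEnd ℂ) ((T.c 6 : G → ℂ) t) +
    ((T.c 7 : G → ℂ) t * (starRingEnd ℂ) ((T.c 7 : G → ℂ) t) +
    ((T.c 8 : G → ℂ) t * (starRingEnd ℂ) ((T.c 8 : G → ℂ) t) +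
    ((T.c 9 : G → ℂ) t * (starRingEnd ℂ) ((T.c 9 : G → ℂ) t) + 0))))))))) = _ at hnorm
  rw [hv0, hu6, ← hb, ← ha₁, ← ha₂, ← ha₃, ← hu, ← hr, ← hw, ← hz] at hnorm
  simp only [map_one, map_intCast, add_zero] at hnorm
  have hRn : (Nat.card (Subgroup.centralizer ({t} : Set G)) : ℤ) =
      1 + b * b + (a₁ * a₁ + a₂ * a₂ + a₃ * a₃) + u * u + u * u + r * r + w * w + z * z := by
    apply Int.cast_injective (α := ℂ)
    push_cast
    linear_combination -hnorm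
  have hdvd : Nat.card (Subgroup.centralizer ({t} : Set G)) ∣ 720 := by
    have h7920 := hG ▸ Subgroup.card_subgroup_dvd_card (Subgroup.centralizer ({t} : Set G))
    refine (Nat.Coprime.dvd_of_dvd_mul_left ?_ (show _ ∣ 11 * 720 from h7920))
    refine ((Nat.Prime.coprime_iff_not_dvd (by norm_num)).2 fun h11 => ?_).symm
    obtain ⟨⟨x, hxC⟩, hxo⟩ := exists_prime_orderOf_dvd_card' (G := Subgroup.centralizer
      ({t} : Set G)) 11 h11
    rw [Subgroup.orderOf_mk] at hxo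
    have htC : t ∈ Subgroup.centralizer ({x} : Set G) :=
      Subgroup.mem_centralizer_singleton_iff.2 (Subgroup.mem_centralizer_singleton_iff.1 hxC).symm
    have := Subgroup.orderOf_dvd_natCard _ htC
    rw [ht, (order_eleven hG hxo).1] at this
    norm_num at this
  obtain ⟨hb3, hS, hA⟩ := invol_arith a₁ (by simp [valuesTen]; omega) a₂
    (by simp [valuesTen]; omega) a₃ (by simp [valuesTen]; omega) b
    (by simp [valuesFortyFive]; omega) (by omega) (by omega) (by rw [← hRu]; exact hRi)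
  have hu0 : u = 0 := by omega
  have hw1 : w = 1 + r := by omega
  have hz2 : z = 2 - r := by omega
  subst hb3 hu0 hw1 hz2
  have hc : (Nat.card (Subgroup.centralizer ({t} : Set G)) : ℤ) = 27 + 3 * r * r - 2 * r := by
    rw [hRn]
    linear_combination hA
  obtain ⟨k, hk⟩ : ∃ k, r = 4 * k + 3 := ⟨(r - 3) / 4, by omega⟩
  have hk1 : -3 ≤ k := by omega
  have hk2 : k ≤ 1 := by omega
  subst hk
  set N := Nat.card (Subgroup.centralizer ({t} : Set G))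
  interval_cases k <;> norm_num at hc <;>
    first
      | omega
      | (have hN : N = _ := Nat.cast_inj.1 (hc.trans (Nat.cast_ofNat).symm); rw [hN] at hdvd; norm_num at hdvd)

end CfsgLib.Small.O7920
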