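import Cfsg.Agent.Lib.Small.Order7920Three

/-!
# Simple groups of order 7920: the local structure at the prime three
-/

set_option autoImplicit false
set_option linter.style.haveILetI false
set_option linter.unusedSectionVars false

open Cfsg

namespace CfsgLib.Small.O7920

open scoped Pointwise

variable {G : Type*} [Group G] [Finite G]

/-- `t` is an involution inverting every element of the Sylow subgroup `P`. -/
def IP (P : Sylow 3 G) (t : G) : Prop :=
  orderOf t = 2 ∧ ∀ x ∈ (P : Subgroup G), t * x * t⁻¹ = x⁻¹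

theorem IP.normalizes {P : Sylow 3 G} {t : G} (h : IP P t) :
    t ∈ Subgroup.normalizer ((P : Subgroup G) : Set G) :=
  Subgroup.mem_normalizer_iff.2 fun x => by
    constructor
    · intro hx
      rw [h.2 x hx]
      exact inv_mem hx
    · intro hx
      have ht : t⁻¹ = t := inv_eq_of_mul_eq_one_right (by
        rw [← sq, ← h.1, pow_orderOf_eq_one])
      have h2 := h.2 _ hx
      rw [ht] at h2 hx
      have : t * (t * x * t) * t = x := by
        have htt : t * t = 1 := by rw [← sq, ← h.1, pow_orderOf_eq_one]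
        calc t * (t * x * t) * t = t * t * x * (t * t) := by group
          _ = x := by rw [htt, one_mul, mul_one]
      rw [← this, h2]
      exact inv_mem hx

theorem mem_smul_sylow {P : Sylow 3 G} {g x : G} :
    x ∈ ((g • P : Sylow 3 G) : Subgroup G) ↔ g⁻¹ * x * g ∈ (P : Subgroup G) := by
  rw [Sylow.coe_subgroup_smul, Subgroup.mem_pointwise_smul_iff_inv_smul_mem]
  simp [MulAut.smul_def]

theorem orderOf_conj_eq (g x : G) : orderOf (g * x * g⁻¹) = orderOf x :=
  orderOf_injective (MulAut.conj g).toMonoidHom (MulAut.conj g).injective x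

theorem IP.conj {P : Sylow 3 G} {t : G} (h : IP P t) (g : G) : IP (g • P) (g * t * g⁻¹) := by
  refine ⟨(orderOf_conj_eq g t).trans h.1, fun x hx => ?_⟩
  have h2 := h.2 _ (mem_smul_sylow.1 hx)
  have := congrArg (fun y => g * y * g⁻¹) h2
  convert this using 1 <;> group

theorem mem_smul_normalizer {P : Sylow 3 G} {g t : G}
    (ht : t ∈ Subgroup.normalizer ((P : Subgroup G) : Set G)) :
    g * t * g⁻¹ ∈ Subgroup.normalizer (((g • P : Sylow 3 G) : Subgroup G) : Set G) := by
  have key : ∀ (Q : Sylow 3 G) (h : G),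
      h • Q = Q ↔ h ∈ Subgroup.normalizer ((Q : Subgroup G) : Set G) :=
    fun _ _ => Sylow.smul_eq_iff_mem_normalizer
  refine (key _ _).1 ?_
  rw [smul_smul, inv_mul_cancel_right, ← smul_smul, (key _ _).2 ht]

theorem eq_one_of_two_three {g : G} (h : g ^ 16 = 1) (h' : g ^ 9 = 1) : g = 1 :=
  orderOf_eq_one_iff.1 (Nat.eq_one_of_dvd_coprimes (by norm_num : Nat.Coprime 16 9)
    (orderOf_dvd_of_pow_eq_one h) (orderOf_dvd_of_pow_eq_one h'))

set_option synthInstance.maxSize 1024 in
theorem count_arith : ∀ j < 441, j ∣ 440 → j % 5 ≠ 0 → j % 11 ≠ 0 → j % 3 = 1 →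
    j = 1 ∨ j = 4 := by decide +kernel

variable [IsSimpleGroup G] (hG : Nat.card G = 7920)

include hG

theorem card_three (P : Sylow 3 G) : Nat.card (P : Subgroup G) = 9 := by
  haveI := Fact.mk Nat.prime_three
  simpa using card_sylow_eq (p := 3) 2 880 (by rw [hG]; rfl) (by norm_num) P

theorem three_comm (P : Sylow 3 G) {x y : G} (hx : x ∈ (P : Subgroup G))
    (hy : y ∈ (P : Subgroup G)) : x * y = y * x := by
  haveI := Fact.mk Nat.prime_three
  haveI : IsMulCommutative (P : Subgroup G) :=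
    IsPGroup.isMulCommutative_of_card_eq_prime_sq (p := 3) (by rw [card_three hG P]; norm_num)
  exact congrArg Subtype.val
    (mul_comm' (⟨x, hx⟩ : (P : Subgroup G)) ⟨y, hy⟩)

theorem pow_nine (P : Sylow 3 G) {x : G} (hx : x ∈ (P : Subgroup G)) : x ^ 9 = 1 :=
  orderOf_dvd_iff_pow_eq_one.1 (card_three hG P ▸ Subgroup.orderOf_dvd_natCard _ hx)

theorem mem_three_of_normalizes (P : Sylow 3 G) {y : G}
    (hy : y ∈ Subgroup.normalizer ((P : Subgroup G) : Set G)) (h : y ^ 9 = 1) :
    y ∈ (P : Subgroup G) := by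
  haveI := Fact.mk Nat.prime_three
  obtain ⟨i, -, hi⟩ := (Nat.dvd_prime_pow Nat.prime_three).1
    (show orderOf y ∣ 3 ^ 2 from orderOf_dvd_of_pow_eq_one h)
  have hp : IsPGroup 3 (Subgroup.zpowers y) :=
    IsPGroup.of_card (n := i) (by rw [Nat.card_zpowers, hi])
  exact (hp.inf_normalizer_sylow P).le ⟨Subgroup.mem_zpowers y, hy⟩ |>.2

theorem mem_of_centralizes (P : Sylow 3 G) {a : G}
    (h : ∀ x ∈ (P : Subgroup G), a * x = x * a) : a ∈ (P : Subgroup G) := by
  set C := Subgroup.centralizer ((P : Subgroup G) : Set G) with hC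
  have hPC : (P : Subgroup G) ≤ C := fun x hx =>
    Subgroup.mem_centralizer_iff.2 fun y hy => three_comm hG P hy hx
  have hd : Nat.card C ∣ 144 := card_normalizer_sylow_three hG P ▸
    Subgroup.card_dvd_of_le (Subgroup.centralizer_le_normalizer _)
  have hodd : ¬ 2 ∣ Nat.card C := by
    intro h2
    obtain ⟨⟨t, htC⟩, hto⟩ := exists_prime_orderOf_dvd_card' (G := C) 2 h2
    rw [Subgroup.orderOf_mk] at hto
    have hle : (P : Subgroup G) ≤ Subgroup.centralizer ({t} : Set G) := fun y hy =>
      Subgroup.mem_centralizer_singleton_iff.2 (Subgroup.mem_centralizer_iff.1 htC y hy)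
    have := Subgroup.card_dvd_of_le hle
    rw [card_three hG P, card_centralizer_involution hG hto] at this
    norm_num at this
  have h9 : Nat.card C ∣ 9 := by
    refine Nat.Coprime.dvd_of_dvd_mul_left ?_ (show Nat.card C ∣ 16 * 9 from hd)
    rw [show (16 : ℕ) = 2 ^ 4 from rfl]
    exact Nat.Coprime.pow_right _ ((Nat.Prime.coprime_iff_not_dvd Nat.prime_two).2 hodd).symm
  rw [Subgroup.eq_of_le_of_card_ge hPC (by rw [card_three hG P]; exact Nat.le_of_dvd (by norm_num) h9)]
  exact Subgroup.mem_centralizer_iff.2 fun x hx => (h x hx).symm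

/-- A Sylow two-subgroup of the normalizer acts freely off the elements it fixes. -/
theorem eq_one_of_fix (P : Sylow 3 G) {a : G} (h16 : a ^ 16 = 1)
    (h : ∀ x ∈ (P : Subgroup G), a * x = x * a) : a = 1 :=
  eq_one_of_two_three h16 (pow_nine hG P (mem_of_centralizes hG P h))

theorem exponent_three (P : Sylow 3 G) {x : G} (hx : x ∈ (P : Subgroup G)) : x ^ 3 = 1 := by
  classical
  haveI := Fact.mk Nat.prime_three
  by_contra hne
  haveI hcyc : IsCyclic (P : Subgroup G) := by
    refine isCyclic_of_orderOf_eq_card (⟨x, hx⟩ : (P : Subgroup G)) ?_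
    rw [Subgroup.orderOf_mk, card_three hG P]
    obtain ⟨i, hi, hi'⟩ := (Nat.dvd_prime_pow Nat.prime_three).1
      (show orderOf x ∣ 3 ^ 2 from orderOf_dvd_of_pow_eq_one (pow_nine hG P hx))
    interval_cases i
    · exact absurd (by rw [orderOf_eq_one_iff.1 hi', one_pow]) hne
    · exact absurd (orderOf_dvd_iff_pow_eq_one.1 (hi'.dvd)) hne
    · exact hi'
  have key := Subgroup.card_dvd_of_injective _
    (QuotientGroup.kerLift_injective (P : Subgroup G).normalizerMonoidHom)
  rw [Subgroup.normalizerMonoidHom_ker, hcyc.card_mulAut, card_three hG P,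
    show Nat.totient 9 = 6 by decide] at key
  set C := Subgroup.centralizer ((P : Subgroup G) : Set G) with hC
  set N := Subgroup.normalizer ((P : Subgroup G) : Set G) with hN
  have hCle : Nat.card C ≤ 9 := card_three hG P ▸ Subgroup.card_le_of_le fun a ha =>
    mem_of_centralizes hG P fun y hy => (Subgroup.mem_centralizer_iff.1 ha y hy).symm
  have h1 : (C.subgroupOf N).index * Nat.card (C.subgroupOf N) = 144 := by
    rw [mul_comm, Subgroup.card_mul_index, hN, card_normalizer_sylow_three hG P]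
  have h2 : Nat.card (C.subgroupOf N) ≤ 9 := by
    rw [Nat.card_congr (Subgroup.subgroupOfEquivOfLe (Subgroup.centralizer_le_normalizer _)).toEquiv]
    exact hCle
  have h3 : (C.subgroupOf N).index ≤ 6 := Nat.le_of_dvd (by norm_num) key
  nlinarith

theorem orderOf_three (P : Sylow 3 G) {x : G} (hx : x ∈ (P : Subgroup G)) (hx1 : x ≠ 1) :
    orderOf x = 3 := by
  haveI := Fact.mk Nat.prime_three
  exact orderOf_eq_prime (exponent_three hG P hx) hx1

theorem eq_pow_mul_pow (P : Sylow 3 G) {x y : G} (hx : x ∈ (P : Subgroup G)) (hx1 : x ≠ 1)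
    (hy : y ∈ (P : Subgroup G)) (hy' : y ∉ Subgroup.zpowers x) {p : G}
    (hp : p ∈ (P : Subgroup G)) : ∃ i j : Fin 3, p = x ^ (i : ℕ) * y ^ (j : ℕ) := by
  classical
  have ox := orderOf_three hG P hx hx1
  have oy := orderOf_three hG P hy (fun h => hy' (h ▸ one_mem _))
  have hx3 : x ^ 3 = 1 := exponent_three hG P hx
  have hy3 : y ^ 3 = 1 := exponent_three hG P hy
  let f : Fin 3 × Fin 3 → (P : Subgroup G) := fun v =>
    ⟨x ^ (v.1 : ℕ) * y ^ (v.2 : ℕ), mul_mem (pow_mem hx _) (pow_mem hy _)⟩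
  have hf : Function.Injective f := by
    rintro ⟨i, j⟩ ⟨i', j'⟩ h
    have h' : x ^ (i : ℕ) * y ^ (j : ℕ) = x ^ (i' : ℕ) * y ^ (j' : ℕ) := congrArg Subtype.val h
    have hj : j = j' := by
      by_contra hne
      have hmem : y ^ (((j : ℕ) : ℤ) - (j' : ℕ)) ∈ Subgroup.zpowers x := by
        refine ⟨((i' : ℕ) : ℤ) - (i : ℕ), ?_⟩
        simp only [zpow_sub, zpow_natCast]
        rw [mul_inv_eq_iff_eq_mul.2 (show y ^ (j : ℕ) = (x ^ (i : ℕ))⁻¹ * x ^ (i' : ℕ) * y ^ (j' : ℕ)
          by rw [mul_assoc, ← h', inv_mul_cancel_left])]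
        exact ((Commute.refl x).pow_pow (i' : ℕ) (i : ℕ)).inv_right.eq
      have hcop : (((j : ℕ) : ℤ) - (j' : ℕ)) % 3 = 1 ∨ (((j : ℕ) : ℤ) - (j' : ℕ)) % 3 = 2 := by
        have : (j : ℕ) ≠ j' := fun h => hne (Fin.ext h)
        omega
      have hyk : y ^ ((((j : ℕ) : ℤ) - (j' : ℕ)) % 3) ∈ Subgroup.zpowers x := by
        rwa [show (3 : ℤ) = (orderOf y : ℤ) by rw [oy]; rfl, zpow_mod_orderOf]
      rcases hcop with e | e <;> rw [e] at hyk
      · exact hy' (by simpa using hyk)
      · have h2 := inv_mem hyk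
        rw [show (y ^ (2 : ℤ))⁻¹ = y by
          rw [show (2 : ℤ) = ((2 : ℕ) : ℤ) from rfl, zpow_natCast]
          exact inv_eq_of_mul_eq_one_right (by rw [← pow_succ, hy3])] at h2
        exact hy' h2
    subst hj
    have hi : x ^ (i : ℕ) = x ^ (i' : ℕ) := mul_right_cancel h'
    have := pow_injOn_Iio_orderOf (x := x) (by rw [ox]; exact i.isLt) (by rw [ox]; exact i'.isLt) hi
    exact Prod.ext (Fin.ext this) rfl
  have hb : Function.Bijective f := (Nat.bijective_iff_injective_and_card f).2
    ⟨hf, by rw [Nat.card_prod, Nat.card_fin, card_three hG P]⟩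
  obtain ⟨⟨i, j⟩, hij⟩ := hb.2 ⟨p, hp⟩
  exact ⟨i, j, (congrArg Subtype.val hij).symm⟩

theorem exists_notMem_zpowers (P : Sylow 3 G) {x : G} (hx : x ∈ (P : Subgroup G)) (hx1 : x ≠ 1) :
    ∃ y ∈ (P : Subgroup G), y ∉ Subgroup.zpowers x := by
  by_contra h
  push Not at h
  have := Subgroup.card_le_of_le (show (P : Subgroup G) ≤ Subgroup.zpowers x from h)
  rw [Nat.card_zpowers, card_three hG P, orderOf_three hG P hx hx1] at this
  omega

theorem card_centralizer_inf (P : Sylow 3 G) {x : G} (hx : x ∈ (P : Subgroup G)) (hx1 : x ≠ 1) :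
    Nat.card (Subgroup.centralizer ({x} : Set G) ⊓
        Subgroup.normalizer ((P : Subgroup G) : Set G) : Subgroup G) = 18 ∧
      ∀ x' ∈ (P : Subgroup G), x' ≠ 1 →
        ∃ n ∈ Subgroup.normalizer ((P : Subgroup G) : Set G), n * x * n⁻¹ = x' := by
  classical
  haveI := Fact.mk Nat.prime_two
  set N := Subgroup.normalizer ((P : Subgroup G) : Set G) with hN
  set K := Subgroup.centralizer ({x} : Set G) ⊓ N with hK
  have hNcard : Nat.card N = 144 := card_normalizer_sylow_three hG P
  obtain ⟨y, hy, hy'⟩ := exists_notMem_zpowers hG P hx hx1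
  obtain ⟨S⟩ := (inferInstance : Nonempty (Sylow 2 K))
  have hS16 : ∀ a : K, a ∈ (S : Subgroup K) → (a : G) ^ 16 = 1 := by
    intro a ha
    have hd : Nat.card (S : Subgroup K) ∣ 144 := (Subgroup.card_subgroup_dvd_card _).trans
      (hNcard ▸ Subgroup.card_dvd_of_le inf_le_right)
    obtain ⟨k, hk⟩ := IsPGroup.iff_card.1 S.2
    have h1 : Nat.card (S : Subgroup K) ∣ 16 := by
      refine Nat.Coprime.dvd_of_dvd_mul_left ?_ (show Nat.card (S : Subgroup K) ∣ 9 * 16 from hd)
      rw [hk]; exact Nat.Coprime.pow_left _ (by norm_num)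
    have := orderOf_dvd_iff_pow_eq_one.1 ((Subgroup.orderOf_dvd_natCard _ ha).trans h1)
    simpa using congrArg Subtype.val this
  have hmap : ∀ a : K, (a : G) * x * (a : G)⁻¹ = x := fun a =>
    mul_inv_eq_iff_eq_mul.2 (Subgroup.mem_centralizer_singleton_iff.1 a.2.1)
  -- the image of `y` lies in one of the two cosets off the fixed subgroup
  have key : ∀ a : K, ∃ i j : Fin 3, j ≠ 0 ∧
      (a : G) * y * (a : G)⁻¹ = x ^ (i : ℕ) * y ^ (j : ℕ) := by
    intro a
    obtain ⟨i, j, h⟩ := eq_pow_mul_pow hG P hx hx1 hy hy'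
      ((Subgroup.mem_normalizer_iff.1 a.2.2 y).1 hy)
    refine ⟨i, j, fun hj => hy' ?_, h⟩
    subst hj
    have : y = x ^ (i : ℕ) := by
      calc y = (a : G)⁻¹ * ((a : G) * y * (a : G)⁻¹) * (a : G) := by group
        _ = (a : G)⁻¹ * x ^ (i : ℕ) * (a : G) := by rw [h]; simp
        _ = ((a : G)⁻¹ * x * (a : G)) ^ (i : ℕ) := by
          rw [show (a : G)⁻¹ * x * (a : G) = MulAut.conj ((a : G)⁻¹) x by simp [MulAut.conj_apply],
            ← map_pow]
          simp [MulAut.conj_apply]
        _ = x ^ (i : ℕ) := by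
          have e := hmap a⁻¹
          simp only [Subgroup.coe_inv, inv_inv] at e
          rw [e]
    exact this ▸ Subgroup.pow_mem _ (Subgroup.mem_zpowers x) _
  choose ci cj hcj hc using key
  have hplus : ∀ a : K, a ∈ (S : Subgroup K) → ∀ i : ℕ,
      (a : G) * y * (a : G)⁻¹ = x ^ i * y → a = 1 := by
    intro a ha i h
    have hk : ∀ k : ℕ, ((a : G) ^ k) * y * ((a : G) ^ k)⁻¹ = x ^ (i * k) * y := by
      intro k
      induction k with
      | zero => simp
      | succ k ih =>
        calc ((a : G) ^ (k + 1)) * y * ((a : G) ^ (k + 1))⁻¹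
            = (a : G) * ((a : G) ^ k * y * ((a : G) ^ k)⁻¹) * (a : G)⁻¹ := by
              rw [pow_succ', _root_.mul_inv_rev]; group
          _ = ((a : G) * x * (a : G)⁻¹) ^ (i * k) * ((a : G) * y * (a : G)⁻¹) := by
              rw [ih, conj_pow]; group
          _ = x ^ (i * (k + 1)) * y := by
              rw [hmap, h, ← mul_assoc, ← pow_add, mul_add, mul_one]
    have e := hk 16
    rw [hS16 a ha, one_mul, inv_one, mul_one] at e
    have hxi : x ^ (i * 16) = 1 := by simpa using e.symm
    have h3 := orderOf_dvd_of_pow_eq_one hxi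
    rw [orderOf_three hG P hx hx1] at h3
    have h3i : 3 ∣ i := (Nat.Coprime.dvd_of_dvd_mul_right (by norm_num) h3)
    obtain ⟨k, rfl⟩ := h3i
    rw [pow_mul, exponent_three hG P hx, one_pow, one_mul] at h
    refine Subtype.ext (eq_one_of_fix hG P (hS16 a ha) fun p hp => ?_)
    obtain ⟨i, j, rfl⟩ := eq_pow_mul_pow hG P hx hx1 hy hy' hp
    exact ((Commute.pow_right (show Commute (a : G) x from mul_inv_eq_iff_eq_mul.1 (hmap a)) _).mul_right
      (Commute.pow_right (show Commute (a : G) y from mul_inv_eq_iff_eq_mul.1 h) _)).eq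
  have hS2 : Nat.card (S : Subgroup K) ≤ 2 := by
    have hinj : Function.Injective fun a : (S : Subgroup K) => decide (cj a.1 = 1) := by
      intro a b hab
      simp only [decide_eq_decide] at hab
      by_cases ha : cj a.1 = 1
      · have hb := hab.1 ha
        have a1 := hplus _ a.2 (ci a.1) (by rw [hc, ha]; simp)
        have b1 := hplus _ b.2 (ci b.1) (by rw [hc, hb]; simp)
        exact Subtype.ext (a1.trans b1.symm)
      · have ha2 : cj a.1 = 2 := by
          have := hcj a.1; revert this ha; generalize cj a.1 = j; revert j; decide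
        have hb2 : cj b.1 = 2 := by
          have := hcj b.1; have hb : ¬ cj b.1 = 1 := fun h => ha (hab.2 h)
          revert this hb; generalize cj b.1 = j; revert j; decide
        have ea := hc a.1; have eb := hc b.1
        rw [ha2] at ea; rw [hb2] at eb
        have hy2 : y ^ ((2 : Fin 3) : ℕ) = y⁻¹ :=
          eq_inv_of_mul_eq_one_left (by rw [← pow_succ]; exact exponent_three hG P hy)
        rw [hy2] at ea eb
        have e : ((a.1 * b.1 : K) : G) * y * ((a.1 * b.1 : K) : G)⁻¹ =
            x ^ ((ci b.1 : ℕ) + 2 * (ci a.1 : ℕ)) * y := by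
          have hinv : (a.1 : G) * y⁻¹ * (a.1 : G)⁻¹ = y * x ^ (2 * (ci a.1 : ℕ)) := by
            rw [← conj_inv, ea, _root_.mul_inv_rev, inv_inv]
            congr 1
            refine inv_eq_of_mul_eq_one_right ?_
            rw [← pow_add, show (ci a.1 : ℕ) + 2 * (ci a.1 : ℕ) = 3 * (ci a.1 : ℕ) by ring, pow_mul,
              exponent_three hG P hx, one_pow]
          calc ((a.1 * b.1 : K) : G) * y * ((a.1 * b.1 : K) : G)⁻¹
              = (a.1 : G) * ((b.1 : G) * y * (b.1 : G)⁻¹) * (a.1 : G)⁻¹ := by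
                rw [Subgroup.coe_mul, _root_.mul_inv_rev]; group
            _ = ((a.1 : G) * x * (a.1 : G)⁻¹) ^ (ci b.1 : ℕ) *
                  ((a.1 : G) * y⁻¹ * (a.1 : G)⁻¹) := by rw [eb, conj_pow]; group
            _ = x ^ ((ci b.1 : ℕ) + 2 * (ci a.1 : ℕ)) * y := by
                rw [hmap, hinv, three_comm hG P hy (pow_mem hx _), ← mul_assoc, ← pow_add]
        have h1 := hplus _ (mul_mem a.2 b.2) _ e
        have hb1 : (b.1 * b.1 : K) = 1 := by
          have e' : ((b.1 * b.1 : K) : G) * y * ((b.1 * b.1 : K) : G)⁻¹ =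
              x ^ ((ci b.1 : ℕ) + 2 * (ci b.1 : ℕ)) * y := by
            have hinv : (b.1 : G) * y⁻¹ * (b.1 : G)⁻¹ = y * x ^ (2 * (ci b.1 : ℕ)) := by
              rw [← conj_inv, eb, _root_.mul_inv_rev, inv_inv]
              congr 1
              refine inv_eq_of_mul_eq_one_right ?_
              rw [← pow_add, show (ci b.1 : ℕ) + 2 * (ci b.1 : ℕ) = 3 * (ci b.1 : ℕ) by ring, pow_mul,
                exponent_three hG P hx, one_pow]
            calc ((b.1 * b.1 : K) : G) * y * ((b.1 * b.1 : K) : G)⁻¹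
                = (b.1 : G) * ((b.1 : G) * y * (b.1 : G)⁻¹) * (b.1 : G)⁻¹ := by
                  rw [Subgroup.coe_mul, _root_.mul_inv_rev]; group
              _ = ((b.1 : G) * x * (b.1 : G)⁻¹) ^ (ci b.1 : ℕ) *
                    ((b.1 : G) * y⁻¹ * (b.1 : G)⁻¹) := by rw [eb, conj_pow]; group
              _ = _ := by
                  rw [hmap, hinv, three_comm hG P hy (pow_mem hx _), ← mul_assoc, ← pow_add]
          exact hplus _ (mul_mem b.2 b.2) _ e'
        exact Subtype.ext (mul_right_cancel (h1.trans hb1.symm))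
    have := Nat.card_le_card_of_injective _ hinj
    simpa using this
  have hKd : Nat.card K ∣ 144 := hNcard ▸ Subgroup.card_dvd_of_le inf_le_right
  have hK18 : Nat.card K ≤ 18 := by
    obtain ⟨k, hk⟩ := IsPGroup.iff_card.1 S.2
    have hodd : ¬ 2 ∣ (S : Subgroup K).index := S.not_dvd_index
    rw [← Subgroup.card_mul_index (S : Subgroup K), hk] at hKd ⊢
    have h9 : (S : Subgroup K).index ∣ 9 := by
      refine Nat.Coprime.dvd_of_dvd_mul_left ?_
        (show (S : Subgroup K).index ∣ 16 * 9 from (dvd_mul_left _ (2 ^ k)).trans hKd)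
      rw [show (16 : ℕ) = 2 ^ 4 from rfl]
      exact Nat.Coprime.pow_right _ ((Nat.Prime.coprime_iff_not_dvd Nat.prime_two).2 hodd).symm
    rw [hk] at hS2
    have := Nat.le_of_dvd (by norm_num) h9
    calc 2 ^ k * (S : Subgroup K).index ≤ 2 * 9 := Nat.mul_le_mul hS2 this
      _ = 18 := rfl
  set O : Set G := {z | ∃ n ∈ N, n * x * n⁻¹ = z} with hO
  have hsub : O ⊆ ((P : Subgroup G) : Set G) \ {1} := by
    rintro _ ⟨n, hn, rfl⟩
    exact ⟨(Subgroup.mem_normalizer_iff.1 hn x).1 hx, fun h => hx1 (conj_eq_one_iff.1 h)⟩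
  have hP8 : (((P : Subgroup G) : Set G) \ {1}).ncard = 8 := by
    rw [Set.ncard_sdiff_singleton_of_mem (one_mem _), ← Nat.card_coe_set_eq]
    show Nat.card (P : Subgroup G) - 1 = 8
    rw [card_three hG P]
  have hmul : O.ncard * Nat.card K = 144 := by
    rw [hO, ncard_conj, ← Subgroup.inf_relIndex_right, mul_comm,
      ← Subgroup.relIndex_bot_left (Subgroup.centralizer ({x} : Set G) ⊓ N),
      Subgroup.relIndex_mul_relIndex _ _ _ bot_le inf_le_right, Subgroup.relIndex_bot_left, hNcard]
  have hle := hP8 ▸ Set.ncard_le_ncard hsub (Set.toFinite _)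
  have hO8 : O.ncard = 8 := by nlinarith
  refine ⟨by rw [hO8] at hmul; omega, fun x' hx' hx'1 => ?_⟩
  have heq := Set.eq_of_subset_of_ncard_le hsub (by rw [hO8, hP8]) (Set.toFinite _)
  exact heq.ge ⟨hx', hx'1⟩

theorem exists_IP_commute (P : Sylow 3 G) {s : G}
    (hs : s ∈ Subgroup.normalizer ((P : Subgroup G) : Set G)) (hs2 : ∃ k : ℕ, orderOf s = 2 ^ k) :
    ∃ t : G, IP P t ∧ t * s = s * t := by
  classical
  haveI := Fact.mk Nat.prime_two
  set N := Subgroup.normalizer ((P : Subgroup G) : Set G) with hN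
  obtain ⟨k, hk⟩ := hs2
  obtain ⟨D, hD⟩ := (IsPGroup.of_card (n := k) (G := Subgroup.zpowers (⟨s, hs⟩ : N))
    (by rw [Nat.card_zpowers, Subgroup.orderOf_mk, hk])).exists_le_sylow
  have hD16 : Nat.card (D : Subgroup N) = 16 := by
    simpa using card_sylow_eq (p := 2) 4 9 (by rw [hN, card_normalizer_sylow_three hG P]; rfl)
      (by norm_num) D
  haveI : Nontrivial (D : Subgroup N) := Finite.one_lt_card_iff_nontrivial.1 (by rw [hD16]; norm_num)
  haveI := D.2.center_nontrivial
  obtain ⟨⟨⟨c, hcc⟩, hco⟩⟩ : Nonempty {c : Subgroup.center (D : Subgroup N) // orderOf c = 2} := by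
    have hd : 2 ∣ Nat.card (Subgroup.center (D : Subgroup N)) := by
      obtain ⟨j, hj⟩ := IsPGroup.iff_card.1 (D.2.to_subgroup (Subgroup.center (D : Subgroup N)))
      have h1 := Finite.one_lt_card_iff_nontrivial.2
        (inferInstance : Nontrivial (Subgroup.center (D : Subgroup N)))
      rw [hj] at h1 ⊢
      exact dvd_pow_self 2 (by rintro rfl; simp at h1)
    obtain ⟨c, hc⟩ := exists_prime_orderOf_dvd_card' (G := Subgroup.center (D : Subgroup N)) 2 hd
    exact ⟨⟨c, hc⟩⟩
  rw [Subgroup.orderOf_mk] at hco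
  set t : G := ((c : N) : G) with ht
  have hto : orderOf t = 2 := by rw [ht, Subgroup.orderOf_coe, Subgroup.orderOf_coe, hco]
  have hcomm : ∀ d : N, d ∈ (D : Subgroup N) → t * (d : G) = (d : G) * t := fun d hd =>
    (congrArg (fun v : (D : Subgroup N) => ((v : N) : G))
      (Subgroup.mem_center_iff.1 hcc ⟨d, hd⟩)).symm
  refine ⟨t, ⟨hto, fun x hx => ?_⟩,
    hcomm ⟨s, hs⟩ (hD (Subgroup.mem_zpowers _))⟩
  have htt : t * t = 1 := by rw [← sq, ← hto, pow_orderOf_eq_one]
  have htP : ∀ z ∈ (P : Subgroup G), t * z * t⁻¹ ∈ (P : Subgroup G) := fun z hz =>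
    (Subgroup.mem_normalizer_iff.1 (c : N).2 z).1 hz
  have hfree : ∀ z ∈ (P : Subgroup G), t * z = z * t → z = 1 := by
    intro z hz hzc
    by_contra hz1
    have hall : ∀ z' ∈ (P : Subgroup G), t * z' = z' * t := by
      intro z' hz'
      by_cases hz'1 : z' = 1
      · simp [hz'1]
      obtain ⟨hK, hT⟩ := card_centralizer_inf hG P hz hz1
      obtain ⟨n, hn, hne⟩ := hT z' hz' hz'1
      -- write the normalising element as an element of `P` times one of `D`
      set P' : Subgroup N := (P : Subgroup G).subgroupOf N with hP'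
      have hP'c : Nat.card P' = 9 := by
        rw [Nat.card_congr (Subgroup.subgroupOfEquivOfLe Subgroup.le_normalizer).toEquiv,
          card_three hG P]
      have hcompl : Subgroup.IsComplement' P' (D : Subgroup N) := by
        refine Subgroup.isComplement'_of_coprime ?_ ?_
        · rw [hP'c, hD16, hN, card_normalizer_sylow_three hG P]
        · rw [hP'c, hD16]; norm_num
      obtain ⟨⟨⟨p, hp⟩, ⟨d, hd⟩⟩, hpd⟩ := hcompl.2 ⟨n, hn⟩
      have hne' : n = (p : G) * (d : G) := (congrArg Subtype.val hpd).symm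
      have hz'' : z' = (d : G) * z * (d : G)⁻¹ := by
        rw [← hne, hne', _root_.mul_inv_rev]
        have hdz : (d : G) * z * (d : G)⁻¹ ∈ (P : Subgroup G) :=
          (Subgroup.mem_normalizer_iff.1 d.2 z).1 hz
        calc (p : G) * (d : G) * z * ((d : G)⁻¹ * (p : G)⁻¹)
            = (p : G) * ((d : G) * z * (d : G)⁻¹) * (p : G)⁻¹ := by group
          _ = (d : G) * z * (d : G)⁻¹ := by
            rw [three_comm hG P (Subgroup.mem_subgroupOf.1 hp) hdz, mul_inv_cancel_right]
      have e1 : Commute t (d : G) := hcomm d hd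
      rw [hz'']
      exact ((e1.mul_right hzc).mul_right e1.inv_right).eq
    have := eq_one_of_fix hG P
      (by rw [show (16 : ℕ) = orderOf t * 8 by rw [hto], pow_mul, pow_orderOf_eq_one, one_pow]) hall
    rw [this, orderOf_one] at hto
    norm_num at hto
  have hfix : t * (x * (t * x * t⁻¹)) = (x * (t * x * t⁻¹)) * t := by
    have ht' : t⁻¹ = t := inv_eq_of_mul_eq_one_right htt
    rw [ht', three_comm hG P hx (by have := htP x hx; rwa [ht'] at this)]
    calc t * (t * x * t * x) = (t * t) * x * t * x := by group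
      _ = x * t * x := by rw [htt, one_mul]
      _ = x * t * x * (t * t) := by rw [htt, mul_one]
      _ = x * (t * x * t) * t := by group
      _ = t * x * t * x * t := by
          have := three_comm hG P hx (by have := htP x hx; rwa [ht'] at this)
          rw [← this]
  exact eq_inv_of_mul_eq_one_right (hfree _ (mul_mem hx (htP x hx)) hfix)

theorem exists_IP (P : Sylow 3 G) : ∃ t : G, IP P t := by
  obtain ⟨t, ht, -⟩ := exists_IP_commute hG P (s := 1) (one_mem _) ⟨0, by simp⟩
  exact ⟨t, ht⟩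

/-- Elements of order three have centralizers of order eighteen. -/
theorem centralizer_le_normalizer (P : Sylow 3 G) {x : G} (hx : x ∈ (P : Subgroup G))
    (hx1 : x ≠ 1) :
    Subgroup.centralizer ({x} : Set G) ≤ Subgroup.normalizer ((P : Subgroup G) : Set G) := by
  classical
  haveI := Fact.mk Nat.prime_three
  haveI := Fact.mk Nat.prime_two
  set N := Subgroup.normalizer ((P : Subgroup G) : Set G) with hN
  set C := Subgroup.centralizer ({x} : Set G) with hC
  obtain ⟨hK, -⟩ := card_centralizer_inf hG P hx hx1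
  have hK' : Nat.card (C ⊓ N : Subgroup G) = 18 := hK
  by_contra hnot
  have ox := orderOf_three hG P hx hx1
  have h18 : 18 ∣ Nat.card C := hK' ▸ Subgroup.card_dvd_of_le inf_le_left
  -- the centralizer has order seventy-two
  have hPC : (P : Subgroup G) ≤ C := fun p hp =>
    Subgroup.mem_centralizer_singleton_iff.2 (three_comm hG P hp hx)
  have hno : ∀ q : ℕ, q = 5 ∨ q = 11 → ¬ q ∣ Nat.card C := by
    intro q hq hdvd
    haveI := Fact.mk (show q.Prime by rcases hq with rfl | rfl <;> norm_num)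
    obtain ⟨⟨y, hyC⟩, hyo⟩ := exists_prime_orderOf_dvd_card' (G := C) q hdvd
    rw [Subgroup.orderOf_mk] at hyo
    have h := Subgroup.orderOf_dvd_natCard (Subgroup.centralizer ({y} : Set G))
      (Subgroup.mem_centralizer_singleton_iff.2 (Subgroup.mem_centralizer_singleton_iff.1 hyC).symm)
    rcases hq with rfl | rfl
    · rw [ox, order_five hG hyo] at h; norm_num at h
    · rw [ox, (order_eleven hG hyo).1] at h; norm_num at h
  let PC : Sylow 3 C := P.subtype hPC
  have hn3 : Nat.card (Sylow 3 C) * 18 = Nat.card C := by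
    rw [PC.card_eq_index_normalizer, mul_comm]
    have hb : Nat.card (Subgroup.normalizer (PC : Set C)) = 18 := by
      rw [← hK', ← Subgroup.card_map_of_injective C.subtype_injective]
      congr 1
      congr 1
      ext a
      constructor
      · rintro ⟨⟨a, ha⟩, hn, rfl⟩
        refine ⟨ha, Subgroup.mem_normalizer_iff.2 fun b => ?_⟩
        by_cases hb : b ∈ C
        · exact Subgroup.mem_normalizer_iff.1 hn ⟨b, hb⟩
        · refine iff_of_false (fun h => hb (hPC h)) fun h => hb ?_
          have := mul_mem (mul_mem (inv_mem ha) (hPC h)) ha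
          simpa [mul_assoc] using this
      · rintro ⟨ha, hn⟩
        exact ⟨⟨a, ha⟩, Subgroup.mem_normalizer_iff.2 fun b =>
          Subgroup.mem_normalizer_iff.1 hn (b : G), rfl⟩
    rw [← hb, Subgroup.card_mul_index]
  have hmod := card_sylow_modEq_one 3 C
  have h72 : Nat.card C = 72 := by
    have hd := hG ▸ Subgroup.card_subgroup_dvd_card C
    rw [← hn3] at hd hno
    set m := Nat.card (Sylow 3 C)
    have hm : m ∣ 440 := Nat.dvd_of_mul_dvd_mul_right (by norm_num : 0 < 18) hd
    rcases count_arith m (Nat.lt_succ_of_le (Nat.le_of_dvd (by norm_num) hm)) hm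
      (fun h => hno 5 (Or.inl rfl) ((Nat.dvd_of_mod_eq_zero h).mul_right _))
      (fun h => hno 11 (Or.inr rfl) ((Nat.dvd_of_mod_eq_zero h).mul_right _)) hmod with h | h
    · exfalso
      apply hnot
      have heq : C ⊓ N = C := Subgroup.eq_of_le_of_card_ge inf_le_left
        (by rw [hK', ← hn3, h, one_mul])
      exact heq ▸ inf_le_right
    · rw [← hn3, h]
  -- an involution of the centralizer inside the normalizer
  obtain ⟨⟨s, hsK⟩, hso⟩ := exists_prime_orderOf_dvd_card' (G := (C ⊓ N : Subgroup G)) 2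
    (by rw [hK']; norm_num)
  rw [Subgroup.orderOf_mk] at hso
  obtain ⟨z, hz, hzs⟩ := exists_IP_commute hG P hsK.2 ⟨1, by rw [hso, pow_one]⟩
  have hss : s * s = 1 := by rw [← sq, ← hso, pow_orderOf_eq_one]
  have hs' : s⁻¹ = s := inv_eq_of_mul_eq_one_right hss
  set S := Subgroup.centralizer ({s} : Set G) with hS
  set X := Subgroup.zpowers x with hX
  have hxs : x * s = s * x := (Subgroup.mem_centralizer_singleton_iff.1 hsK.1).symm
  -- a lower bound for the centralizer of `s` in `C`
  have hfour : 4 ∣ Nat.card (S ⊓ C : Subgroup G) := by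
    obtain ⟨T, hT⟩ := (IsPGroup.of_card (n := 1) (G := Subgroup.zpowers (⟨s, hsK.1⟩ : C))
      (by rw [Nat.card_zpowers, Subgroup.orderOf_mk, hso, pow_one])).exists_le_sylow
    have hT8 : Nat.card (T : Subgroup C) = 8 := by
      simpa using card_sylow_eq (p := 2) 3 9 (by rw [h72]; rfl) (by norm_num) T
    haveI : Nontrivial (T : Subgroup C) := Finite.one_lt_card_iff_nontrivial.1 (by rw [hT8]; norm_num)
    haveI := T.2.center_nontrivial
    set s₀ : (T : Subgroup C) := ⟨⟨s, hsK.1⟩, hT (Subgroup.mem_zpowers _)⟩ with hs₀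
    set R : Subgroup (T : Subgroup C) := Subgroup.centralizer ({s₀} : Set (T : Subgroup C)) with hR
    have hR4 : 4 ∣ Nat.card R := by
      have hd : Nat.card R ∣ 2 ^ 3 := by
        rw [show (2 : ℕ) ^ 3 = 8 from rfl, ← hT8]; exact Subgroup.card_subgroup_dvd_card R
      obtain ⟨i, hi, hi'⟩ := (Nat.dvd_prime_pow Nat.prime_two).1 hd
      have h3 : 2 < Nat.card R := by
        by_cases hsc : s₀ ∈ Subgroup.center (T : Subgroup C)
        · have : R = ⊤ := by
            rw [eq_top_iff]
            exact fun b _ => Subgroup.mem_centralizer_singleton_iff.2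
              (Subgroup.mem_center_iff.1 hsc b)
          rw [this, Subgroup.card_top, hT8]; norm_num
        · obtain ⟨c, hc, hc1⟩ := (Subgroup.nontrivial_iff_exists_ne_one _).1
            (inferInstance : Nontrivial (Subgroup.center (T : Subgroup C)))
          have hlt : Subgroup.zpowers s₀ < R := by
            refine lt_of_le_of_ne (Subgroup.zpowers_le.2
              (Subgroup.mem_centralizer_singleton_iff.2 rfl)) fun e => hsc ?_
            have hcR : c ∈ R := Subgroup.mem_centralizer_singleton_iff.2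
              (Subgroup.mem_center_iff.1 hc s₀).symm
            rw [← e] at hcR
            obtain ⟨k, hk⟩ := hcR
            have hs2 : s₀ ^ (2 : ℤ) = 1 := by
              rw [zpow_two]; exact Subtype.ext (Subtype.ext hss)
            rcases Int.even_or_odd k with ⟨j, rfl⟩ | ⟨j, rfl⟩
            · exact absurd (by rw [← hk]; show s₀ ^ (j + j) = 1; rw [← two_mul, zpow_mul, hs2,
                one_zpow]) hc1
            · rw [← hk] at hc
              have e2 : s₀ ^ (2 * j + 1) = s₀ := by
                rw [zpow_add, zpow_mul, hs2, one_zpow, one_mul, zpow_one]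
              rwa [← e2]
          have := Set.ncard_lt_ncard (show (Subgroup.zpowers s₀ : Set (T : Subgroup C)) ⊂ R from hlt)
          rw [← Nat.card_coe_set_eq, ← Nat.card_coe_set_eq] at this
          refine lt_of_le_of_lt (le_of_eq ?_) this
          rw [show Nat.card ((Subgroup.zpowers s₀ : Set (T : Subgroup C))) =
            Nat.card (Subgroup.zpowers s₀) from rfl, Nat.card_zpowers]
          rw [hs₀, Subgroup.orderOf_mk, Subgroup.orderOf_mk, hso]
      rw [hi'] at h3 ⊢
      exact pow_dvd_pow 2 (m := 2) (by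
        by_contra hlt
        have : 2 ^ i ≤ 2 ^ 1 := Nat.pow_le_pow_right (by norm_num) (by omega)
        omega)
    refine hR4.trans ?_
    let e : R →* (S ⊓ C : Subgroup G) :=
      { toFun := fun r => ⟨((r : (T : Subgroup C)) : C).1,
          Subgroup.mem_centralizer_singleton_iff.2 (congrArg (fun v : (T : Subgroup C) => ((v : C) : G))
            (Subgroup.mem_centralizer_singleton_iff.1 r.2)), ((r : (T : Subgroup C)) : C).2⟩
        map_one' := rfl
        map_mul' := fun _ _ => rfl }
    exact Subgroup.card_dvd_of_injective e fun a b h =>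
      Subtype.ext (Subtype.ext (Subtype.ext (congrArg (fun v : (S ⊓ C : Subgroup G) => (v : G)) h)))
  have hS48 : Nat.card S = 48 := card_centralizer_involution hG hso
  have hxS : x ∈ S := Subgroup.mem_centralizer_singleton_iff.2 hxs
  have h12 : 12 ∣ Nat.card (S ⊓ C : Subgroup G) :=
    Nat.Coprime.mul_dvd_of_dvd_of_dvd (by norm_num : Nat.Coprime 3 4)
      (ox ▸ Subgroup.orderOf_dvd_natCard _ (show x ∈ S ⊓ C from
        ⟨hxS, Subgroup.mem_centralizer_singleton_iff.2 rfl⟩)) hfour
  -- `⟨x⟩` is normal in the centralizer of `s`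
  let XS : Subgroup S := X.subgroupOf S
  have hXS : Nat.card XS = 3 := by
    rw [Nat.card_congr (Subgroup.subgroupOfEquivOfLe (Subgroup.zpowers_le.2 hxS)).toEquiv,
      Nat.card_zpowers, ox]
  let XY : Sylow 3 S := Sylow.ofCard XS (by
    rw [hXS, hS48, show 48 = 3 * 16 from rfl, Nat.factorization_mul (by norm_num) (by norm_num)]
    simp [Nat.Prime.factorization_self Nat.prime_three,
      Nat.factorization_eq_zero_of_not_dvd (show ¬ 3 ∣ 16 by norm_num)])
  set M : Subgroup S := Subgroup.normalizer ((XS : Subgroup S) : Set S) with hM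
  have hCM : (S ⊓ C).subgroupOf S ≤ M := by
    rintro ⟨a, haS⟩ ha
    have hax : a * x = x * a := Subgroup.mem_centralizer_singleton_iff.1 (Subgroup.mem_subgroupOf.1 ha).2
    refine Subgroup.mem_normalizer_iff.2 fun b => ?_
    show ((b : G) ∈ X) ↔ a * (b : G) * a⁻¹ ∈ X
    constructor
    · rintro ⟨k, hk⟩
      refine ⟨k, ?_⟩
      rw [← hk]
      show x ^ k = a * x ^ k * a⁻¹
      rw [← conj_zpow, mul_inv_eq_iff_eq_mul.2 hax]
    · rintro ⟨k, hk⟩
      refine ⟨k, ?_⟩
      have : (b : G) = a⁻¹ * (a * (b : G) * a⁻¹) * a := by group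
      rw [this, ← hk]
      show x ^ k = a⁻¹ * x ^ k * a
      have := mul_inv_eq_iff_eq_mul.2 ((Commute.inv_left (show Commute a x from hax)).eq)
      rw [inv_inv] at this
      conv_rhs => rw [show a⁻¹ * x ^ k * a = a⁻¹ * x ^ k * a⁻¹⁻¹ by rw [inv_inv], ← conj_zpow,
        inv_inv, this]
  have hMcard : 24 ∣ Nat.card M := by
    have h1 : Nat.card ((S ⊓ C).subgroupOf S) = Nat.card (S ⊓ C : Subgroup G) :=
      Nat.card_congr (Subgroup.subgroupOfEquivOfLe inf_le_left).toEquiv
    have h2 : 12 ∣ Nat.card M := h12.trans (h1 ▸ Subgroup.card_dvd_of_le hCM)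
    have hzS : z ∈ S := Subgroup.mem_centralizer_singleton_iff.2 hzs
    have hzM : (⟨z, hzS⟩ : S) ∈ M := by
      refine Subgroup.mem_normalizer_iff.2 fun b => ?_
      show ((b : G) ∈ X) ↔ z * (b : G) * z⁻¹ ∈ X
      have hinv : z * x * z⁻¹ = x⁻¹ := hz.2 x hx
      constructor
      · rintro ⟨k, hk⟩
        refine ⟨-k, ?_⟩
        rw [← hk]
        show x ^ (-k) = z * x ^ k * z⁻¹
        rw [← conj_zpow, hinv, inv_zpow, zpow_neg]
      · rintro ⟨k, hk⟩
        refine ⟨-k, ?_⟩
        have hzz : z * z = 1 := by rw [← sq, ← hz.1, pow_orderOf_eq_one]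
        have hz' : z⁻¹ = z := inv_eq_of_mul_eq_one_right hzz
        have : (b : G) = z * (z * (b : G) * z⁻¹) * z⁻¹ := by
          rw [hz']
          calc (b : G) = (z * z) * b * (z * z) := by rw [hzz, one_mul, mul_one]
            _ = _ := by group
        rw [this, ← hk]
        show x ^ (-k) = z * x ^ k * z⁻¹
        rw [← conj_zpow, hinv, inv_zpow, zpow_neg]
    have hlt : (S ⊓ C).subgroupOf S < M := by
      refine lt_of_le_of_ne hCM fun e => ?_
      rw [← e] at hzM
      have h := Subgroup.mem_centralizer_singleton_iff.1 (Subgroup.mem_subgroupOf.1 hzM).2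
      have h' := hz.2 x hx
      rw [mul_inv_eq_iff_eq_mul.2 h] at h'
      have : x ^ 2 = 1 := by rw [sq]; nth_rw 2 [h']; exact mul_inv_cancel x
      have := orderOf_dvd_of_pow_eq_one this
      rw [ox] at this
      norm_num at this
    have h3 : Nat.card ((S ⊓ C).subgroupOf S) < Nat.card M := by
      have := Set.ncard_lt_ncard (show ((S ⊓ C).subgroupOf S : Set S) ⊂ M from hlt)
      rwa [← Nat.card_coe_set_eq, ← Nat.card_coe_set_eq] at this
    rw [h1] at h3
    have hd := hS48 ▸ Subgroup.card_subgroup_dvd_card M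
    have hle := Nat.le_of_dvd (by norm_num) hd
    have h4 := Nat.le_of_dvd Nat.card_pos h12
    obtain ⟨j, hj⟩ := h2
    rw [hj] at hd h3 hle ⊢
    have : j ≤ 4 := by omega
    interval_cases j <;> omega
  have hMtop : M = ⊤ := by
    have h1 := XY.card_eq_index_normalizer
    rw [show (XY : Set S) = (XS : Set S) from rfl] at h1
    have h2 := card_sylow_modEq_one 3 S
    have h3 : M.index ∣ 2 := by
      have := M.card_mul_index
      obtain ⟨j, hj⟩ := hMcard
      rw [hS48, hj] at this
      refine ⟨j, ?_⟩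
      nlinarith
    rw [Nat.ModEq, h1, ← hM] at h2
    rcases (Nat.dvd_prime Nat.prime_two).1 h3 with h | h
    · exact Subgroup.index_eq_one.1 h
    · rw [h] at h2; norm_num at h2
  have h24 : 24 ∣ Nat.card (S ⊓ C : Subgroup G) := by
    -- the centralizer has index at most two in the normalizer
    have hsurj : Nat.card S ∣ Nat.card (S ⊓ C : Subgroup G) * 2 := by
      rw [← (S ⊓ C).subgroupOf S |>.card_mul_index,
        Nat.card_congr (Subgroup.subgroupOfEquivOfLe (inf_le_left : S ⊓ C ≤ S)).toEquiv]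
      refine mul_dvd_mul_left _ ?_
      have hd : ∀ a : S, (a : G) * x * (a : G)⁻¹ = x ∨ (a : G) * x * (a : G)⁻¹ = x⁻¹ := by
        intro a
        have ha : a ∈ M := hMtop ▸ Subgroup.mem_top a
        obtain ⟨k, hk⟩ := (Subgroup.mem_normalizer_iff.1 ha ⟨x, hxS⟩).1 (Subgroup.mem_zpowers x)
        have hk' : x ^ k = (a : G) * x * (a : G)⁻¹ := hk
        rw [← hk', ← zpow_mod_orderOf x k, ox]
        have h0 : (0 : ℤ) ≤ k % 3 := Int.emod_nonneg _ (by norm_num)
        have h3 : k % 3 < 3 := Int.emod_lt_of_pos _ (by norm_num)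
        have hne : k % 3 ≠ 0 := by
          intro h
          rw [← zpow_mod_orderOf x k, ox, show ((3 : ℕ) : ℤ) = 3 from rfl, h, zpow_zero] at hk'
          exact hx1 (conj_eq_one_iff.1 hk'.symm)
        rcases (show k % 3 = 1 ∨ k % 3 = 2 by omega) with h | h
        · left; push_cast; rw [h, zpow_one]
        · right; push_cast; rw [h]
          refine eq_inv_of_mul_eq_one_left ?_
          rw [← zpow_add_one]; exact_mod_cast exponent_three hG P hx
      refine dvd_of_eq (Subgroup.index_eq_two_iff.2 ⟨⟨z, Subgroup.mem_centralizer_singleton_iff.2 hzs⟩,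
        fun b => ?_⟩)
      have hzi : z * x * z⁻¹ = x⁻¹ := hz.2 x hx
      have hne : x⁻¹ ≠ x := fun e => by
        have : x ^ 2 = 1 := by rw [sq]; nth_rw 1 [← e]; exact inv_mul_cancel x
        have := orderOf_dvd_of_pow_eq_one this
        rw [ox] at this
        norm_num at this
      have hbz : (b : G) * z * x * ((b : G) * z)⁻¹ = ((b : G) * x * (b : G)⁻¹)⁻¹ := by
        calc (b : G) * z * x * ((b : G) * z)⁻¹ = (b : G) * (z * x * z⁻¹) * (b : G)⁻¹ := by group
          _ = (b : G) * x⁻¹ * (b : G)⁻¹ := by rw [hzi]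
          _ = _ := conj_inv.symm
      rcases hd b with hb | hb
      · refine Or.inr ⟨Subgroup.mem_subgroupOf.2 ⟨b.2, Subgroup.mem_centralizer_singleton_iff.2
          (mul_inv_eq_iff_eq_mul.1 hb)⟩, fun h => hne ?_⟩
        have := mul_inv_eq_iff_eq_mul.2
          (Subgroup.mem_centralizer_singleton_iff.1 (Subgroup.mem_subgroupOf.1 h).2)
        rw [Subgroup.coe_mul] at this
        rw [hbz, hb] at this
        exact this
      · refine Or.inl ⟨Subgroup.mem_subgroupOf.2 ⟨(b * ⟨z, _⟩ : S).2,
          Subgroup.mem_centralizer_singleton_iff.2 (mul_inv_eq_iff_eq_mul.1 ?_)⟩, fun h => hne ?_⟩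
        · rw [Subgroup.coe_mul]
          show (b : G) * z * x * ((b : G) * z)⁻¹ = x
          rw [hbz, hb, inv_inv]
        · rw [← hb]
          exact mul_inv_eq_iff_eq_mul.2
            (Subgroup.mem_centralizer_singleton_iff.1 (Subgroup.mem_subgroupOf.1 h).2)
    rw [hS48, show 48 = 24 * 2 from rfl] at hsurj
    exact Nat.dvd_of_mul_dvd_mul_right two_pos hsurj
  -- so `s` has at most three conjugates under `C`
  set Ms : Set G := {u | ∃ c ∈ C, c * s * c⁻¹ = u} with hMs
  have hMs3 : Ms.ncard ≤ 3 := by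
    rw [hMs, ncard_conj, ← Subgroup.inf_relIndex_right]
    have h := Subgroup.relIndex_mul_relIndex ⊥ (S ⊓ C) C bot_le inf_le_right
    rw [Subgroup.relIndex_bot_left, Subgroup.relIndex_bot_left, h72] at h
    have := Nat.le_of_dvd Nat.card_pos h24
    nlinarith
  obtain ⟨y, hy, hy'⟩ := exists_notMem_zpowers hG P hx hx1
  set Mp : Set G := {u | ∃ p ∈ (P : Subgroup G), p * s * p⁻¹ = u} with hMp
  have hsw : s * y * s * y⁻¹ ∈ (P : Subgroup G) := by
    have := (Subgroup.mem_normalizer_iff.1 hsK.2 y).1 hy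
    rw [hs'] at this
    exact mul_mem this (inv_mem hy)
  have hwX : s * y * s * y⁻¹ ∉ X := by
    intro hw
    -- then `s` would centralise `P` modulo `X`
    obtain ⟨i, hi⟩ := hw
    have h1 : s * y * s⁻¹ = x ^ i * y := by
      rw [hs']; show _ = x ^ i * y
      rw [show x ^ i = s * y * s * y⁻¹ from hi, inv_mul_cancel_right]
    have h2 : s * (x ^ i * y) * s⁻¹ = y := by
      rw [← h1, hs']
      calc s * (s * y * s) * s = (s * s) * y * (s * s) := by group
        _ = y := by rw [hss, one_mul, mul_one]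
    have h3 : s * x ^ i * s⁻¹ = x ^ i := by
      rw [← conj_zpow, mul_inv_eq_iff_eq_mul.2 hxs.symm]
    rw [show s * (x ^ i * y) * s⁻¹ = s * x ^ i * s⁻¹ * (s * y * s⁻¹) by group, h3, h1,
      ← mul_assoc, mul_eq_right, ← zpow_add] at h2
    have h4 : x ^ i = 1 := by
      have h6 : x ^ (i * 3) = 1 := by
        rw [mul_comm, _root_.zpow_mul, show ((3 : ℤ)) = ((3 : ℕ) : ℤ) from rfl, zpow_natCast,
          exponent_three hG P hx, _root_.one_zpow]
      rw [show i = i * 3 - (i + i) by ring, zpow_sub, h6, h2, inv_one, mul_one]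
    rw [h4, one_mul] at h1
    apply hnot
    exfalso
    have := eq_one_of_fix hG P (a := s)
      (by rw [show (16 : ℕ) = orderOf s * 8 by rw [hso], pow_mul, pow_orderOf_eq_one, one_pow])
      (fun p hp => by
        obtain ⟨a, b, rfl⟩ := eq_pow_mul_pow hG P hx hx1 hy hy' hp
        exact ((Commute.pow_right (show Commute s x from hxs.symm) _).mul_right
          (Commute.pow_right (show Commute s y from mul_inv_eq_iff_eq_mul.1 h1) _)).eq)
    rw [this, orderOf_one] at hso
    norm_num at hso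
  have hsub : Mp ⊆ Ms := by
    rintro _ ⟨p, hp, rfl⟩
    exact ⟨p, hPC hp, rfl⟩
  have hMp3 : 3 ≤ Mp.ncard := by
    rw [hMp, ncard_conj, ← Subgroup.inf_relIndex_right]
    have h := Subgroup.relIndex_mul_relIndex ⊥ (S ⊓ P) (P : Subgroup G) bot_le inf_le_right
    rw [Subgroup.relIndex_bot_left, Subgroup.relIndex_bot_left, card_three hG P] at h
    have hd := card_three hG P ▸ Subgroup.card_dvd_of_le (inf_le_right : S ⊓ (P : Subgroup G) ≤ P)
    obtain ⟨i, hi, hi'⟩ := (Nat.dvd_prime_pow Nat.prime_three).1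
      (show Nat.card (S ⊓ P : Subgroup G) ∣ 3 ^ 2 from hd)
    have hlt : Nat.card (S ⊓ P : Subgroup G) ≤ 3 := by
      interval_cases i
      · omega
      · omega
      exfalso
      have heq : S ⊓ (P : Subgroup G) = P := Subgroup.eq_of_le_of_card_ge inf_le_right
        (by rw [card_three hG P]; omega)
      have := Subgroup.card_dvd_of_le (show (P : Subgroup G) ≤ S from heq ▸ inf_le_left)
      rw [card_three hG P, hS48] at this
      norm_num at this
    nlinarith [Nat.card_pos (α := (S ⊓ P : Subgroup G))]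
  have hMeq : Mp = Ms := Set.eq_of_subset_of_ncard_le hsub (by omega) (Set.toFinite _)
  apply hnot
  intro g hg
  -- conjugation by `g` keeps the product of two conjugates inside `P`
  have hconj : ∀ u ∈ Ms, g * u * g⁻¹ ∈ Mp := by
    rintro _ ⟨c, hc, rfl⟩
    rw [hMeq]
    exact ⟨g * c, mul_mem hg hc, by group⟩
  have hprod : ∀ u ∈ Mp, ∀ v ∈ Mp, u * v ∈ (P : Subgroup G) := by
    rintro _ ⟨p, hp, rfl⟩ _ ⟨q, hq, rfl⟩
    have h1 : s * (p⁻¹ * q) * s⁻¹ ∈ (P : Subgroup G) :=
      (Subgroup.mem_normalizer_iff.1 hsK.2 _).1 (mul_mem (inv_mem hp) hq)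
    have : p * s * p⁻¹ * (q * s * q⁻¹) = p * (s * (p⁻¹ * q) * s⁻¹) * q⁻¹ := by
      rw [hs']; group
    rw [this]
    exact mul_mem (mul_mem hp h1) (inv_mem hq)
  have hgw : g * (s * y * s * y⁻¹) * g⁻¹ ∈ (P : Subgroup G) := by
    have h1 := hconj s (hMeq ▸ (show s ∈ Mp from ⟨1, one_mem _, by simp⟩))
    have h2 := hconj (y * s * y⁻¹) (hsub ⟨y, hy, rfl⟩)
    have := hprod _ h1 _ h2
    convert this using 1
    group
  refine Subgroup.mem_normalizer_fintype (fun p hp => ?_)
  obtain ⟨a, b, rfl⟩ := eq_pow_mul_pow hG P hx hx1 hsw hwX hp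
  rw [show g * (x ^ (a : ℕ) * (s * y * s * y⁻¹) ^ (b : ℕ)) * g⁻¹ =
    g * x ^ (a : ℕ) * g⁻¹ * (g * (s * y * s * y⁻¹) ^ (b : ℕ) * g⁻¹) by group, ← conj_pow, ← conj_pow,
    mul_inv_eq_iff_eq_mul.2 (Subgroup.mem_centralizer_singleton_iff.1 hg)]
  exact mul_mem (pow_mem hx _) (pow_mem hgw _)

/-- Distinct Sylow subgroups meet trivially. -/
theorem eq_of_mem_of_mem {P Q : Sylow 3 G} {x : G} (hP : x ∈ (P : Subgroup G))
    (hQ : x ∈ (Q : Subgroup G)) (hx : x ≠ 1) : P = Q := by
  have hle : (Q : Subgroup G) ≤ (P : Subgroup G) := fun q hq =>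
    mem_three_of_normalizes hG P
      (centralizer_le_normalizer hG P hP hx
        (Subgroup.mem_centralizer_singleton_iff.2 (three_comm hG Q hq hQ)))
      (pow_nine hG Q hq)
  exact Sylow.ext (Subgroup.eq_of_le_of_card_ge hle
    (by rw [card_three hG P, card_three hG Q])).symm

theorem card_centralizer_three (P : Sylow 3 G) {x : G} (hx : x ∈ (P : Subgroup G)) (hx1 : x ≠ 1) :
    Nat.card (Subgroup.centralizer ({x} : Set G)) = 18 := by
  rw [← (card_centralizer_inf hG P hx hx1).1, inf_eq_left.2 (centralizer_le_normalizer hG P hx hx1)]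

end CfsgLib.Small.O7920
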