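import Cfsg.Agent.Lib.KnownA.SteinerUnique.AutSmall
import Cfsg.Agent.Lib.Spor.Sharp

/-!
# Two generating triples of eleven-point Steiner systems

The permutations are `i ↦ i + 1`, `i ↦ 3 * i` and a third one normalizing the second.
-/

set_option autoImplicit false

namespace CfsgLib.Small.O7920.Points

open Cfsg CfsgLib.SteinerUnique CfsgLib.Spor

/-- A map squaring `i ↦ 3 * i` by conjugation, from the images of one and two. -/
def tab (a b : Fin 11) : Fin 11 → Fin 11 :=
  ![0, a, b, 9 * a, 5 * a, 3 * a, 9 * b, 4 * b, 5 * b, 4 * a, 3 * b]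

def third : Fin 2 → Fin 11 → Fin 11 := ![tab 1 6, tab 1 10]

def gens (s : Fin 2) : Fin 3 → Fin 11 → Fin 11 := ![fun i => i + 1, fun i => 3 * i, third s]

def masks : Fin 2 → List ℕ :=
  ![[61, 103, 122, 151, 171, 206, 217, 244, 283, 302, 333, 342, 369, 412, 421, 434, 451, 488, 527, 566, 595, 604, 617, 666, 684, 689, 709, 738, 789, 803, 824, 842, 868, 902, 905, 976, 1054, 1075, 1099, 1109, 1132, 1165, 1190, 1208, 1234, 1249, 1287, 1321, 1332, 1368, 1378, 1418, 1425, 1476, 1561, 1573, 1578, 1606, 1648, 1667, 1684, 1736, 1804, 1810, 1857, 1952],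
    [47, 94, 115, 155, 188, 213, 230, 233, 285, 310, 331, 357, 376, 391, 426, 433, 460, 466, 565, 570, 583, 601, 620, 653, 662, 675, 714, 752, 782, 787, 809, 852, 866, 920, 932, 961, 1047, 1081, 1101, 1130, 1140, 1166, 1189, 1202, 1219, 1240, 1306, 1315, 1324, 1350, 1361, 1417, 1428, 1504, 1547, 1564, 1574, 1618, 1633, 1681, 1704, 1732, 1797, 1840, 1864, 1922]]

theorem steiner_check : ∀ s : Fin 2, ((List.range 2048).all fun m => !(Nat.beq (pop m) 4) ||
    Nat.beq (((masks s).filter fun b => Nat.beq (b &&& m) m).length) 1) = true := by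
  decide +kernel

theorem mask_check : ∀ s : Fin 2,
    ((masks s).all fun b => Nat.blt b 2048 && Nat.beq (pop b) 5) = true := by
  decide +kernel

theorem gen_check : ∀ s : Fin 2,
    ((List.finRange 3).all fun i => (masks s).all fun b => (masks s).any fun c =>
      (List.finRange 11).all fun j => c.testBit (gens s i j).val == b.testBit j.val) = true := by
  decide +kernel

def blocks (s : Fin 2) : Set (Finset (Fin 11)) := {b | enc (Equiv.refl _) b ∈ masks s}

theorem isSteiner (s : Fin 2) : IsSteinerSystem 4 5 (blocks s) := by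
  have h0 := mask_check s
  simp only [List.all_eq_true, Bool.and_eq_true, Nat.blt_eq, Nat.beq_eq] at h0
  refine ⟨fun b hb => ?_, fun t ht => ?_⟩
  · rw [← pop_enc (show 11 ≤ 24 by omega) (Equiv.refl _) b]
    exact (h0 _ hb).2
  · have hm : enc (Equiv.refl _) t < 2 ^ 11 := Nat.lt_pow_two_of_testBit _ fun i hi => by
      rw [← Bool.not_eq_true]
      exact fun h => absurd (lt_of_testBit_enc (show 11 ≤ 24 by omega) _ t h) (by omega)
    have h1 := steiner_check s
    simp only [List.all_eq_true, List.mem_range] at h1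
    have h2 := h1 _ hm
    rw [pop_enc (show 11 ≤ 24 by omega), ht] at h2
    simp only [Bool.or_eq_true, Nat.beq_eq] at h2
    have hlen : ((masks s).filter fun b =>
        Nat.beq (b &&& enc (Equiv.refl _) t) (enc (Equiv.refl _) t)).length = 1 := by
      rcases h2 with h2 | h2
      · exact absurd h2 (by decide)
      · exact h2
    obtain ⟨x, hx⟩ := List.length_eq_one_iff.1 hlen
    have hmem : ∀ y, (y ∈ masks s ∧
        y &&& enc (Equiv.refl _) t = enc (Equiv.refl _) t) ↔ y = x := fun y => by
      rw [← List.mem_singleton (b := x), ← hx, List.mem_filter, Nat.beq_eq]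
    have hxh := (hmem x).2 rfl
    obtain ⟨b, hb⟩ := exists_enc_eq (show 11 ≤ 24 by omega) (Equiv.refl (Fin 11)) (u := x)
      fun j hj => by
        by_contra hlt
        rw [Nat.testBit_eq_false_of_lt (lt_of_lt_of_le (h0 x hxh.1).1
          (show 2 ^ 11 ≤ 2 ^ j from Nat.pow_le_pow_right (by norm_num) (by omega)))] at hj
        exact absurd hj (by decide)
    refine ⟨b, ⟨show enc _ b ∈ masks s by rw [hb]; exact hxh.1, ?_⟩, fun c hc => ?_⟩
    · rw [← enc_and_eq_iff (show 11 ≤ 24 by omega) (Equiv.refl _), hb]; exact hxh.2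
    · refine enc_injective (show 11 ≤ 24 by omega) (Equiv.refl _) ?_
      rw [hb]
      exact (hmem _).1 ⟨hc.1, (enc_and_eq_iff (show 11 ≤ 24 by omega) _ _ _).2 hc.2⟩

theorem mem_aut {s : Fin 2} {σ : Equiv.Perm (Fin 11)} {i : Fin 3}
    (h : ∀ j, σ j = gens s i j) : σ ∈ setSystemAut (blocks s) := by
  rw [mem_setSystemAut_iff]
  intro b hb
  have h0 := mask_check s
  have h1 := gen_check s
  simp only [List.all_eq_true, List.any_eq_true, List.mem_finRange, beq_iff_eq, forall_const] at h1
  obtain ⟨c, hc, hcb⟩ := h1 i _ hb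
  simp only [List.all_eq_true, Bool.and_eq_true, Nat.blt_eq, Nat.beq_eq] at h0
  have : enc (Equiv.refl _) (b.image σ) = c := by
    refine Nat.eq_of_testBit_eq fun j => ?_
    by_cases hj : j < 11
    · obtain ⟨k, hk⟩ : ∃ k, σ k = (⟨j, hj⟩ : Fin 11) := σ.surjective _
      have hkj : (gens s i k).val = j := by rw [← h, hk]
      rw [Bool.eq_iff_iff, testBit_enc (show 11 ≤ 24 by omega), ← hkj, hcb k,
        testBit_enc (show 11 ≤ 24 by omega)]
      simp only [Equiv.refl_apply, Finset.mem_image, ← h]
      constructor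
      · rintro ⟨_, ⟨a, ha, rfl⟩, e⟩
        exact ⟨a, ha, by rw [σ.injective (Fin.ext e)]⟩
      · rintro ⟨a, ha, e⟩
        exact ⟨σ a, ⟨a, ha, rfl⟩, by rw [Fin.ext e]⟩
    · rw [Nat.testBit_eq_false_of_lt (lt_of_lt_of_le (h0 c hc).1
        (show 2 ^ 11 ≤ 2 ^ j from Nat.pow_le_pow_right (by norm_num) (by omega))), ← Bool.not_eq_true]
      exact fun hh => hj (lt_of_testBit_enc (show 11 ≤ 24 by omega) _ _ hh)
  show _ ∈ masks s
  rw [this]; exact hc

/-- Evaluation of a word in `i ↦ i + 1` and a second map. -/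
def ev (w : Fin 11 → Fin 11) (l : List Bool) (i : Fin 11) : Fin 11 :=
  l.foldr (fun c j => if c then w j else j + 1) i

def words : List (List Bool) :=
  [[false, false, false, false, true], [false, false, false, true], [false, false, true],
    [false, true], [false, true, false, true, true]]

/-- The cycle `c` through `i` of some word shows that its order does not divide 1320. -/
def refuted (w : Fin 11 → Fin 11) : Bool :=
  words.any fun l => (List.finRange 11).any fun i => (List.range 12).any fun c =>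
    !Nat.beq c 0 && ((ev w l)^[c] i == i) && !((ev w l)^[1320 % c] i == i)

/-- All maps of the given shape are refuted, except two. -/
theorem classify : ∀ a b : Fin 11, a = 1 ∨ a = 2 →
    (∀ i j, tab a b i = tab a b j → i = j) →
    (∃ s : Fin 2, ∀ i, tab a b i = third s i) ∨ refuted (tab a b) = true := by
  decide +kernel

theorem normalize : ∀ a : Fin 11, a ≠ 0 → ∃ k : Fin 5,
    (fun i => 3 * i)^[k.val] a = 1 ∨ (fun i => 3 * i)^[k.val] a = 2 := by
  decide +kernel

/-- Each of the two triples has a word of order eight. -/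
theorem eight : ∀ s : Fin 2, ∃ l ∈ words,
    (∀ i, (ev (third s) l)^[8] i = i) ∧ ∃ i, (ev (third s) l)^[4] i ≠ i := by
  decide +kernel

theorem tab_spec : ∀ a b c : Fin 11, tab a b (3 * c) = 9 * tab a b c := by decide +kernel

theorem orbit_two : ∀ i : Fin 11, i = 0 ∨
    ∃ k : Fin 5, (fun j => 3 * j)^[k.val] 1 = i ∨ (fun j => 3 * j)^[k.val] 2 = i := by
  decide +kernel

end CfsgLib.Small.O7920.Points
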