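import Cfsg.Agent.Lib.Small.Order7920Mathieu
import Cfsg.Agent.Lib.Small.Order7920PrimeGraph
import Cfsg.Agent.Lib.Small.Order168

/-!
# Recognizing `M₁₁` among the groups of order 7920
-/

set_option autoImplicit false
set_option linter.style.haveILetI false

open Cfsg

namespace CfsgLib.Small.O7920

variable {G : Type*} [Group G] [Finite G]

/-- The centralizer of an element of order eleven as a fixed-point set. -/
theorem count_mod {u : G} (hu : orderOf u = 11) (n : ℕ) :
    Nat.card {g : G // orderOf g = n} ≡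
      Nat.card {g : Subgroup.centralizer ({u} : Set G) // orderOf g = n} [MOD 11] := by
  haveI := Fact.mk (show Nat.Prime 11 by norm_num)
  have hP : IsPGroup 11 (Subgroup.zpowers u) :=
    IsPGroup.of_card (n := 1) (by rw [Nat.card_zpowers, hu, pow_one])
  letI : MulAction (Subgroup.zpowers u) {g : G // orderOf g = n} :=
    { smul := fun p g => ⟨(p : G) * g.1 * (p : G)⁻¹, by rw [orderOf_conj_eq]; exact g.2⟩
      one_smul := fun g => Subtype.ext (show (1 : G) * g.1 * (1 : G)⁻¹ = g.1 by simp)
      mul_smul := fun p q g => Subtype.ext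
        (show (p : G) * q * g.1 * ((p : G) * q)⁻¹ = p * (q * g.1 * (q : G)⁻¹) * (p : G)⁻¹ by
          group) }
  have hfix : ∀ g : {g : G // orderOf g = n},
      g ∈ MulAction.fixedPoints (Subgroup.zpowers u) {g : G // orderOf g = n} ↔
        g.1 ∈ Subgroup.centralizer ({u} : Set G) := by
    intro g
    rw [MulAction.mem_fixedPoints, Subgroup.mem_centralizer_singleton_iff]
    constructor
    · intro h
      have h1 : u * g.1 * u⁻¹ = g.1 :=
        congrArg Subtype.val (h ⟨u, Subgroup.mem_zpowers u⟩)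
      exact (mul_inv_eq_iff_eq_mul.1 h1).symm
    · rintro h ⟨p, hp⟩
      obtain ⟨k, rfl⟩ := Subgroup.mem_zpowers_iff.1 hp
      refine Subtype.ext ?_
      show u ^ k * g.1 * (u ^ k)⁻¹ = g.1
      rw [((show Commute g.1 u from h).zpow_right k).symm.eq, mul_inv_cancel_right]
  refine (hP.card_modEq_card_fixedPoints _).trans ?_
  rw [Nat.card_congr
    (⟨fun g => ⟨⟨g.1.1, (hfix g.1).1 g.2⟩, by rw [← Subgroup.orderOf_coe]; exact g.1.2⟩,
      fun g => ⟨⟨g.1.1, by rw [Subgroup.orderOf_coe]; exact g.2⟩, (hfix _).2 g.1.2⟩,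
      fun _ => rfl, fun _ => rfl⟩ :
    MulAction.fixedPoints (Subgroup.zpowers u) {g : G // orderOf g = n} ≃
      {g : Subgroup.centralizer ({u} : Set G) // orderOf g = n})]

/-- A group of order 7920 with a self-centralizing element of order eleven is simple. -/
theorem isSimpleGroup_of_centralizer (hG : Nat.card G = 7920) {u : G} (hu : orderOf u = 11)
    (hC : Nat.card (Subgroup.centralizer ({u} : Set G)) = 11) : IsSimpleGroup G := by
  haveI := Fact.mk (show Nat.Prime 11 by norm_num)
  refine isSimpleGroup_of_disconnected hG ⟨{11}, ⟨11, rfl, by norm_num, by rw [hG]; norm_num⟩,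
    ⟨2, by norm_num, Nat.prime_two, by rw [hG]; norm_num⟩, ?_⟩
  rintro a (rfl : a = 11) b hb - hbp - - ⟨g, hg⟩
  have hb0 : 0 < b := hbp.pos
  have hv : orderOf (g ^ b) = 11 := by
    rw [orderOf_pow' _ hb0.ne', hg, Nat.gcd_mul_left_left, Nat.mul_div_cancel _ hb0]
  have hf : ∀ v : G, orderOf v = 11 → Nat.card (Subgroup.zpowers v) =
      11 ^ (Nat.card G).factorization 11 := fun v h => by
    rw [Nat.card_zpowers, h, hG, show 7920 = 11 ^ 1 * 720 by norm_num,
      Nat.factorization_mul (by norm_num) (by norm_num), Nat.factorization_pow]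
    simp [Nat.factorization_eq_zero_of_not_dvd (show ¬ 11 ∣ 720 by norm_num),
      Nat.Prime.factorization_self (show Nat.Prime 11 by norm_num)]
  let P : Sylow 11 G := Sylow.ofCard (Subgroup.zpowers u) (hf u hu)
  let Q : Sylow 11 G := Sylow.ofCard (Subgroup.zpowers (g ^ b)) (hf _ hv)
  obtain ⟨k, hk⟩ := MulAction.exists_smul_eq G P Q
  have hmem : k * u * k⁻¹ ∈ Subgroup.zpowers (g ^ b) := by
    have h1 : k * u * k⁻¹ ∈ ((k • P : Sylow 11 G) : Subgroup G) :=
      mem_smul_sylow_of P k u (by rw [Sylow.coe_ofCard]; exact Subgroup.mem_zpowers u)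
    rw [hk, Sylow.coe_ofCard] at h1
    exact h1
  obtain ⟨m, hm⟩ := Subgroup.mem_zpowers_iff.1 hmem
  have hcomm : Commute g (k * u * k⁻¹) := hm ▸ ((Commute.refl g).pow_right b).zpow_right m
  have hgc : k⁻¹ * g * k ∈ Subgroup.centralizer ({u} : Set G) := by
    rw [Subgroup.mem_centralizer_singleton_iff]
    calc k⁻¹ * g * k * u = k⁻¹ * (g * (k * u * k⁻¹)) * k := by group
      _ = k⁻¹ * ((k * u * k⁻¹) * g) * k := by rw [hcomm.eq]
      _ = _ := by group
  have h := Subgroup.orderOf_dvd_natCard _ hgc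
  rw [hC, show k⁻¹ * g * k = k⁻¹ * g * (k⁻¹)⁻¹ by rw [inv_inv], orderOf_conj_eq, hg] at h
  have := Nat.le_of_dvd (by norm_num) h
  have := hbp.two_le
  omega
where
  /-- membership in a conjugate Sylow subgroup -/
  mem_smul_sylow_of (P : Sylow 11 G) (k u : G) (h : u ∈ (P : Subgroup G)) :
      k * u * k⁻¹ ∈ ((k • P : Sylow 11 G) : Subgroup G) :=
    Subgroup.smul_mem_pointwise_smul u (MulAut.conj k) (P : Subgroup G) h

theorem exists_eleven_M11 : ∃ u : Spor.M11, orderOf u = 11 ∧
    Nat.card (Subgroup.centralizer ({u} : Set Spor.M11)) = 11 ∧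
    Nat.card {g : Spor.M11 // orderOf g = 11} = 1440 := by
  haveI := isSimpleGroup_M11
  haveI := Fact.mk (show Nat.Prime 11 by norm_num)
  have hG := CfsgLib.MathieuOut.natCard_M11
  obtain ⟨u, hu⟩ := exists_prime_orderOf_dvd_card' (G := Spor.M11) 11 (by rw [hG]; norm_num)
  refine ⟨u, hu, (order_eleven hG hu).1, ?_⟩
  obtain ⟨P⟩ := (inferInstance : Nonempty (Sylow 11 Spor.M11))
  have h := (Subgroup.normalizer ((P : Subgroup Spor.M11) : Set Spor.M11)).card_mul_index
  rw [(sylow_eleven hG P).2.2, hG] at h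
  have hi : (Subgroup.normalizer ((P : Subgroup Spor.M11) : Set Spor.M11)).index =
      Nat.card (Sylow 11 Spor.M11) := (Sylow.card_eq_index_normalizer P).symm
  rw [hi] at h
  have hn : Nat.card (Sylow 11 Spor.M11) = 144 := by omega
  rw [card_orderOf_eq_prime fun Q => (sylow_eleven hG Q).1, hn]

/-- The counts of elements of given order in `M₁₁`. -/
theorem count_M11 (n : ℕ) : Nat.card {g : Spor.M11 // orderOf g = n} % 11 = 0 ∨
    Nat.card {g : Spor.M11 // orderOf g = n} = 1 ∨
    Nat.card {g : Spor.M11 // orderOf g = n} = 1440 := by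
  haveI := isSimpleGroup_M11
  obtain ⟨u, hu, hC, h1440⟩ := exists_eleven_M11
  by_cases h1 : n = 1
  · subst h1
    haveI : Unique {g : Spor.M11 // orderOf g = 1} :=
      ⟨⟨⟨1, orderOf_one⟩⟩, fun g => Subtype.ext (orderOf_eq_one_iff.1 g.2)⟩
    exact Or.inr (Or.inl Nat.card_unique)
  by_cases h11 : n = 11
  · subst h11; exact Or.inr (Or.inr h1440)
  refine Or.inl ?_
  haveI : IsEmpty {g : Subgroup.centralizer ({u} : Set Spor.M11) // orderOf g = n} :=
    ⟨fun g => by
      have h := g.2 ▸ orderOf_dvd_natCard g.1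
      rw [hC] at h
      rcases (Nat.dvd_prime (by norm_num : Nat.Prime 11)).1 h with h | h
      exacts [h1 h, h11 h]⟩
  have h := count_mod hu n
  rw [Nat.card_of_isEmpty (α := {g : Subgroup.centralizer ({u} : Set Spor.M11) // orderOf g = n})]
    at h
  exact h

theorem isSimpleGroup_of_counts (hG : Nat.card G = 7920)
    (h : ∀ n, 0 < Nat.card {g : G // orderOf g = n} →
      Nat.card {g : G // orderOf g = n} % 11 = 0 ∨ Nat.card {g : G // orderOf g = n} = 1 ∨
        Nat.card {g : G // orderOf g = n} = 1440) : IsSimpleGroup G := by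
  classical
  haveI := Fact.mk (show Nat.Prime 11 by norm_num)
  have hP : ∀ P : Sylow 11 G, Nat.card (P : Subgroup G) = 11 := fun P => by
    simpa using card_sylow_eq (p := 11) 1 720 (by rw [hG]; rfl) (by norm_num) P
  have hcount := card_orderOf_eq_prime hP
  have hmod : Nat.card (Sylow 11 G) % 11 = 1 := card_sylow_modEq_one 11 G
  obtain ⟨u, hu⟩ := exists_prime_orderOf_dvd_card' (G := G) 11 (by rw [hG]; norm_num)
  have h144 : Nat.card (Sylow 11 G) = 144 := by
    have hpos : 0 < Nat.card {g : G // orderOf g = 11} := by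
      haveI : Nonempty {g : G // orderOf g = 11} := ⟨⟨u, hu⟩⟩
      exact Nat.card_pos
    have := h 11 hpos
    omega
  let P : Sylow 11 G := Sylow.ofCard (Subgroup.zpowers u) (by
    rw [Nat.card_zpowers, hu, hG, show 7920 = 11 ^ 1 * 720 by norm_num,
      Nat.factorization_mul (by norm_num) (by norm_num), Nat.factorization_pow]
    simp [Nat.factorization_eq_zero_of_not_dvd (show ¬ 11 ∣ 720 by norm_num),
      Nat.Prime.factorization_self (show Nat.Prime 11 by norm_num)])
  have hidx : (Subgroup.normalizer ((P : Subgroup G) : Set G)).index = 144 :=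
    (Sylow.card_eq_index_normalizer P).symm.trans h144
  have hmul := (Subgroup.normalizer ((P : Subgroup G) : Set G)).card_mul_index
  rw [hidx, hG] at hmul
  have hN : Nat.card (Subgroup.normalizer ((P : Subgroup G) : Set G)) = 55 := by omega
  set C := Subgroup.centralizer ({u} : Set G) with hC
  have huC : u ∈ C := Subgroup.mem_centralizer_singleton_iff.2 rfl
  have h11 : 11 ∣ Nat.card C := hu ▸ Subgroup.orderOf_dvd_natCard _ huC
  have h55 : Nat.card C ∣ 55 := by
    rw [← hN]
    refine Subgroup.card_dvd_of_le ?_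
    rw [Sylow.coe_ofCard, hC, ← Subgroup.centralizer_closure, ← Subgroup.zpowers_eq_closure]
    exact Subgroup.centralizer_le_normalizer _
  obtain ⟨c, hc⟩ := h11
  rw [hc, show (55 : ℕ) = 11 * 5 from rfl] at h55
  rcases (Nat.dvd_prime (by norm_num : Nat.Prime 5)).1
    (Nat.dvd_of_mul_dvd_mul_left (by norm_num) h55) with rfl | rfl
  · exact isSimpleGroup_of_centralizer hG hu hc
  exfalso
  haveI := Fact.mk (show Nat.Prime 5 by norm_num)
  obtain ⟨y, hy⟩ := exists_prime_orderOf_dvd_card' (G := C) 5 (by rw [hc]; norm_num)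
  have hzy : orderOf ((⟨u, huC⟩ : C) * y) = Nat.card C := by
    rw [(show Commute (⟨u, huC⟩ : C) y from Subtype.ext
      (Subgroup.mem_centralizer_singleton_iff.1 y.2).symm).orderOf_mul_eq_mul_orderOf_of_coprime
      (by rw [Subgroup.orderOf_mk, hu, hy]; norm_num), Subgroup.orderOf_mk, hu, hy, hc]
  haveI := isCyclic_of_orderOf_eq_card _ hzy
  haveI := Fintype.ofFinite C
  have h40 : Nat.card {g : C // orderOf g = 55} = 40 := by
    have := IsCyclic.card_orderOf_eq_totient (α := C) (d := 55)
      (by rw [← Nat.card_eq_fintype_card, hc])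
    rw [Nat.card_eq_fintype_card, Fintype.card_subtype, this]
    decide +kernel
  have h7 : Nat.card {g : G // orderOf g = 55} % 11 = 7 := by
    have := count_mod hu 55
    rw [h40] at this
    exact this
  have := h 55 (by omega)
  omega

end CfsgLib.Small.O7920
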