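import Cfsg.Agent.Lib.Small.Order7920Eleven
import Cfsg.Agent.Lib.Small.Order7920Points

/-!
# Uniqueness of the simple group of order 7920
-/

set_option autoImplicit false
set_option linter.unusedSectionVars false
set_option linter.style.haveILetI false

open Cfsg CfsgLib.SteinerUnique

namespace CfsgLib.Small.O7920

variable {G : Type*} [Group G] [Finite G] [IsSimpleGroup G] (hG : Nat.card G = 7920)

include hG

/-- A faithful action on eleven points in which a chosen element is `i ↦ i + 1`. -/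
theorem exists_points : ∃ (f : G →* Equiv.Perm (Fin 11)) (x : G), Function.Injective f ∧
    orderOf x = 11 ∧ ∀ i, f x i = i + 1 := by
  classical
  haveI := Fact.mk (show Nat.Prime 11 by norm_num)
  obtain ⟨H, hH⟩ := exists_index_eleven hG
  have hc : Nat.card (G ⧸ H) = 11 := hH
  let e : G ⧸ H ≃ Fin 11 := Finite.equivFinOfCardEq hc
  let f₀ : G →* Equiv.Perm (Fin 11) :=
    (e.permCongrHom).toMonoidHom.comp (MulAction.toPermHom G (G ⧸ H))
  have hinj : Function.Injective f₀ := by
    refine (e.permCongrHom).injective.comp ?_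
    rw [← MonoidHom.ker_eq_bot_iff, ← Subgroup.normalCore_eq_ker]
    refine (Subgroup.normalCore_normal H).eq_bot_or_eq_top.resolve_right fun h => ?_
    have htop : H = ⊤ := top_unique (h ▸ Subgroup.normalCore_le H)
    rw [htop, Subgroup.index_top] at hH
    omega
  obtain ⟨x, hx⟩ := exists_prime_orderOf_dvd_card' (G := G) 11 (by rw [hG]; norm_num)
  let X : Equiv.Perm (Fin 11) := Equiv.addRight 1
  have hXo : orderOf X = 11 := orderOf_eq_prime
    (Equiv.ext fun i => by revert i; decide +kernel)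
    (fun h => absurd (Equiv.congr_fun h 0) (by decide +kernel))
  have hfx : orderOf (f₀ x) = 11 := by rw [orderOf_injective f₀ hinj, hx]
  have key : ∀ σ : Equiv.Perm (Fin 11), orderOf σ = 11 → σ.cycleType = {11} := by
    intro σ hσ
    obtain ⟨n, hn⟩ := Equiv.Perm.cycleType_prime_order (σ := σ) (by rw [hσ]; norm_num)
    have hle := Equiv.Perm.sum_cycleType_le σ (α := Fin 11)
    rw [hn, hσ] at hle
    simp only [Multiset.sum_replicate, smul_eq_mul, Fintype.card_fin] at hle
    have h0 : n = 0 := by omega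
    rw [hn, hσ, h0]
    rfl
  obtain ⟨τ, hτ⟩ := isConj_iff.1
    (Equiv.Perm.isConj_iff_cycleType_eq.2 ((key _ hfx).trans (key _ hXo).symm))
  refine ⟨(MulAut.conj τ).toMonoidHom.comp f₀, x, (MulAut.conj τ).injective.comp hinj, hx,
    fun i => ?_⟩
  show (τ * f₀ x * τ⁻¹) i = i + 1
  rw [hτ]
  rfl

/-- An element of order five cubing a given element of order eleven. -/
theorem exists_cubing {x : G} (hx : orderOf x = 11) :
    ∃ y : G, y ^ 5 = 1 ∧ y * x * y⁻¹ = x ^ 3 := by
  classical
  haveI := Fact.mk (show Nat.Prime 11 by norm_num)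
  haveI := Fact.mk (show Nat.Prime 5 by norm_num)
  let P : Sylow 11 G := Sylow.ofCard (Subgroup.zpowers x) (by
    rw [Nat.card_zpowers, hx, hG, show 7920 = 11 ^ 1 * 720 by norm_num,
      Nat.factorization_mul (by norm_num) (by norm_num), Nat.factorization_pow]
    simp [Nat.factorization_eq_zero_of_not_dvd (show ¬ 11 ∣ 720 by norm_num),
      Nat.Prime.factorization_self (show Nat.Prime 11 by norm_num)])
  have hPz : (P : Subgroup G) = Subgroup.zpowers x := Sylow.coe_ofCard _ _
  obtain ⟨-, -, hN⟩ := sylow_eleven hG P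
  obtain ⟨⟨y₀, hy⟩, hyo⟩ := exists_prime_orderOf_dvd_card'
    (G := Subgroup.normalizer ((P : Subgroup G) : Set G)) 5 (by rw [hN]; norm_num)
  rw [Subgroup.orderOf_mk] at hyo
  have h1 : y₀ * x * y₀⁻¹ ∈ Subgroup.zpowers x :=
    hPz ▸ (Subgroup.mem_normalizer_iff.1 hy x).1 (hPz ▸ Subgroup.mem_zpowers x)
  obtain ⟨j, hj, hjx⟩ : ∃ j < 11, x ^ j = y₀ * x * y₀⁻¹ := by
    rw [mem_zpowers_iff_mem_range_orderOf, Finset.mem_image] at h1
    obtain ⟨j, hj, e⟩ := h1
    exact ⟨j, by rw [Finset.mem_range, hx] at hj; exact hj, e⟩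
  have hpow : ∀ k : ℕ, y₀ ^ k * x * (y₀ ^ k)⁻¹ = x ^ (j ^ k) := by
    intro k
    induction k with
    | zero => simp
    | succ k ih =>
      calc y₀ ^ (k + 1) * x * (y₀ ^ (k + 1))⁻¹ = y₀ * (y₀ ^ k * x * (y₀ ^ k)⁻¹) * y₀⁻¹ := by
            rw [pow_succ']; group
        _ = _ := by rw [ih, ← conj_pow, ← hjx, ← pow_mul, pow_succ']
  have hmod : ∀ a b : ℕ, x ^ a = x ^ b → a % 11 = b % 11 := fun a b h => by
    have := pow_eq_pow_iff_modEq.1 h
    rwa [hx] at this
  have h5 : j ^ 5 % 11 = 1 := by
    refine (hmod _ 1 ?_).trans rfl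
    rw [← hpow, show y₀ ^ 5 = 1 from hyo ▸ pow_orderOf_eq_one y₀]
    simp
  have hj1 : j ≠ 1 := fun e => by
    rw [e, pow_one, eq_mul_inv_iff_mul_eq] at hjx
    have := (order_eleven hG hx).1 ▸ Subgroup.orderOf_dvd_natCard _
      (Subgroup.mem_centralizer_singleton_iff.2 hjx.symm)
    rw [hyo] at this
    norm_num at this
  obtain ⟨k, -, hk⟩ : ∃ k < 5, j ^ k % 11 = 3 :=
    (show ∀ j < 11, j ^ 5 % 11 = 1 → j ≠ 1 → ∃ k < 5, j ^ k % 11 = 3 by decide +kernel) j hj h5 hj1
  refine ⟨y₀ ^ k, ?_, ?_⟩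
  · rw [← pow_mul, mul_comm, pow_mul, show y₀ ^ 5 = 1 from hyo ▸ pow_orderOf_eq_one y₀, one_pow]
  · rw [hpow, ← pow_mod_orderOf, hx, hk]

/-- An element squaring a given element of order five. -/
theorem exists_squaring {y : G} (hy : orderOf y = 5) : ∃ w : G, w * y * w⁻¹ = y ^ 2 := by
  classical
  haveI := Fact.mk (show Nat.Prime 5 by norm_num)
  let P : Sylow 5 G := Sylow.ofCard (Subgroup.zpowers y) (by
    rw [Nat.card_zpowers, hy, hG, show 7920 = 5 ^ 1 * 1584 by norm_num,
      Nat.factorization_mul (by norm_num) (by norm_num), Nat.factorization_pow]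
    simp [Nat.factorization_eq_zero_of_not_dvd (show ¬ 5 ∣ 1584 by norm_num),
      Nat.Prime.factorization_self (show Nat.Prime 5 by norm_num)])
  have hPz : (P : Subgroup G) = Subgroup.zpowers y := Sylow.coe_ofCard _ _
  set N := Subgroup.normalizer ((P : Subgroup G) : Set G) with hN
  set S := {z : G | ∃ n ∈ N, n * y * n⁻¹ = z}
  set T : Finset G := (Finset.Icc 1 4).image (y ^ ·) with hTdef
  have hST : S ⊆ (T : Set G) := by
    rintro _ ⟨n, hn, rfl⟩
    have h1 : n * y * n⁻¹ ∈ Subgroup.zpowers y :=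
      hPz ▸ (Subgroup.mem_normalizer_iff.1 hn y).1 (hPz ▸ Subgroup.mem_zpowers y)
    rw [mem_zpowers_iff_mem_range_orderOf, Finset.mem_image] at h1
    obtain ⟨j, hj, e⟩ := h1
    rw [Finset.mem_range, hy] at hj
    refine Finset.mem_coe.2 (Finset.mem_image.2 ⟨j, Finset.mem_Icc.2 ⟨?_, by omega⟩, e⟩)
    by_contra h
    rw [show j = 0 by omega, pow_zero, eq_comm, conj_eq_one_iff] at e
    rw [e, orderOf_one] at hy
    omega
  have hS4 : S.ncard ≤ 4 := by
    refine (Set.ncard_le_ncard hST (Set.toFinite _)).trans ?_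
    rw [Set.ncard_coe_finset]
    exact Finset.card_image_le.trans (by simp)
  have hS := ncard_conj N y
  have hle : Subgroup.centralizer ({y} : Set G) ≤ N := fun c hc => by
    rw [hN, Subgroup.mem_normalizer_iff, hPz]
    intro z
    have hcz : ∀ z ∈ Subgroup.zpowers y, c * z * c⁻¹ = z := fun z hz => by
      obtain ⟨k, rfl⟩ := Subgroup.mem_zpowers_iff.1 hz
      rw [mul_inv_eq_iff_eq_mul]
      exact (Commute.zpow_right (show Commute c y from
        Subgroup.mem_centralizer_singleton_iff.1 hc) k).eq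
    refine ⟨fun hz => (hcz z hz).symm ▸ hz, fun hz => ?_⟩
    have h := hcz _ hz
    have : c * (c * z * c⁻¹) * c⁻¹ = c * z * c⁻¹ := h
    rw [mul_left_inj, mul_right_inj] at this
    exact this ▸ hz
  have hmul := Subgroup.relIndex_mul_relIndex ⊥ _ N bot_le hle
  rw [Subgroup.relIndex_bot_left, Subgroup.relIndex_bot_left, order_five hG hy, ← hS] at hmul
  have hidx := N.card_mul_index
  rw [hG, ← hmul] at hidx
  have hmod : N.index % 5 = 1 := by
    have h := card_sylow_modEq_one 5 G
    rw [Sylow.card_eq_index_normalizer P] at h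
    exact h
  have hS4' : S.ncard = 4 := by
    interval_cases h : S.ncard <;> omega
  have hTS : S = (T : Set G) := Set.eq_of_subset_of_ncard_le hST (by
    rw [hS4', Set.ncard_coe_finset]
    exact Finset.card_image_le.trans (by simp)) (Set.toFinite _)
  obtain ⟨w, -, hw⟩ : y ^ 2 ∈ S := hTS ▸ Finset.mem_coe.2
    (Finset.mem_image.2 ⟨2, by simp, rfl⟩)
  exact ⟨w, hw⟩

theorem pow_1320 (f : G →* Equiv.Perm (Fin 11)) (hf : Function.Injective f) (g : G) :
    g ^ 1320 = 1 := by
  haveI := Fact.mk Nat.prime_three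
  have h1 : g ^ 27720 = 1 := by
    refine orderOf_dvd_iff_pow_eq_one.1 ?_
    rw [← orderOf_injective f hf, ← Equiv.Perm.lcm_cycleType, Multiset.lcm_dvd]
    intro n hn
    have h2 := Equiv.Perm.two_le_of_mem_cycleType hn
    have h11 := (Equiv.Perm.le_card_support_of_mem_cycleType hn).trans
      ((Finset.card_le_univ _).trans_eq (Fintype.card_fin 11))
    interval_cases n <;> norm_num
  have h2 : g ^ 7920 = 1 := hG ▸ pow_card_eq_one'
  have h3 : g ^ 3960 = 1 := by
    have := pow_gcd_eq_one.2 ⟨h1, h2⟩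
    rwa [show Nat.gcd 27720 7920 = 3960 from by decide +kernel] at this
  have hp : IsPGroup 3 (Subgroup.zpowers (g ^ 880)) := by
    intro z
    obtain ⟨k, hk⟩ := Subgroup.mem_zpowers_iff.1 z.2
    refine ⟨2, Subtype.ext ?_⟩
    rw [Subgroup.coe_pow, Subgroup.coe_one, ← hk, ← zpow_natCast, ← zpow_mul, mul_comm, zpow_mul,
      zpow_natCast, ← pow_mul, show 880 * 3 ^ 2 = 7920 from rfl, h2, one_zpow]
  obtain ⟨P, hP⟩ := hp.exists_le_sylow
  have h4 := exponent_three hG P (hP (Subgroup.mem_zpowers _))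
  rw [← pow_mul] at h4
  have := pow_gcd_eq_one.2 ⟨h3, h4⟩
  rwa [show Nat.gcd 3960 (880 * 3) = 1320 from by decide +kernel] at this

/-- A simple group of order 7920 is the automorphism group of a Steiner system. -/
theorem exists_steiner_iso : ∃ B : Set (Finset (Fin 11)),
    IsSteinerSystem 4 5 B ∧ Nonempty (G ≃* setSystemAut B) := by
  classical
  haveI := Fact.mk (show Nat.Prime 11 by norm_num)
  haveI := Fact.mk (show Nat.Prime 5 by norm_num)
  obtain ⟨f, x, hf, hx, hfx⟩ := exists_points hG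
  obtain ⟨y₁, hy₁, hy₁x⟩ := exists_cubing hG hx
  have happ : ∀ (g h : G) i, f (g * h) i = f g (f h i) := fun g h i => by
    rw [map_mul, Equiv.Perm.mul_apply]
  have hxk : ∀ (k : ℕ) i, f (x ^ k) i = (fun j => j + 1)^[k] i := fun k => by
    induction k with
    | zero => simp
    | succ k ih =>
      intro i
      rw [pow_succ', happ, ih, hfx, Function.iterate_succ_apply']
  have hxk' : ∀ (k i : Fin 11), f (x ^ k.val) i = i + k := fun k i =>
    (hxk k.val i).trans ((show ∀ k i : Fin 11, (fun j => j + 1)^[k.val] i = i + k by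
      decide +kernel) k i)
  -- `y` acts as multiplication by three
  set c := f y₁ 0 with hc
  set y := (x ^ c.val)⁻¹ * y₁ with hydef
  have hyx : y * x * y⁻¹ = x ^ 3 := by
    calc y * x * y⁻¹ = (x ^ c.val)⁻¹ * (y₁ * x * y₁⁻¹) * x ^ c.val := by rw [hydef]; group
      _ = _ := by rw [hy₁x]; group
  have hy0 : f y 0 = 0 := by
    rw [hydef, happ, map_inv, Equiv.Perm.inv_eq_iff_eq, ← hc, hxk', zero_add]
  have hfy : ∀ i, f y i = 3 * i := by
    have hs : ∀ i, f y (i + 1) = f y i + 3 := fun i => by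
      rw [← hfx, ← happ, show y * x = x ^ 3 * y by rw [← hyx]; group, happ, hxk]
      exact (show ∀ i : Fin 11, (fun j => j + 1)^[3] i = i + 3 by decide +kernel) _
    intro i
    induction i using Fin.induction with
    | zero => rw [hy0]; rfl
    | succ i ih =>
      rw [← Fin.coeSucc_eq_succ, hs, ih, mul_add]
      rfl
  have hyk : ∀ (k : ℕ) i, f (y ^ k) i = (fun j => 3 * j)^[k] i := fun k => by
    induction k with
    | zero => simp
    | succ k ih =>
      intro i
      rw [pow_succ', happ, ih, hfy, Function.iterate_succ_apply']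
  have hy : orderOf y = 5 := orderOf_eq_prime (hf (Equiv.ext fun i => by
      rw [hyk, map_one f]
      exact (show ∀ i : Fin 11, (fun j => 3 * j)^[5] i = i by decide +kernel) i))
    (fun h => by
      have := hfy 1
      rw [h, map_one f] at this
      exact absurd this (by decide))
  -- the normalizing element
  obtain ⟨w₀, hw₀⟩ := exists_squaring hG hy
  have hcomm : ∀ v : G, v * y * v⁻¹ = y ^ 2 → ∀ i, f v (3 * i) = 9 * f v i := fun v hv i => by
    rw [← hfy, ← happ, show v * y = y ^ 2 * v by rw [← hv]; group, happ, hyk]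
    exact (show ∀ i : Fin 11, (fun j => 3 * j)^[2] i = 9 * i by decide +kernel) _
  have hzero : ∀ v : G, v * y * v⁻¹ = y ^ 2 → f v 0 = 0 := fun v hv => by
    have := hcomm v hv 0
    rw [mul_zero] at this
    exact (show ∀ c : Fin 11, c = 9 * c → c = 0 by decide +kernel) _ this
  obtain ⟨k, hk⟩ := Points.normalize (f w₀ 1) fun h =>
    absurd ((f w₀).injective (h.trans (hzero w₀ hw₀).symm)) (by decide)
  set w := y ^ k.val * w₀ with hwdef
  have hw : w * y * w⁻¹ = y ^ 2 := by
    calc w * y * w⁻¹ = y ^ k.val * (w₀ * y * w₀⁻¹) * (y ^ k.val)⁻¹ := by rw [hwdef]; group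
      _ = _ := by rw [hw₀]; group
  have hw1 : f w 1 = 1 ∨ f w 1 = 2 := by rw [hwdef, happ, hyk]; exact hk
  set a := f w 1 with ha
  set b := f w 2 with hb
  have hiter : ∀ (m : ℕ) (i : Fin 11), f w i = Points.tab a b i →
      f w ((fun j => 3 * j)^[m] i) = Points.tab a b ((fun j => 3 * j)^[m] i) := by
    intro m i h
    induction m with
    | zero => exact h
    | succ m ih => rw [Function.iterate_succ_apply', hcomm w hw, ih, Points.tab_spec]
  have hfw : ∀ i, f w i = Points.tab a b i := by
    intro i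
    rcases Points.orbit_two i with rfl | ⟨m, rfl | rfl⟩
    · rw [hzero w hw]; rfl
    · exact hiter _ _ (by rw [← ha]; rfl)
    · exact hiter _ _ (by rw [← hb]; rfl)
  -- words
  let el : List Bool → G := fun l => (l.map fun c => if c then w else x).prod
  have hel : ∀ l i, f (el l) i = Points.ev (Points.tab a b) l i := by
    intro l
    induction l with
    | nil => intro i; simp [el, Points.ev]
    | cons c l ih =>
      intro i
      have : el (c :: l) = (if c then w else x) * el l := by simp [el]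
      rw [this, happ, ih]
      cases c
      · exact hfx _
      · exact hfw _
  have helk : ∀ l (m : ℕ) i, f (el l ^ m) i = (Points.ev (Points.tab a b) l)^[m] i := fun l m => by
    induction m with
    | zero => simp
    | succ m ih =>
      intro i
      rw [pow_succ', happ, ih, hel, Function.iterate_succ_apply']
  rcases Points.classify a b hw1 (fun i j h => (f w).injective (by rw [hfw, hfw, h])) with
    ⟨s, hs⟩ | hbad
  swap
  · exfalso
    simp only [Points.refuted, List.any_eq_true, Bool.and_eq_true, Bool.not_eq_true',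
      beq_eq_false_iff_ne, beq_iff_eq] at hbad
    obtain ⟨l, -, i, -, m, -, ⟨-, hm⟩, hne⟩ := hbad
    apply hne
    rw [← helk] at hm ⊢
    have hfix : ∀ q : ℕ, f (el l ^ (m * q)) i = i := fun q => by
      induction q with
      | zero => simp
      | succ q ih => rw [Nat.mul_succ, pow_add, happ, hm, ih]
    have h := pow_1320 hG f hf (el l)
    rw [← Nat.mod_add_div 1320 m, pow_add] at h
    have h' := congrArg (fun g => f g i) h
    simp only [happ, hfix, map_one, Equiv.Perm.one_apply] at h'
    exact h'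
  have hfw' : ∀ i, f w i = Points.third s i := fun i => (hfw i).trans (hs i)
  -- generation
  set L := Subgroup.closure ({x, y, w} : Set G) with hL
  have hxL : x ∈ L := Subgroup.subset_closure (by simp)
  have hyL : y ∈ L := Subgroup.subset_closure (by simp)
  have hwL : w ∈ L := Subgroup.subset_closure (by simp)
  have h8 : 8 ∣ Nat.card L := by
    obtain ⟨l, -, h8, i, hi⟩ := Points.eight s
    have hev : ∀ j, Points.ev (Points.tab a b) l j = Points.ev (Points.third s) l j := fun j => by
      rw [show Points.tab a b = Points.third s from funext hs]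
    have heq : Points.ev (Points.tab a b) l = Points.ev (Points.third s) l := funext hev
    have ho : orderOf (el l) = 2 ^ (2 + 1) := by
      haveI := Fact.mk Nat.prime_two
      refine orderOf_eq_prime_pow (fun h => hi ?_) (hf (Equiv.ext fun j => ?_))
      · rw [← heq, ← helk, show (4 : ℕ) = 2 ^ 2 from rfl, h, map_one]; rfl
      · rw [helk, heq, map_one]; exact h8 j
    have : el l ∈ L := Subgroup.list_prod_mem _ fun z hz => by
      obtain ⟨c, -, rfl⟩ := List.mem_map.1 hz
      cases c
      exacts [hxL, hwL]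
    have h := Subgroup.orderOf_dvd_natCard _ this
    rwa [ho] at h
  let P : Sylow 11 G := Sylow.ofCard (Subgroup.zpowers x) (by
    rw [Nat.card_zpowers, hx, hG, show 7920 = 11 ^ 1 * 720 by norm_num,
      Nat.factorization_mul (by norm_num) (by norm_num), Nat.factorization_pow]
    simp [Nat.factorization_eq_zero_of_not_dvd (show ¬ 11 ∣ 720 by norm_num),
      Nat.Prime.factorization_self (show Nat.Prime 11 by norm_num)])
  have hPz : (P : Subgroup G) = Subgroup.zpowers x := Sylow.coe_ofCard _ _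
  obtain ⟨-, -, hN⟩ := sylow_eleven hG P
  set N := Subgroup.normalizer ((P : Subgroup G) : Set G) with hNdef
  have hyN : y ∈ N := by
    rw [hNdef, hPz, Subgroup.mem_normalizer_iff]
    intro z
    have hmap : ∀ z ∈ Subgroup.zpowers x, y * z * y⁻¹ ∈ Subgroup.zpowers x := fun z hz => by
      obtain ⟨m, rfl⟩ := Subgroup.mem_zpowers_iff.1 hz
      rw [← conj_zpow, hyx]
      exact Subgroup.zpow_mem _ (Subgroup.pow_mem _ (Subgroup.mem_zpowers x) 3) m
    refine ⟨hmap z, fun hz => ?_⟩
    have h : ∀ q : ℕ, y ^ q * (y * z * y⁻¹) * (y ^ q)⁻¹ ∈ Subgroup.zpowers x := fun q => by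
      induction q with
      | zero => simpa using hz
      | succ q ih =>
        have := hmap _ ih
        convert this using 1
        rw [pow_succ']; group
    have h4 := h 4
    rwa [show y ^ 4 * (y * z * y⁻¹) * (y ^ 4)⁻¹ = y ^ 5 * z * (y ^ 5)⁻¹ by group,
      ← hy, pow_orderOf_eq_one, one_mul, inv_one, mul_one] at h4
  have hxN : x ∈ N := Subgroup.le_normalizer (hPz ▸ Subgroup.mem_zpowers x)
  have hNL : N ≤ L := by
    have h11 : 11 ∣ Nat.card (N ⊓ L : Subgroup G) :=
      hx ▸ Subgroup.orderOf_dvd_natCard _ (show x ∈ N ⊓ L from ⟨hxN, hxL⟩)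
    have h5 : 5 ∣ Nat.card (N ⊓ L : Subgroup G) :=
      hy ▸ Subgroup.orderOf_dvd_natCard _ (show y ∈ N ⊓ L from ⟨hyN, hyL⟩)
    exact inf_eq_left.1 (Subgroup.eq_of_le_of_card_ge inf_le_left (hN.le.trans
      (Nat.le_of_dvd Nat.card_pos
        (Nat.Coprime.mul_dvd_of_dvd_of_dvd (by norm_num : Nat.Coprime 5 11) h5 h11))))
  have hLtop : L = ⊤ := by
    have hPL : (P : Subgroup G) ≤ L := hPz ▸ Subgroup.zpowers_le.2 hxL
    let Q : Sylow 11 L := P.subtype hPL
    have hNQ : Subgroup.normalizer ((Q : Subgroup L) : Set L) = N.subgroupOf L := by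
      rw [Sylow.coe_subtype, hNdef, Subgroup.subgroupOf_normalizer_eq hPL]
    have hidx := (N.subgroupOf L).card_mul_index
    rw [Nat.card_congr (Subgroup.subgroupOfEquivOfLe hNL).toEquiv, hN] at hidx
    have hmod := card_sylow_modEq_one 11 L
    rw [Sylow.card_eq_index_normalizer Q] at hmod
    change (Subgroup.normalizer ((Q : Subgroup L) : Set L)).index ≡ _ [MOD 11] at hmod
    rw [hNQ] at hmod
    have h440 : 8 * 55 ∣ Nat.card L := Nat.Coprime.mul_dvd_of_dvd_of_dvd
      (by norm_num : Nat.Coprime 8 55) h8 ⟨_, hidx.symm⟩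
    have hdvd := hG ▸ L.card_subgroup_dvd_card
    rw [← hidx] at h440 hdvd
    have h144 : (N.subgroupOf L).index ∣ 144 :=
      Nat.dvd_of_mul_dvd_mul_left (by norm_num : 0 < 55) (show 55 * _ ∣ 55 * 144 from hdvd)
    have h8' : 8 ∣ (N.subgroupOf L).index :=
      Nat.Coprime.dvd_of_dvd_mul_left (by norm_num : Nat.Coprime 8 55) (dvd_of_mul_right_dvd h440)
    refine Subgroup.eq_top_of_card_eq _ ?_
    rw [← hidx, hG]
    have key : ∀ m < 145, m ∣ 144 → 8 ∣ m → m % 11 = 1 → m = 144 := by decide +kernel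
    rw [key _ (Nat.lt_succ_of_le (Nat.le_of_dvd (by norm_num) h144)) h144 h8' hmod]
  have hrange : ∀ g, f g ∈ setSystemAut (Points.blocks s) := by
    intro g
    have hsub : L ≤ (setSystemAut (Points.blocks s)).comap f := by
      rw [hL, Subgroup.closure_le]
      rintro _ (rfl | rfl | rfl)
      · exact Points.mem_aut (i := 0) hfx
      · exact Points.mem_aut (i := 1) hfy
      · exact Points.mem_aut (i := 2) hfw'
    exact hsub (hLtop ▸ Subgroup.mem_top g)
  have hinj : Function.Injective (f.codRestrict _ hrange) := fun g h e =>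
    hf (congrArg Subtype.val e)
  have hcard := (aut11 (by simp) (Points.isSteiner s)).1.2
  exact ⟨_, Points.isSteiner s, ⟨MulEquiv.ofBijective _
    ((Nat.bijective_iff_injective_and_card _).2 ⟨hinj, hG.trans hcard.symm⟩)⟩⟩

/-- All simple groups of order 7920 are isomorphic. -/
theorem iso_of_card {H : Type*} [Group H] [Finite H] [IsSimpleGroup H] (hH : Nat.card H = 7920) :
    Nonempty (G ≃* H) := by
  obtain ⟨B, hB, ⟨e⟩⟩ := exists_steiner_iso hG
  obtain ⟨B', hB', ⟨e'⟩⟩ := exists_steiner_iso hH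
  obtain ⟨-, Φ, -⟩ := exists_autEquiv ((labelled11 (by simp) hB).iso (by norm_num)
    (labelled11 (by simp) hB'))
  exact ⟨(e.trans Φ).trans e'.symm⟩

end CfsgLib.Small.O7920
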