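import Cfsg.Agent.Lib.Small.Order7920Invol

/-!
# Simple groups of order 7920: the Sylow subgroups of order 9
-/

set_option autoImplicit false
set_option linter.style.haveILetI false
set_option linter.unusedSectionVars false

open Cfsg CfsgLib.Chars CfsgLib.CharApps

namespace CfsgLib.Small.O7920

universe u

variable {G : Type u} [Group G] [Finite G]

/-- The conjugates of `x` under a subgroup. -/
theorem ncard_conj (H : Subgroup G) (x : G) :
    {y : G | ∃ n ∈ H, n * x * n⁻¹ = y}.ncard =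
      (Subgroup.centralizer ({x} : Set G)).relIndex H := by
  letI : MulAction H G := MulAction.compHom G ((MulAut.conj (G := G)).comp H.subtype)
  have hsmul : ∀ (n : H) (y : G), n • y = (n : G) * y * (n : G)⁻¹ := fun n y => rfl
  have horb : MulAction.orbit H x = {y : G | ∃ n ∈ H, n * x * n⁻¹ = y} := by
    ext y
    simp [MulAction.mem_orbit_iff, hsmul]
  have hst : MulAction.stabilizer H x = (Subgroup.centralizer ({x} : Set G)).subgroupOf H := by
    ext n
    rw [MulAction.mem_stabilizer_iff, hsmul, Subgroup.mem_subgroupOf,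
      Subgroup.mem_centralizer_singleton_iff, mul_inv_eq_iff_eq_mul]
  rw [← horb, Subgroup.relIndex, ← hst, MulAction.index_stabilizer]

theorem ncard_carrier (x : G) :
    (ConjClasses.mk x).carrier.ncard = (Subgroup.centralizer ({x} : Set G)).index := by
  have h : (ConjClasses.mk x).carrier = {y : G | ∃ n ∈ (⊤ : Subgroup G), n * x * n⁻¹ = y} := by
    ext y
    rw [ConjClasses.mem_carrier_iff_mk_eq, ConjClasses.mk_eq_mk_iff_isConj, Set.mem_setOf_eq]
    constructor
    · intro h
      obtain ⟨n, hn⟩ := isConj_iff.1 h.symm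
      exact ⟨n, Subgroup.mem_top n, hn⟩
    · rintro ⟨n, -, hn⟩
      exact (isConj_iff.2 ⟨n, hn⟩).symm
  rw [h, ncard_conj, Subgroup.relIndex_top_right]

set_option synthInstance.maxSize 1024 in
theorem normalizer_arith : ∀ j < 881, j ∣ 880 → j % 5 ≠ 0 → j % 11 ≠ 0 → 880 / j % 3 = 1 →
    j = 1 ∨ j = 4 ∨ j = 16 := by decide +kernel

variable [IsSimpleGroup G] (hG : Nat.card G = 7920)

include hG

theorem index_le {x : G} {c : ℕ} (hc : 0 < c)
    (h : c ≤ Nat.card (Subgroup.centralizer ({x} : Set G))) :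
    c * (Subgroup.centralizer ({x} : Set G)).index ≤ 7920 := by
  rw [← hG, ← Subgroup.card_mul_index (Subgroup.centralizer ({x} : Set G))]
  exact Nat.mul_le_mul_right _ h

theorem card_classes : Nat.card (ConjClasses G) = 10 := by
  obtain ⟨T⟩ := exists_table hG
  rw [← card_irr_eq_card_classes, ← Nat.card_congr T.c, Nat.card_eq_fintype_card, Fintype.card_fin]

theorem classes_sum {f : Fin 10 → G} (hf : ∀ i k, IsConj (f i) (f k) → i = k) :
    ∑ i, (Subgroup.centralizer ({f i} : Set G)).index = 7920 := by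
  classical
  haveI := Fintype.ofFinite G
  haveI := Fintype.ofFinite (ConjClasses G)
  have hinj : Function.Injective fun i => ConjClasses.mk (f i) := fun i k h =>
    hf i k (ConjClasses.mk_eq_mk_iff_isConj.1 h)
  have hbij : Function.Bijective fun i => ConjClasses.mk (f i) :=
    (Fintype.bijective_iff_injective_and_card _).2 ⟨hinj, by
      rw [Fintype.card_fin, ← Nat.card_eq_fintype_card, card_classes hG]⟩
  rw [← hG, ← Group.sum_card_conj_classes_eq_card G, finsum_eq_sum_of_fintype,
    ← hbij.sum_comp (fun C => C.carrier.ncard)]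
  exact Finset.sum_congr rfl fun i _ => (ncard_carrier (f i)).symm

theorem exists_tenth {f : Fin 9 → G} : ∃ y, ∀ i, ¬ IsConj (f i) y := by
  classical
  haveI := Fintype.ofFinite G
  haveI := Fintype.ofFinite (ConjClasses G)
  by_contra h
  push Not at h
  have hsurj : Function.Surjective fun i => ConjClasses.mk (f i) := by
    intro C
    obtain ⟨y, rfl⟩ := ConjClasses.mk_surjective C
    obtain ⟨i, hi⟩ := h y
    exact ⟨i, ConjClasses.mk_eq_mk_iff_isConj.2 hi⟩
  have := Fintype.card_le_of_surjective _ hsurj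
  rw [Fintype.card_fin, ← Nat.card_eq_fintype_card, card_classes hG] at this
  omega

/-- An element of order eleven is not conjugate to its inverse. -/
theorem not_isConj_inv {x : G} (hx : orderOf x = 11) : ¬ IsConj x x⁻¹ := by
  intro h
  obtain ⟨g, hg⟩ := isConj_iff.1 h
  have hg2 : g ^ 2 * x * (g ^ 2)⁻¹ = x := by
    rw [show g ^ 2 * x * (g ^ 2)⁻¹ = g * (g * x * g⁻¹) * g⁻¹ by simp [sq, mul_assoc], hg,
      ← conj_inv, hg, inv_inv]
  have hmem : g ^ 2 ∈ Subgroup.centralizer ({x} : Set G) :=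
    Subgroup.mem_centralizer_singleton_iff.2 (mul_inv_eq_iff_eq_mul.1 hg2)
  obtain ⟨hC, hinv⟩ := order_eleven hG hx
  have h22 : (g ^ 2) ^ 11 = 1 :=
    orderOf_dvd_iff_pow_eq_one.1 (hC ▸ Subgroup.orderOf_dvd_natCard _ hmem)
  have hu : g ^ 11 * x * (g ^ 11)⁻¹ = x⁻¹ := by
    rw [show g ^ 11 = g * (g ^ 2) ^ 5 by group]
    have h10 : (g ^ 2) ^ 5 * x = x * (g ^ 2) ^ 5 := (Commute.pow_left
      (show Commute (g ^ 2) x from mul_inv_eq_iff_eq_mul.1 hg2) 5).eq
    calc g * (g ^ 2) ^ 5 * x * (g * (g ^ 2) ^ 5)⁻¹ = g * ((g ^ 2) ^ 5 * x) * ((g ^ 2) ^ 5)⁻¹ * g⁻¹ := by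
          group
      _ = g * x * g⁻¹ := by rw [h10]; group
      _ = x⁻¹ := hg
  have h1 := hinv (g ^ 11) (by rw [← pow_add]; rw [← pow_mul] at h22; exact h22) hu
  rw [h1, one_mul, inv_one, mul_one] at hu
  have : x ^ 2 = 1 := by rw [sq]; nth_rw 2 [hu]; exact mul_inv_cancel x
  have h2 := orderOf_dvd_of_pow_eq_one this
  rw [hx] at h2
  norm_num at h2

theorem four_le_centralizer {g : G} (hg : g ≠ 1) :
    4 ≤ Nat.card (Subgroup.centralizer ({g} : Set G)) := by
  haveI := Fact.mk Nat.prime_three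
  have hle : orderOf g ≤ Nat.card (Subgroup.centralizer ({g} : Set G)) :=
    Nat.le_of_dvd Nat.card_pos
      (Subgroup.orderOf_dvd_natCard _ (Subgroup.mem_centralizer_singleton_iff.2 rfl))
  have h0 := orderOf_pos g
  have h1 : orderOf g ≠ 1 := fun h => hg (orderOf_eq_one_iff.1 h)
  by_contra hlt
  rcases (show orderOf g = 2 ∨ orderOf g = 3 by omega) with h | h
  · rw [card_centralizer_involution hG h] at hlt
    omega
  · have hp : IsPGroup 3 (Subgroup.zpowers g) :=
      IsPGroup.of_card (n := 1) (by rw [Nat.card_zpowers, h, pow_one])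
    obtain ⟨Q, hQ⟩ := hp.exists_le_sylow
    have h9 : Nat.card (Q : Subgroup G) = 3 ^ 2 :=
      card_sylow_eq (p := 3) 2 880 (by rw [hG]; rfl) (by norm_num) Q
    haveI : IsMulCommutative (Q : Subgroup G) :=
      IsPGroup.isMulCommutative_of_card_eq_prime_sq (p := 3) h9
    have hle2 : (Q : Subgroup G) ≤ Subgroup.centralizer ({g} : Set G) := fun y hy =>
      Subgroup.mem_centralizer_singleton_iff.2
        ((Subgroup.mem_centralizer_iff.1 (Subgroup.le_centralizer (Q : Subgroup G) hy)) g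
          (hQ (Subgroup.mem_zpowers g))).symm
    have := Subgroup.card_le_of_le hle2
    omega

/-- The order of the centralizer of an element of order three. -/
theorem three_centralizer {x : G} (hx : orderOf x = 3)
    (h9 : 9 ∣ Nat.card (Subgroup.centralizer ({x} : Set G))) :
    Nat.card (Subgroup.centralizer ({x} : Set G)) = 9 ∨
      Nat.card (Subgroup.centralizer ({x} : Set G)) = 18 ∨
      36 ∣ Nat.card (Subgroup.centralizer ({x} : Set G)) := by
  have hd := hG ▸ Subgroup.card_subgroup_dvd_card (Subgroup.centralizer ({x} : Set G))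
  have hno : ∀ q : ℕ, q = 5 ∨ q = 11 → ¬ q ∣ Nat.card (Subgroup.centralizer ({x} : Set G)) := by
    intro q hq hdvd
    haveI := Fact.mk (show q.Prime by rcases hq with rfl | rfl <;> norm_num)
    obtain ⟨⟨y, hyC⟩, hyo⟩ := exists_prime_orderOf_dvd_card' (G := Subgroup.centralizer
      ({x} : Set G)) q hdvd
    rw [Subgroup.orderOf_mk] at hyo
    have hxC : x ∈ Subgroup.centralizer ({y} : Set G) :=
      Subgroup.mem_centralizer_singleton_iff.2 (Subgroup.mem_centralizer_singleton_iff.1 hyC).symm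
    have h := Subgroup.orderOf_dvd_natCard _ hxC
    rcases hq with rfl | rfl
    · rw [hx, order_five hG hyo] at h; norm_num at h
    · rw [hx, (order_eleven hG hyo).1] at h; norm_num at h
  obtain ⟨k, hk⟩ := h9
  rw [hk] at hd hno ⊢
  have h880 : k ∣ 880 := Nat.dvd_of_mul_dvd_mul_left (by norm_num : 0 < 9) hd
  have hle := Nat.le_of_dvd (by norm_num) h880
  have key : ∀ j < 881, j ∣ 880 → j % 5 ≠ 0 → j % 11 ≠ 0 → j = 1 ∨ j = 2 ∨ j % 4 = 0 := by
    decide +kernel
  have h5 : k % 5 ≠ 0 := fun h => hno 5 (Or.inl rfl) ((Nat.dvd_of_mod_eq_zero h).mul_left 9)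
  have h11 : k % 11 ≠ 0 := fun h => hno 11 (Or.inr rfl) ((Nat.dvd_of_mod_eq_zero h).mul_left 9)
  rcases key k (by omega) h880 h5 h11 with rfl | rfl | h
  · exact Or.inl rfl
  · exact Or.inr (Or.inl rfl)
  · exact Or.inr (Or.inr ((Nat.mul_dvd_mul_left 9 (Nat.dvd_of_mod_eq_zero h))))

/-- A self-centralizing element of order three inverted by an involution does not exist. -/
theorem false_of_real_three {x : G} (hx : orderOf x = 3)
    (h9 : Nat.card (Subgroup.centralizer ({x} : Set G)) = 9) (hreal : IsConj x x⁻¹) : False := by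
  classical
  haveI := Fact.mk Nat.prime_three
  haveI := Fintype.ofFinite G
  haveI := irrFintype G
  obtain ⟨T⟩ := exists_table hG
  have hx3 : x ^ 3 = 1 := by rw [← hx, pow_orderOf_eq_one]
  have hint : ∀ χ : IrrCharacter G, ∃ m : ℤ, (m : ℂ) = (χ : G → ℂ) x := by
    intro χ
    refine exists_int_of_rat (char_isIntegral (isCharacter_of_irr χ.2) x)
      (exists_rat_of_fixed (N := 3) (char_mem_cyclo (isCharacter_of_irr χ.2) x hx3)
        fun k σ hk hσ => ?_)
    rw [galois_apply σ hσ (isCharacter_of_irr χ.2) x hx3, pow_eq_pow_mod k hx3]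
    have h0 : k % 3 ≠ 0 := fun h => by
      have := Nat.dvd_gcd (Nat.dvd_of_mod_eq_zero h) (dvd_refl 3)
      rw [hk] at this
      norm_num at this
    rcases (show k % 3 = 1 ∨ k % 3 = 2 by omega) with h | h
    · rw [h, pow_one]
    · rw [h]
      obtain ⟨g, hg⟩ := isConj_iff.1 hreal
      have hx2 : x ^ 2 = x⁻¹ := eq_inv_of_mul_eq_one_left (by rw [← pow_succ, hx3])
      rw [hx2, ← hg]
      exact isClassFunction_irr χ x g
  choose m hm using hint
  have hcong : ∀ i, (3 : ℤ) ∣ m (T.c i) - (degs i : ℤ) := fun i => by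
    have h := int_congr_of_pow_eq_one (p := 3) (T.c i) hx3 (hm (T.c i))
    rwa [T.deg i] at h
  have h45 : m (T.c 1) = 0 := by
    have h := eq_zero_of_dvd_orderOf (T.c 1).2 (p := 3) (n := 2) Nat.prime_three
      (deg_eq (T.c 1)) (by rw [hG]; norm_num) (by rw [T.deg 1]; decide) (by rw [hx])
    rw [← hm] at h
    exact_mod_cast h
  have hm0 : m (T.c 0) = 1 := by
    have h := hm (T.c 0)
    rw [T.principal, principal_apply] at h
    rw [T.principal]
    exact_mod_cast h
  have hnorm := second_orthogonality (G := G) x x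
  rw [if_pos (IsConj.refl x), h9, ← Equiv.sum_comp T.c] at hnorm
  simp only [← hm, map_intCast] at hnorm
  have hsum : ∑ i, m (T.c i) * m (T.c i) = (9 : ℤ) := by
    apply Int.cast_injective (α := ℂ)
    push_cast
    exact hnorm
  have hone : ∀ i, i ≠ 1 → 1 ≤ m (T.c i) * m (T.c i) := by
    intro i hi
    have h := hcong i
    have hne : m (T.c i) ≠ 0 := fun h0 => by
      rw [h0] at h
      fin_cases i <;> simp [degs] at h hi <;> omega
    have := mul_self_pos.2 hne
    omega
  have hrest : ∀ i, i ≠ 1 → m (T.c i) * m (T.c i) = 1 := by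
    intro i hi
    by_contra hne
    have h1 := hone i hi
    have h : ∑ k ∈ Finset.univ.erase (1 : Fin 10), (1 : ℤ) <
        ∑ k ∈ Finset.univ.erase (1 : Fin 10), m (T.c k) * m (T.c k) :=
      Finset.sum_lt_sum (fun k hk => hone k (Finset.mem_erase.1 hk).1)
        ⟨i, by simp [hi], by omega⟩
    rw [Finset.sum_erase_eq_sub (Finset.mem_univ _), Finset.sum_erase_eq_sub (Finset.mem_univ _),
      hsum, h45] at h
    norm_num at h
  have hval : ∀ i, i ≠ 1 → degs i % 3 = 1 → m (T.c i) = 1 := by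
    intro i hi hd
    have h := hcong i
    rcases Int.isUnit_iff.1 (IsUnit.of_mul_eq_one _ (hrest i hi)) with h1 | h1
    · exact h1
    · rw [h1] at h; omega
  have h11 : ¬ 11 ∣ orderOf x := by rw [hx]; norm_num
  have hR := (T.rel11 x h11).2
  rw [← hm, ← hm, ← hm, ← hm, ← hm, h45, hval 2 (by decide) (by decide),
    hval 3 (by decide) (by decide), hval 4 (by decide) (by decide),
    hval 5 (by decide) (by decide)] at hR
  norm_num at hR

/-- The Sylow normalizer of order 144. -/
theorem card_normalizer_sylow_three (P : Sylow 3 G) :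
    Nat.card (Subgroup.normalizer ((P : Subgroup G) : Set G)) = 144 := by
  classical
  haveI := Fact.mk Nat.prime_three
  haveI := Fintype.ofFinite G
  have hn := nonabelian hG
  have hP : Nat.card (P : Subgroup G) = 9 := by
    simpa using card_sylow_eq (p := 3) 2 880 (by rw [hG]; rfl) (by norm_num) P
  haveI : IsMulCommutative (P : Subgroup G) :=
    IsPGroup.isMulCommutative_of_card_eq_prime_sq (p := 3) (by rw [hP]; norm_num)
  set N := Subgroup.normalizer ((P : Subgroup G) : Set G) with hN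
  have hPN : (P : Subgroup G) ≤ N := Subgroup.le_normalizer
  have hPC : ∀ x ∈ (P : Subgroup G), (P : Subgroup G) ≤ Subgroup.centralizer ({x} : Set G) :=
    fun x hx y hy => Subgroup.mem_centralizer_singleton_iff.2
      ((Subgroup.mem_centralizer_iff.1 (Subgroup.le_centralizer (P : Subgroup G) hy)) x hx).symm
  -- no elements of order five or eleven in `N`
  have hno : ∀ q : ℕ, q = 5 ∨ q = 11 → ¬ q ∣ Nat.card N := by
    intro q hq hdvd
    haveI := Fact.mk (show q.Prime by rcases hq with rfl | rfl <;> norm_num)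
    obtain ⟨⟨g, hgN⟩, hgo⟩ := exists_prime_orderOf_dvd_card' (G := N) q hdvd
    rw [Subgroup.orderOf_mk] at hgo
    have hmem : ∀ (h : Subgroup.zpowers g) (y : (P : Subgroup G)),
        (h : G) * y * (h : G)⁻¹ ∈ (P : Subgroup G) := fun h y =>
      (Subgroup.mem_normalizer_iff.1 ((Subgroup.zpowers_le.2 hgN) h.2) _).1 y.2
    letI : MulAction (Subgroup.zpowers g) (P : Subgroup G) :=
      { smul := fun h y => ⟨(h : G) * y * (h : G)⁻¹, hmem h y⟩
        one_smul := fun y => Subtype.ext (by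
          show ((1 : Subgroup.zpowers g) : G) * y * ((1 : Subgroup.zpowers g) : G)⁻¹ = y
          simp)
        mul_smul := fun a b y => Subtype.ext (by
          show ((a * b : Subgroup.zpowers g) : G) * y * ((a * b : Subgroup.zpowers g) : G)⁻¹ =
            (a : G) * ((b : G) * y * (b : G)⁻¹) * (a : G)⁻¹
          simp [mul_assoc]) }
    have hpg : IsPGroup q (Subgroup.zpowers g) :=
      IsPGroup.of_card (n := 1) (by rw [Nat.card_zpowers, hgo, pow_one])
    have h := hpg.card_modEq_card_fixedPoints (α := (P : Subgroup G))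
    rw [hP, Nat.ModEq] at h
    have h2 : 1 < Nat.card (MulAction.fixedPoints (Subgroup.zpowers g) (P : Subgroup G)) := by
      rcases hq with rfl | rfl <;> omega
    obtain ⟨a, b, hab⟩ := Finite.one_lt_card_iff_nontrivial.1 h2
    obtain ⟨y, hy1, hy⟩ : ∃ y : (P : Subgroup G), y ≠ 1 ∧
        y ∈ MulAction.fixedPoints (Subgroup.zpowers g) (P : Subgroup G) := by
      by_cases ha : (a : (P : Subgroup G)) = 1
      · exact ⟨b, fun hb => hab (Subtype.ext (ha.trans hb.symm)), b.2⟩
      · exact ⟨a, ha, a.2⟩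
    have hcomm : g * (y : G) * g⁻¹ = y :=
      congrArg Subtype.val (hy ⟨g, Subgroup.mem_zpowers g⟩)
    have hyC : (y : G) ∈ Subgroup.centralizer ({g} : Set G) :=
      Subgroup.mem_centralizer_singleton_iff.2 (mul_inv_eq_iff_eq_mul.1 hcomm).symm
    have hdy := Subgroup.orderOf_dvd_natCard _ hyC
    have h9 : orderOf (y : G) ∣ 9 := hP ▸ Subgroup.orderOf_dvd_natCard _ y.2
    rcases hq with rfl | rfl
    · rw [order_five hG hgo] at hdy
      exact hy1 (Subtype.ext (orderOf_eq_one_iff.1
        (Nat.eq_one_of_dvd_coprimes (by norm_num) hdy h9)))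
    · rw [(order_eleven hG hgo).1] at hdy
      exact hy1 (Subtype.ext (orderOf_eq_one_iff.1
        (Nat.eq_one_of_dvd_coprimes (by norm_num) hdy h9)))
  obtain ⟨k, hk⟩ : 9 ∣ Nat.card N := hP ▸ Subgroup.card_dvd_of_le hPN
  have hk880 : k ∣ 880 := by
    have hd := hG ▸ Subgroup.card_subgroup_dvd_card N
    rw [hk] at hd
    exact Nat.dvd_of_mul_dvd_mul_left (by norm_num : 0 < 9) hd
  have hmul := card_normalizer_mul P
  rw [← hN, hk, hG] at hmul
  have hnm : Nat.card (Sylow 3 G) % 3 = 1 := card_sylow_modEq_one 3 G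
  have h3 : k = 1 ∨ k = 4 ∨ k = 16 := by
    have hle := Nat.le_of_dvd (by norm_num) hk880
    refine normalizer_arith k (by omega) hk880
      (fun h => hno 5 (Or.inl rfl) (hk ▸ (Nat.dvd_of_mod_eq_zero h).mul_left 9))
      (fun h => hno 11 (Or.inr rfl) (hk ▸ (Nat.dvd_of_mod_eq_zero h).mul_left 9)) ?_
    have hk0 : 0 < k := Nat.pos_of_ne_zero fun h => by rw [h] at hmul; simp at hmul
    rw [show 880 = k * Nat.card (Sylow 3 G) by
      have : 9 * (k * Nat.card (Sylow 3 G)) = 9 * 880 := by linarith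
      omega, Nat.mul_div_cancel_left _ hk0]
    exact hnm
  rcases h3 with rfl | rfl | rfl
  · exfalso
    refine not_normalizer_le_centralizer hn (by rw [hG]; norm_num) P ?_
    rw [← hN, ← Subgroup.eq_of_le_of_card_ge hPN (by rw [hk, hP])]
    exact Subgroup.le_centralizer _
  swap
  · rw [hk]
  exfalso
  have hN36 : Nat.card N = 36 := hk
  -- every element of `P` has order at most three
  have hexp : ∀ x ∈ (P : Subgroup G), x ≠ 1 → orderOf x = 3 := by
    intro x hx hx1
    have hd : orderOf x ∣ 3 ^ 2 := by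
      norm_num
      exact hP ▸ Subgroup.orderOf_dvd_natCard _ hx
    obtain ⟨i, hi, hi'⟩ := (Nat.dvd_prime_pow Nat.prime_three).1 hd
    interval_cases i
    · exact absurd (orderOf_eq_one_iff.1 (by rw [hi', pow_zero])) hx1
    · rw [hi', pow_one]
    exfalso
    haveI hcyc : IsCyclic (P : Subgroup G) :=
      isCyclic_of_orderOf_eq_card (⟨x, hx⟩ : (P : Subgroup G))
        (by rw [Subgroup.orderOf_mk, hi', hP]; norm_num)
    set C := Subgroup.centralizer ((P : Subgroup G) : Set G) with hC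
    have hCN : C ≤ N := Subgroup.centralizer_le_normalizer _
    have key := Subgroup.card_dvd_of_injective _
      (QuotientGroup.kerLift_injective (P : Subgroup G).normalizerMonoidHom)
    rw [Subgroup.normalizerMonoidHom_ker, ← Subgroup.index, ← Subgroup.relIndex, hcyc.card_mulAut,
      hP, show Nat.totient 9 = 6 by decide] at key
    have hCodd : ¬ 2 ∣ Nat.card C := by
      intro h
      obtain ⟨⟨t, htC⟩, hto⟩ := exists_prime_orderOf_dvd_card' (G := C) 2 h
      rw [Subgroup.orderOf_mk] at hto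
      have hle : (P : Subgroup G) ≤ Subgroup.centralizer ({t} : Set G) := fun y hy =>
        Subgroup.mem_centralizer_singleton_iff.2 (Subgroup.mem_centralizer_iff.1 htC y hy)
      have := Subgroup.card_dvd_of_le hle
      rw [hP, card_centralizer_involution hG hto] at this
      norm_num at this
    have hCd := hN36 ▸ Subgroup.card_dvd_of_le hCN
    have hrel : C.relIndex N * Nat.card C = 36 := by
      rw [← hN36, ← Subgroup.relIndex_bot_left C, mul_comm,
        Subgroup.relIndex_mul_relIndex _ _ _ bot_le hCN, Subgroup.relIndex_bot_left]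
    have hr6 : C.relIndex N ≤ 6 := Nat.le_of_dvd (by norm_num) key
    have hCP : 9 ∣ Nat.card C :=
      hP ▸ Subgroup.card_dvd_of_le (Subgroup.le_centralizer (P : Subgroup G))
    interval_cases hh : C.relIndex N <;> omega
  have hx9 : ∀ x ∈ (P : Subgroup G), x ≠ 1 →
      Nat.card (Subgroup.centralizer ({x} : Set G) ⊓ N : Subgroup G) = 9 ∨
        ∃ t : G, orderOf t = 2 ∧ Commute t x := by
    intro x hx hx1
    set K := Subgroup.centralizer ({x} : Set G) ⊓ N with hK
    have h9 : 9 ∣ Nat.card K := hP ▸ Subgroup.card_dvd_of_le (le_inf (hPC x hx) hPN)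
    have h36 : Nat.card K ∣ 36 := hN36 ▸ Subgroup.card_dvd_of_le inf_le_right
    by_cases h2 : 2 ∣ Nat.card K
    · obtain ⟨⟨t, htK⟩, hto⟩ := exists_prime_orderOf_dvd_card' (G := K) 2 h2
      rw [Subgroup.orderOf_mk] at hto
      exact Or.inr ⟨t, hto, Subgroup.mem_centralizer_singleton_iff.1 htK.1⟩
    · left
      obtain ⟨j, hj⟩ := h9
      rw [hj] at h36 h2 ⊢
      have : j ∣ 4 := Nat.dvd_of_mul_dvd_mul_left (by norm_num : 0 < 9) h36
      have := Nat.le_of_dvd (by norm_num) this
      interval_cases j <;> omega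
  -- `G`-classes of `P`
  set F : Finset G := (Set.toFinite (((P : Subgroup G) : Set G) \ {1})).toFinset with hF
  have hFmem : ∀ y, y ∈ F ↔ y ∈ (P : Subgroup G) ∧ y ≠ 1 := fun y => by
    rw [hF, Set.Finite.mem_toFinset]
    exact Iff.rfl
  have hFcard : F.card = 8 := by
    rw [hF, ← Set.ncard_eq_toFinset_card, Set.ncard_sdiff_singleton_of_mem (Subgroup.one_mem _),
      ← Nat.card_coe_set_eq]
    show Nat.card (P : Subgroup G) - 1 = 8
    rw [hP]
  have hfib : ∀ x ∈ F, (F.filter fun y => IsConj x y).card *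
      Nat.card (Subgroup.centralizer ({x} : Set G) ⊓ N : Subgroup G) = 36 := by
    intro x hx
    rw [hFmem] at hx
    have hset : ((F.filter fun y => IsConj x y : Finset G) : Set G) =
        {y : G | ∃ n ∈ N, n * x * n⁻¹ = y} := by
      ext y
      simp only [Finset.coe_filter, hFmem, Set.mem_setOf_eq]
      constructor
      · rintro ⟨⟨hy, -⟩, hxy⟩
        obtain ⟨g, hg⟩ := isConj_iff.1 hxy
        obtain ⟨n, hn, hne⟩ := P.conj_eq_normalizer_conj_of_mem x g⁻¹ hx.1 (by
          rw [inv_inv, hg]; exact hy)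
        refine ⟨n⁻¹, inv_mem hn, ?_⟩
        rw [inv_inv, ← hne, inv_inv, hg]
      · rintro ⟨n, hn, rfl⟩
        refine ⟨⟨(Subgroup.mem_normalizer_iff.1 hn x).1 hx.1, fun h => hx.2 (conj_eq_one_iff.1 h)⟩,
          isConj_iff.2 ⟨n, rfl⟩⟩
    rw [← Set.ncard_coe_finset, hset, ncard_conj, ← Subgroup.inf_relIndex_right, mul_comm,
      ← Subgroup.relIndex_bot_left (Subgroup.centralizer ({x} : Set G) ⊓ N),
      Subgroup.relIndex_mul_relIndex _ _ _ bot_le inf_le_right, Subgroup.relIndex_bot_left, hN36]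
  -- the other classes
  haveI := Fact.mk (show Nat.Prime 11 by norm_num)
  haveI := Fact.mk (show Nat.Prime 5 by norm_num)
  obtain ⟨t₀, ht₀⟩ := exists_prime_orderOf_dvd_card' (G := G) 2 (by rw [hG]; norm_num)
  obtain ⟨y₅, hy₅⟩ := exists_prime_orderOf_dvd_card' (G := G) 5 (by rw [hG]; norm_num)
  obtain ⟨z, hz⟩ := exists_prime_orderOf_dvd_card' (G := G) 11 (by rw [hG]; norm_num)
  have hidx : ∀ (g : G) (c : ℕ), Nat.card (Subgroup.centralizer ({g} : Set G)) = c →
      c * (Subgroup.centralizer ({g} : Set G)).index = 7920 := fun g c h => by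
    rw [← h, Subgroup.card_mul_index, hG]
  have i1 : (Subgroup.centralizer ({1} : Set G)).index = 1 := by
    rw [Subgroup.index_eq_one, eq_top_iff]
    exact fun y _ => Subgroup.mem_centralizer_singleton_iff.2 (by simp)
  have i2 := hidx t₀ 48 (card_centralizer_involution hG ht₀)
  have i5 := hidx y₅ 5 (order_five hG hy₅)
  have i11 := hidx z 11 (order_eleven hG hz).1
  have i11' := hidx z⁻¹ 11 (order_eleven hG (by rw [orderOf_inv, hz])).1
  have ho : ∀ a b : G, IsConj a b → orderOf a = orderOf b := fun a b h => by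
    obtain ⟨g, rfl⟩ := isConj_iff.1 h
    exact orderOf_injective (MulAut.conj g).toMonoidHom (MulAut.conj g).injective a |>.symm
  have hsix : ∀ t x : G, orderOf t = 2 → orderOf x = 3 → Commute t x → orderOf (t * x) = 6 := by
    intro t x ht hx hc
    rw [hc.orderOf_mul_eq_mul_orderOf_of_coprime (by rw [ht, hx]; norm_num), ht, hx]
  have hfour : ∀ t x : G, orderOf t = 2 → orderOf x = 3 → Commute t x → (t * x) ^ 4 = x := by
    intro t x ht hx hc
    have ht4 : t ^ 4 = 1 := by
      rw [show 4 = orderOf t * 2 by rw [ht], pow_mul, pow_orderOf_eq_one, one_pow]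
    have hx4 : x ^ 4 = x := by
      rw [show 4 = orderOf x + 1 by rw [hx], pow_succ, pow_orderOf_eq_one, one_mul]
    rw [hc.mul_pow, ht4, hx4, one_mul]
  have hsixne : ∀ t x t' x' : G, orderOf t = 2 → orderOf x = 3 → Commute t x → orderOf t' = 2 →
      orderOf x' = 3 → Commute t' x' → IsConj (t * x) (t' * x') → IsConj x x' := by
    intro t x t' x' h1 h2 h3 h4 h5 h6 h
    obtain ⟨g, hg⟩ := isConj_iff.1 h
    exact isConj_iff.2 ⟨g, by rw [← hfour t x h1 h2 h3, ← conj_pow, hg, hfour t' x' h4 h5 h6]⟩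
  have hsix_le : ∀ t x : G, orderOf t = 2 → orderOf x = 3 → Commute t x →
      6 * (Subgroup.centralizer ({t * x} : Set G)).index ≤ 7920 := by
    intro t x ht hx hc
    refine index_le hG (by norm_num) (Nat.le_of_dvd Nat.card_pos ?_)
    rw [← hsix t x ht hx hc]
    exact Subgroup.orderOf_dvd_natCard _ (Subgroup.mem_centralizer_singleton_iff.2 rfl)
  have hpair : ∀ a b, IsConj a b → (orderOf a ≠ orderOf b → False) := fun a b h hne => hne (ho a b h)
  -- the ten classes
  have hten : ∀ x₁ x₂ t₁ t₂ w : G, x₁ ∈ F → x₂ ∈ F → ¬ IsConj x₁ x₂ → orderOf t₁ = 2 →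
      orderOf t₂ = 2 → Commute t₁ x₁ → Commute t₂ x₂ →
      (∀ i, ¬ IsConj (![1, t₀, y₅, z, z⁻¹, x₁, x₂, t₁ * x₁, t₂ * x₂] i) w) →
      7920 = 1 + (Subgroup.centralizer ({t₀} : Set G)).index +
        (Subgroup.centralizer ({y₅} : Set G)).index + (Subgroup.centralizer ({z} : Set G)).index +
        (Subgroup.centralizer ({z⁻¹} : Set G)).index +
        (Subgroup.centralizer ({x₁} : Set G)).index + (Subgroup.centralizer ({x₂} : Set G)).index +
        (Subgroup.centralizer ({t₁ * x₁} : Set G)).index +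
        (Subgroup.centralizer ({t₂ * x₂} : Set G)).index +
        (Subgroup.centralizer ({w} : Set G)).index := by
    intro x₁ x₂ t₁ t₂ w hx₁ hx₂ hne ht₁ ht₂ hc₁ hc₂ hw
    rw [hFmem] at hx₁ hx₂
    have o1 := hexp x₁ hx₁.1 hx₁.2
    have o2 := hexp x₂ hx₂.1 hx₂.2
    have o7 := hsix t₁ x₁ ht₁ o1 hc₁
    have o8 := hsix t₂ x₂ ht₂ o2 hc₂
    let v : Fin 10 → G := ![1, t₀, y₅, z, z⁻¹, x₁, x₂, t₁ * x₁, t₂ * x₂, w]
    have hnine : ∀ i k : Fin 9, IsConj (![1, t₀, y₅, z, z⁻¹, x₁, x₂, t₁ * x₁, t₂ * x₂] i)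
        (![1, t₀, y₅, z, z⁻¹, x₁, x₂, t₁ * x₁, t₂ * x₂] k) → i = k := by
      intro i k h
      have hord := ho _ _ h
      fin_cases i <;> fin_cases k <;>
        simp [ht₀, hy₅, hz, o1, o2, o7, o8] at hord ⊢
      all_goals first
        | exact hne h
        | exact hne h.symm
        | exact not_isConj_inv hG hz h
        | exact not_isConj_inv hG hz h.symm
        | exact hne (hsixne _ _ _ _ ht₁ o1 hc₁ ht₂ o2 hc₂ h)
        | exact hne (hsixne _ _ _ _ ht₂ o2 hc₂ ht₁ o1 hc₁ h).symm
    have hv : ∀ i k, IsConj (v i) (v k) → i = k := by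
      have hlast : v (Fin.last 9) = w := rfl
      have hcast : ∀ i : Fin 9, v i.castSucc =
          ![1, t₀, y₅, z, z⁻¹, x₁, x₂, t₁ * x₁, t₂ * x₂] i := by
        intro i; fin_cases i <;> rfl
      intro i k h
      induction i using Fin.lastCases with
      | last =>
        induction k using Fin.lastCases with
        | last => rfl
        | cast k => rw [hlast, hcast] at h; exact absurd h.symm (hw k)
      | cast i =>
        induction k using Fin.lastCases with
        | last => rw [hlast, hcast] at h; exact absurd h (hw i)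
        | cast k => rw [hcast, hcast] at h; rw [hnine i k h]
    have h := classes_sum hG hv
    simp only [Fin.sum_univ_succ, Fin.sum_univ_zero, v, Matrix.cons_val_zero,
      Matrix.cons_val_succ] at h
    rw [i1] at h
    omega
  by_cases hA : ∀ x ∈ F, Nat.card (Subgroup.centralizer ({x} : Set G) ⊓ N : Subgroup G) = 9
  · -- all stabilizers trivial
    obtain ⟨⟨w, hwN⟩, hwo⟩ := exists_prime_orderOf_dvd_card' (G := N) 2 (by rw [hN36]; norm_num)
    rw [Subgroup.orderOf_mk] at hwo
    have hww : w * w = 1 := by rw [← sq, ← hwo, pow_orderOf_eq_one]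
    have hwinv : ∀ x ∈ F, w * x * w⁻¹ = x⁻¹ := by
      intro x hx
      rw [hFmem] at hx
      have hy : w * x * w⁻¹ ∈ (P : Subgroup G) :=
        (Subgroup.mem_normalizer_iff.1 hwN x).1 hx.1
      set y := w * x * w⁻¹ with hydef
      have hxy : x * y = y * x :=
        (Subgroup.mem_centralizer_iff.1 (Subgroup.le_centralizer (P : Subgroup G) hy)) x hx.1
      have hwy : w * y * w⁻¹ = x := by
        rw [hydef, show w * (w * x * w⁻¹) * w⁻¹ = (w * w) * x * (w * w)⁻¹ by group, hww]
        group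
      by_contra hne
      have hne1 : x * y ≠ 1 := fun h => hne (eq_inv_of_mul_eq_one_right h)
      have hfix : w * (x * y) * w⁻¹ = x * y := by
        rw [show w * (x * y) * w⁻¹ = (w * x * w⁻¹) * (w * y * w⁻¹) by group, hwy, hxy]
      have hmemF : x * y ∈ F := (hFmem _).2 ⟨mul_mem hx.1 hy, hne1⟩
      have hwK : w ∈ Subgroup.centralizer ({x * y} : Set G) ⊓ N :=
        ⟨Subgroup.mem_centralizer_singleton_iff.2 (mul_inv_eq_iff_eq_mul.1 hfix), hwN⟩
      have h := Subgroup.orderOf_dvd_natCard _ hwK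
      rw [hwo, hA _ hmemF] at h
      norm_num at h
    have hC36 : ∀ x ∈ F, 36 ∣ Nat.card (Subgroup.centralizer ({x} : Set G)) := by
      intro x hx
      obtain ⟨hxP, hx1⟩ := (hFmem x).1 hx
      rcases three_centralizer hG (hexp x hxP hx1)
        (hP ▸ Subgroup.card_dvd_of_le (hPC x hxP)) with h | h | h
      · exact absurd (isConj_iff.2 ⟨w, hwinv x hx⟩) (false_of_real_three hG (hexp x hxP hx1) h)
      · exfalso
        have hidx2 : ((P : Subgroup G).subgroupOf (Subgroup.centralizer ({x} : Set G))).index = 2 := by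
          have h2 := Subgroup.relIndex_mul_relIndex _ _ _ bot_le (hPC x hxP)
          rw [Subgroup.relIndex_bot_left, Subgroup.relIndex_bot_left, hP, h] at h2
          show (P : Subgroup G).relIndex _ = 2
          omega
        haveI := Subgroup.normal_of_index_eq_two hidx2
        have hle := (Subgroup.normal_subgroupOf_iff_le_normalizer (hPC x hxP)).1 this
        have h9 := hA x hx
        rw [inf_eq_left.2 (hN ▸ hle)] at h9
        omega
      · exact h
    obtain ⟨x₁, hx₁⟩ : F.Nonempty := Finset.card_pos.1 (by omega)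
    obtain ⟨x₂, hx₂, hne⟩ : ∃ x₂ ∈ F, ¬ IsConj x₁ x₂ := by
      by_contra h
      push Not at h
      have h2 := hfib x₁ hx₁
      rw [Finset.filter_true_of_mem h, hFcard, hA x₁ hx₁] at h2
      omega
    have hbig : ∀ x ∈ F, ∃ t, orderOf t = 2 ∧ Commute t x ∧
        12 ∣ Nat.card (Subgroup.centralizer ({t * x} : Set G)) := by
      intro x hx
      obtain ⟨hxP, hx1⟩ := (hFmem x).1 hx
      haveI := Fact.mk Nat.prime_two
      obtain ⟨K, hK⟩ := Sylow.exists_subgroup_card_pow_prime (G := Subgroup.centralizer ({x} : Set G))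
        2 (n := 2) ((show (2 : ℕ) ^ 2 ∣ 36 by norm_num).trans (hC36 x hx))
      haveI : IsMulCommutative K :=
        IsPGroup.isMulCommutative_of_card_eq_prime_sq (p := 2) hK
      obtain ⟨⟨⟨t, htC⟩, htK⟩, hto⟩ :=
        exists_prime_orderOf_dvd_card' (G := K) 2 (by rw [hK]; norm_num)
      rw [Subgroup.orderOf_mk, Subgroup.orderOf_mk] at hto
      have hc : Commute t x := Subgroup.mem_centralizer_singleton_iff.1 htC
      refine ⟨t, hto, hc, ?_⟩
      have h4 : 4 ∣ Nat.card (Subgroup.centralizer ({t * x} : Set G)) := by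
        rw [show 4 = Nat.card (K.map (Subgroup.subtype _)) by
          rw [Subgroup.card_map_of_injective (Subgroup.subtype_injective _), hK]; norm_num]
        refine Subgroup.card_dvd_of_le ?_
        rintro _ ⟨⟨k, hkC⟩, hkK, rfl⟩
        have hkt : k * t = t * k := congrArg (fun a : K => ((a : Subgroup.centralizer ({x} : Set G)) : G))
          (mul_comm' (⟨⟨k, hkC⟩, hkK⟩ : K) ⟨⟨t, htC⟩, htK⟩)
        have hkx : Commute k x := Subgroup.mem_centralizer_singleton_iff.1 hkC
        exact Subgroup.mem_centralizer_singleton_iff.2 ((show Commute k t from hkt).mul_right hkx)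
      have h6 : 3 ∣ Nat.card (Subgroup.centralizer ({t * x} : Set G)) := by
        rw [← hexp x hxP hx1]
        exact Subgroup.orderOf_dvd_natCard _ (Subgroup.mem_centralizer_singleton_iff.2
          ((hc.symm).mul_right (Commute.refl x)))
      exact Nat.Coprime.mul_dvd_of_dvd_of_dvd (by norm_num : Nat.Coprime 3 4) h6 h4
    obtain ⟨t₁, ht₁, hc₁, hd₁⟩ := hbig x₁ hx₁
    obtain ⟨t₂, ht₂, hc₂, hd₂⟩ := hbig x₂ hx₂
    obtain ⟨u, hu⟩ := exists_tenth hG (f := ![1, t₀, y₅, z, z⁻¹, x₁, x₂, t₁ * x₁, t₂ * x₂])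
    have h := hten x₁ x₂ t₁ t₂ u hx₁ hx₂ hne ht₁ ht₂ hc₁ hc₂ hu
    have hu1 : u ≠ 1 := fun h => hu 0 (by rw [h]; exact IsConj.refl 1)
    have b1 := index_le hG (by norm_num) (Nat.le_of_dvd Nat.card_pos (hC36 x₁ hx₁))
    have b2 := index_le hG (by norm_num) (Nat.le_of_dvd Nat.card_pos (hC36 x₂ hx₂))
    have b3 := index_le hG (by norm_num) (Nat.le_of_dvd Nat.card_pos hd₁)
    have b4 := index_le hG (by norm_num) (Nat.le_of_dvd Nat.card_pos hd₂)
    have b5 := index_le hG (by norm_num) (four_le_centralizer hG hu1)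
    omega
  · -- two classes with nontrivial stabilizers
    push Not at hA
    obtain ⟨x₁, hx₁, hne9⟩ := hA
    obtain ⟨hx₁P, hx₁1⟩ := (hFmem x₁).1 hx₁
    obtain ⟨t₁, ht₁, hc₁⟩ := (hx9 x₁ hx₁P hx₁1).resolve_left hne9
    have hsmall : ∀ x ∈ F, Nat.card (Subgroup.centralizer ({x} : Set G) ⊓ N : Subgroup G) ≠ 9 →
        (F.filter fun y => IsConj x y).card ≤ 2 := by
      intro x hx hne
      have h := hfib x hx
      obtain ⟨hxP, -⟩ := (hFmem x).1 hx
      obtain ⟨j, hj⟩ : 9 ∣ Nat.card (Subgroup.centralizer ({x} : Set G) ⊓ N : Subgroup G) :=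
        hP ▸ Subgroup.card_dvd_of_le (le_inf (hPC x hxP) hPN)
      rw [hj] at h hne
      have hj2 : 2 ≤ j := by
        rcases Nat.lt_or_ge j 2 with hlt | hge
        · interval_cases j <;> omega
        · exact hge
      have := Nat.mul_le_mul_left ((F.filter fun y => IsConj x y).card) (Nat.mul_le_mul_left 9 hj2)
      omega
    have hf₁ := hsmall x₁ hx₁ hne9
    obtain ⟨x₂, hx₂, hne, hne9'⟩ : ∃ x₂ ∈ F, ¬ IsConj x₁ x₂ ∧
        Nat.card (Subgroup.centralizer ({x₂} : Set G) ⊓ N : Subgroup G) ≠ 9 := by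
      by_contra h
      push Not at h
      set R := F.filter (fun y => ¬ IsConj x₁ y) with hR
      have h4 : 4 ∣ R.card := by
        rw [Finset.card_eq_sum_card_image ConjClasses.mk R]
        refine Finset.dvd_sum fun C hC => ?_
        obtain ⟨x, hxR, rfl⟩ := Finset.mem_image.1 hC
        rw [hR, Finset.mem_filter] at hxR
        have hcongr : R.filter (fun y => ConjClasses.mk y = ConjClasses.mk x) =
            F.filter (fun y => IsConj x y) := by
          ext y
          simp only [hR, Finset.mem_filter, ConjClasses.mk_eq_mk_iff_isConj]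
          exact ⟨fun h => ⟨h.1.1, h.2.symm⟩,
            fun h => ⟨⟨h.1, fun h' => hxR.2 (h'.trans h.2.symm)⟩, h.2.symm⟩⟩
        have h2 := hfib x hxR.1
        rw [h x hxR.1 hxR.2] at h2
        rw [hcongr]
        omega
      have h8 := Finset.card_filter_add_card_filter_not (s := F) (fun y => IsConj x₁ y)
      rw [← hR, hFcard] at h8
      have h0 : 0 < (F.filter fun y => IsConj x₁ y).card :=
        Finset.card_pos.2 ⟨x₁, Finset.mem_filter.2 ⟨hx₁, IsConj.refl x₁⟩⟩
      omega
    obtain ⟨hx₂P, hx₂1⟩ := (hFmem x₂).1 hx₂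
    obtain ⟨t₂, ht₂, hc₂⟩ := (hx9 x₂ hx₂P hx₂1).resolve_left hne9'
    have hf₂ := hsmall x₂ hx₂ hne9'
    obtain ⟨x₃, hx₃, h31, h32⟩ : ∃ x₃ ∈ F, ¬ IsConj x₁ x₃ ∧ ¬ IsConj x₂ x₃ := by
      by_contra h
      push Not at h
      have hsub : F ⊆ (F.filter fun y => IsConj x₁ y) ∪ (F.filter fun y => IsConj x₂ y) := by
        intro y hy
        simp only [Finset.mem_union, Finset.mem_filter]
        by_cases h1 : IsConj x₁ y
        · exact Or.inl ⟨hy, h1⟩
        · exact Or.inr ⟨hy, h y hy h1⟩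
      have := (Finset.card_le_card hsub).trans (Finset.card_union_le _ _)
      omega
    obtain ⟨hx₃P, hx₃1⟩ := (hFmem x₃).1 hx₃
    have o3 := hexp x₃ hx₃P hx₃1
    have o1 := hexp x₁ hx₁P hx₁1
    have o2 := hexp x₂ hx₂P hx₂1
    have hw : ∀ i, ¬ IsConj (![1, t₀, y₅, z, z⁻¹, x₁, x₂, t₁ * x₁, t₂ * x₂] i) x₃ := by
      intro i h
      have hord := ho _ _ h
      fin_cases i <;> simp [ht₀, hy₅, hz, o1, o2, o3, hsix t₁ x₁ ht₁ o1 hc₁,
        hsix t₂ x₂ ht₂ o2 hc₂] at hord
      all_goals first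
        | exact h31 h
        | exact h32 h
        | exact hx₃1 h
    have h := hten x₁ x₂ t₁ t₂ x₃ hx₁ hx₂ hne ht₁ ht₂ hc₁ hc₂ hw
    have hC18 : ∀ (t x : G), x ∈ (P : Subgroup G) → orderOf t = 2 → Commute t x →
        18 ≤ Nat.card (Subgroup.centralizer ({x} : Set G)) := by
      intro t x hx ht hc
      refine Nat.le_of_dvd Nat.card_pos (Nat.Coprime.mul_dvd_of_dvd_of_dvd
        (by norm_num : Nat.Coprime 2 9) ?_ (hP ▸ Subgroup.card_dvd_of_le (hPC x hx)))
      rw [← ht]
      exact Subgroup.orderOf_dvd_natCard _ (Subgroup.mem_centralizer_singleton_iff.2 hc.eq)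
    have b1 := index_le hG (by norm_num) (hC18 t₁ x₁ hx₁P ht₁ hc₁)
    have b2 := index_le hG (by norm_num) (hC18 t₂ x₂ hx₂P ht₂ hc₂)
    have b3 := hsix_le t₁ x₁ ht₁ o1 hc₁
    have b4 := hsix_le t₂ x₂ ht₂ o2 hc₂
    have b5 := index_le hG (by norm_num) (Nat.le_of_dvd Nat.card_pos
      (hP ▸ Subgroup.card_dvd_of_le (hPC x₃ hx₃P)))
    omega

end CfsgLib.Small.O7920
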