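import Cfsg.Agent.Lib.Small.Basic
import Cfsg.Agent.Lib.Transfer.AbelianSylow
import Cfsg.Agent.Lib.Transfer.Alperin

/-!
# Frobenius' criterion for simple groups
-/

set_option autoImplicit false

open Subgroup

namespace CfsgLib.Small

/-- If `p ^ a` exactly divides the order of a non-abelian simple group, then some other prime
divisor of the order divides some `p ^ j - 1` with `1 ≤ j ≤ a`. -/
theorem exists_prime_dvd_pow_sub_one {G : Type*} [Group G] [Finite G] [IsSimpleGroup G]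
    (hG : ¬ IsMulCommutative G) {p : ℕ} [hp : Fact p.Prime] (hdvd : p ∣ Nat.card G)
    (P : Sylow p G) {a : ℕ} (ha : Nat.card (P : Subgroup G) = p ^ a) :
    ∃ q, q.Prime ∧ q ≠ p ∧ q ∣ Nat.card G ∧ ∃ j, 1 ≤ j ∧ j ≤ a ∧ q ∣ p ^ j - 1 := by
  have hcomm : ∃ x y : G, x * y ≠ y * x := by
    by_contra hno
    push Not at hno
    exact hG ⟨⟨hno⟩⟩
  have hnot := Transfer.not_hasNormalPComplement_of_isSimpleGroup (p := p) hcomm hdvd
  rw [Transfer.hasNormalPComplement_iff_forall_centralizing P] at hnot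
  push Not at hnot
  obtain ⟨Q, hQ, g, hg, hcop, hgC⟩ := hnot
  obtain ⟨b, hb⟩ := (IsPGroup.to_le P.isPGroup' hQ).exists_card_eq
  have hba : b ≤ a := by
    have := card_dvd_of_le hQ
    rw [hb, ha] at this
    exact (Nat.pow_dvd_pow_iff_le_right hp.out.one_lt).mp this
  set φ := Q.normalizerMonoidHom ⟨g, hg⟩ with hφ
  have hne : φ ≠ 1 := by
    intro h
    have hmem : (⟨g, hg⟩ : normalizer (Q : Set G)) ∈ Q.normalizerMonoidHom.ker := h
    rw [normalizerMonoidHom_ker, mem_subgroupOf] at hmem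
    exact hgC hmem
  obtain ⟨q, hq, hqd⟩ := Nat.exists_prime_and_dvd (n := orderOf φ)
    (fun h => hne (orderOf_eq_one_iff.mp h))
  have hqg : q ∣ orderOf g := by
    have h1 := hqd.trans (orderOf_map_dvd Q.normalizerMonoidHom ⟨g, hg⟩)
    rwa [← Subgroup.orderOf_coe] at h1
  have hqp : q ≠ p := fun h => by
    have := Nat.dvd_gcd hqg (h.dvd : q ∣ p)
    rw [hcop.gcd_eq_one] at this
    exact hq.ne_one (Nat.eq_one_of_dvd_one this)
  have := Fact.mk hq
  have hpos : orderOf φ ≠ 0 := (orderOf_pos φ).ne'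
  obtain ⟨j, h1, h2, h3⟩ := Transfer.exists_dvd_pow_sub_one_of_mulAut hb hqp
    (orderOf_pow_orderOf_div hpos hqd)
  exact ⟨q, hq, hqp, hqg.trans (orderOf_dvd_natCard g), j, h1, h2.trans hba, h3⟩

end CfsgLib.Small
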