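import Cfsg.Agent.Lib.Small.Count

/-!
# Simple groups of order `p (p² - 1) / 2` for small primes `p`

Such a group acts on its `p + 1` Sylow `p`-subgroups, and for the primes treated here the image is
one fixed permutation group `lineGroup p s` of the projective line, so the group is unique.
-/

set_option autoImplicit false

open Subgroup Equiv

namespace CfsgLib.Small

variable (p : ℕ)

/-- The translation `x ↦ x + 1` of the projective line. -/
def lineTransl : Perm (Option (ZMod p)) := Equiv.optionCongr (Equiv.addRight 1)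

/-- The map `x ↦ a * x` of the projective line. -/
def lineMult [Fact p.Prime] (a : (ZMod p)ˣ) : Perm (Option (ZMod p)) :=
  Equiv.optionCongr a.mulLeft

/-- The map `x ↦ -1/x` of the projective line. -/
def lineInv [Fact p.Prime] : Perm (Option (ZMod p)) :=
  Function.Involutive.toPerm
    (fun z => match z with
      | none => some 0
      | some x => if x = 0 then none else some (-x⁻¹))
    (fun z => by
      rcases z with _ | x
      · simp
      · by_cases hx : x = 0
        · simp [hx]
        · simp [hx, inv_neg])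

/-- The group generated by the three maps. -/
def lineGroup [Fact p.Prime] (s : (ZMod p)ˣ) : Subgroup (Perm (Option (ZMod p))) :=
  Subgroup.closure {lineTransl p, lineMult p s, lineInv p}

/-- `σ` fixes infinity and acts as `x ↦ a * x + b` on the finite points. -/
def IsAff (σ : Perm (Option (ZMod p))) (a : (ZMod p)ˣ) (b : ZMod p) : Prop :=
  σ none = none ∧ ∀ x : ZMod p, σ (some x) = some (a * x + b)

variable {p}

theorem lineInv_none [Fact p.Prime] : lineInv p none = some 0 := rfl

theorem lineInv_some [Fact p.Prime] (x : ZMod p) :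
    lineInv p (some x) = if x = 0 then none else some (-x⁻¹) := rfl

theorem lineTransl_some (x : ZMod p) : lineTransl p (some x) = some (x + 1) := rfl

theorem lineTransl_none : lineTransl p none = none := rfl

theorem lineTransl_pow (n : ℕ) (x : ZMod p) :
    (lineTransl p ^ n) (some x) = some (x + n) := by
  induction n with
  | zero => simp
  | succ n ih =>
    rw [pow_succ', Perm.mul_apply, ih, lineTransl_some]
    push_cast
    rw [add_assoc]

theorem lineTransl_pow_none (n : ℕ) : (lineTransl p ^ n) none = none := by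
  induction n with
  | zero => rfl
  | succ n ih => rw [pow_succ', Perm.mul_apply, ih]; rfl

theorem isAff_transl_pow (n : ℕ) : IsAff p (lineTransl p ^ n) 1 n :=
  ⟨lineTransl_pow_none n, fun x => by rw [lineTransl_pow]; simp⟩

theorem isAff_mult [Fact p.Prime] (a : (ZMod p)ˣ) : IsAff p (lineMult p a) a 0 :=
  ⟨rfl, fun x => by rw [add_zero]; rfl⟩

theorem IsAff.ext {σ τ : Perm (Option (ZMod p))} {a : (ZMod p)ˣ} {b : ZMod p}
    (hσ : IsAff p σ a b) (hτ : IsAff p τ a b) : σ = τ := by
  apply Equiv.ext
  intro z
  rcases z with _ | x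
  · rw [hσ.1, hτ.1]
  · rw [hσ.2, hτ.2]

theorem IsAff.mul {σ τ : Perm (Option (ZMod p))} {a a' : (ZMod p)ˣ} {b b' : ZMod p}
    (hσ : IsAff p σ a b) (hτ : IsAff p τ a' b') : IsAff p (σ * τ) (a * a') (a * b' + b) := by
  refine ⟨by rw [Perm.mul_apply, hτ.1, hσ.1], fun x => ?_⟩
  rw [Perm.mul_apply, hτ.2, hσ.2, Units.val_mul, mul_add, mul_assoc, add_assoc]

theorem IsAff.mem_lineGroup [Fact p.Prime] {σ : Perm (Option (ZMod p))} {a s : (ZMod p)ˣ}
    {b : ZMod p} (hσ : IsAff p σ a b) {i : ℕ} (ha : s ^ i = a) : σ ∈ lineGroup p s := by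
  have hm : ∀ j : ℕ, IsAff p (lineMult p s ^ j) (s ^ j) 0 := by
    intro j
    induction j with
    | zero => exact ⟨rfl, fun x => by simp⟩
    | succ j ih =>
      rw [pow_succ, pow_succ]
      simpa using ih.mul (isAff_mult s)
  have hb : (b.val : ZMod p) = b := by rw [ZMod.natCast_val, ZMod.cast_id]
  have h := (isAff_transl_pow (p := p) b.val).mul (hm i)
  rw [one_mul, hb, mul_zero, zero_add, ha] at h
  rw [hσ.ext h]
  exact mul_mem (pow_mem (subset_closure (by simp)) _) (pow_mem (subset_closure (by simp)) _)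

variable {G : Type*} [Group G] [Finite G]

/-- Sylow numbers in a simple group of order `p (p² - 1) / 2`. -/
theorem pslTwo_sylow [IsSimpleGroup G] [hp : Fact p.Prime] (hp5 : 5 ≤ p)
    (hG : 2 * Nat.card G = p * (p ^ 2 - 1)) :
    ¬ IsMulCommutative G ∧ Nat.card (Sylow p G) = p + 1 ∧
      ∀ P : Sylow p G, Nat.card (P : Subgroup G) = p ∧
        Nat.card (normalizer ((P : Subgroup G) : Set G)) = p * ((p - 1) / 2) := by
  obtain ⟨h, hph⟩ : ∃ h, p = 2 * h + 1 := by
    rcases hp.out.eq_two_or_odd' with h2 | h2
    · omega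
    · exact h2
  have hh : 2 ≤ h := by omega
  have hsq : p ^ 2 - 1 = 4 * (h * (h + 1)) := by
    have : p ^ 2 = 4 * (h * (h + 1)) + 1 := by rw [hph]; ring
    omega
  have hm : Nat.card G = p ^ 1 * (2 * (h * (h + 1))) := by
    rw [hsq] at hG
    rw [pow_one]
    have : 2 * Nat.card G = 2 * (p * (2 * (h * (h + 1)))) := by rw [hG]; ring
    omega
  have hpm : ¬ p ∣ 2 * (h * (h + 1)) := by
    intro hd
    rcases hp.out.dvd_mul.mp hd with h1 | h1
    · have := Nat.le_of_dvd two_pos h1
      omega
    · rcases hp.out.dvd_mul.mp h1 with h1 | h1 <;>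
        · have := Nat.le_of_dvd (by omega) h1
          omega
  have hGc : ¬ IsMulCommutative G := not_isMulCommutative_of_card (by
    rw [hm, pow_one]
    exact Nat.not_prime_mul (by omega) (by nlinarith))
  have hpG : p ∣ Nat.card G := ⟨_, by rw [hm, pow_one]⟩
  obtain ⟨e, he⟩ := card_sylow_dvd (p := p) 1 _ hm hpm
  have h1 := one_lt_card_sylow hGc (p := p) hpG
  have hmod : Nat.card (Sylow p G) % p = 1 := by
    rw [card_sylow_modEq_one p G, Nat.mod_eq_of_lt hp.out.one_lt]
  set d := Nat.card (Sylow p G) with hd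
  obtain ⟨j, hj⟩ : ∃ j, d = j * p + 1 := ⟨d / p, by rw [← hmod]; exact (Nat.div_add_mod' d p).symm⟩
  have hj1 : 1 ≤ j := by
    rcases Nat.eq_zero_or_pos j with h0 | h0
    · simp [h0] at hj; omega
    · exact h0
  have hdp : p + 1 ≤ d := by rw [hj]; nlinarith
  have heh : e ≤ h := by
    by_contra hlt
    push Not at hlt
    have : (p + 1) * (h + 1) ≤ d * e := Nat.mul_le_mul hdp hlt
    nlinarith
  have hdvd : p ∣ 2 * e + 1 := by
    have h2 : (2 * e + 1) + 2 * j * p * e = p ^ 2 := by
      have : p ^ 2 = 4 * (h * (h + 1)) + 1 := by rw [hph]; ring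
      rw [hj] at he
      nlinarith
    exact (Nat.dvd_add_left ⟨2 * j * e, by ring⟩).mp (h2 ▸ dvd_pow_self p two_ne_zero)
  have hee : e = h := by
    have := Nat.le_of_dvd (by omega) hdvd
    omega
  have hdeq : d = p + 1 := by
    rw [hee] at he
    have : d * h = (p + 1) * h := by rw [← he, hph]; ring
    exact Nat.eq_of_mul_eq_mul_right (by omega) this
  refine ⟨hGc, hdeq, fun P => ⟨by simpa using card_sylow_eq 1 _ hm hpm P, ?_⟩⟩
  have hN := card_normalizer_mul P
  rw [← hd, hdeq, hm] at hN
  rw [show (p - 1) / 2 = h by omega]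
  apply Nat.eq_of_mul_eq_mul_right (show 0 < p + 1 by omega)
  rw [hN, hph]
  ring

section numeric

/-- Encoded point: `none ↦ p`. -/
def encPt (z : Option (ZMod p)) : ℕ := z.elim p ZMod.val

/-- Candidate involution, on encoded points; `L` is a table of logarithms and `E` of powers
to a primitive base. -/
def candFun (p : ℕ) (L E : List ℕ) (k c d x : ℕ) : ℕ :=
  if x = p then 0
  else if x = 0 then p
  else if L.getD x 0 % 2 = 0 then E.getD ((2 * k * (L.getD x 0 / 2)) % (p - 1)) 0 * c % p
  else E.getD ((2 * k * (L.getD x 0 / 2)) % (p - 1)) 0 * d % p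

/-- Translation by `a` on encoded points. -/
def shiftFun (p a x : ℕ) : ℕ := if x = p then p else (x + a) % p

/-- Number of fixed points of a map on encoded points. -/
def fixCount (p : ℕ) (w : ℕ → ℕ) : ℕ := ((List.range (p + 1)).filter fun x => w x == x).length

/-- If `w T^a w` can be translated to fix infinity, it must be affine with square multiplier. -/
def affTest (p : ℕ) (w : ℕ → ℕ) (a : ℕ) : Bool :=
  let u := w a
  u == p ||
    let g := fun x => w (shiftFun p (p - u) (w (shiftFun p a (w x))))
    let m := (g 1 + p - g 0) % p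
    m ^ ((p - 1) / 2) % p == 1 && (List.range p).all fun x => g x == (m * x + g 0) % p

/-- The conclusion wanted of a candidate. -/
def goodTest (p : ℕ) (w : ℕ → ℕ) (c : ℕ) : Bool :=
  (p - c) ^ ((p - 1) / 2) % p == 1 && (List.range p).all fun x => x == 0 || w x * x % p == c

/-- All candidates are either ruled out or good. -/
def lineCheck (p g : ℕ) (L E : List ℕ) : Bool :=
  (List.range p).all (fun x => x == 0 || (g ^ (L.getD x 0) % p == x && L.getD x 0 < p - 1)) &&
  (List.range (p - 1)).all (fun i => E.getD i 0 == g ^ i % p) &&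
  (List.range ((p - 1) / 2)).all fun k => (k == 1 && p == 7) ||
    (k * k % ((p - 1) / 2) != 1) ||
    (List.range p).all fun c => c == 0 || (List.range p).all fun d => d == 0 ||
      let w := candFun p L E k c d
      !((List.range (p + 1)).all fun x => w (w x) == x) ||
        (p + 1 - fixCount p w) % 4 != 0 ||
        !((List.range p).all (affTest p w)) ||
        goodTest p w c

end numeric

theorem encPt_injective [NeZero p] : Function.Injective (encPt (p := p)) := by
  intro a b hab
  rcases a with _ | x <;> rcases b with _ | y <;> simp only [encPt, Option.elim] at hab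
  · rfl
  · exact absurd hab (ZMod.val_lt y).ne'
  · exact absurd hab (ZMod.val_lt x).ne
  · exact congrArg some (ZMod.val_injective p hab)

theorem encPt_surjective [NeZero p] {n : ℕ} (hn : n ≤ p) : ∃ z : Option (ZMod p), encPt z = n := by
  rcases hn.lt_or_eq with h | h
  · exact ⟨some (n : ZMod p), by simp [encPt, ZMod.val_natCast_of_lt h]⟩
  · exact ⟨none, h.symm⟩

/-- A simple group of order `p (p² - 1) / 2` has a faithful action on the projective line with
image `lineGroup p s`, provided the numerical check succeeds. -/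
theorem exists_embedding_line [IsSimpleGroup G] [hp : Fact p.Prime] (hp5 : 5 ≤ p)
    (hG : 2 * Nat.card G = p * (p ^ 2 - 1)) (u : (ZMod p)ˣ) (hu : orderOf u = p - 1)
    (L E : List ℕ) (hcheck : lineCheck p (u : ZMod p).val L E = true) :
    ∃ f : G →* Perm (Option (ZMod p)), Function.Injective f ∧ f.range = lineGroup p (u ^ 2) := by
  classical
  obtain ⟨hGc, hn, hN⟩ := pslTwo_sylow hp5 hG
  have hp0 : p ≠ 0 := hp.out.ne_zero
  have hpdvd : p ∣ Nat.card G := by
    obtain ⟨P⟩ := (inferInstance : Nonempty (Sylow p G))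
    have := card_subgroup_dvd_card (P : Subgroup G)
    rwa [(hN P).1] at this
  have hodd : p ≠ 2 := by omega
  set h := (p - 1) / 2 with hh
  have hp2h : p = 2 * h + 1 := by
    rcases hp.out.eq_two_or_odd' with h2 | ⟨m, hm⟩ <;> omega
  obtain ⟨P⟩ := (inferInstance : Nonempty (Sylow p G))
  obtain ⟨hPc, hNc⟩ := hN P
  have hnt : Nontrivial (Sylow p G) := Finite.one_lt_card_iff_nontrivial.mp (by omega)
  obtain ⟨Q, hQ⟩ := exists_ne P
  obtain ⟨yP, hyP⟩ := (isCyclic_of_prime_card hPc).exists_generator
  set y : G := (yP : G) with hy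
  have hyo : orderOf y = p := by
    rw [hy, Subgroup.orderOf_coe, orderOf_eq_card_of_forall_mem_zpowers hyP, hPc]
  have hPgen : ∀ x ∈ (P : Subgroup G), ∃ n : ℕ, y ^ n = x := by
    intro x hx
    obtain ⟨n, hn'⟩ := (mem_powers_iff_mem_zpowers (x := yP)).mpr (hyP ⟨x, hx⟩)
    exact ⟨n, congrArg Subtype.val hn'⟩
  have hyfix : ∀ n : ℕ, y ^ n • P = P := fun n =>
    Sylow.smul_eq_iff_mem_normalizer.mpr (le_normalizer (H := (P : Subgroup G)) (pow_mem yP.2 n))
  have hyQ : ∀ n : ℕ, y ^ n • Q = Q → p ∣ n := by
    intro n hn'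
    rw [← hyo, orderOf_dvd_iff_pow_eq_one]
    have hmem : y ^ n ∈ (P : Subgroup G) ⊓ normalizer ((Q : Subgroup G) : Set G) :=
      ⟨pow_mem yP.2 n, Sylow.smul_eq_iff_mem_normalizer.mp hn'⟩
    have h1 : y ^ n ∈ (P : Subgroup G) ⊓ (Q : Subgroup G) :=
      (le_of_eq (P.2.inf_normalizer_sylow Q)) hmem
    have hdisj : (P : Subgroup G) ⊓ (Q : Subgroup G) = ⊥ := by
      have hd : Nat.card ↥((P : Subgroup G) ⊓ (Q : Subgroup G)) ∣ p :=
        (card_dvd_of_le inf_le_left).trans (dvd_of_eq hPc)
      rcases (Nat.dvd_prime hp.out).mp hd with h1 | h1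
      · exact card_eq_one.mp h1
      · exact absurd (sylow_eq_of_le (inf_eq_left.mp
          (eq_of_le_of_card_ge inf_le_left (by omega)))) hQ.symm
    rw [hdisj] at h1
    exact h1
  -- coordinates on the Sylow subgroups
  let φ : Option (ZMod p) → Sylow p G := fun z => z.elim P fun i => y ^ i.val • Q
  have hφinj : Function.Injective φ := by
    intro a b hab
    have haux : ∀ i j : ZMod p, j.val ≤ i.val → y ^ i.val • Q = y ^ j.val • Q → i = j := by
      intro i j hji heq
      rw [show i.val = j.val + (i.val - j.val) by omega, pow_add, mul_smul] at heq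
      have := Nat.eq_zero_of_dvd_of_lt (hyQ _ (smul_left_cancel _ heq))
        (by have := ZMod.val_lt i; omega)
      exact ZMod.val_injective p (by omega)
    have hne : ∀ i : ZMod p, y ^ i.val • Q ≠ P := fun i heq =>
      hQ (smul_left_cancel _ (heq.trans (hyfix i.val).symm))
    rcases a with _ | i <;> rcases b with _ | j
    · rfl
    · exact absurd hab.symm (hne j)
    · exact absurd hab (hne i)
    · rcases le_total j.val i.val with hle | hle
      · exact congrArg some (haux i j hle hab)
      · exact congrArg some (haux j i hle hab.symm).symm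
  have : Fintype (Sylow p G) := Fintype.ofFinite _
  have hcardPt : Fintype.card (Option (ZMod p)) = p + 1 := by simp
  let ψ : Option (ZMod p) ≃ Sylow p G := Equiv.ofBijective φ
    ((Fintype.bijective_iff_injective_and_card φ).mpr
      ⟨hφinj, by rw [hcardPt, ← Nat.card_eq_fintype_card, hn]⟩)
  let f : G →* Perm (Option (ZMod p)) :=
    ψ.symm.permCongrHom.toMonoidHom.comp (MulAction.toPermHom G (Sylow p G))
  have hf : Function.Injective f :=
    ψ.symm.permCongrHom.injective.comp (toPermHom_sylow_injective hGc hpdvd)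
  refine ⟨f, hf, ?_⟩
  have hfa : ∀ (g : G) (z w : Option (ZMod p)), f g z = w ↔ g • φ z = φ w := by
    intro g z w
    show ψ.symm (g • ψ z) = w ↔ _
    rw [Equiv.symm_apply_eq]
    rfl
  have hyp : y ^ p = 1 := by rw [← hyo, pow_orderOf_eq_one]
  have hymod : ∀ n : ℕ, y ^ n = y ^ (n % p) := fun n => by rw [← hyo, pow_mod_orderOf]
  have hfy : f y = lineTransl p := by
    apply Equiv.ext
    intro z
    rw [hfa]
    rcases z with _ | i
    · simpa [φ, lineTransl_none] using hyfix 1
    · show y • y ^ i.val • Q = y ^ (i + 1).val • Q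
      rw [← mul_smul, ← pow_succ', hymod (i.val + 1)]
      congr 2
      rw [ZMod.val_add, ZMod.val_one]
  -- elements fixing infinity are affine
  have haff : ∀ g : G, f g none = none → ∃ (a : (ZMod p)ˣ) (b : ZMod p), IsAff p (f g) a b := by
    intro g hg
    have hgN : g ∈ normalizer ((P : Subgroup G) : Set G) :=
      Sylow.smul_eq_iff_mem_normalizer.mp ((hfa g none none).mp hg)
    obtain ⟨n, hn'⟩ := hPgen _ ((hgN y).mp yP.2)
    have hcomm : f g * lineTransl p = lineTransl p ^ n * f g := by
      rw [← hfy, ← map_pow, ← map_mul, ← map_mul, hn', inv_mul_cancel_right]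
    obtain ⟨b, hb⟩ : ∃ b, f g (some (0 : ZMod p)) = some b := by
      rcases hgb : f g (some (0 : ZMod p)) with _ | b
      · exact absurd ((f g).injective (hgb.trans hg.symm)) (by simp)
      · exact ⟨b, rfl⟩
    have hall : ∀ m : ℕ, f g (some (m : ZMod p)) = some ((n : ZMod p) * m + b) := by
      intro m
      induction m with
      | zero => simpa using hb
      | succ m ih =>
        have := Equiv.congr_fun hcomm (some (m : ZMod p))
        rw [Perm.mul_apply, Perm.mul_apply, lineTransl_some, ih, lineTransl_pow] at this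
        rw [Nat.cast_succ, this]
        congr 1
        ring
    have hn0 : (n : ZMod p) ≠ 0 := by
      intro h0
      have h1 := hall 1
      rw [h0, zero_mul, zero_add, Nat.cast_one, ← hb] at h1
      exact one_ne_zero (Option.some_injective _ ((f g).injective h1))
    refine ⟨Units.mk0 _ hn0, b, hg, fun x => ?_⟩
    have := hall x.val
    rwa [ZMod.natCast_val, ZMod.cast_id] at this
  -- the two point stabilizer
  set N := normalizer ((P : Subgroup G) : Set G) with hNdef
  set H := N ⊓ MulAction.stabilizer G Q with hH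
  have hmemH : ∀ g : G, g ∈ H ↔ f g none = none ∧ f g (some 0) = some 0 := by
    intro g
    rw [hfa, hfa, hH, mem_inf, MulAction.mem_stabilizer_iff]
    refine and_congr Sylow.smul_eq_iff_mem_normalizer.symm ?_
    simp [φ]
  have hHmult : ∀ g ∈ H, ∃ a : (ZMod p)ˣ, f g = lineMult p a := by
    intro g hg
    obtain ⟨hg0, hg1⟩ := (hmemH g).mp hg
    obtain ⟨a, b, hab⟩ := haff g hg0
    have hb := hab.2 0
    rw [hg1, mul_zero, zero_add] at hb
    exact ⟨a, hab.ext ((Option.some_injective _ hb) ▸ isAff_mult a)⟩
  have hdecomp : ∀ g ∈ N, ∃ n : ℕ, (y ^ n)⁻¹ * g ∈ H := by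
    intro g hg
    have hgnone : f g none = none := (hfa g none none).mpr (Sylow.smul_eq_iff_mem_normalizer.mpr hg)
    obtain ⟨a, b, hab⟩ := haff g hgnone
    refine ⟨b.val, (hmemH _).mpr ⟨?_, ?_⟩⟩ <;>
      rw [map_mul, map_inv, Perm.mul_apply, map_pow, hfy, Perm.inv_eq_iff_eq]
    · rw [hab.1, lineTransl_pow_none]
    · rw [hab.2, lineTransl_pow, mul_zero, zero_add, zero_add, ZMod.natCast_val, ZMod.cast_id]
  have hHcard : Nat.card H = h := by
    have he : Nat.card N = p * Nat.card H := by
      let e : ZMod p × H → N := fun ib => ⟨y ^ ib.1.val * ib.2,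
        mul_mem (le_normalizer (pow_mem yP.2 _)) ib.2.2.1⟩
      have hbij : Function.Bijective e := by
        constructor
        · rintro ⟨i, a⟩ ⟨j, b⟩ hab
          have hab' : y ^ i.val * (a : G) = y ^ j.val * (b : G) := congrArg Subtype.val hab
          have hQ' := congrArg (fun u : G => f u (some 0)) hab'
          simp only [map_mul, Perm.mul_apply, ((hmemH _).mp a.2).2, ((hmemH _).mp b.2).2, map_pow,
            hfy, lineTransl_pow, zero_add, ZMod.natCast_val, ZMod.cast_id] at hQ'
          obtain rfl := Option.some_injective _ hQ'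
          exact Prod.ext rfl (Subtype.ext (mul_left_cancel hab'))
        · intro g
          obtain ⟨n, hn'⟩ := hdecomp g g.2
          refine ⟨((n : ZMod p), ⟨_, hn'⟩), Subtype.ext ?_⟩
          show y ^ (n : ZMod p).val * ((y ^ n)⁻¹ * g) = g
          rw [ZMod.val_natCast, ← hymod, mul_inv_cancel_left]
      rw [← Nat.card_congr (Equiv.ofBijective e hbij), Nat.card_prod, Nat.card_zmod]
    rw [hNc] at he
    exact (Nat.eq_of_mul_eq_mul_left hp.out.pos he).symm
  have hpow : ∀ (a : (ZMod p)ˣ) (g : G), g ∈ H → f g = lineMult p a → a ^ h = 1 := by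
    intro a g hg hga
    have h1 : g ^ h = 1 := by
      have := orderOf_dvd_natCard H hg
      rw [hHcard] at this
      exact orderOf_dvd_iff_pow_eq_one.mp this
    have hm : ∀ j : ℕ, IsAff p (lineMult p a ^ j) (a ^ j) 0 := by
      intro j
      induction j with
      | zero => exact ⟨rfl, fun x => by simp⟩
      | succ j ih =>
        rw [pow_succ, pow_succ]
        simpa using ih.mul (isAff_mult a)
    have h2 := (hm h).2 1
    rw [← hga, ← map_pow, h1, map_one, Perm.one_apply, mul_one, add_zero] at h2
    exact Units.ext (Option.some_injective _ h2).symm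
  set s := u ^ 2 with hs
  have hso : orderOf s = h := by
    rw [hs, orderOf_pow, hu, Nat.gcd_eq_right ⟨h, by omega⟩]
  -- `(ZMod p)ˣ` is generated by `u`
  have hugen : ∀ a : (ZMod p)ˣ, ∃ i < p - 1, u ^ i = a := by
    intro a
    have htop : zpowers u = ⊤ := by
      apply eq_top_of_card_eq
      rw [Nat.card_zpowers, hu, Nat.card_units, Nat.card_zmod]
    obtain ⟨i, hi⟩ := (mem_powers_iff_mem_zpowers (x := u)).mpr (htop ▸ mem_top a)
    exact ⟨i % (p - 1), Nat.mod_lt _ (by omega), by rw [← hu, pow_mod_orderOf]; exact hi⟩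
  have hsquares : ∀ a : (ZMod p)ˣ, a ^ h = 1 → ∃ i < h, s ^ i = a := by
    intro a ha
    obtain ⟨i, hi, rfl⟩ := hugen a
    rw [← pow_mul, ← orderOf_dvd_iff_pow_eq_one, hu, show p - 1 = 2 * h by omega] at ha
    obtain ⟨j, rfl⟩ := Nat.dvd_of_mul_dvd_mul_right (by omega) ha
    exact ⟨j, by omega, by rw [hs, ← pow_mul]⟩
  have hHmem : ∀ a : (ZMod p)ˣ, a ^ h = 1 → lineMult p a ∈ f.range := by
    intro a ha
    have hex : ∀ x : H, ∃ b : Fin h, f x = lineMult p (s ^ (b : ℕ)) := by
      intro x
      obtain ⟨a, ha⟩ := hHmult x x.2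
      obtain ⟨i, hi, rfl⟩ := hsquares a (hpow a x x.2 ha)
      exact ⟨⟨i, hi⟩, ha⟩
    choose b hb using hex
    have hbinj : Function.Injective b := fun x x' hxx => by
      apply Subtype.ext
      apply hf
      rw [hb, hb, hxx]
    have hbsurj : Function.Surjective b :=
      (hbinj.bijective_of_nat_card_le (by rw [Nat.card_fin, hHcard])).2
    obtain ⟨i, hi, rfl⟩ := hsquares a ha
    obtain ⟨x, hx⟩ := hbsurj ⟨i, hi⟩
    exact ⟨(x : G), by rw [hb x, hx]⟩
  -- an involution swapping `P` and `Q`
  have htrans : ∀ R : Sylow p G, R ≠ P → ∃ n : ℕ, y ^ n • Q = R := by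
    intro R hR
    obtain ⟨z, hz⟩ := (Equiv.surjective ψ) R
    rcases z with _ | i
    · exact absurd hz.symm hR
    · exact ⟨i.val, hz⟩
  have hev : 2 ∣ Nat.card G := by
    obtain ⟨m, hm⟩ : (p + 1) ∣ Nat.card G := hn ▸ (P.card_dvd_index.trans (index_dvd_card _))
    exact ⟨(h + 1) * m, by rw [hm, hp2h]; ring⟩
  obtain ⟨t, ht⟩ := exists_prime_orderOf_dvd_card' (G := G) 2 hev
  obtain ⟨R, hR⟩ : ∃ R : Sylow p G, t • R ≠ R := by
    by_contra hall
    push Not at hall
    have : t = 1 := toPermHom_sylow_injective hGc hpdvd (by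
      apply Equiv.ext
      intro R
      rw [map_one]
      exact hall R)
    rw [this, orderOf_one] at ht
    omega
  obtain ⟨c₀, hc₀⟩ := MulAction.exists_smul_eq G P R
  have hR' : c₀⁻¹ • t • R ≠ P := by
    intro heq
    apply hR
    rw [inv_smul_eq_iff, hc₀] at heq
    exact heq
  obtain ⟨n₀, hn₀⟩ := htrans _ hR'
  set g₀ := c₀ * y ^ n₀ with hg₀
  set w := g₀⁻¹ * t * g₀ with hw
  have hgP : g₀ • P = R := by rw [hg₀, mul_smul, hyfix, hc₀]
  have hgQ : g₀ • Q = t • R := by rw [hg₀, mul_smul, hn₀, smul_inv_smul]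
  have ht2 : t * t = 1 := by rw [← sq, ← ht, pow_orderOf_eq_one]
  have hw2 : w * w = 1 := by rw [hw]; simp [mul_assoc, ← mul_assoc t t, ht2]
  have hwP : w • P = Q := by
    rw [hw, mul_smul, mul_smul, hgP, inv_smul_eq_iff, hgQ]
  have hwQ : w • Q = P := by rw [← hwP, ← mul_smul, hw2, one_smul]
  set W := f w with hWdef
  have hW0 : W none = some 0 := (hfa w none (some 0)).mpr (by simpa [φ] using hwP)
  have hW1 : W (some 0) = none := (hfa w (some 0) none).mpr (by simpa [φ] using hwQ)
  have hWW : ∀ z, W (W z) = z := fun z => by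
    rw [← Perm.mul_apply, hWdef, ← map_mul, hw2, map_one, Perm.one_apply]
  have hWne : ∀ x : ZMod p, x ≠ 0 → ∃ c : (ZMod p)ˣ, W (some x) = some (c : ZMod p) := by
    intro x hx
    rcases hc : W (some x) with _ | c
    · have := congrArg W hc
      rw [hWW, hW0] at this
      exact absurd (Option.some_injective _ this) hx
    · have hc0 : c ≠ 0 := by
        rintro rfl
        have := congrArg W hc
        rw [hWW, hW1] at this
        exact Option.some_ne_none x this
      exact ⟨Units.mk0 c hc0, rfl⟩
  -- conjugation by `w` on the two point stabilizer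
  obtain ⟨σ, hσH, hσ⟩ : ∃ σ ∈ H, f σ = lineMult p s := by
    obtain ⟨g, hg⟩ := hHmem s (by rw [← hso, pow_orderOf_eq_one])
    exact ⟨g, (hmemH g).mpr (by rw [hg]; exact ⟨rfl, by simp [lineMult]⟩), hg⟩
  obtain ⟨k, hkh, hk⟩ : ∃ k < h, f (w * σ * w) = lineMult p (s ^ k) := by
    have hm : w * σ * w ∈ H := by
      rw [hmemH, map_mul, map_mul]
      simp only [Perm.mul_apply, ← hWdef, hW0, hW1, hσ]
      refine ⟨?_, ?_⟩
      · rw [show lineMult p s (some (0 : ZMod p)) = some 0 by simp [lineMult], hW1]
      · rw [show lineMult p s (none : Option (ZMod p)) = none from rfl, hW0]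
    obtain ⟨a, ha⟩ := hHmult _ hm
    obtain ⟨i, hi, rfl⟩ := hsquares a (hpow a _ hm ha)
    exact ⟨i, hi, ha⟩
  have hsemi : ∀ (i : ℕ) (x : ZMod p),
      W (some ((s ^ i : (ZMod p)ˣ) * x)) = (W (some x)).map fun v => ((s ^ (k * i) : (ZMod p)ˣ) : ZMod p) * v := by
    intro i x
    have hconv : W * lineMult p (s ^ i) = lineMult p (s ^ (k * i)) * W := by
      induction i with
      | zero =>
        have h1 : lineMult p (1 : (ZMod p)ˣ) = 1 :=
          IsAff.ext (isAff_mult 1) ⟨rfl, fun x => by simp⟩
        simp [h1]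
      | succ i ih =>
        have hmm : ∀ a b : (ZMod p)ˣ, lineMult p (a * b) = lineMult p a * lineMult p b := fun a b =>
          IsAff.ext (isAff_mult (a * b)) (by simpa using (isAff_mult a).mul (isAff_mult b))
        have h1 : W * lineMult p s = lineMult p (s ^ k) * W := by
          rw [← hk, ← hσ, hWdef, ← map_mul, ← map_mul]
          congr 1
          rw [mul_assoc (w * σ) w w, hw2, mul_one]
        rw [pow_succ, hmm, ← mul_assoc, ih, mul_assoc, h1, ← mul_assoc, ← hmm, ← pow_add,
          Nat.mul_succ]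
    have := Equiv.congr_fun hconv (some x)
    rw [Perm.mul_apply, Perm.mul_apply] at this
    rw [show lineMult p (s ^ i) (some x) = some (((s ^ i : (ZMod p)ˣ) : ZMod p) * x) from rfl] at this
    rw [this]
    rcases W (some x) with _ | v <;> rfl
  -- `k` is an involution modulo `h`
  have hkk : k * k % h = 1 := by
    have h1 := hsemi 1 1
    obtain ⟨c, hc⟩ := hWne 1 one_ne_zero
    rw [hc, pow_one, mul_one, mul_one, Option.map_some] at h1
    have h2 := hsemi k (c : ZMod p)
    rw [← h1, hWW, ← hc, hWW, Option.map_some, mul_one] at h2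
    have h3 : s ^ (k * k) = s ^ 1 := by
      rw [pow_one]; exact Units.ext (Option.some_injective _ h2).symm
    rw [pow_inj_mod, hso] at h3
    rw [h3, Nat.mod_eq_of_lt (by omega)]
  obtain ⟨c, hc⟩ := hWne 1 one_ne_zero
  obtain ⟨d, hd⟩ := hWne (u : ZMod p) u.ne_zero
  rw [lineCheck, Bool.and_eq_true, Bool.and_eq_true] at hcheck
  simp only [List.all_eq_true, List.mem_range, Bool.or_eq_true, Bool.and_eq_true, beq_iff_eq,
    bne_iff_ne, ne_eq, decide_eq_true_eq, Bool.not_eq_true'] at hcheck
  obtain ⟨⟨hL, hE⟩, hmain⟩ := hcheck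
  have hk17 : ¬ (k = 1 ∧ p = 7) := by
    rintro ⟨rfl, rfl⟩
    -- `w` would centralise a Sylow 3-subgroup
    have := Fact.mk Nat.prime_three
    have h3 : Nat.card H = 3 := by rw [hHcard, hh]
    have h168 : Nat.card G = 168 := by norm_num at hG; omega
    obtain ⟨S, hS⟩ := (IsPGroup.of_card (n := 1) (by rwa [pow_one]) : IsPGroup 3 H).exists_le_sylow
    have hSc : Nat.card (S : Subgroup G) = 3 := by
      simpa using card_sylow_eq (p := 3) 1 56 (by omega) (by norm_num) S
    have hSH : (S : Subgroup G) = H := (eq_of_le_of_card_ge hS (by omega)).symm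
    have hσ1 : σ ≠ 1 := by
      intro h1
      have := congrArg (fun e : Perm (Option (ZMod 7)) => e (some 1)) hσ
      rw [h1, map_one] at this
      have h2 : s = 1 := Units.ext (by simpa [lineMult] using this.symm)
      rw [h2, orderOf_one] at hso
      omega
    have hHgen : H = zpowers σ := by
      refine (eq_of_le_of_card_ge (zpowers_le.mpr hσH) ?_).symm
      rw [Nat.card_zpowers, h3]
      have := orderOf_dvd_natCard H hσH
      rw [h3] at this
      exact ((Nat.dvd_prime Nat.prime_three).mp this).resolve_left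
        (mt orderOf_eq_one_iff.mp hσ1) |>.ge
    have hwσ : w * σ = σ * w := by
      apply hf
      rw [map_mul f w σ, map_mul f σ w, ← hWdef, hσ]
      have h1 : f (w * σ * w) * W = W * lineMult 7 s := by
        rw [hWdef, ← map_mul, ← hσ, ← map_mul]
        congr 1
        rw [mul_assoc (w * σ) w w, hw2, mul_one]
      rw [← h1, hk, pow_one]
    refine not_normalizer_le_centralizer hGc (p := 3) (by omega) S fun m hm => ?_
    have hfixσ : ∀ z : Option (ZMod 7), f σ z = z → z = none ∨ z = some 0 := by
      intro z hz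
      rcases z with _ | x
      · exact Or.inl rfl
      · refine Or.inr ?_
        rw [hσ] at hz
        have hz' : ((s : ZMod 7) - 1) * x = 0 := by
          rw [sub_mul, one_mul, sub_eq_zero]; exact Option.some_injective _ hz
        rcases mul_eq_zero.mp hz' with h1 | h1
        · have h2 : s = 1 := Units.ext (sub_eq_zero.mp h1)
          rw [h2, orderOf_one] at hso
          omega
        · rw [h1]
    have hmfix : ∀ z, (z = none ∨ z = some 0) → (f m z = none ∨ f m z = some 0) := by
      intro z hz
      apply hfixσ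
      have hconj : m⁻¹ * σ * m ∈ H := by
        rw [← hSH]
        have h' := ((inv_mem hm : m⁻¹ ∈ _) σ).mp (hSH.ge hσH)
        rw [inv_inv] at h'
        exact h'
      have hfz : f (m⁻¹ * σ * m) z = z := by
        rcases hz with rfl | rfl
        · exact ((hmemH _).mp hconj).1
        · exact ((hmemH _).mp hconj).2
      rw [map_mul, map_mul, map_inv, Perm.mul_apply, Perm.mul_apply, Perm.inv_eq_iff_eq] at hfz
      exact hfz
    have hcH : ∀ m' ∈ H, Commute m' σ := by
      intro m' hm'
      rw [hHgen] at hm'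
      obtain ⟨i, rfl⟩ := hm'
      exact (Commute.refl σ).zpow_left i
    have hmσ : Commute m σ := by
      rcases hmfix none (Or.inl rfl) with h1 | h1
      · refine hcH m ((hmemH m).mpr ⟨h1, ?_⟩)
        rcases hmfix (some 0) (Or.inr rfl) with h2 | h2
        · exact absurd ((f m).injective (h1.trans h2.symm)) (by simp)
        · exact h2
      · have h2 : f m (some 0) = none := by
          rcases hmfix (some 0) (Or.inr rfl) with h2 | h2
          · exact h2
          · exact absurd ((f m).injective (h1.trans h2.symm)) (by simp)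
        have hwm : w * m ∈ H := (hmemH _).mpr
          ⟨by rw [map_mul, Perm.mul_apply, h1, ← hWdef, hW1],
           by rw [map_mul, Perm.mul_apply, h2, ← hWdef, hW0]⟩
        have := (show Commute w σ from hwσ).mul_left (hcH _ hwm)
        rwa [← mul_assoc, hw2, one_mul] at this
    rw [mem_centralizer_iff]
    intro x hx
    have hx' : x ∈ zpowers σ := hHgen ▸ hSH ▸ hx
    obtain ⟨i, rfl⟩ := hx'
    exact (hmσ.zpow_right i).eq.symm
  have hval : ∀ i, i < p - 1 → E.getD i 0 = ((u ^ i : (ZMod p)ˣ) : ZMod p).val := by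
    intro i hi
    rw [hE i hi, Units.val_pow_eq_pow_val, ← ZMod.val_natCast, Nat.cast_pow, ZMod.natCast_val,
      ZMod.cast_id]
  have hlog : ∀ x : ZMod p, x ≠ 0 →
      L.getD x.val 0 < p - 1 ∧ ((u ^ L.getD x.val 0 : (ZMod p)ˣ) : ZMod p) = x := by
    intro x hx
    rcases hL x.val (ZMod.val_lt x) with h1 | ⟨h1, h2⟩
    · exact absurd ((ZMod.val_eq_zero x).mp h1) hx
    · refine ⟨h2, ?_⟩
      have := congrArg (fun m : ℕ => (m : ZMod p)) h1
      simp only [ZMod.natCast_mod, Nat.cast_pow, ZMod.natCast_val, ZMod.cast_id] at this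
      rw [Units.val_pow_eq_pow_val]
      exact this
  have hu0 : ∀ n : ℕ, u ^ n = u ^ (n % (p - 1)) := fun n => by rw [← hu, pow_mod_orderOf]
  set cn := (c : ZMod p).val with hcn
  set dn := (d : ZMod p).val with hdn
  set wn := candFun p L E k cn dn with hwn
  have henc : ∀ z, encPt (W z) = wn (encPt z) := by
    intro z
    rcases z with _ | x
    · rw [hW0, hwn]
      simp [candFun, encPt]
    · by_cases hx : x = 0
      · subst hx
        rw [hW1, hwn]
        simp [candFun, encPt, Ne.symm hp0]
      · obtain ⟨hlt, hx'⟩ := hlog x hx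
        have hxv : x.val ≠ p := (ZMod.val_lt x).ne
        have hxv0 : x.val ≠ 0 := fun h0 => hx ((ZMod.val_eq_zero x).mp h0)
        show encPt (W (some x)) = candFun p L E k cn dn x.val
        rw [candFun, if_neg hxv, if_neg hxv0, hval _ (Nat.mod_lt _ (by omega)), ← hu0]
        set e := L.getD x.val 0 with he
        have hspow : ((u ^ (2 * k * (e / 2)) : (ZMod p)ˣ)) = s ^ (k * (e / 2)) := by
          rw [hs, ← pow_mul, mul_assoc]
        rw [hspow]
        rcases Nat.even_or_odd' e with ⟨q, hq | hq⟩
        · have hx'' : x = ((s ^ q : (ZMod p)ˣ) : ZMod p) * 1 := by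
            rw [mul_one, ← hx', hq, hs, ← pow_mul]
          rw [if_pos (by omega), show e / 2 = q by omega]
          conv_lhs => rw [hx'', hsemi, hc]
          simp [encPt, cn, ZMod.val_mul]
        · have hx'' : x = ((s ^ q : (ZMod p)ˣ) : ZMod p) * (u : ZMod p) := by
            rw [← hx', hq, hs, ← pow_mul, pow_succ, Units.val_mul]
          rw [if_neg (by omega), show e / 2 = q by omega]
          conv_lhs => rw [hx'', hsemi, hd]
          simp [encPt, dn, ZMod.val_mul]
  have hc0 : cn ≠ 0 := fun h0 => c.ne_zero ((ZMod.val_eq_zero _).mp h0)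
  have hd0 : dn ≠ 0 := fun h0 => d.ne_zero ((ZMod.val_eq_zero _).mp h0)
  have hinvol : ∀ x, x < p + 1 → wn (wn x) = x := by
    intro x hx
    obtain ⟨z, rfl⟩ := encPt_surjective (p := p) (n := x) (by omega)
    rw [← henc, ← henc, hWW]
  have hfix : (p + 1 - fixCount p wn) % 4 = 0 := by
    have h4 := involution_fixed_mod_four hGc f (x := w) (by rw [sq, hw2])
    have hcount : fixCount p wn = (W.supportᶜ).card := by
      rw [fixCount, ← List.toFinset_card_of_nodup (List.nodup_range.filter _)]
      refine (Finset.card_bij (fun z _ => encPt z) ?_ ?_ ?_).symm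
      · intro z hz
        rw [Finset.mem_compl, Perm.notMem_support] at hz
        simp only [List.mem_toFinset, List.mem_filter, List.mem_range, beq_iff_eq]
        refine ⟨?_, by rw [← henc, hz]⟩
        rcases z with _ | i
        · simp [encPt]
        · have := ZMod.val_lt i
          simp only [encPt, Option.elim]
          omega
      · exact fun a _ b _ hab => encPt_injective hab
      · intro n hn'
        simp only [List.mem_toFinset, List.mem_filter, List.mem_range, beq_iff_eq] at hn'
        obtain ⟨z, rfl⟩ := encPt_surjective (p := p) (n := n) (by omega)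
        refine ⟨z, ?_, rfl⟩
        rw [Finset.mem_compl, Perm.notMem_support]
        exact encPt_injective ((henc z).trans hn'.2)
    have hle := W.support.card_le_univ
    rw [hcardPt] at hle
    rw [hcount, Finset.card_compl, hcardPt]
    obtain ⟨m, hm⟩ := h4
    rw [← hWdef] at hm
    omega
  have hafftest : ∀ a, a < p → affTest p wn a = true := by
    intro a ha
    simp only [affTest, Bool.or_eq_true, beq_iff_eq, Bool.and_eq_true, List.all_eq_true,
      List.mem_range]
    rcases hu' : W (some (a : ZMod p)) with _ | v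
    · left
      have := henc (some (a : ZMod p))
      rw [hu'] at this
      simpa [encPt, ZMod.val_natCast_of_lt ha] using this.symm
    right
    have hua : wn a = v.val := by
      have := henc (some (a : ZMod p))
      rw [hu'] at this
      simpa [encPt, ZMod.val_natCast_of_lt ha] using this.symm
    set g := w * y ^ (p - v.val) * w * y ^ a * w with hg
    have hfg : ∀ z, f g z = W ((lineTransl p ^ (p - v.val)) (W ((lineTransl p ^ a) (W z)))) := by
      intro z
      simp only [hg, map_mul, map_pow, hfy, Perm.mul_apply, ← hWdef]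
    have hgnone : f g none = none := by
      rw [hfg, hW0, lineTransl_pow, zero_add, hu', lineTransl_pow,
        Nat.cast_sub (ZMod.val_lt v).le, ZMod.natCast_self, zero_sub, ZMod.natCast_val,
        ZMod.cast_id, add_neg_cancel, hW1]
    obtain ⟨m, b, hmb⟩ := haff g hgnone
    have hsh : ∀ (n : ℕ) (z : Option (ZMod p)),
        encPt ((lineTransl p ^ n) z) = shiftFun p n (encPt z) := by
      intro n z
      rcases z with _ | i
      · simp [shiftFun, encPt, lineTransl_pow_none]
      · rw [lineTransl_pow]
        show (i + (n : ZMod p)).val = if i.val = p then p else (i.val + n) % p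
        rw [if_neg (ZMod.val_lt i).ne]
        simp [ZMod.val_add, ZMod.val_natCast]
    have hgn : ∀ x, x < p → wn (shiftFun p (p - v.val) (wn (shiftFun p a (wn x)))) =
        ((m : ZMod p) * (x : ZMod p) + b).val := by
      intro x hx
      have h1 : x = encPt (some (x : ZMod p)) := by simp [encPt, ZMod.val_natCast_of_lt hx]
      conv_lhs => rw [h1, ← henc, ← hsh, ← henc, ← hsh, ← henc, ← hfg, hmb.2]
      rfl
    rw [hua, hgn 0 (by omega), hgn 1 (by omega)]
    have hm1 : ((((m : ZMod p) * ((1 : ℕ) : ZMod p) + b).val + p -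
        ((m : ZMod p) * ((0 : ℕ) : ZMod p) + b).val) % p) = (m : ZMod p).val := by
      rw [← ZMod.val_natCast, Nat.cast_sub (by have := ZMod.val_lt ((m : ZMod p) * ((0:ℕ) : ZMod p) + b); omega)]
      push_cast
      simp [ZMod.natCast_val]
    rw [hm1]
    refine ⟨?_, fun x hx => ?_⟩
    · have hmh : m ^ h = 1 := by
        have hgN : g ∈ N := Sylow.smul_eq_iff_mem_normalizer.mp ((hfa g none none).mp hgnone)
        obtain ⟨n, hn'⟩ := hdecomp g hgN
        obtain ⟨a', ha'⟩ := hHmult _ hn'
        have hea : f g = lineTransl p ^ n * lineMult p a' := by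
          rw [← ha', ← hfy, ← map_pow, ← map_mul, mul_inv_cancel_left]
        have h2 := (isAff_transl_pow (p := p) n).mul (isAff_mult a')
        rw [← hea, one_mul] at h2
        have hma : m = a' := by
          have e1 := h2.2 1
          have e0 := h2.2 0
          rw [hmb.2] at e1 e0
          simp only [mul_one, mul_zero, zero_add, Units.val_one] at e1 e0
          exact Units.ext (by linear_combination Option.some_injective _ e1 - Option.some_injective _ e0)
        rw [hma]
        exact hpow a' _ hn' ha'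
      have := congrArg (fun z : (ZMod p)ˣ => (z : ZMod p).val) hmh
      simp only [Units.val_pow_eq_pow_val, Units.val_one, ZMod.val_one] at this
      conv_lhs at this => rw [← ZMod.natCast_zmod_val (m : ZMod p), ← Nat.cast_pow, ZMod.val_natCast]
      exact this
    · rw [hgn x hx, ← ZMod.val_natCast]
      congr 1
      push_cast
      simp [ZMod.natCast_val]
  have hgood := hmain k hkh
  rcases hgood with (h1 | h1) | h1
  · exact absurd h1 hk17
  · exact absurd hkk h1
  have h2 := (h1 cn (ZMod.val_lt _)).resolve_left hc0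
  have h3 := (h2 dn (ZMod.val_lt _)).resolve_left hd0
  rw [← hwn] at h3
  rcases h3 with ((h4 | h4) | h4) | h4
  · rw [List.all_eq_false] at h4
    obtain ⟨x, hx, hne⟩ := h4
    simp only [List.mem_range, beq_iff_eq] at hx hne
    exact absurd (hinvol x hx) hne
  · exact absurd hfix h4
  · rw [List.all_eq_false] at h4
    obtain ⟨x, hx, hne⟩ := h4
    rw [List.mem_range] at hx
    exact absurd (hafftest x hx) hne
  simp only [goodTest, Bool.and_eq_true, beq_iff_eq, List.all_eq_true, List.mem_range,
    Bool.or_eq_true] at h4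
  obtain ⟨hcsq, hform⟩ := h4
  -- `W` is `x ↦ c / x`
  set a₀ := -c with ha₀
  have ha₀h : a₀ ^ h = 1 := by
    apply Units.ext
    apply ZMod.val_injective p
    rw [Units.val_pow_eq_pow_val, Units.val_one, ZMod.val_one, ← ZMod.natCast_zmod_val (a₀ : ZMod p),
      ← Nat.cast_pow, ZMod.val_natCast, ha₀, Units.val_neg, ZMod.neg_val,
      if_neg c.ne_zero]
    exact hcsq
  have hWform : W = lineMult p a₀ * lineInv p := by
    apply Equiv.ext
    intro z
    rw [Perm.mul_apply]
    rcases z with _ | x
    · rw [hW0]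
      simp [lineInv_none, lineInv_some, lineMult]
    · by_cases hx : x = 0
      · subst hx
        rw [hW1]
        simp [lineInv_none, lineInv_some, lineMult]
      · obtain ⟨v, hv⟩ := hWne x hx
        have hxv0 : x.val ≠ 0 := fun h0 => hx ((ZMod.val_eq_zero x).mp h0)
        have h5 := (hform x.val (ZMod.val_lt x)).resolve_left hxv0
        have h6 := henc (some x)
        rw [hv] at h6
        simp only [encPt, Option.elim] at h6
        rw [← h6] at h5
        have h7 : (v : ZMod p) * x = c := by
          apply ZMod.val_injective p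
          rw [ZMod.val_mul, h5]
        rw [hv]
        simp only [lineInv_some, if_neg hx]
        show some (v : ZMod p) = some ((a₀ : ZMod p) * -x⁻¹)
        rw [ha₀, Units.val_neg, neg_mul_neg, ← h7, mul_assoc, mul_inv_cancel₀ hx, mul_one]
  have hWmem : W ∈ f.range := ⟨w, rfl⟩
  apply le_antisymm
  · have hN' : ∀ g ∈ N, f g ∈ lineGroup p s := by
      intro g hg
      obtain ⟨n, hn'⟩ := hdecomp g hg
      obtain ⟨a, ha⟩ := hHmult _ hn'
      obtain ⟨i, -, hi⟩ := hsquares a (hpow a _ hn' ha)
      have hea : f g = lineTransl p ^ n * lineMult p a := by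
        rw [← ha, ← hfy, ← map_pow, ← map_mul, mul_inv_cancel_left]
      rw [hea]
      exact ((isAff_transl_pow n).mul (isAff_mult a)).mem_lineGroup (by rw [one_mul]; exact hi)
    have hWL : W ∈ lineGroup p s := by
      rw [hWform]
      obtain ⟨i, -, hi⟩ := hsquares a₀ ha₀h
      exact mul_mem ((isAff_mult a₀).mem_lineGroup hi) (subset_closure (by simp))
    rintro _ ⟨g, rfl⟩
    by_cases hg : g • P = P
    · exact hN' g (Sylow.smul_eq_iff_mem_normalizer.mp hg)
    · obtain ⟨n, hn'⟩ := htrans _ hg
      have h8 : (y ^ n * w)⁻¹ * g ∈ N := by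
        apply Sylow.smul_eq_iff_mem_normalizer.mp
        rw [mul_smul, inv_smul_eq_iff, mul_smul, hwP, hn']
      have h9 := hN' _ h8
      rw [show g = y ^ n * w * ((y ^ n * w)⁻¹ * g) by group, map_mul, map_mul, map_pow, hfy]
      exact mul_mem (mul_mem (pow_mem (subset_closure (by simp)) _) hWL) h9
  · rw [lineGroup, closure_le]
    rintro z (rfl | rfl | rfl)
    · exact ⟨y, hfy⟩
    · exact hHmem _ (by rw [← hso, pow_orderOf_eq_one])
    · have : lineInv p = (lineMult p a₀)⁻¹ * W := by rw [hWform, inv_mul_cancel_left]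
      rw [SetLike.mem_coe, this]
      exact mul_mem (inv_mem (hHmem _ ha₀h)) hWmem

/-- Any two simple groups of order `p (p² - 1) / 2` are isomorphic when the check succeeds. -/
theorem equiv_of_line {G' : Type*} [Group G'] [Finite G'] [IsSimpleGroup G] [IsSimpleGroup G']
    [Fact p.Prime] (hp5 : 5 ≤ p) (hG : 2 * Nat.card G = p * (p ^ 2 - 1))
    (hG' : 2 * Nat.card G' = p * (p ^ 2 - 1)) (u : (ZMod p)ˣ) (hu : orderOf u = p - 1)
    (L E : List ℕ) (hcheck : lineCheck p (u : ZMod p).val L E = true) :
    Nonempty (G ≃* G') := by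
  obtain ⟨f, hf, hfr⟩ := exists_embedding_line hp5 hG u hu L E hcheck
  obtain ⟨f', hf', hfr'⟩ := exists_embedding_line (G := G') hp5 hG' u hu L E hcheck
  exact ⟨((MonoidHom.ofInjective hf).trans (MulEquiv.subgroupCongr (hfr.trans hfr'.symm))).trans
    (MonoidHom.ofInjective hf').symm⟩

end CfsgLib.Small
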