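import Cfsg.Agent.Lib.Small.Count
import Mathlib.GroupTheory.Perm.Cycle.Type

/-!
# Signs of permutations of two-power order, and fixed cosets
-/

set_option autoImplicit false
set_option linter.unusedSectionVars false

namespace CfsgLib.Small

open Equiv.Perm

section perm

variable {α : Type*} [Fintype α] [DecidableEq α]

theorem card_support_pow_eq_sum (σ : Equiv.Perm α) (m : ℕ) :
    (σ ^ m).support.card = (σ.cycleType.filter fun n => ¬ n ∣ m).sum := by
  induction σ using cycle_induction_on with
  | base_one => simp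
  | base_cycles c hc =>
    rw [hc.cycleType, Multiset.filter_singleton]
    by_cases h : c.support.card ∣ m
    · have h1 : c ^ m = 1 := orderOf_dvd_iff_pow_eq_one.1 (hc.orderOf ▸ h)
      simp [h, h1]
    · rw [if_pos h, Multiset.sum_singleton]
      refine congrArg Finset.card (le_antisymm (support_pow_le c m) fun x hx => ?_)
      rw [mem_support] at hx ⊢
      intro hfix
      exact h (hc.orderOf ▸ orderOf_dvd_of_pow_eq_one ((hc.pow_eq_one_iff' hx).2 hfix))
  | induction_disjoint c τ hd hc hs ht =>
    rw [hd.commute.mul_pow, (hd.pow_disjoint_pow m m).card_support_mul, hs, ht,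
      hd.cycleType_mul, Multiset.filter_add, Multiset.sum_add]

theorem four_mul_card_of_two_or_four : ∀ s : Multiset ℕ, (∀ n ∈ s, n = 2 ∨ n = 4) →
    4 * Multiset.card s + (s.filter fun n => ¬ n ∣ 2).sum = 2 * s.sum := by
  intro s
  induction s using Multiset.induction_on with
  | empty => simp
  | cons a s ih =>
    intro h
    have h' := ih fun n hn => h n (Multiset.mem_cons_of_mem hn)
    rcases h a (Multiset.mem_cons_self a s) with rfl | rfl
    · simp [Multiset.filter_cons]; omega
    · simp [Multiset.filter_cons]; omega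

theorem eight_mul_card_of_filter : ∀ s : Multiset ℕ, (∀ n ∈ s, n = 2 ∨ n = 4 ∨ n = 8) →
    (s.filter fun n => ¬ n ∣ 4).sum = s.sum → 8 * Multiset.card s = s.sum := by
  intro s
  induction s using Multiset.induction_on with
  | empty => simp
  | cons a s ih =>
    intro h hsum
    have hle : (s.filter fun n => ¬ n ∣ 4).sum ≤ s.sum := by
      conv_rhs => rw [← Multiset.filter_add_not (fun n => ¬ n ∣ 4) s, Multiset.sum_add]
      exact Nat.le_add_right _ _
    rcases h a (Multiset.mem_cons_self a s) with rfl | rfl | rfl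
    · simp [Multiset.filter_cons] at hsum; omega
    · simp [Multiset.filter_cons] at hsum; omega
    · simp [Multiset.filter_cons] at hsum
      have := ih (fun n hn => h n (Multiset.mem_cons_of_mem hn)) hsum
      simp; omega

theorem mem_cycleType_of_pow_four {σ : Equiv.Perm α} (h : σ ^ 4 = 1) :
    ∀ n ∈ σ.cycleType, n = 2 ∨ n = 4 := fun n hn => by
  have h1 := (dvd_of_mem_cycleType hn).trans (orderOf_dvd_of_pow_eq_one h)
  have h2 := two_le_of_mem_cycleType hn
  have h3 := Nat.le_of_dvd (by norm_num) h1
  interval_cases n <;> simp_all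

/-- The number of cycles of a permutation with `σ ^ 4 = 1`. -/
theorem cycles_of_pow_four {σ : Equiv.Perm α} (h : σ ^ 4 = 1) :
    4 * Multiset.card σ.cycleType + (σ ^ 2).support.card = 2 * σ.support.card := by
  rw [card_support_pow_eq_sum, ← sum_cycleType]
  exact four_mul_card_of_two_or_four _ (mem_cycleType_of_pow_four h)

theorem even_add_cycles {σ : Equiv.Perm α} (h : sign σ = 1) :
    Even (σ.support.card + Multiset.card σ.cycleType) := by
  rw [sign_of_cycleType, sum_cycleType] at h
  rcases Nat.even_or_odd (σ.support.card + Multiset.card σ.cycleType) with hh | hh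
  · exact hh
  · rw [hh.neg_one_pow] at h
    exact absurd h (by decide)

theorem prime_dvd_card_of_fixedPointFree {p : ℕ} [Fact p.Prime] {σ : Equiv.Perm α}
    (h : σ ^ p = 1) (hf : ∀ a, σ a ≠ a) : p ∣ Fintype.card α := by
  have h0 : σ.supportᶜ = ∅ := by
    ext a
    simp [hf a]
  have := card_compl_support_modEq (p := p) (n := 1) (σ := σ) (by rwa [pow_one])
  rw [h0, Finset.card_empty] at this
  exact Nat.modEq_zero_iff_dvd.1 this.symm

/-- A permutation of odd prime order with one fixed point on `2 p + 1` points commutes with no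
non-trivial even involution fixing that point. -/
theorem eq_one_of_commute_two_mul_succ {p : ℕ} [hp : Fact p.Prime] (hodd : p ≠ 2)
    {σ t : Equiv.Perm α} (hσ : σ ^ p = 1) (hα : Fintype.card α = 2 * p + 1) {a : α}
    (hfix : ∀ b, σ b = b → b = a) (hta : t a = a) (hc : Commute σ t)
    (h4 : 4 ∣ t.support.card) : t = 1 := by
  have hiff : ∀ x, x ∈ t.support ↔ σ x ∈ t.support := by
    intro x
    simp only [mem_support]
    rw [show t (σ x) = σ (t x) from (DFunLike.congr_fun hc.eq x).symm]
    exact ⟨fun h h' => h (σ.injective h'), fun h h' => h (by rw [h'])⟩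
  set τ := σ.subtypePerm (p := fun x => x ∈ t.support) (fun x => (hiff x).symm) with hτ
  have hτp : τ ^ p = 1 := by
    ext x
    simp [hτ, Equiv.Perm.subtypePerm_pow, hσ]
  have hτf : ∀ x, τ x ≠ x := fun x hx => by
    have h1 : σ (x : α) = x := congrArg Subtype.val hx
    have h2 := x.2
    rw [mem_support, hfix _ h1] at h2
    exact h2 hta
  have hdvd := prime_dvd_card_of_fixedPointFree hτp hτf
  rw [Fintype.card_coe] at hdvd
  have hle : t.support.card ≤ 2 * p := by
    have h1 : t.support ⊆ Finset.univ.erase a := fun x hx =>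
      Finset.mem_erase.2 ⟨fun h => by rw [h, mem_support] at hx; exact hx hta, Finset.mem_univ x⟩
    have := Finset.card_le_card h1
    rw [Finset.card_erase_of_mem (Finset.mem_univ a), Finset.card_univ, hα] at this
    omega
  obtain ⟨k, hk⟩ := hdvd
  rw [hk] at hle h4
  have hk2 : k ≤ 2 := Nat.le_of_mul_le_mul_left (by linarith) hp.out.pos
  have hpo := hp.out.eq_two_or_odd.resolve_left hodd
  rw [← support_eq_empty_iff, ← Finset.card_eq_zero, hk]
  interval_cases k <;> omega

end perm

section cosets

open Subgroup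

variable {G : Type*} [Group G] [Finite G]

/-- Fixed cosets of `t`, counted in the group. -/
theorem card_fixed_cosets_mul (H : Subgroup G) (t : G) :
    Nat.card {x : G ⧸ H // t • x = x} * Nat.card H = Nat.card {g : G // g⁻¹ * t * g ∈ H} := by
  rw [← Nat.card_prod]
  refine Nat.card_congr ((Equiv.prodComm _ _).trans
    ((QuotientGroup.preimageMkEquivSubgroupProdSet H {x : G ⧸ H | t • x = x}).symm.trans
      (Equiv.subtypeEquivRight fun g => ?_)))
  change t • (g : G ⧸ H) = g ↔ _
  rw [eq_comm, MulAction.Quotient.smul_coe, QuotientGroup.eq, smul_eq_mul, mul_assoc]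

/-- Group elements conjugating `t` into a set of its conjugates. -/
theorem card_conj_mem {t : G} (I : Finset G) (hI : ∀ s ∈ I, ∃ g, g⁻¹ * t * g = s) :
    Nat.card {g : G // g⁻¹ * t * g ∈ I} = I.card * Nat.card (centralizer ({t} : Set G)) := by
  classical
  choose! c hc using hI
  rw [← Nat.card_eq_finsetCard I, ← Nat.card_prod]
  refine Nat.card_congr ⟨fun g => ⟨⟨_, g.2⟩, ⟨g.1 * (c (g.1⁻¹ * t * g.1))⁻¹, ?_⟩⟩,
    fun x => ⟨x.2.1 * c x.1.1, ?_⟩, fun g => Subtype.ext (by simp), fun x => ?_⟩
  · rw [mem_centralizer_singleton_iff]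
    have h := hc _ g.2
    generalize c (g.1⁻¹ * t * g.1) = d at h ⊢
    calc g.1 * d⁻¹ * t = g.1 * (d⁻¹ * t * d) * d⁻¹ := by group
      _ = t * (g.1 * d⁻¹) := by rw [h]; group
  · have h := x.2.2
    rw [mem_centralizer_singleton_iff] at h
    have e : (x.2.1 * c x.1.1)⁻¹ * t * (x.2.1 * c x.1.1) = x.1.1 := by
      calc _ = (c x.1.1)⁻¹ * (x.2.1⁻¹ * (t * x.2.1)) * c x.1.1 := by group
        _ = x.1.1 := by rw [← h, inv_mul_cancel_left, hc _ x.1.2]
    rw [e]; exact x.1.2
  · have h := x.2.2
    rw [mem_centralizer_singleton_iff] at h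
    have e : (x.2.1 * c x.1.1)⁻¹ * t * (x.2.1 * c x.1.1) = x.1.1 := by
      calc _ = (c x.1.1)⁻¹ * (x.2.1⁻¹ * (t * x.2.1)) * c x.1.1 := by group
        _ = x.1.1 := by rw [← h, inv_mul_cancel_left, hc _ x.1.2]
    refine Prod.ext (Subtype.ext e) (Subtype.ext ?_)
    simp only [e, mul_inv_cancel_right]

end cosets

end CfsgLib.Small
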