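import Cfsg.Agent.Lib.Small.S6Table
import Cfsg.Agent.Lib.Small.DihedralRecog
import Cfsg.Agent.Lib.FgsC.Basic
import Cfsg.Agent.S0678

/-!
# Groups with an involution centraliser `Z₂ × S₄`
-/

set_option autoImplicit false
set_option linter.style.haveILetI false

open Subgroup Equiv
open scoped commutatorElement

namespace CfsgLib.Small

/-- The first Coxeter generator used as a normal form. -/
def a6Base : Perm (Fin 6) := swap 0 1 * swap 4 5

theorem s4_center : ∀ a : Perm (Fin 4), (∀ b : Perm (Fin 4), a * b = b * a) → a = 1 := by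
  decide +kernel

theorem s4_coxeter : (swap (0 : Fin 4) 1 * swap 1 2) ^ 3 = 1 ∧
    (swap (1 : Fin 4) 2 * swap 2 3) ^ 3 = 1 ∧ swap (0 : Fin 4) 1 * swap 2 3 = swap 2 3 * swap 0 1 ∧
      swap (0 : Fin 4) 1 * swap 0 1 = 1 ∧ swap (1 : Fin 4) 2 * swap 1 2 = 1 ∧
        swap (2 : Fin 4) 3 * swap 2 3 = 1 ∧ swap (1 : Fin 4) 2 ≠ swap 0 1 ∧
          swap (2 : Fin 4) 3 ≠ swap 1 2 ∧ swap (2 : Fin 4) 3 ≠ swap 0 1 := by
  decide +kernel

theorem s4_swaps_top (H : Subgroup (Perm (Fin 4))) (h1 : swap 0 1 ∈ H) (h2 : swap 1 2 ∈ H)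
    (h3 : swap 2 3 ∈ H) : H = ⊤ := by
  rw [eq_top_iff]
  intro x _
  have hle : Submonoid.closure (Set.range fun i : Fin 3 => swap i.castSucc i.succ) ≤ H.toSubmonoid :=
    Submonoid.closure_le.2 (by rintro _ ⟨i, rfl⟩; fin_cases i <;> assumption)
  rw [Equiv.Perm.mclosure_swap_castSucc_succ] at hle
  exact hle trivial

section outer

variable {G : Type*} [Group G] [Finite G]

/-- An extension of `A₆` by an involution centralising a symmetric group of degree four. -/
theorem equiv_perm_six (M : Subgroup G) (hM : M.index = 2) (f : M ≃* alternatingGroup (Fin 6))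
    {t : G} (htM : t ∉ M) (htt : t * t = 1) (ι : Perm (Fin 4) →* M) (hι : Function.Injective ι)
    (hfix : ∀ σ, t * (ι σ : G) = (ι σ : G) * t) (hmove : ∃ m : M, t * (m : G) ≠ (m : G) * t) :
    Nonempty (G ≃* Perm (Fin 6)) := by
  classical
  haveI := normal_of_index_eq_two hM
  have hsplit : ∀ a b : G, a * b ∈ M ↔ (a ∈ M ↔ b ∈ M) := fun a b => mul_mem_iff_of_index_two hM
  have hA6 : 5 ≤ Nat.card (Fin 6) := by simp
  haveI : IsSimpleGroup (alternatingGroup (Fin 6)) := alternatingGroup.isSimpleGroup hA6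
  haveI : IsSimpleGroup M := f.isSimpleGroup
  have h360 : Nat.card M = 360 := by
    rw [Nat.card_congr f.toEquiv, nat_card_alternatingGroup, Nat.card_fin]; rfl
  -- conjugation by `t`
  let α : M →* M := (MulAut.conjNormal t).toMonoidHom
  have hα : ∀ m : M, ((α m : M) : G) = t * m * t⁻¹ := fun m => MulAut.conjNormal_apply t m
  have hαι : ∀ σ, α (ι σ) = ι σ := fun σ => Subtype.ext (by
    rw [hα, hfix, mul_inv_cancel_right])
  -- normalise the embedding
  let h₀ : M →* Perm (Fin 6) := (alternatingGroup (Fin 6)).subtype.comp f.toMonoidHom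
  have h₀inj : Function.Injective h₀ := (subtype_injective _).comp f.injective
  have hs1 : orderOf (h₀ (ι (swap 0 1))) = 2 := by
    rw [orderOf_injective _ h₀inj, orderOf_injective _ hι]
    exact orderOf_eq_prime (by rw [pow_two]; exact s4_coxeter.2.2.2.1) (by decide)
  obtain ⟨n, hn⟩ := Equiv.Perm.cycleType_prime_order (σ := h₀ (ι (swap 0 1)))
    (by rw [hs1]; exact Nat.prime_two)
  rw [hs1] at hn
  have hbase2 : orderOf a6Base = 2 := orderOf_eq_prime (by decide) (by decide)
  obtain ⟨k, hk⟩ := Equiv.Perm.cycleType_prime_order (σ := a6Base) (by rw [hbase2]; exact Nat.prime_two)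
  rw [hbase2] at hk
  have hk1 : k = 1 := by
    have hsum := Equiv.Perm.sum_cycleType a6Base
    rw [hk, Multiset.sum_replicate, smul_eq_mul, show a6Base.support.card = 4 from by decide] at hsum
    omega
  have hn1 : n = 1 := by
    have hsum := Equiv.Perm.sum_cycleType (h₀ (ι (swap 0 1)))
    rw [hn, Multiset.sum_replicate, smul_eq_mul] at hsum
    have hle : (h₀ (ι (swap 0 1))).support.card ≤ 6 := (Finset.card_le_univ _).trans (by simp)
    have hsign : Perm.sign (h₀ (ι (swap 0 1))) = 1 :=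
      Equiv.Perm.mem_alternatingGroup.1 (f (ι (swap 0 1))).2
    rw [Equiv.Perm.sign_of_cycleType, hn, Multiset.sum_replicate, Multiset.card_replicate,
      smul_eq_mul] at hsign
    have : n ≤ 2 := by omega
    interval_cases n <;> first | rfl | (exfalso; revert hsign; decide)
  obtain ⟨g, hg⟩ := isConj_iff.1 (Equiv.Perm.isConj_iff_cycleType_eq.2
    ((hn.trans (by rw [hn1, ← hk1])).trans hk.symm))
  let h : M →* Perm (Fin 6) := (MulAut.conj g).toMonoidHom.comp h₀
  have hinj : Function.Injective h := (MulAut.conj g).injective.comp h₀inj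
  have hsgn : ∀ m, Perm.sign (h m) = 1 := fun m => by
    show Perm.sign (g * h₀ m * g⁻¹) = 1
    rw [map_mul, map_mul, show Perm.sign (h₀ m) = 1 from Equiv.Perm.mem_alternatingGroup.1 (f m).2,
      mul_one, map_inv, mul_inv_cancel]
  have hsur : ∀ σ, Perm.sign σ = 1 → ∃ m, h m = σ := fun σ hσ => by
    obtain ⟨m, hm⟩ := f.surjective ⟨g⁻¹ * σ * g, Equiv.Perm.mem_alternatingGroup.2 (by
      rw [map_mul, map_mul, hσ, mul_one, map_inv, inv_mul_cancel])⟩
    refine ⟨m, ?_⟩
    show g * h₀ m * g⁻¹ = σ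
    rw [show h₀ m = g⁻¹ * σ * g from congrArg Subtype.val hm]
    group
  set s := h.comp ι with hs
  have hsinj : Function.Injective s := hinj.comp hι
  have hs01 : s (swap 0 1) = a6Base := hg
  set b := s (swap 1 2) with hbdef
  set c := s (swap 2 3) with hcdef
  obtain ⟨c1, c2, c3, c4, c5, c6, c7, c8, c9⟩ := s4_coxeter
  have hinv : ∀ σ : Perm (Fin 4), σ * σ = 1 → σ ≠ 1 → s σ ∈ a6Involutions := fun σ h1 h2 =>
    mem_a6Involutions _ (hsgn _) (by rw [← map_mul, h1, map_one])
      (fun e => h2 (hsinj (e.trans (map_one s).symm)))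
  obtain ⟨⟨b', c', τ, w, ns⟩, he, rfl, rfl⟩ := s4Table_complete b (hinv _ c5 (by decide)) c
    (hinv _ c6 (by decide))
    (by show (a6Base * b) ^ 3 = 1; rw [← hs01, hbdef, ← map_mul, ← map_pow, c1, map_one])
    (by rw [hbdef, hcdef, ← map_mul, ← map_pow, c2, map_one])
    (fun e => c7 (hsinj (e.trans hs01.symm)))
    (fun e => c8 (hsinj e))
    (fun e => c9 (hsinj (e.trans hs01.symm)))
    (by show a6Base * c = c * a6Base; rw [← hs01, hcdef, ← map_mul, c3, map_mul])
  obtain ⟨hτs, hττ, hws, hww, hw1, hwτ, hτc, hwrel, hsol⟩ := s4Table_spec _ he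
  dsimp only at hτs hττ hws hww hw1 hwτ hτc hwrel hsol
  have hτinv : τ⁻¹ = τ := inv_eq_of_mul_eq_one_right hττ
  -- `τ` centralises the image of the symmetric group
  have hτι : ∀ σ, τ * s σ = s σ * τ := by
    intro σ
    have htop : ((centralizer ({τ} : Set (Perm (Fin 6)))).comap s) = ⊤ := by
      refine s4_swaps_top _ ?_ ?_ ?_
      · exact mem_centralizer_singleton_iff.2 (by rw [hs01]; exact (hτc a6Base (by simp [a6Base])).symm)
      · exact mem_centralizer_singleton_iff.2 (hτc b (by simp [hbdef])).symm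
      · exact mem_centralizer_singleton_iff.2 (hτc c (by simp [hcdef])).symm
    exact (mem_centralizer_singleton_iff.1
      (htop.ge (mem_top σ) : σ ∈ (centralizer ({τ} : Set (Perm (Fin 6)))).comap s)).symm
  obtain ⟨m₀, hm₀⟩ := hsur w hws
  have hm₀ι : m₀ ∉ ι.range := by
    rintro ⟨σ, rfl⟩
    refine hwτ ?_
    rw [← hm₀]
    show τ * s σ * τ = s σ
    rw [hτι, mul_assoc, hττ, mul_one]
  -- generation
  have hgen : ∀ K : Subgroup M, ι.range ≤ K → m₀ ∈ K → K = ⊤ := by
    intro K hle hm
    by_contra hK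
    have h6 := six_le_index_of_card_360 h360 hK
    have hmul := K.card_mul_index
    rw [h360] at hmul
    have h24 : Nat.card ι.range = 24 := by
      rw [← Nat.card_congr (MonoidHom.ofInjective hι).toEquiv, Nat.card_perm, Nat.card_fin]; rfl
    obtain ⟨j, hj⟩ := card_dvd_of_le hle
    rw [h24] at hj
    have hne : Nat.card K ≠ 24 := fun e =>
      hm₀ι ((eq_of_le_of_card_ge hle (by rw [e, h24])).ge hm)
    rw [hj] at hmul hne
    have hj2 : j ≤ 2 := by
      have : 24 * j * 6 ≤ 24 * j * K.index := Nat.mul_le_mul_left _ h6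
      omega
    interval_cases j <;> omega
  -- the image of the test element
  have hyrel : ∀ p ∈ ([a6Base, b, c, a6Base * c]).zip ns, (h (α m₀) * p.1) ^ p.2 = 1 := by
    intro p hp
    obtain ⟨σ, hσ⟩ : ∃ σ, s σ = p.1 := by
      have := (List.of_mem_zip hp).1
      simp only [List.mem_cons, List.not_mem_nil, or_false] at this
      rcases this with e | e | e | e <;> rw [e]
      exacts [⟨_, hs01⟩, ⟨_, rfl⟩, ⟨_, rfl⟩, ⟨swap 0 1 * swap 2 3, by rw [map_mul, hs01, hcdef]⟩]
    have h1 : (m₀ * ι σ) ^ p.2 = 1 := hinj (by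
      rw [map_pow, map_mul, map_one, hm₀]
      show (w * s σ) ^ p.2 = 1
      rw [hσ]
      exact hwrel p hp)
    have h2 := congrArg (fun m => h (α m)) h1
    simp only [map_pow, map_mul, map_one, hαι] at h2
    rw [← hσ]
    exact h2
  have hy : h (α m₀) ∈ a6Involutions := by
    refine mem_a6Involutions _ (hsgn _) ?_ fun e => ?_
    · rw [← map_mul, ← map_mul, show m₀ * m₀ = 1 from hinj (by rw [map_mul, map_one, hm₀, hww]),
        map_one, map_one]
    · have h1 : α m₀ = 1 := hinj (e.trans (map_one h).symm)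
      have h2 : m₀ = 1 := (MulAut.conjNormal t : MulAut M).injective (h1.trans (map_one _).symm)
      exact hw1 (by rw [← hm₀, h2, map_one])
  have hconj : ∀ m, h (α m) = τ * h m * τ⁻¹ := by
    rcases hsol _ hy hyrel with hyw | hyw
    · exfalso
      obtain ⟨m, hm⟩ := hmove
      have htop : MonoidHom.eqLocus α (MonoidHom.id M) = ⊤ := hgen _
        (by rintro _ ⟨σ, rfl⟩; exact hαι σ) (hinj (hyw.trans hm₀.symm))
      have h1 : α m = m := htop.ge (mem_top m)
      exact hm (mul_inv_eq_iff_eq_mul.1 (by rw [← hα, h1]))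
    · have htop : MonoidHom.eqLocus (h.comp α) ((MulAut.conj τ).toMonoidHom.comp h) = ⊤ := hgen _
        (by
          rintro _ ⟨σ, rfl⟩
          show h (α (ι σ)) = τ * s σ * τ⁻¹
          rw [hαι, hτι, mul_inv_cancel_right]
          rfl)
        (show h (α m₀) = τ * h m₀ * τ⁻¹ by rw [hyw, hm₀, hτinv])
      exact fun m => htop.ge (mem_top m)
  -- extend to `G`
  have hin : ∀ g : G, g ∉ M → g * t ∈ M := fun g hg => (hsplit g t).2 (iff_of_false hg htM)
  let Ψ : G → Perm (Fin 6) := fun g => if hg : g ∈ M then h ⟨g, hg⟩ else h ⟨g * t, hin g hg⟩ * τ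
  have hΨ1 : ∀ m : M, Ψ m = h m := fun m => by simp only [Ψ, dif_pos m.2, Subtype.coe_eta]
  have hΨ2 : ∀ m : M, Ψ (m * t) = h m * τ := fun m => by
    have hn : (m : G) * t ∉ M := fun e => htM (((hsplit _ _).1 e).1 m.2)
    simp only [Ψ, dif_neg hn]
    congr 2
    exact Subtype.ext (show (m : G) * t * t = m by rw [mul_assoc, htt, mul_one])
  have hcover : ∀ g : G, ∃ m : M, g = m ∨ g = m * t := fun g => by
    by_cases hg : g ∈ M
    · exact ⟨⟨g, hg⟩, Or.inl rfl⟩
    · exact ⟨⟨g * t, hin g hg⟩, Or.inr (by rw [mul_assoc, htt, mul_one])⟩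
  have htinv : t⁻¹ = t := inv_eq_of_mul_eq_one_right htt
  have hmul : ∀ x y : G, Ψ (x * y) = Ψ x * Ψ y := by
    intro x y
    obtain ⟨a, rfl | rfl⟩ := hcover x <;> obtain ⟨d, rfl | rfl⟩ := hcover y
    · rw [← Subgroup.coe_mul, hΨ1, hΨ1, hΨ1, map_mul]
    · rw [← mul_assoc, ← Subgroup.coe_mul, hΨ2, hΨ1, hΨ2, map_mul, mul_assoc]
    · have e : (a : G) * t * d = ((a * α d : M) : G) * t := by
        rw [Subgroup.coe_mul, hα]
        group
      rw [e, hΨ2, hΨ2, hΨ1, map_mul, hconj]
      group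
    · have e : (a : G) * t * ((d : G) * t) = ((a * α d : M) : G) := by
        rw [Subgroup.coe_mul, hα, htinv]
        group
      rw [e, hΨ1, hΨ2, hΨ2, map_mul, hconj, hτinv]
      simp only [mul_assoc]
  let Φ : G →* Perm (Fin 6) := MonoidHom.mk' Ψ hmul
  have hΦ : Function.Injective Φ := by
    rw [injective_iff_map_eq_one]
    intro x hx
    obtain ⟨a, rfl | rfl⟩ := hcover x
    · have h1 : h a = 1 := (hΨ1 a).symm.trans hx
      rw [show a = 1 from hinj (h1.trans (map_one h).symm), Subgroup.coe_one]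
    · exfalso
      have h1 := congrArg Perm.sign ((hΨ2 a).symm.trans hx)
      rw [map_mul, hsgn, hτs, one_mul, map_one] at h1
      exact absurd h1 (by decide)
  refine ⟨MulEquiv.ofBijective Φ (Function.Injective.bijective_of_nat_card_le hΦ ?_)⟩
  rw [Nat.card_perm, Nat.card_fin, ← M.card_mul_index, hM, h360]
  rfl

end outer

/-- The dihedral subgroup of `S₄`. -/
def s4Dihedral : DihedralGroup 4 → Perm (Fin 4)
  | .r i => (swap 0 2 * swap 2 1 * swap 1 3) ^ i.val
  | .sr i => swap 0 1 * (swap 0 2 * swap 2 1 * swap 1 3) ^ i.val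

theorem s4Dihedral_mul : ∀ a b : DihedralGroup 4,
    s4Dihedral (a * b) = s4Dihedral a * s4Dihedral b := by decide +kernel

theorem s4Dihedral_inj : ∀ a b : DihedralGroup 4, s4Dihedral a = s4Dihedral b → a = b := by
  decide +kernel

theorem s4Dihedral_surj : ∀ σ : Perm (Fin 4),
    σ * s4Dihedral (.r 2) = s4Dihedral (.r 2) * σ → ∃ d, s4Dihedral d = σ := by
  decide +kernel

/-- As a homomorphism. -/
def s4DihedralHom : DihedralGroup 4 →* Perm (Fin 4) := MonoidHom.mk' s4Dihedral s4Dihedral_mul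

theorem s4Dihedral_invol : ∀ d : DihedralGroup 4, d * d = 1 → d ≠ 1 →
    ∃ σ : Perm (Fin 4), σ * s4Dihedral d * σ⁻¹ = s4Dihedral (.r 2) ∨
      σ * s4Dihedral d * σ⁻¹ = s4Dihedral (.sr 0) := by
  decide +kernel

variable {G : Type*} [Group G] [Finite G]

set_option maxHeartbeats 2000000 in
theorem centralizer_Z2_S4 (t : G) (ht : orderOf t = 2) (T : Sylow 2 G)
    (htc : ∀ s ∈ (T : Subgroup G), s * t = t * s)
    (e : centralizer ({t} : Set G) ≃* Multiplicative (ZMod 2) × Perm (Fin 4))
    (h2 : ∀ S : Sylow 2 G, centralizer ((⁅(S : Subgroup G), (S : Subgroup G)⁆ : Subgroup G) : Set G) =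
      (S : Subgroup G)) :
    (Group.IsSolvable G ∧ centralizer ({t} : Set G) = ⊤) ∨
      (¬ Group.IsSolvable G ∧ Nonempty (G ≃* Perm (Fin 6))) := by
  classical
  set C := centralizer ({t} : Set G) with hCdef
  let φ : Multiplicative (ZMod 2) × Perm (Fin 4) →* G := C.subtype.comp e.symm.toMonoidHom
  have hφinj : Function.Injective φ := (subtype_injective _).comp e.symm.injective
  have hφC : ∀ p, φ p ∈ C := fun p => (e.symm p).2
  have hCφ : ∀ x ∈ C, ∃ p, φ p = x := fun x hx => ⟨e ⟨x, hx⟩, by simp [φ]⟩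
  have hC48 : Nat.card C = 48 := by
    rw [Nat.card_congr e.toEquiv, Nat.card_prod, Nat.card_perm, Nat.card_fin,
      Nat.card_congr Multiplicative.toAdd, Nat.card_zmod]
    rfl
  have htt : t * t = 1 := by rw [← pow_two, ← ht]; exact pow_orderOf_eq_one t
  have ht1 : t ≠ 1 := fun h => by rw [h, orderOf_one] at ht; omega
  have htC : t ∈ C := mem_centralizer_singleton_iff.2 rfl
  -- the position of `t`
  have htφ : φ (Multiplicative.ofAdd 1, 1) = t := by
    obtain ⟨⟨a, σ⟩, hp⟩ := hCφ t htC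
    have hne : (a, σ) ≠ 1 := fun h => ht1 (by rw [← hp, h, map_one])
    have hcomm : ∀ q, (a, σ) * q = q * (a, σ) := fun q => hφinj (by
      rw [map_mul, map_mul, hp]; exact (mem_centralizer_singleton_iff.1 (hφC q)).symm)
    have hσ : σ = 1 := s4_center σ fun τ => congrArg Prod.snd (hcomm (1, τ))
    have key : ∀ a : Multiplicative (ZMod 2), a ≠ 1 → a = Multiplicative.ofAdd 1 := by decide
    rw [← hp, hσ, key a fun h => hne (Prod.ext h hσ)]
  -- the Sylow subgroup
  let Φ : Multiplicative (ZMod 2) × DihedralGroup 4 →* G :=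
    φ.comp ((MonoidHom.id _).prodMap s4DihedralHom)
  have hΦinj : Function.Injective Φ := fun p q hpq => by
    have h1 := hφinj hpq
    exact Prod.ext (congrArg Prod.fst h1 :) (s4Dihedral_inj _ _ (congrArg Prod.snd h1 :))
  have h16 : Nat.card Φ.range = 16 := by
    rw [← Nat.card_congr (MonoidHom.ofInjective hΦinj).toEquiv, Nat.card_prod,
      Nat.card_congr Multiplicative.toAdd, Nat.card_zmod, DihedralGroup.nat_card]
  obtain ⟨T₀, hT₀⟩ : ∃ T₀ : Sylow 2 G, (T₀ : Subgroup G) = Φ.range := by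
    obtain ⟨R, hR⟩ := (IsPGroup.of_card (p := 2) (n := 4) (by rw [h16]; norm_num) :
      IsPGroup 2 Φ.range).exists_le_sylow
    have hTC : (T : Subgroup G) ≤ C := fun s hs => mem_centralizer_singleton_iff.2 (htc s hs)
    obtain ⟨k, hk⟩ := T.2.exists_card_eq
    have hdvd := card_dvd_of_le hTC
    rw [hk, hC48] at hdvd
    have hk4 : k ≤ 4 := by
      by_contra hlt
      push Not at hlt
      have := (pow_dvd_pow 2 hlt).trans hdvd
      norm_num at this
    refine ⟨R, (eq_of_le_of_card_ge hR ?_).symm⟩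
    rw [h16, R.card_eq_multiplicity, ← T.card_eq_multiplicity, hk]
    exact le_trans (Nat.pow_le_pow_right (by norm_num) hk4) (by norm_num)
  have hT₀card : Nat.card (T₀ : Subgroup G) = 16 := by rw [hT₀, h16]
  set z := Φ (1, .r 2) with hz
  set zc : G := Φ (1, .sr 0) with hzc
  -- the derived subgroup
  set D' := ⁅(T₀ : Subgroup G), (T₀ : Subgroup G)⁆ with hD'
  have hD'le : D' ≤ zpowers z := by
    rw [hD', hT₀, Subgroup.commutator_le]
    rintro _ ⟨p, rfl⟩ _ ⟨q, rfl⟩
    have key : ∀ p q : Multiplicative (ZMod 2) × DihedralGroup 4,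
        p * q * p⁻¹ * q⁻¹ = 1 ∨ p * q * p⁻¹ * q⁻¹ = (1, .r 2) := by decide +kernel
    rw [← map_commutatorElement]
    rcases key p q with h | h
    · rw [commutatorElement_def, h, map_one]; exact one_mem _
    · rw [commutatorElement_def, h]; exact mem_zpowers z
  have hzD' : z ∈ D' := by
    have key : ((1, .r 1) : Multiplicative (ZMod 2) × DihedralGroup 4) * (1, .sr 0) *
        (1, .r 1)⁻¹ * (1, .sr 0)⁻¹ = (1, .r 2) := by decide
    rw [hz, ← key, ← commutatorElement_def, map_commutatorElement, hD']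
    exact Subgroup.commutator_mem_commutator (hT₀ ▸ ⟨_, rfl⟩) (hT₀ ▸ ⟨_, rfl⟩)
  have hzcentral : ∀ p, Φ p * z = z * Φ p := fun p => by
    have key : ∀ p : Multiplicative (ZMod 2) × DihedralGroup 4, p * (1, .r 2) = (1, .r 2) * p := by
      decide +kernel
    rw [hz, ← map_mul, ← map_mul, key]
  have hCz : centralizer ({z} : Set G) = (T₀ : Subgroup G) := by
    refine le_antisymm ?_ fun x hx => ?_
    · rw [← h2 T₀]
      intro x hx
      refine mem_centralizer_iff.2 fun y hy => ?_
      obtain ⟨i, rfl⟩ := mem_zpowers_iff.1 (hD'le hy)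
      exact ((Commute.zpow_right (show Commute x z from mem_centralizer_singleton_iff.1 hx) i).eq).symm
    · rw [hT₀] at hx
      obtain ⟨p, rfl⟩ := hx
      exact mem_centralizer_singleton_iff.2 (hzcentral p)
  have hz2 : z * z = 1 := by
    rw [hz, ← map_mul, show ((1, .r 2) : Multiplicative (ZMod 2) × DihedralGroup 4) * (1, .r 2) = 1
      by decide, map_one]
  have hz1 : z ≠ 1 := fun h => absurd (hΦinj (h.trans (map_one Φ).symm)) (by decide)
  -- central elements of the Sylow subgroup are not fused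
  have hnofuse : ∀ p q : G, (∀ s ∈ (T₀ : Subgroup G), s * p = p * s) →
      (∀ s ∈ (T₀ : Subgroup G), s * q = q * s) → IsConj p q → p = q := by
    intro p q hp hq hpq
    obtain ⟨g, hg⟩ := isConj_iff.1 hpq
    obtain ⟨n, hn, hn'⟩ := T₀.conj_eq_normalizer_conj_of_mem_centralizer p g⁻¹
      (mem_centralizer_iff.2 fun s hs => hp s hs)
      (mem_centralizer_iff.2 fun s hs => by rw [inv_inv, hg]; exact hq s hs)
    rw [inv_inv, hg] at hn'
    have hnz : n * z * n⁻¹ = z := by
      have hmem : n * z * n⁻¹ ∈ D' := by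
        have h1 : (T₀ : Subgroup G).map (MulAut.conj n).toMonoidHom = (T₀ : Subgroup G) := by
          ext x
          constructor
          · rintro ⟨y, hy, rfl⟩; exact (mem_normalizer_iff.1 hn y).1 hy
          · intro hx
            refine ⟨n⁻¹ * x * n, ?_, by simp [mul_assoc]⟩
            refine (mem_normalizer_iff.1 hn _).2 ?_
            rw [show n * (n⁻¹ * x * n) * n⁻¹ = x by group]
            exact hx
        have h2' : D'.map (MulAut.conj n).toMonoidHom = D' := by
          rw [hD', Subgroup.map_commutator, h1]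
        rw [← h2']
        exact ⟨z, hzD', rfl⟩
      obtain ⟨i, hi⟩ := mem_zpowers_iff.1 (hD'le hmem)
      rcases Int.even_or_odd i with ⟨j, rfl⟩ | ⟨j, rfl⟩
      · exfalso
        rw [← two_mul, zpow_mul, zpow_two, hz2, one_zpow] at hi
        exact hz1 (conj_eq_one_iff.1 hi.symm)
      · rw [← hi, zpow_add, zpow_mul, zpow_two, hz2, one_zpow, one_mul, zpow_one]
    have hnT : n ∈ (T₀ : Subgroup G) :=
      hCz ▸ mem_centralizer_singleton_iff.2 (mul_inv_eq_iff_eq_mul.1 hnz)
    rw [hn', mul_assoc, ← hp n hnT, inv_mul_cancel_left]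
  have hT₀c : ∀ d : Multiplicative (ZMod 2) × DihedralGroup 4,
      (∀ p, p * d = d * p) → ∀ s ∈ (T₀ : Subgroup G), s * Φ d = Φ d * s := fun d hd s hs => by
    rw [hT₀] at hs
    obtain ⟨p, rfl⟩ := hs
    rw [← map_mul, ← map_mul, hd]
  have hcz : ∀ p : Multiplicative (ZMod 2) × DihedralGroup 4,
      p * (Multiplicative.ofAdd 1, 1) = (Multiplicative.ofAdd 1, 1) * p ∧
      p * (1, .r 2) = (1, .r 2) * p ∧
      p * (Multiplicative.ofAdd 1, .r 2) = (Multiplicative.ofAdd 1, .r 2) * p := by decide +kernel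
  have htΦ : t = Φ (Multiplicative.ofAdd 1, 1) := htφ.symm.trans (congrArg φ (Prod.ext rfl (map_one s4DihedralHom).symm))
  set u₀ := Φ (Multiplicative.ofAdd 1, .r 2) with hu₀
  have htu₀ : ¬ IsConj t u₀ := fun h => by
    have h1 := hnofuse t u₀ (htΦ ▸ hT₀c _ fun p => (hcz p).1) (hT₀c _ fun p => (hcz p).2.2) h
    rw [htΦ, hu₀] at h1
    exact absurd (hΦinj h1) (by decide)
  have hzt : ¬ IsConj t z ∧ ¬ IsConj u₀ z := by
    constructor <;> intro h
    · have h1 := hnofuse t z (htΦ ▸ hT₀c _ fun p => (hcz p).1) (hT₀c _ fun p => (hcz p).2.1) h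
      rw [htΦ, hz] at h1
      exact absurd (hΦinj h1) (by decide)
    · have h1 := hnofuse u₀ z (hT₀c _ fun p => (hcz p).2.2) (hT₀c _ fun p => (hcz p).2.1) h
      rw [hu₀, hz] at h1
      exact absurd (hΦinj h1) (by decide)
  -- choose an involution missing a complement
  obtain ⟨d₁, hd₁, hd₁z, hd₁c⟩ : ∃ d₁ : DihedralGroup 4, (d₁ = 1 ∨ d₁ = .r 2) ∧
      ¬ IsConj (Φ (Multiplicative.ofAdd 1, d₁)) z ∧ ¬ IsConj (Φ (Multiplicative.ofAdd 1, d₁)) zc := by
    by_cases h : IsConj t zc
    · exact ⟨_, Or.inr rfl, hzt.2, fun h' => htu₀ (h.trans h'.symm)⟩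
    · exact ⟨_, Or.inl rfl, htΦ ▸ hzt.1, htΦ ▸ h⟩
  set u := Φ (Multiplicative.ofAdd 1, d₁) with hu
  have hu2 : orderOf u = 2 := by
    refine orderOf_eq_prime ?_ fun h => (show (Multiplicative.ofAdd 1 : Multiplicative (ZMod 2)) ≠ 1 by decide)
      (congrArg Prod.fst (hΦinj (h.trans (map_one Φ).symm)) :)
    rw [pow_two, hu, ← map_mul]
    rcases hd₁ with rfl | rfl
    · rw [show ((Multiplicative.ofAdd 1, 1) : Multiplicative (ZMod 2) × DihedralGroup 4) *
        (Multiplicative.ofAdd 1, 1) = 1 by decide, map_one]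
    · rw [show ((Multiplicative.ofAdd 1, .r 2) : Multiplicative (ZMod 2) × DihedralGroup 4) *
        (Multiplicative.ofAdd 1, .r 2) = 1 by decide, map_one]
  let Q : Subgroup G := (Φ.comp (MonoidHom.inr _ _)).range
  have hQT : Q ≤ (T₀ : Subgroup G) := by
    rw [hT₀]; rintro _ ⟨d, rfl⟩; exact ⟨_, rfl⟩
  obtain ⟨M, hMn, hM, huM⟩ := Transfer.exists_index_two_of_not_conj_mem T₀ hQT (by
    have h1 := (Q.subgroupOf (T₀ : Subgroup G)).card_mul_index
    have hQ8 : Nat.card Q = 8 := by
      rw [← Nat.card_congr (MonoidHom.ofInjective (f := Φ.comp (MonoidHom.inr _ _))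
        (fun a b hab => congrArg Prod.snd (hΦinj hab))).toEquiv, DihedralGroup.nat_card]
    rw [Nat.card_congr (subgroupOfEquivOfLe hQT).toEquiv, hQ8, hT₀card] at h1
    rw [relIndex]
    omega) hu2 (fun g hg => by
      obtain ⟨d, hd⟩ := hg
      have hd' : Φ (1, d) = g * u * g⁻¹ := hd
      have ho : orderOf (g * u * g⁻¹) = 2 := by
        rw [← MulAut.conj_apply, MulEquiv.orderOf_eq, hu2]
      have hdd : d * d = 1 := by
        have h1 : Φ ((1, d) * (1, d)) = Φ 1 := by
          rw [map_mul, hd', map_one, ← pow_two, ← ho, pow_orderOf_eq_one]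
        exact congrArg Prod.snd (hΦinj h1)
      have hd1 : d ≠ 1 := fun h => by
        rw [← hd', h, show ((1, 1) : Multiplicative (ZMod 2) × DihedralGroup 4) = 1 from rfl,
          map_one, orderOf_one] at ho
        omega
      obtain ⟨σ, hσ⟩ := s4Dihedral_invol d hdd hd1
      have hconj : ∀ d', σ * s4Dihedral d * σ⁻¹ = s4Dihedral d' → IsConj u (Φ (1, d')) := fun d' h' => by
        refine (isConj_iff.2 ⟨g, hd'.symm⟩ : IsConj u (Φ (1, d))).trans (isConj_iff.2 ⟨φ (1, σ), ?_⟩)
        show φ (1, σ) * φ (1, s4Dihedral d) * (φ (1, σ))⁻¹ = φ (1, s4Dihedral d')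
        rw [← map_mul, ← map_inv, ← map_mul, Prod.inv_mk, Prod.mk_mul_mk, Prod.mk_mul_mk, h',
          inv_one, mul_one, mul_one]
      rcases hσ with h | h
      · exact hd₁z (hconj _ h)
      · exact hd₁c (hconj _ h))
  haveI := hMn
  have hsplit : ∀ a b : G, a * b ∈ M ↔ (a ∈ M ↔ b ∈ M) := fun a b => mul_mem_iff_of_index_two hM
  have hinvM : ∀ a : G, a⁻¹ ∈ M ↔ a ∈ M := fun a => inv_mem_iff
  have hzM : z ∈ M := by
    have key : ((1, .r 1) : Multiplicative (ZMod 2) × DihedralGroup 4) * (1, .sr 0) *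
        (1, .r 1)⁻¹ * (1, .sr 0)⁻¹ = (1, .r 2) := by decide
    rw [hz, ← key]
    simp only [map_mul, map_inv, hsplit, hinvM]
    tauto
  have htM : t ∉ M := fun h => huM (by
    rw [hu]
    rcases hd₁ with rfl | rfl
    · exact htΦ ▸ h
    · rw [show ((Multiplicative.ofAdd 1, .r 2) : Multiplicative (ZMod 2) × DihedralGroup 4) =
        (Multiplicative.ofAdd 1, 1) * (1, .r 2) by decide, map_mul, ← htΦ, ← hz]
      exact M.mul_mem h hzM)
  -- the symmetric group inside `M`
  let μ : G →* Multiplicative (ZMod 2) := MonoidHom.mk'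
    (fun g => if g ∈ M then 1 else Multiplicative.ofAdd 1) (fun a b => by
      by_cases ha : a ∈ M <;> by_cases hb : b ∈ M <;> simp [hsplit, ha, hb] <;> decide)
  have hμ : ∀ g, μ g = 1 ↔ g ∈ M := fun g => by
    show (if g ∈ M then (1 : Multiplicative (ZMod 2)) else Multiplicative.ofAdd 1) = 1 ↔ g ∈ M
    split_ifs with h <;> simp [h] <;> decide
  have hμφ : ∀ a σ, μ (φ (a, σ)) = a * μ (φ (1, σ)) := by
    intro a σ
    rw [show (a, σ) = (a, 1) * (1, σ) by simp, map_mul, map_mul]
    congr 1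
    · have key : ∀ a : Multiplicative (ZMod 2), a = 1 ∨ a = Multiplicative.ofAdd 1 := by decide
      rcases key a with rfl | rfl
      · rw [show ((1, 1) : Multiplicative (ZMod 2) × Perm (Fin 4)) = 1 from rfl, map_one, map_one]
      · rw [htφ]
        show (if t ∈ M then (1 : Multiplicative (ZMod 2)) else Multiplicative.ofAdd 1) = _
        rw [if_neg htM]
  let ι₀ : Perm (Fin 4) →* G :=
    φ.comp (((μ.comp (φ.comp (MonoidHom.inr _ _))).prod (MonoidHom.id _)))
  have hι₀ : ∀ σ, ι₀ σ ∈ M := fun σ => by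
    rw [← hμ]
    show μ (φ (μ (φ (1, σ)), σ)) = 1
    rw [hμφ]
    have key : ∀ a : Multiplicative (ZMod 2), a * a = 1 := by decide
    exact key _
  let ι : Perm (Fin 4) →* M := ι₀.codRestrict M hι₀
  have hι : Function.Injective ι := fun a b hab => (congrArg Prod.snd (hφinj (congrArg Subtype.val hab :) :) :)
  have hfix : ∀ σ, t * (ι σ : G) = (ι σ : G) * t := fun σ =>
    (mem_centralizer_singleton_iff.1 (hφC _)).symm
  have hsurj : ∀ m : M, t * (m : G) = (m : G) * t → ∃ σ, ι σ = m := by
    intro m hm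
    obtain ⟨⟨a, σ⟩, hp⟩ := hCφ m (mem_centralizer_singleton_iff.2 hm.symm)
    refine ⟨σ, Subtype.ext ?_⟩
    show φ (μ (φ (1, σ)), σ) = m
    rw [← hp]
    congr 2
    have h1 : μ (φ (a, σ)) = 1 := (hμ _).2 (hp ▸ m.2)
    rw [hμφ] at h1
    have key : ∀ a b : Multiplicative (ZMod 2), a * b = 1 → b = a := by decide
    exact key _ _ h1
  -- the centraliser of `z` in `M`
  have hιz : ι (s4Dihedral (.r 2)) = ⟨z, hzM⟩ := by
    refine Subtype.ext ?_
    show φ (μ (φ (1, s4Dihedral (.r 2))), s4Dihedral (.r 2)) = z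
    have h1 : μ (φ (1, s4Dihedral (.r 2))) = 1 := (hμ _).2 hzM
    rw [h1]
    rfl
  let β : DihedralGroup 4 →* centralizer ({(⟨z, hzM⟩ : M)} : Set M) :=
    (ι.comp s4DihedralHom).codRestrict _ fun d => mem_centralizer_singleton_iff.2 (by
      rw [← hιz]
      show ι (s4DihedralHom d) * ι (s4DihedralHom (.r 2)) = ι (s4DihedralHom (.r 2)) * ι (s4DihedralHom d)
      rw [← map_mul, ← map_mul, ← map_mul, ← map_mul]
      congr 2
      revert d
      decide)
  have hβ : Function.Bijective β := by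
    refine ⟨fun a b hab => s4Dihedral_inj a b (hι (congrArg Subtype.val hab)), fun ⟨m, hm⟩ => ?_⟩
    have hmz : (m : G) * z = z * m := congrArg Subtype.val (mem_centralizer_singleton_iff.1 hm)
    have hmT : (m : G) ∈ (T₀ : Subgroup G) := hCz ▸ mem_centralizer_singleton_iff.2 hmz
    rw [hT₀] at hmT
    obtain ⟨⟨a, d⟩, hd⟩ := hmT
    obtain ⟨σ, rfl⟩ := hsurj m (by rw [← hd]; exact (mem_centralizer_singleton_iff.1 (hφC _)).symm)
    have h1 : σ * s4Dihedral (.r 2) = s4Dihedral (.r 2) * σ := hι (by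
      rw [map_mul, map_mul, hιz]; exact Subtype.ext hmz)
    obtain ⟨d', rfl⟩ := s4Dihedral_surj σ h1
    exact ⟨d', rfl⟩
  let eM := (MulEquiv.ofBijective β hβ).symm
  have hzo : orderOf (⟨z, hzM⟩ : M) = 2 := by
    rw [Subgroup.orderOf_mk]
    exact orderOf_eq_prime (by rw [pow_two, hz2]) hz1
  have h24 : Nat.card (Perm (Fin 4)) = 24 := by rw [Nat.card_perm, Nat.card_fin]; rfl
  -- kernels of the action on the cosets of the centraliser
  have hker : C ≠ ⊤ → (∀ N : Subgroup M, N.Normal → N ≤ ι.range → N = ⊥) →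
      Function.Injective (MulAction.toPermHom G (G ⧸ C)) := by
    intro hCtop hN
    rw [← MonoidHom.ker_eq_bot_iff, ← normalCore_eq_ker, eq_bot_iff]
    have hKM : C.normalCore ⊓ M = ⊥ := by
      have := hN ((C.normalCore).subgroupOf M) inferInstance (fun m hm => by
        obtain ⟨σ, rfl⟩ := hsurj m (mem_centralizer_singleton_iff.1 (C.normalCore_le hm)).symm
        exact ⟨σ, rfl⟩)
      rwa [subgroupOf_eq_bot, disjoint_iff] at this
    intro k hk
    rw [Subgroup.mem_bot]
    by_cases hkM : k ∈ M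
    · exact Subgroup.mem_bot.1 (hKM ▸ ⟨hk, hkM⟩)
    exfalso
    -- `k` is central
    have hkc : ∀ g : G, g * k = k * g := by
      intro g
      have h1 : g * k * g⁻¹ * k⁻¹ ∈ C.normalCore ⊓ M := by
        refine ⟨C.normalCore.mul_mem ((inferInstance : C.normalCore.Normal).conj_mem k hk g) (C.normalCore.inv_mem hk), ?_⟩
        show g * k * g⁻¹ * k⁻¹ ∈ M
        simp only [hsplit, hinvM]
        tauto
      rw [hKM, Subgroup.mem_bot, mul_inv_eq_one, mul_inv_eq_iff_eq_mul] at h1
      exact h1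
    have hm : k * t ∈ M := (hsplit _ _).2 (iff_of_false hkM htM)
    have hmt : t * (k * t) = k * t * t := by
      rw [← mul_assoc, hkc t]
    obtain ⟨σ, hσ⟩ := hsurj ⟨k * t, hm⟩ hmt
    have hσ1 : σ = 1 := s4_center σ fun τ => hι (Subtype.ext (by
      rw [map_mul, map_mul, Subgroup.coe_mul, Subgroup.coe_mul, hσ]
      show k * t * (ι τ : G) = (ι τ : G) * (k * t)
      rw [mul_assoc, hfix, ← mul_assoc, ← hkc, mul_assoc]))
    rw [hσ1, map_one] at hσ
    have hkt : k = t := by
      have h1 : k * t = 1 := (congrArg Subtype.val hσ).symm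
      exact (eq_inv_of_mul_eq_one_left h1).trans (inv_eq_of_mul_eq_one_right htt)
    refine hCtop (eq_top_iff.2 fun g _ => mem_centralizer_singleton_iff.2 ?_)
    exact hkt ▸ hkc g
  have hcardG : ∀ m, Nat.card M = m → Nat.card G = m * 2 := fun m hm => by
    rw [← M.card_mul_index, hM, hm]
  have hCidx : C.index * 48 = Nat.card G := by rw [← hC48, mul_comm, C.card_mul_index]
  by_cases hCtop : C = ⊤
  · left
    refine ⟨?_, hCtop⟩
    haveI := CfsgLib.FgsC.isSolvable_perm_fin_four
    have e' : G ≃* Multiplicative (ZMod 2) × Perm (Fin 4) :=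
      (topEquiv.symm.trans (MulEquiv.subgroupCongr hCtop.symm)).trans e
    exact Group.isSolvable_of_isSolvable_injective (f := e'.toMonoidHom) e'.injective
  right
  have hbig : ∀ m, Nat.card M = m → m = 24 → False := fun m hm h => by
    have h1 : C = ⊤ := eq_top_of_card_eq _ (by rw [hC48, hcardG m hm, h])
    exact hCtop h1
  by_cases hidx : ∃ L : Subgroup M, L.index = 2
  · exfalso
    obtain ⟨L, hL⟩ := hidx
    rcases recognition_of_index_two (⟨z, hzM⟩ : M) hzo eM hL with h | ⟨⟨f⟩⟩ | ⟨⟨f⟩⟩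
    · -- elements of order three would lie in the odd core
      set O := Cfsg.oddCore M with hO
      have h8 : ∀ m : M, m ^ 8 ∈ O := by
        intro m
        have hm : m ∈ centralizer ({(⟨z, hzM⟩ : M)} : Set M) ⊔ O := h ▸ mem_top m
        rw [← SetLike.mem_coe, Subgroup.mul_normal, Set.mem_mul] at hm
        obtain ⟨c, hc, o, ho, rfl⟩ := hm
        rw [← QuotientGroup.eq_one_iff, QuotientGroup.mk_pow, QuotientGroup.mk_mul,
          (QuotientGroup.eq_one_iff o).2 ho, mul_one, ← QuotientGroup.mk_pow]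
        have := pow_card_eq_one' (x := (⟨c, hc⟩ : centralizer ({(⟨z, hzM⟩ : M)} : Set M)))
        rw [Nat.card_congr eM.toEquiv, DihedralGroup.nat_card] at this
        rw [show c ^ 8 = 1 from congrArg Subtype.val this]
        rfl
      have h3 : ∀ σ : Perm (Fin 4), σ ^ 3 = 1 → ι σ ∈ O := by
        intro σ hσ
        have e8 : (σ ^ 8) ^ 2 = σ := by
          rw [← pow_mul, show 8 * 2 = 3 * 5 + 1 from rfl, pow_succ, pow_mul, hσ, one_pow, one_mul]
        rw [← e8, map_pow, map_pow]
        exact pow_mem (h8 _) 2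
      have h22 : ι (swap 0 1 * swap 2 3) ∈ O := by
        have key : swap (0 : Fin 4) 1 * swap 2 3 = (swap 0 1 * swap 1 2) * (swap 1 2 * swap 2 3) := by
          decide
        rw [key, map_mul]
        exact O.mul_mem (h3 _ s4_coxeter.1) (h3 _ s4_coxeter.2.1)
      have ho : orderOf (ι (swap (0 : Fin 4) 1 * swap 2 3)) = 2 := by
        rw [orderOf_injective _ hι]
        exact orderOf_eq_prime (by decide) (by decide)
      have hd : orderOf (⟨_, h22⟩ : O) ∣ Nat.card O := _root_.orderOf_dvd_natCard _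
      rw [Subgroup.orderOf_mk, ho] at hd
      have := CfsgLib.Base.odd_card_oddCore M
      exact (Nat.not_even_iff_odd.2 this) (even_iff_two_dvd.2 hd)
    · exact hbig _ rfl (by rw [Nat.card_congr f.toEquiv, h24])
    · have h120 : Nat.card M = 120 := by
        rw [Nat.card_congr f.toEquiv, Nat.card_perm, Nat.card_fin]; rfl
      have hinj := hker hCtop (fun N hN hle => by
        -- a small normal subgroup of the symmetric group of degree five is trivial
        haveI := hN
        have h24' := Nat.le_of_dvd Nat.card_pos (card_dvd_of_le hle)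
        rw [← Nat.card_congr (MonoidHom.ofInjective hι).toEquiv, h24] at h24'
        by_contra hne
        haveI : (N.map f.toMonoidHom).Normal := hN.map f.toMonoidHom f.surjective
        have hA5 : alternatingGroup (Fin 5) ≤ N.map f.toMonoidHom :=
          Equiv.Perm.alternatingGroup_le_of_normal (by simp) ((nontrivial_iff_ne_bot _).2 fun e => hne
            ((map_eq_bot_iff_of_injective _ (f := f.toMonoidHom) f.injective).1 e))
        have h60 := Nat.le_of_dvd Nat.card_pos (card_dvd_of_le hA5)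
        rw [card_map_of_injective f.injective, nat_card_alternatingGroup, Nat.card_fin] at h60
        have : (Nat.factorial 5) / 2 = 60 := rfl
        omega)
      have hidx5 : C.index = 5 := by
        have := hcardG 120 h120
        omega
      have h1 := Nat.card_le_card_of_injective _ hinj
      rw [Nat.card_perm, ← index_eq_card, hidx5, hcardG 120 h120] at h1
      norm_num [Nat.factorial] at h1
  · push Not at hidx
    obtain ⟨h168 | h360, hsimp⟩ := simple_of_no_index_two (⟨z, hzM⟩ : M) hzo eM hidx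
    · exfalso
      haveI := hsimp
      have hidx7 : C.index = 7 := by
        have := hcardG 168 h168
        omega
      have hinj := hker hCtop (fun N hN hle => by
        rcases hN.eq_bot_or_eq_top with h | h
        · exact h
        · exfalso
          subst h
          have h1 := Nat.le_of_dvd Nat.card_pos (card_dvd_of_le hle)
          rw [card_top, ← Nat.card_congr (MonoidHom.ofInjective hι).toEquiv, h168, h24] at h1
          omega)
      haveI : Fintype (G ⧸ C) := Fintype.ofFinite _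
      set R := (MulAction.toPermHom G (G ⧸ C)).range with hR
      haveI : MulAction.IsPretransitive R (G ⧸ C) := ⟨fun a b => by
        obtain ⟨g, hg⟩ := MulAction.exists_smul_eq G a b
        exact ⟨⟨_, g, rfl⟩, hg⟩⟩
      have hRcard : Nat.card R = 336 := by
        rw [← Nat.card_congr (MonoidHom.ofInjective hinj).toEquiv, hcardG 168 h168]
      have hns : ¬ Group.IsSolvable R := by
        intro hs
        let f : M →* R := (MulAction.toPermHom G (G ⧸ C)).rangeRestrict.comp M.subtype
        have hf : Function.Injective f := fun a b hab =>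
          Subtype.ext (hinj (congrArg Subtype.val hab))
        haveI : Group.IsSolvable M := Group.isSolvable_of_isSolvable_injective (f := f) hf
        exact not_isMulCommutative_of_card (by rw [h168]; norm_num)
          ⟨⟨IsSimpleGroup.comm_iff_isSolvable.2 inferInstance⟩⟩
      have h7 : Fintype.card (G ⧸ C) = 7 := by rw [← Nat.card_eq_fintype_card, ← index_eq_card, hidx7]
      have hA : ¬ alternatingGroup (G ⧸ C) ≤ R := fun hle => by
        haveI : Nontrivial (G ⧸ C) := Fintype.one_lt_card_iff_nontrivial.1 (by rw [h7]; norm_num)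
        have h1 := Nat.le_of_dvd Nat.card_pos (card_dvd_of_le hle)
        rw [hRcard, nat_card_alternatingGroup, Nat.card_eq_fintype_card, h7] at h1
        norm_num [Nat.factorial] at h1
      have := (Cfsg.Agent.S0678.result h7 R hns hA).1
      omega
    · haveI := hsimp
      obtain ⟨f⟩ := equiv_alternating_six h360
      refine ⟨fun hsol => ?_, equiv_perm_six M hM f htM htt ι hι hfix ?_⟩
      · haveI := hsol
        haveI : Group.IsSolvable M := Group.isSolvable_of_isSolvable_injective (f := M.subtype) M.subtype_injective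
        exact not_isMulCommutative_of_card (by rw [h360]; norm_num)
          ⟨⟨IsSimpleGroup.comm_iff_isSolvable.2 inferInstance⟩⟩
      · by_contra hno
        push Not at hno
        refine hbig 24 ?_ rfl
        have hsur : Function.Surjective ι := fun m => hsurj m (hno m)
        rw [← h24, Nat.card_eq_of_bijective ι ⟨hι, hsur⟩]

end CfsgLib.Small
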