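import Mathlib

/-!
# Outer elements centralising a symmetric group of degree four inside `A₆`
-/

set_option autoImplicit false

open Equiv

namespace CfsgLib.Small

/-- The involutions of `A₆`. -/
def a6Involutions : List (Perm (Fin 6)) :=
  [swap 2 3 * swap 4 5,
   swap 2 4 * swap 3 5,
   swap 2 5 * swap 3 4,
   swap 1 2 * swap 4 5,
   swap 1 2 * swap 3 4,
   swap 1 2 * swap 3 5,
   swap 1 3 * swap 4 5,
   swap 1 3 * swap 2 4,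
   swap 1 3 * swap 2 5,
   swap 1 4 * swap 3 5,
   swap 1 4 * swap 2 3,
   swap 1 4 * swap 2 5,
   swap 1 5 * swap 3 4,
   swap 1 5 * swap 2 3,
   swap 1 5 * swap 2 4,
   swap 0 1 * swap 4 5,
   swap 0 1 * swap 3 4,
   swap 0 1 * swap 3 5,
   swap 0 1 * swap 2 3,
   swap 0 1 * swap 2 4,
   swap 0 1 * swap 2 5,
   swap 0 2 * swap 4 5,
   swap 0 2 * swap 3 4,
   swap 0 2 * swap 3 5,
   swap 0 2 * swap 1 3,
   swap 0 2 * swap 1 4,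
   swap 0 2 * swap 1 5,
   swap 0 3 * swap 4 5,
   swap 0 3 * swap 2 4,
   swap 0 3 * swap 2 5,
   swap 0 3 * swap 1 2,
   swap 0 3 * swap 1 4,
   swap 0 3 * swap 1 5,
   swap 0 4 * swap 3 5,
   swap 0 4 * swap 2 3,
   swap 0 4 * swap 2 5,
   swap 0 4 * swap 1 2,
   swap 0 4 * swap 1 3,
   swap 0 4 * swap 1 5,
   swap 0 5 * swap 3 4,
   swap 0 5 * swap 2 3,
   swap 0 5 * swap 2 4,
   swap 0 5 * swap 1 2,
   swap 0 5 * swap 1 3,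
   swap 0 5 * swap 1 4]

/-- The triples `(b, c)` completing `(01)(45)` to Coxeter generators, an odd involution centralising them, and a test element with the exponents of its products. -/
def s4Table : List (Perm (Fin 6) × Perm (Fin 6) × Perm (Fin 6) × Perm (Fin 6) × List ℕ) :=
  [(swap 1 2 * swap 4 5, swap 2 3 * swap 4 5, swap 4 5, swap 2 4 * swap 3 5, [4, 5, 2, 4]),
   (swap 1 2 * swap 3 4, swap 0 4 * swap 1 5, swap 0 5 * swap 1 4 * swap 2 3, swap 2 3 * swap 4 5, [2, 5, 4, 4]),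
   (swap 1 2 * swap 3 5, swap 0 5 * swap 1 4, swap 0 4 * swap 1 5 * swap 2 3, swap 2 3 * swap 4 5, [2, 5, 4, 4]),
   (swap 1 3 * swap 4 5, swap 2 3 * swap 4 5, swap 4 5, swap 2 4 * swap 3 5, [4, 5, 2, 4]),
   (swap 1 3 * swap 2 4, swap 0 4 * swap 1 5, swap 0 5 * swap 1 4 * swap 2 3, swap 2 3 * swap 4 5, [2, 5, 4, 4]),
   (swap 1 3 * swap 2 5, swap 0 5 * swap 1 4, swap 0 4 * swap 1 5 * swap 2 3, swap 2 3 * swap 4 5, [2, 5, 4, 4]),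
   (swap 0 1 * swap 3 4, swap 0 1 * swap 2 3, swap 0 1, swap 1 2 * swap 4 5, [3, 3, 4, 3]),
   (swap 0 1 * swap 3 5, swap 0 1 * swap 2 3, swap 0 1, swap 1 2 * swap 4 5, [3, 3, 4, 3]),
   (swap 0 1 * swap 2 4, swap 0 1 * swap 2 3, swap 0 1, swap 1 2 * swap 4 5, [3, 5, 4, 3]),
   (swap 0 1 * swap 2 5, swap 0 1 * swap 2 3, swap 0 1, swap 1 2 * swap 4 5, [3, 5, 4, 3]),
   (swap 0 2 * swap 4 5, swap 2 3 * swap 4 5, swap 4 5, swap 2 4 * swap 3 5, [4, 5, 2, 4]),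
   (swap 0 2 * swap 3 4, swap 0 5 * swap 1 4, swap 0 4 * swap 1 5 * swap 2 3, swap 2 3 * swap 4 5, [2, 5, 4, 4]),
   (swap 0 2 * swap 3 5, swap 0 4 * swap 1 5, swap 0 5 * swap 1 4 * swap 2 3, swap 2 3 * swap 4 5, [2, 5, 4, 4]),
   (swap 0 3 * swap 4 5, swap 2 3 * swap 4 5, swap 4 5, swap 2 4 * swap 3 5, [4, 5, 2, 4]),
   (swap 0 3 * swap 2 4, swap 0 5 * swap 1 4, swap 0 4 * swap 1 5 * swap 2 3, swap 2 3 * swap 4 5, [2, 5, 4, 4]),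
   (swap 0 3 * swap 2 5, swap 0 4 * swap 1 5, swap 0 5 * swap 1 4 * swap 2 3, swap 2 3 * swap 4 5, [2, 5, 4, 4])]

theorem mem_a6Involutions' : ∀ σ : Perm (Fin 6), σ * σ = 1 →
    Perm.sign σ = -1 ∨ σ = 1 ∨ σ ∈ a6Involutions := by decide +kernel

theorem mem_a6Involutions (σ : Perm (Fin 6)) (h1 : Perm.sign σ = 1) (h2 : σ * σ = 1) (h3 : σ ≠ 1) :
    σ ∈ a6Involutions := by
  rcases mem_a6Involutions' σ h2 with h | h | h
  · rw [h1] at h; exact absurd h (by decide)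
  · exact absurd h h3
  · exact h

theorem s4Table_complete : ∀ b ∈ a6Involutions, ∀ c ∈ a6Involutions,
    (swap 0 1 * swap 4 5 * b) ^ 3 = 1 → (b * c) ^ 3 = 1 → b ≠ swap 0 1 * swap 4 5 → c ≠ b →
    c ≠ swap 0 1 * swap 4 5 → swap 0 1 * swap 4 5 * c = c * (swap 0 1 * swap 4 5) →
    ∃ e ∈ s4Table, e.1 = b ∧ e.2.1 = c := by decide +kernel

theorem s4Table_spec : ∀ e ∈ s4Table,
    Perm.sign e.2.2.1 = -1 ∧ e.2.2.1 * e.2.2.1 = 1 ∧ Perm.sign e.2.2.2.1 = 1 ∧ e.2.2.2.1 * e.2.2.2.1 = 1 ∧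
      e.2.2.2.1 ≠ 1 ∧ e.2.2.1 * e.2.2.2.1 * e.2.2.1 ≠ e.2.2.2.1 ∧
      (∀ x ∈ [swap 0 1 * swap 4 5, e.1, e.2.1], e.2.2.1 * x = x * e.2.2.1) ∧
      (∀ p ∈ ([swap 0 1 * swap 4 5, e.1, e.2.1, swap 0 1 * swap 4 5 * e.2.1]).zip e.2.2.2.2,
        (e.2.2.2.1 * p.1) ^ p.2 = 1) ∧
      ∀ y ∈ a6Involutions,
        (∀ p ∈ ([swap 0 1 * swap 4 5, e.1, e.2.1, swap 0 1 * swap 4 5 * e.2.1]).zip e.2.2.2.2,
          (y * p.1) ^ p.2 = 1) → y = e.2.2.2.1 ∨ y = e.2.2.1 * e.2.2.2.1 * e.2.2.1 := by decide +kernel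

end CfsgLib.Small
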