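import Cfsg.Agent.Lib.Small.SUThreeSylow

/-!
Automorphisms of the Sylow 2-subgroups of `SU(3, 2 ^ n)`: those inducing an involution or the
identity on the central quotient fix the centre.
-/

set_option autoImplicit false
set_option linter.style.haveILetI false
set_option linter.unusedSectionVars false

namespace CfsgLib.Small.SUThree

open CfsgLib.Involutions.U34

/-- A quadratic `X² + aX + b` with coefficients fixed by a non-trivial involutive automorphism
of a finite field of characteristic 2 has a root. -/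
theorem exists_root {K : Type*} [Field K] [Finite K] (h2 : (2 : K) = 0) (β : K → K)
    (hadd : ∀ x y, β (x + y) = β x + β y) (hmul : ∀ x y, β (x * y) = β x * β y)
    (hinv : ∀ x, β (β x) = x) (hne : ∃ x, β x ≠ x) {a b : K} (ha : β a = a) (hb : β b = b)
    (ha0 : a ≠ 0) : ∃ x, x * x + a * x = b := by
  classical
  let t : K →+ K := AddMonoidHom.mk' (fun x => x + β x) fun x y => by rw [hadd]; abel
  have hcc : ∀ x : K, x + x = 0 := fun x => by linear_combination x * h2
  obtain ⟨z, hz⟩ := hne
  have he0 : t z ≠ 0 := fun h => hz (by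
    have h' : z + β z = 0 := h
    linear_combination h' - z * h2)
  have hte : β (t z) = t z := by
    show β (z + β z) = z + β z
    rw [hadd, hinv]; ring
  set k0 := a * z / t z with hk0
  have hdiv : β (a * z / t z) = a * β z / t z := by
    have h1 : β (a * z / t z) * β (t z) = β (a * z) := by rw [← hmul, div_mul_cancel₀ _ he0]
    rw [hte, hmul, ha] at h1
    rw [← h1, mul_div_cancel_right₀ _ he0]
  have hk : t k0 = a := by
    show k0 + β k0 = a
    rw [hk0, hdiv, ← add_div, ← mul_add, mul_div_assoc]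
    exact (congrArg (a * ·) (div_self he0)).trans (mul_one a)
  let S : AddSubgroup K := (AddSubgroup.zmultiples a).comap t
  let L : K →+ K := AddMonoidHom.mk' (fun x => x * x + a * x) fun x y => by
    linear_combination (x * y) * h2
  have hza : ∀ y ∈ AddSubgroup.zmultiples a, y = 0 ∨ y = a := by
    rintro _ ⟨m, rfl⟩
    rcases Int.even_or_odd' m with ⟨j, rfl | rfl⟩
    · left
      show (2 * j) • a = 0
      rw [mul_comm, mul_zsmul, two_zsmul, hcc, zsmul_zero]
    · right
      show (2 * j + 1) • a = a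
      rw [add_zsmul, mul_comm, mul_zsmul, two_zsmul, hcc, zsmul_zero, zero_add, one_zsmul]
  have hmaps : ∀ x ∈ S, β (L x) = L x := by
    intro x hx
    show β (x * x + a * x) = x * x + a * x
    rw [hadd, hmul, hmul, ha]
    rcases hza _ hx with h | h
    · have h' : x + β x = 0 := h
      rw [show β x = x by linear_combination h' - x * h2]
    · have h' : x + β x = a := h
      rw [show β x = x + a by linear_combination h' - x * h2]
      linear_combination (a * x + a * a) * h2
  let L' : S →+ t.ker := (L.comp S.subtype).codRestrict _ fun x => by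
    show L x + β (L x) = 0
    rw [hmaps x x.2]
    exact hcc _
  have hsurj : Function.Surjective L' := by
    let t' : S →+ AddSubgroup.zmultiples a := (t.comp S.subtype).codRestrict _ fun x => x.2
    have ht' : Function.Surjective t' := by
      intro y
      rcases hza _ y.2 with h | h
      · exact ⟨0, Subtype.ext (by show t 0 = _; rw [map_zero, h])⟩
      · exact ⟨⟨k0, AddSubgroup.mem_comap.2 (by rw [hk]; exact AddSubgroup.mem_zmultiples a)⟩,
          Subtype.ext (hk.trans h.symm)⟩
    have hk1 : Nat.card t'.ker = Nat.card t.ker := by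
      refine Nat.card_congr
        { toFun := fun x => ⟨(x.1 : K), congrArg Subtype.val x.2⟩
          invFun := fun x => ⟨⟨x.1, AddSubgroup.mem_comap.2 (by
              rw [(x.2 : t x.1 = 0)]; exact zero_mem _)⟩, Subtype.ext x.2⟩
          left_inv := fun x => rfl
          right_inv := fun x => rfl }
    have hz2 : Nat.card (AddSubgroup.zmultiples a) = 2 := by
      rw [Nat.card_zmultiples]
      exact addOrderOf_eq_prime (by rw [two_nsmul]; exact hcc a) ha0
    have h1 := AddSubgroup.card_eq_card_quotient_mul_card_addSubgroup t'.ker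
    rw [Nat.card_congr (QuotientAddGroup.quotientKerEquivOfSurjective t' ht').toEquiv, hz2, hk1]
      at h1
    have h2' := AddSubgroup.card_eq_card_quotient_mul_card_addSubgroup L'.ker
    rw [Nat.card_congr (QuotientAddGroup.quotientKerEquivRange L').toEquiv, h1] at h2'
    have hker : Nat.card L'.ker ≤ 2 := by
      let f : L'.ker → ({0, a} : Set K) := fun x => ⟨(x.1 : K), by
        have h : ((x.1 : K)) * x.1 + a * x.1 = 0 := congrArg Subtype.val x.2
        rcases mul_eq_zero.1 (show (x.1 : K) * (x.1 + a) = 0 by linear_combination h) with h | h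
        · exact Or.inl h
        · refine Or.inr ?_
          show (x.1 : K) = a
          linear_combination h - a * h2⟩
      refine (Nat.card_le_card_of_injective f fun x y h =>
        Subtype.ext (Subtype.ext (congrArg (fun z : ({0, a} : Set K) => (z : K)) h))).trans ?_
      rw [Nat.card_coe_set_eq]
      exact (Set.ncard_insert_le _ _).trans (by rw [Set.ncard_singleton])
    refine AddMonoidHom.range_eq_top.1 (AddSubgroup.eq_top_of_le_card _ ?_)
    nlinarith [Nat.card_pos (α := L'.range), Nat.card_pos (α := L'.ker)]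
  obtain ⟨x, hx⟩ := hsurj ⟨b, by show b + β b = 0; rw [hb]; exact hcc _⟩
  exact ⟨x, congrArg Subtype.val hx⟩

section Pair

variable {F : Type*} [Field F] [Finite F] {σ : F →+* F} {q : ℕ}
variable (h2 : (2 : F) = 0) (h : Classical.Unitary.UFrob σ q) (hF : Nat.card F = q ^ 2)
variable (A B : F → F) (hA : ∀ c d, A (c + d) = A c + A d)
variable (hB : ∀ v w, σ v = v → σ w = w → B (v + w) = B v + B w)
variable (hN : ∀ c, A c * σ (A c) = B (c * σ c))

include h hF in
theorem exists_norm' {w : F} (hw : σ w = w) : ∃ c, c * σ c = w := by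
  obtain ⟨t, ht⟩ := Classical.exists_pow_succ_eq hF (c := w) (by rw [← h.pow, hw])
  exact ⟨t, by rw [h.pow, ← pow_succ', ht]⟩

include h2 h in
theorem trace_eq_zero_iff {c d : F} (hc : c ≠ 0) :
    σ c * d + c * σ d = 0 ↔ σ (d / c) = d / c := by
  have hsc : σ c ≠ 0 := (map_ne_zero σ).2 hc
  rw [map_div₀, div_eq_div_iff hsc hc]
  constructor
  · intro h'; linear_combination h' - d * σ c * h2
  · intro h'; linear_combination h' + d * σ c * h2

include h hA hB hN in
theorem polar (c d : F) :
    σ (A c) * A d + A c * σ (A d) = B (σ c * d + c * σ d) := by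
  have hs : σ (c * σ c) = c * σ c := by rw [map_mul, h.invol, mul_comm]
  have hd : σ (d * σ d) = d * σ d := by rw [map_mul, h.invol, mul_comm]
  have ht : σ (σ c * d + c * σ d) = σ c * d + c * σ d := by
    simp only [map_add, map_mul, h.invol]; ring
  have h1 := hN (c + d)
  have e : (c + d) * σ (c + d) = c * σ c + d * σ d + (σ c * d + c * σ d) := by
    rw [map_add]; ring
  rw [e, hA, hB _ _ (by rw [map_add, hs, hd]) ht, hB _ _ hs hd, map_add] at h1
  linear_combination h1 - hN c - hN d

include hA in
theorem map_zero' : A 0 = 0 := by simpa using hA 0 0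

include hB in
theorem map_zeroB : B 0 = 0 := by simpa using hB 0 0 (map_zero σ) (map_zero σ)

include h2 h hA hB hN in
/-- `A` maps the line through a fixed vector to itself. -/
theorem exists_mult {u : F} (hu : u ≠ 0) (hAu : A u = u) {k : F} (hk : σ k = k) :
    ∃ γ, σ γ = γ ∧ A (k * u) = γ * u ∧ B (k * k * (u * σ u)) = γ * γ * (u * σ u) := by
  have h1 := polar h A B hA hB hN u (k * u)
  rw [map_mul, hk, hAu, show σ u * (k * u) + u * (k * σ u) = 0 by
    linear_combination (k * u * σ u) * h2, map_zeroB B hB] at h1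
  have hγ := (trace_eq_zero_iff h2 h hu).1 h1
  refine ⟨A (k * u) / u, hγ, (div_mul_cancel₀ _ hu).symm, ?_⟩
  set γ := A (k * u) / u with hg
  rw [show k * k * (u * σ u) = (k * u) * σ (k * u) by rw [map_mul, hk]; ring, ← hN,
    show A (k * u) = γ * u from (div_mul_cancel₀ _ hu).symm, map_mul, hγ]
  ring

include h2 in
theorem sq_inj {x y : F} (h' : x * x = y * y) : x = y := by
  have : (x + y) * (x + y) = 0 := by linear_combination h' + (x * y + y * y) * h2
  linear_combination mul_self_eq_zero.1 this - y * h2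

include h2 h hF in
theorem exists_sqrt {x : F} (hx : σ x = x) : ∃ k, σ k = k ∧ k * k = x := by
  let K := σ.eqLocusField (RingHom.id F)
  have hinj : Function.Injective fun k : K => k * k := fun a b h' =>
    Subtype.ext (sq_inj h2 (congrArg Subtype.val h'))
  obtain ⟨k, hk⟩ := (Finite.injective_iff_surjective.1 hinj) ⟨x, hx⟩
  exact ⟨k.1, k.2, congrArg Subtype.val hk⟩

include h2 h hF hA hB hN in
/-- An involution on the central quotient fixes the centre. -/
theorem eq_of_involutive (hinv : ∀ c, A (A c) = c) {w : F} (hw : σ w = w) : B w = w := by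
  have hfix : ∀ c, σ (c * σ c) = c * σ c := fun c => by rw [map_mul, h.invol, mul_comm]
  have hBB : ∀ v, σ v = v → B (B v) = v := by
    intro v hv
    obtain ⟨c, rfl⟩ := exists_norm' h hF hv
    rw [← hN, ← hN, hinv]
  have hBfix : ∀ v, σ v = v → σ (B v) = B v := by
    intro v hv
    obtain ⟨c, rfl⟩ := exists_norm' h hF hv
    rw [← hN]; exact hfix _
  let D : F →+ F := AddMonoidHom.mk' (fun c => c + A c) fun c d => by rw [hA]; abel
  have hker : ∀ c, c ∈ D.ker ↔ A c = c := fun c => by
    refine ⟨fun h' => ?_, fun h' => ?_⟩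
    · have h'' : c + A c = 0 := h'
      linear_combination h'' - c * h2
    · show c + A c = 0; rw [h']; linear_combination c * h2
  have hrk : D.range ≤ D.ker := by
    rintro _ ⟨c, rfl⟩
    rw [hker]
    show A (c + A c) = c + A c
    rw [hA, hinv, add_comm]
  let K := σ.eqLocusField (RingHom.id F)
  have hq : Nat.card K = q := Classical.fixed_card_eq hF h.pow
  have hq2 : 2 ≤ q := Classical.two_le_q hF
  have hU : q ≤ Nat.card D.ker := by
    have h1 := AddSubgroup.card_eq_card_quotient_mul_card_addSubgroup D.ker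
    rw [Nat.card_congr (QuotientAddGroup.quotientKerEquivRange D).toEquiv, hF] at h1
    have h3 := Nat.le_of_dvd Nat.card_pos (AddSubgroup.card_dvd_of_le hrk)
    by_contra hlt
    push Not at hlt
    nlinarith
  obtain ⟨⟨u, huk⟩, hu⟩ : ∃ u : D.ker, u ≠ 0 :=
    haveI : Nontrivial D.ker := Finite.one_lt_card_iff_nontrivial.1 (by omega)
    exists_ne 0
  have hu0 : u ≠ 0 := fun h' => hu (Subtype.ext h')
  have hAu : A u = u := (hker u).1 huk
  have hw0 : u * σ u ≠ 0 := mul_ne_zero hu0 ((map_ne_zero σ).2 hu0)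
  by_cases hsub : ∀ c ∈ D.ker, σ (c / u) = c / u
  · let g : D.ker → K := fun c => ⟨c.1 / u, hsub c.1 c.2⟩
    have hg : Function.Injective g := fun c d h' => Subtype.ext (by
      have := congrArg Subtype.val h'
      exact (div_left_inj' hu0).1 this)
    have hbij := (Nat.bijective_iff_injective_and_card g).2
      ⟨hg, le_antisymm (Nat.card_le_card_of_injective g hg) (hq ▸ hU)⟩
    obtain ⟨k, hk, hkk⟩ := exists_sqrt h2 h hF (x := w / (u * σ u))
      (by rw [map_div₀, hw, hfix])
    obtain ⟨⟨c, hc⟩, hgc⟩ := hbij.2 ⟨k, hk⟩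
    have hck : c / u = k := congrArg Subtype.val hgc
    have hcA := hN c
    rw [(hker c).1 hc] at hcA
    have : c * σ c = w := by
      rw [← div_mul_cancel₀ c hu0, hck, map_mul, hk]
      calc k * u * (k * σ u) = k * k * (u * σ u) := by ring
        _ = w := by rw [hkk, div_mul_cancel₀ _ hw0]
    rw [this] at hcA
    exact hcA.symm
  push Not at hsub
  obtain ⟨u', hu'k, hu'⟩ := hsub
  have hAu' : A u' = u' := (hker u').1 hu'k
  have hu'0 : u' ≠ 0 := fun h' => hu' (by rw [h', zero_div, map_zero])
  set τ := σ u * u' + u * σ u' with hτ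
  have hτ0 : τ ≠ 0 := fun h' => hu' ((trace_eq_zero_iff h2 h hu0).1 h')
  have hτσ : σ τ = τ := by simp only [hτ, map_add, map_mul, h.invol]; ring
  have hBτ : B τ = τ := by
    have := polar h A B hA hB hN u u'
    rw [hAu, hAu'] at this
    exact this.symm
  have hBw : B (u * σ u) = u * σ u := by
    have := hN u; rw [hAu] at this; exact this.symm
  have hBw' : B (u' * σ u') = u' * σ u' := by
    have := hN u'; rw [hAu'] at this; exact this.symm
  let β : K → K := fun k => ⟨B ((k : F) * τ) / τ, by
    show σ _ = _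
    rw [map_div₀, hτσ, hBfix _ (by rw [map_mul, hτσ]; exact congrArg (· * τ) k.2)]; rfl⟩
  have hβ : ∀ k : K, B ((k : F) * τ) = (β k : F) * τ := fun k => (div_mul_cancel₀ _ hτ0).symm
  have hKσ : ∀ k : K, σ (k : F) = k := fun k => k.2
  have hmixed : ∀ k l γ δ : F, σ k = k → σ l = l → σ γ = γ → σ δ = δ → A (k * u) = γ * u →
      A (l * u') = δ * u' → B (k * l * τ) = γ * δ * τ := by
    intro k l γ δ hk hl hγ hδ e1 e2
    have h1 := polar h A B hA hB hN (k * u) (l * u')
    rw [e1, e2, map_mul, map_mul, map_mul, map_mul, hk, hl, hγ, hδ] at h1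
    rw [show k * l * τ = k * σ u * (l * u') + k * u * (l * σ u') by rw [hτ]; ring, ← h1, hτ]
    ring
  have hγu : ∀ k : K, A ((k : F) * u) = (β k : F) * u ∧
      B ((k : F) * k * (u * σ u)) = (β k : F) * β k * (u * σ u) := by
    intro k
    obtain ⟨γ, hγ, e1, e2⟩ := exists_mult h2 h A B hA hB hN hu0 hAu (hKσ k)
    have := hmixed k 1 γ 1 (hKσ k) (map_one σ) hγ (map_one σ) e1 (by rw [one_mul, hAu'])
    rw [mul_one, mul_one, hβ] at this
    obtain rfl := (mul_right_cancel₀ hτ0 this).symm
    exact ⟨e1, e2⟩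
  have hγu' : ∀ k : K, A ((k : F) * u') = (β k : F) * u' ∧
      B ((k : F) * k * (u' * σ u')) = (β k : F) * β k * (u' * σ u') := by
    intro k
    obtain ⟨δ, hδ, e1, e2⟩ := exists_mult h2 h A B hA hB hN hu'0 hAu' (hKσ k)
    have := hmixed 1 k 1 δ (map_one σ) (hKσ k) (map_one σ) hδ (by rw [one_mul, hAu]) e1
    rw [one_mul, one_mul, hβ] at this
    obtain rfl := (mul_right_cancel₀ hτ0 this).symm
    exact ⟨e1, e2⟩
  have hβadd : ∀ k l : K, β (k + l) = β k + β l := fun k l => Subtype.ext (by
    apply mul_right_cancel₀ hτ0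
    show (β (k + l) : F) * τ = ((β k : F) + β l) * τ
    rw [← hβ, add_mul, ← hβ, ← hβ, ← hB _ _ (by rw [map_mul, hτσ, hKσ k])
      (by rw [map_mul, hτσ, hKσ l])]
    congr 1
    show ((k : F) + l) * τ = _
    ring)
  have hβmul : ∀ k l : K, β (k * l) = β k * β l := fun k l => Subtype.ext (by
    apply mul_right_cancel₀ hτ0
    show (β (k * l) : F) * τ = ((β k : F) * β l) * τ
    rw [← hβ]
    exact hmixed k l _ _ (hKσ k) (hKσ l) (hKσ (β k)) (hKσ (β l)) (hγu k).1 (hγu' l).1)
  have hββ : ∀ k : K, β (β k) = k := fun k => Subtype.ext (by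
    apply mul_right_cancel₀ hτ0
    rw [← hβ, ← hβ, hBB _ (by rw [map_mul, hτσ, hKσ k])])
  have hsemi : ∀ k : K, B ((k : F) * (u * σ u)) = (β k : F) * (u * σ u) ∧
      B ((k : F) * (u' * σ u')) = (β k : F) * (u' * σ u') := by
    intro k
    obtain ⟨r, hr, hrr⟩ := exists_sqrt h2 h hF (hKσ k)
    have hk : k = (⟨r, hr⟩ : K) * ⟨r, hr⟩ := Subtype.ext hrr.symm
    rw [hk, hβmul]
    exact ⟨(hγu ⟨r, hr⟩).2, (hγu' ⟨r, hr⟩).2⟩
  let a : K := ⟨τ / (u * σ u), by show σ _ = _; rw [map_div₀, hτσ, hfix]; rfl⟩
  let b : K := ⟨(u' * σ u') / (u * σ u), by show σ _ = _; rw [map_div₀, hfix, hfix]; rfl⟩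
  have ha : β a = a := Subtype.ext (by
    have := (hsemi a).1
    rw [show (a : F) * (u * σ u) = τ from div_mul_cancel₀ _ hw0, hBτ] at this
    apply mul_right_cancel₀ hw0
    rw [← this]; exact (div_mul_cancel₀ _ hw0).symm)
  have hb : β b = b := Subtype.ext (by
    have := (hsemi b).1
    rw [show (b : F) * (u * σ u) = u' * σ u' from div_mul_cancel₀ _ hw0, hBw'] at this
    apply mul_right_cancel₀ hw0
    rw [← this]; exact (div_mul_cancel₀ _ hw0).symm)
  by_cases hid : ∀ k : K, β k = k
  · have hwK : σ (w / (u * σ u)) = w / (u * σ u) := by rw [map_div₀, hw, hfix]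
    have := (hsemi ⟨w / (u * σ u), hwK⟩).1
    rw [hid] at this
    simpa [div_mul_cancel₀ _ hw0] using this
  push Not at hid
  have h2K : (2 : K) = 0 := Subtype.ext ((map_ofNat K.subtype 2).trans h2)
  obtain ⟨x, hx⟩ := exists_root h2K β hβadd hβmul hββ hid ha hb (fun h' => by
    have : τ / (u * σ u) = 0 := congrArg Subtype.val h'
    exact hτ0 (by simpa [hw0] using this))
  have hx' : (x : F) * x + τ / (u * σ u) * x = u' * σ u' / (u * σ u) := congrArg Subtype.val hx
  have hx'' : (x : F) * x * (u * σ u) + τ * x = u' * σ u' := by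
    have := congrArg (· * (u * σ u)) hx'
    simp only [add_mul, div_mul_cancel₀ _ hw0] at this
    rw [div_mul_eq_mul_div, div_mul_cancel₀ _ hw0] at this
    exact this
  have hzero : ((x : F) * u + u') * σ ((x : F) * u + u') = 0 := by
    rw [map_add, map_mul, hKσ x]
    rw [hτ] at hx''
    linear_combination hx'' + (u' * σ u') * h2
  have hxu : (x : F) * u + u' = 0 := (mul_eq_zero.1 hzero).elim id fun h0 => (map_eq_zero σ).1 h0
  refine absurd ?_ hu'
  have : u' = (x : F) * u := by linear_combination hxu - (x : F) * u * h2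
  rw [this, mul_div_cancel_right₀ _ hu0, hKσ x]

end Pair

end CfsgLib.Small.SUThree

namespace CfsgLib.Small.SUThree

open CfsgLib.Involutions.U34

section Param

variable {F : Type*} [Field F] [Finite F] {σ : F →+* F} {q : ℕ}
variable {T : Type*} [Group T] (d : Param σ T)

/-- The first coordinate. -/
noncomputable def fstC (t : T) : F := (d.surj t).choose

/-- The second coordinate. -/
noncomputable def sndC (t : T) : F := (d.surj t).choose_spec.choose

theorem coords (t : T) : ∃ h, d.el (fstC d t) (sndC d t) h = t :=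
  (d.surj t).choose_spec.choose_spec

theorem coords_el (c b : F) (h) : fstC d (d.el c b h) = c ∧ sndC d (d.el c b h) = b := by
  obtain ⟨h', he⟩ := coords d (d.el c b h)
  exact d.inj _ _ _ _ _ _ he

theorem fst_mul (s t : T) : fstC d (s * t) = fstC d s + fstC d t := by
  obtain ⟨hs, es⟩ := coords d s
  obtain ⟨ht, et⟩ := coords d t
  obtain ⟨h'', e⟩ := d.mul _ _ hs _ _ ht
  conv_lhs => rw [← es, ← et, e]
  exact (coords_el d _ _ _).1

theorem fst_one : fstC d 1 = 0 := by simpa using fst_mul d 1 1

theorem fst_inv (h2 : (2 : F) = 0) (s : T) : fstC d s⁻¹ = fstC d s := by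
  have := fst_mul d s s⁻¹
  rw [mul_inv_cancel, fst_one] at this
  linear_combination (-1 : F) * this - fstC d s * h2

theorem snd_mul {s t : T} (hs : fstC d s = 0) : sndC d (s * t) = sndC d s + sndC d t := by
  obtain ⟨hs', es⟩ := coords d s
  obtain ⟨ht, et⟩ := coords d t
  obtain ⟨h'', e⟩ := d.mul _ _ hs' _ _ ht
  conv_lhs => rw [← es, ← et, e]
  rw [(coords_el d _ _ _).2, hs, map_zero, zero_mul, add_zero]

theorem eq_of_coords {s t : T} (h1 : fstC d s = fstC d t) (h2 : sndC d s = sndC d t) : s = t := by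
  obtain ⟨hs, es⟩ := coords d s
  obtain ⟨ht, et⟩ := coords d t
  rw [← es, ← et]
  congr 1

theorem fixed_snd (h2 : (2 : F) = 0) {s : T} (hs : fstC d s = 0) : σ (sndC d s) = sndC d s := by
  obtain ⟨h, -⟩ := coords d s
  rw [hs, zero_mul] at h
  linear_combination h - sndC d s * h2

theorem sq_coords (h2 : (2 : F) = 0) (s : T) :
    fstC d (s * s) = 0 ∧ sndC d (s * s) = fstC d s * σ (fstC d s) := by
  obtain ⟨hs, es⟩ := coords d s
  obtain ⟨h'', e⟩ := d.mul _ _ hs _ _ hs
  refine ⟨by rw [fst_mul]; linear_combination fstC d s * h2, ?_⟩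
  conv_lhs => rw [← es, e]
  rw [(coords_el d _ _ _).2]
  linear_combination sndC d s * h2

theorem mem_center (h2 : (2 : F) = 0) (h : Classical.Unitary.UFrob σ q) {t : T} :
    t ∈ Subgroup.center T ↔ fstC d t = 0 := by
  obtain ⟨ht, et⟩ := coords d t
  obtain ⟨x, hx⟩ := Classical.Unitary.exists_trace h
  constructor
  · intro hc
    by_contra hne
    have key : ∀ c', σ (fstC d t) * c' = σ c' * fstC d t := fun c' => by
      have h' : c' * σ c' * x + σ (c' * σ c' * x) = c' * σ c' := by
        simp only [map_mul, h.invol]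
        linear_combination (c' * σ c') * hx
      rw [← et, Subgroup.mem_center_iff] at hc
      exact (d.comm_iff h2).1 (hc (d.el c' _ h')).symm
    have h1 := key 1
    rw [map_one, mul_one, one_mul] at h1
    have hxx := key x
    rw [h1] at hxx
    exact hne (by linear_combination hxx - fstC d t * hx + (fstC d t * σ x) * h2)
  · intro h0
    rw [Subgroup.mem_center_iff]
    intro g
    obtain ⟨hg, eg⟩ := coords d g
    rw [← eg, ← et, d.comm_iff h2, h0]
    simp

include d in
/-- The maps induced by an automorphism. -/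
theorem exists_pair (h2 : (2 : F) = 0) (h : Classical.Unitary.UFrob σ q) (α : MulAut T) :
    ∃ A B : F → F, (∀ c e, A (c + e) = A c + A e) ∧
      (∀ v w, σ v = v → σ w = w → B (v + w) = B v + B w) ∧
      (∀ c, A c * σ (A c) = B (c * σ c)) ∧
      (∀ t : T, fstC d (α t) = A (fstC d t)) ∧
      (∀ t : T, fstC d t = 0 → sndC d (α t) = B (sndC d t)) := by
  classical
  obtain ⟨x, hx⟩ := Classical.Unitary.exists_trace h
  have hh : ∀ c, c * σ c * x + σ (c * σ c * x) = c * σ c := fun c => by
    simp only [map_mul, h.invol]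
    linear_combination (c * σ c) * hx
  have hz : ∀ w, σ w = w → w + σ w = 0 * σ 0 := fun w hw => by
    rw [hw]; linear_combination w * h2
  let e : F → T := fun c => d.el c (c * σ c * x) (hh c)
  have he : ∀ c, fstC d (e c) = c := fun c => (coords_el d _ _ _).1
  have hcen : ∀ t, fstC d t = 0 → fstC d (α t) = 0 := fun t ht => by
    rw [← mem_center d h2 h, ← Subgroup.centerCharacteristic.fixed α, Subgroup.mem_comap] at ht
    exact (mem_center d h2 h).1 ht
  let A : F → F := fun c => fstC d (α (e c))
  have hA : ∀ t, fstC d (α t) = A (fstC d t) := fun t => by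
    have hzero : fstC d (t * (e (fstC d t))⁻¹) = 0 := by
      rw [fst_mul, fst_inv d h2, he]; linear_combination fstC d t * h2
    have h1 := hcen _ hzero
    rw [map_mul, map_inv, fst_mul, fst_inv d h2] at h1
    show fstC d (α t) = fstC d (α (e (fstC d t)))
    linear_combination h1 - fstC d (α (e (fstC d t))) * h2
  let B : F → F := fun w => if hw : σ w = w then sndC d (α (d.el 0 w (hz w hw))) else 0
  have hB : ∀ t, fstC d t = 0 → sndC d (α t) = B (sndC d t) := fun t ht => by
    have hw := fixed_snd d h2 ht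
    simp only [B, dif_pos hw]
    congr 2
    exact eq_of_coords d (by rw [(coords_el d _ _ _).1, ht]) (by rw [(coords_el d _ _ _).2])
  refine ⟨A, B, fun c c' => ?_, fun v w hv hw => ?_, fun c => ?_, hA, hB⟩
  · have h1 := hA (e c * e c')
    rw [map_mul, fst_mul, fst_mul, he, he] at h1
    exact h1.symm
  · set s := d.el 0 v (hz v hv)
    set t := d.el 0 w (hz w hw)
    have hs : fstC d s = 0 := (coords_el d _ _ _).1
    have ht : fstC d t = 0 := (coords_el d _ _ _).1
    have h1 := hB (s * t) (by rw [fst_mul, hs, ht, add_zero])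
    rw [map_mul, snd_mul d (hcen s hs), snd_mul d hs, hB s hs, hB t ht] at h1
    rw [(coords_el d _ _ _).2, (coords_el d _ _ _).2] at h1
    exact h1.symm
  · obtain ⟨h0, h1⟩ := sq_coords d h2 (e c)
    have h3 := hB _ h0
    rw [h1, map_mul, (sq_coords d h2 (α (e c))).2, he] at h3
    exact h3

include d in
/-- An automorphism that is an involution on the central quotient fixes the centre. -/
theorem fix_center (h2 : (2 : F) = 0) (h : Classical.Unitary.UFrob σ q) (hF : Nat.card F = q ^ 2)
    (α : MulAut T) (hinv : ∀ t, fstC d (α (α t)) = fstC d t) {z : T} (hz : z ∈ Subgroup.center T) :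
    α z = z := by
  obtain ⟨A, B, hA, hB, hN, hfst, hsnd⟩ := exists_pair d h2 h α
  obtain ⟨x, hx⟩ := Classical.Unitary.exists_trace h
  have hAA : ∀ c, A (A c) = c := fun c => by
    have hh : c * σ c * x + σ (c * σ c * x) = c * σ c := by
      simp only [map_mul, h.invol]
      linear_combination (c * σ c) * hx
    have := hinv (d.el c _ hh)
    rwa [hfst, hfst, (coords_el d _ _ _).1] at this
  have hz0 := (mem_center d h2 h).1 hz
  refine eq_of_coords d ?_ ?_
  · rw [hfst, hz0, map_zero' A hA]
  · rw [hsnd z hz0]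
    exact eq_of_involutive h2 h hF A B hA hB hN hAA (fixed_snd d h2 hz0)

end Param

end CfsgLib.Small.SUThree

namespace CfsgLib.Small.SUThree

open CfsgLib.Involutions.U34

section Isometry

variable {F : Type*} [Field F] [Finite F] {σ : F →+* F} {q : ℕ}

/-- An isometry of order dividing 3 of a norm form is trivial when `3 ∤ q + 1` and `3 ∤ q`. -/
theorem isometry_cube_trivial (h2 : (2 : F) = 0) (h : Classical.Unitary.UFrob σ q)
    (hF : Nat.card F = q ^ 2) (hq1 : ¬ 3 ∣ q + 1) (hq : ¬ 3 ∣ q) (A : F → F)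
    (hA : ∀ c d, A (c + d) = A c + A d) (hN : ∀ c, A c * σ (A c) = c * σ c)
    (h3 : ∀ c, A (A (A c)) = c) (c : F) : A c = c := by
  classical
  have hlin : ∀ u k : F, σ k = k → A (k * u) = k * A u := by
    intro u k hk
    by_cases hu : u = 0
    · rw [hu, mul_zero, map_zero' A hA, mul_zero]
    have hAu : A u ≠ 0 := fun h' => hu (by
      have := h3 u
      rw [h', map_zero' A hA, map_zero' A hA] at this
      exact this.symm)
    have h1 := polar h A (fun w => w) hA (fun _ _ _ _ => rfl) hN u (k * u)
    rw [map_mul, hk, show σ u * (k * u) + u * (k * σ u) = 0 by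
      linear_combination (k * u * σ u) * h2] at h1
    have hγ := (trace_eq_zero_iff h2 h hAu).1 h1
    set γ := A (k * u) / A u with hg
    have e : A (k * u) = γ * A u := (div_mul_cancel₀ _ hAu).symm
    have h4 := hN (k * u)
    rw [e, map_mul, map_mul, hγ, hk] at h4
    have h5 : γ * γ * (u * σ u) = k * k * (u * σ u) := by linear_combination h4 - γ * γ * hN u
    rw [e, sq_inj h2 (mul_right_cancel₀ (mul_ne_zero hu ((map_ne_zero σ).2 hu)) h5)]
  let S := {c : F // c * σ c = 1}
  have hS : Nat.card S = q + 1 := by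
    rw [← Classical.card_normOne hF]
    refine Nat.card_congr
      { toFun := fun c => ⟨Units.mk0 c.1 fun h0 => by simpa [h0] using c.2, MonoidHom.mem_ker.2
          (Units.ext (by simpa [pow_succ', ← h.pow] using c.2))⟩
        invFun := fun u => ⟨(u.1 : Fˣ), by
          have := congrArg Units.val (MonoidHom.mem_ker.1 u.2)
          simpa [pow_succ', ← h.pow] using this⟩
        left_inv := fun c => rfl
        right_inv := fun u => Subtype.ext (Units.ext rfl) }
  haveI : Fintype S := Fintype.ofFinite S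
  let π : Equiv.Perm S :=
    { toFun := fun c => ⟨A c.1, by rw [hN]; exact c.2⟩
      invFun := fun c => ⟨A (A c.1), by rw [hN, hN]; exact c.2⟩
      left_inv := fun c => Subtype.ext (h3 _)
      right_inv := fun c => Subtype.ext (h3 _) }
  have hπ : π ^ 3 ^ 1 = 1 := Equiv.ext fun c => Subtype.ext (h3 c.1)
  haveI : Fact (Nat.Prime 3) := ⟨Nat.prime_three⟩
  obtain ⟨u, hu⟩ := Equiv.Perm.exists_fixed_point_of_prime (p := 3)
    (by rwa [← Nat.card_eq_fintype_card, hS]) hπ
  have hmaps : ∀ c : S, c ≠ u ↔ π c ≠ u := fun c => by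
    rw [not_iff_not]
    exact ⟨fun h' => by rw [h', hu], fun h' => π.injective (h'.trans hu.symm)⟩
  let π' : Equiv.Perm {c : S // c ≠ u} := π.subtypePerm fun c => (hmaps c).symm
  have hπ' : π' ^ 3 ^ 1 = 1 := Equiv.ext fun c => Subtype.ext (Equiv.ext_iff.1 hπ c.1)
  obtain ⟨⟨u', hu'⟩, hfu'⟩ := Equiv.Perm.exists_fixed_point_of_prime (p := 3) (by
    rw [Fintype.card_subtype_compl, Fintype.card_subtype_eq, ← Nat.card_eq_fintype_card, hS,
      Nat.add_sub_cancel]
    exact hq) hπ'
  have hAu : A u.1 = u.1 := congrArg Subtype.val hu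
  have hAu' : A u'.1 = u'.1 := congrArg (fun z => z.1.1) hfu'
  let K := σ.eqLocusField (RingHom.id F)
  have hu0 : u.1 ≠ 0 := fun h0 => by simpa [h0] using u.2
  let g : K × K → F := fun p => p.1 * u.1 + p.2 * u'.1
  have hg : Function.Injective g := by
    rintro ⟨a, b⟩ ⟨a', b'⟩ hab
    have hab' : (a : F) * u.1 + b * u'.1 = a' * u.1 + b' * u'.1 := hab
    by_cases hb : b = b'
    · subst hb
      exact Prod.ext (Subtype.ext (mul_right_cancel₀ hu0 (add_right_cancel hab'))) rfl
    · exfalso
      have hd : (b : F) - b' ≠ 0 := sub_ne_zero.2 fun h' => hb (Subtype.ext h')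
      have e : u'.1 = ((a' : F) - a) / ((b : F) - b') * u.1 := by
        field_simp
        linear_combination hab'
      set k := ((a' : F) - a) / ((b : F) - b') with hk
      have hkσ : σ k = k := by
        rw [hk, map_div₀, map_sub, map_sub]
        exact congrArg₂ (fun x y : F => x / y) (congrArg₂ (· - ·) a'.2 a.2)
          (congrArg₂ (· - ·) b.2 b'.2)
      have hk1 : k * k = 1 * 1 := by
        have h6 := u'.2
        rw [e, map_mul, hkσ] at h6
        linear_combination h6 - k * k * u.2
      rw [sq_inj h2 hk1, one_mul] at e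
      exact hu' (Subtype.ext e)
  have hbij := (Nat.bijective_iff_injective_and_card g).2
    ⟨hg, by rw [Nat.card_prod, Classical.fixed_card_eq hF h.pow, hF, sq]⟩
  obtain ⟨⟨a, b⟩, rfl⟩ := hbij.2 c
  show A ((a : F) * u.1 + b * u'.1) = (a : F) * u.1 + b * u'.1
  rw [hA, hlin _ _ a.2, hlin _ _ b.2, hAu, hAu']

end Isometry

end CfsgLib.Small.SUThree
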