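import Cfsg.Agent.Lib.Involutions.PSUThreeFourSylow
import Cfsg.Agent.Lib.Classical.UnitarySU

/-!
The Sylow 2-subgroups of `SU(3, q)`, `q` a power of 2, in parameters.
-/

set_option autoImplicit false
set_option linter.style.haveILetI false
set_option maxHeartbeats 1000000

namespace CfsgLib.Small.SUThree

open Matrix MatrixGroups CfsgLib.Involutions.U34

variable {F : Type*} [Field F] [Finite F] {σ : F →+* F}

theorem two_eq_zero {n : ℕ} (hn : n ≠ 0) (hF : Nat.card F = (2 ^ n) ^ 2) : (2 : F) = 0 := by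
  have := Fintype.ofFinite F
  have h16 : ((Fintype.card F : ℕ) : F) = 0 := Nat.cast_card_eq_zero F
  rw [← Nat.card_eq_fintype_card, hF, ← pow_mul] at h16
  push_cast at h16
  exact (pow_eq_zero_iff (n := n * 2) (by omega)).1 h16

theorem card_uni {q : ℕ} (h2 : (2 : F) = 0) (h : Classical.Unitary.UFrob σ q)
    (hF : Nat.card F = q ^ 2) : Nat.card (uni σ h2 h.invol) = q ^ 3 := by
  obtain ⟨x, hx⟩ := Classical.Unitary.exists_trace h
  let e : F × σ.eqLocusField (RingHom.id F) → uni σ h2 h.invol := fun p =>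
    ⟨⟨tmat σ p.1 (p.1 * σ p.1 * x + p.2), tmat_det _ _ _⟩, p.1, _, by
      have hp : σ (p.2 : F) = p.2 := p.2.2
      simp only [map_add, map_mul, h.invol, hp]
      linear_combination (p.1 * σ p.1) * hx + (p.2 : F) * h2, rfl⟩
  have he : Function.Bijective e := by
    refine ⟨fun p p' hp => ?_, fun ⟨g, c, b, hb, hg⟩ => ?_⟩
    · have hm : tmat σ p.1 (p.1 * σ p.1 * x + p.2) = tmat σ p'.1 (p'.1 * σ p'.1 * x + p'.2) :=
        congrArg (fun g : uni σ h2 h.invol => g.1.1) hp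
      have h12 := congrFun (congrFun hm 1) 2
      have h02 := congrFun (congrFun hm 0) 2
      simp [tmat] at h12 h02
      rw [h12] at h02
      exact Prod.ext h12 (Subtype.ext (add_left_cancel h02))
    · refine ⟨(c, ⟨b + c * σ c * x, ?_⟩), Subtype.ext (Subtype.ext ?_)⟩
      · show σ (b + c * σ c * x) = b + c * σ c * x
        simp only [map_add, map_mul, h.invol]
        linear_combination hb + (c * σ c) * hx + (-b - c * σ c * x + c * σ c) * h2
      · show tmat σ c (c * σ c * x + (b + c * σ c * x)) = (g : Matrix (Fin 3) (Fin 3) F)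
        rw [hg]
        congr 1
        linear_combination (c * σ c * x) * h2
  rw [← Nat.card_congr (Equiv.ofBijective e he), Nat.card_prod, hF,
    Classical.fixed_card_eq hF h.pow]
  ring

/-- A Sylow 2-subgroup of `SU(3, 2 ^ n)`. -/
theorem exists_param {n : ℕ} (hn : n ≠ 0) (hF : Nat.card F = (2 ^ n) ^ 2)
    (P : Sylow 2 (Cfsg.SU 3 F (2 ^ n))) :
    ∃ σ : F →+* F, Classical.Unitary.UFrob σ (2 ^ n) ∧
      Nonempty (Param σ (P : Subgroup (Cfsg.SU 3 F (2 ^ n)))) := by
  haveI : Fact (Nat.Prime 2) := ⟨Nat.prime_two⟩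
  have h2 : (2 : F) = 0 := two_eq_zero hn hF
  generalize hq : 2 ^ n = q at P hF ⊢
  obtain ⟨σ, h⟩ := Classical.Unitary.exists_uFrob hF
  obtain ⟨x, hx⟩ := Classical.Unitary.exists_trace h
  set p : SL(3, F) := ⟨pmat x, pmat_det h2 x⟩
  set U' := (uni σ h2 h.invol).map (MulAut.conj p).toMonoidHom
  have hform : ∀ a b : Fin 3 → F, Cfsg.hermForm 3 F q (pmat x *ᵥ a) (pmat x *ᵥ b)
      = a 0 * σ (b 2) + a 2 * σ (b 0) + a 1 * σ (b 1) := by
    intro a b
    simp only [Cfsg.hermForm, Fin.sum_univ_three, ← h.pow]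
    simp [pmat, Matrix.mulVec, dotProduct, Fin.sum_univ_three]
    linear_combination (a 0 * σ (b 0) + a 0 * σ (b 2) * σ x + a 2 * x * σ (b 0) + a 2 * σ (b 2) * x * σ x) * h2 + (a 2 * σ (b 2)) * hx + (a 2 * σ (b 2)) * h2
  have hle : U' ≤ Cfsg.SU 3 F q := by
    rintro _ ⟨g, ⟨c, b, hb, hg⟩, rfl⟩
    refine Classical.mem_SU_iff.2 fun u v => ?_
    have hsplit : ∀ u : Fin 3 → F, ∃ u', u = pmat x *ᵥ u' := fun u =>
      ⟨(p⁻¹).1 *ᵥ u, by
        rw [Matrix.mulVec_mulVec, show pmat x = (p : Matrix (Fin 3) (Fin 3) F) from rfl,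
          ← Matrix.SpecialLinearGroup.coe_mul, mul_inv_cancel, Matrix.SpecialLinearGroup.coe_one,
          Matrix.one_mulVec]⟩
    obtain ⟨u', rfl⟩ := hsplit u
    obtain ⟨v', rfl⟩ := hsplit v
    have key : ∀ w : Fin 3 → F, ((MulAut.conj p).toMonoidHom g : Matrix (Fin 3) (Fin 3) F) *ᵥ
        (pmat x *ᵥ w) = pmat x *ᵥ (tmat σ c b *ᵥ w) := fun w => by
      rw [← hg, Matrix.mulVec_mulVec, Matrix.mulVec_mulVec,
        show pmat x = (p : Matrix (Fin 3) (Fin 3) F) from rfl, MulEquiv.coe_toMonoidHom,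
        MulAut.conj_apply, ← Matrix.SpecialLinearGroup.coe_mul, inv_mul_cancel_right,
        Matrix.SpecialLinearGroup.coe_mul]
    rw [key, key, hform, hform]
    simp [tmat, Matrix.mulVec, dotProduct, Fin.sum_univ_three, h.invol]
    linear_combination (u' 2 * σ (v' 2)) * hb + (u' 1 * σ c * σ (v' 2) + u' 2 * c * σ (v' 1) + u' 2 * σ (v' 2) * c * σ c) * h2
  set Q := U'.subgroupOf (Cfsg.SU 3 F q)
  let ψ : uni σ h2 h.invol ≃* Q :=
    (Subgroup.equivMapOfInjective (uni σ h2 h.invol) (MulAut.conj p).toMonoidHom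
      (MulAut.conj p).injective).trans (Subgroup.subgroupOfEquivOfLe hle).symm
  have hQ : Nat.card Q = 2 ^ (n * 3) := by
    rw [← Nat.card_congr ψ.toEquiv, card_uni h2 h hF, ← hq, pow_mul]
  have hidx : ¬ 2 ∣ Q.index := by
    intro hd
    have h1 := Classical.card_SU_mul hF (n := 3) (by norm_num)
    rw [Classical.card_GU hF, ← Q.card_mul_index, hQ, pow_mul, hq, Finset.prod_range_succ,
      Finset.prod_range_succ, Finset.prod_range_succ, Finset.prod_range_zero] at h1
    norm_num [Nat.even_iff] at h1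
    obtain ⟨m, hm⟩ := hd
    obtain ⟨j, hj⟩ : 2 ∣ q := hq ▸ dvd_pow_self 2 hn
    have hq1 : 0 < q := hq ▸ Nat.two_pow_pos n
    have hq0 : 0 < q ^ 3 := by positivity
    have hodd : Odd ((q + 1) * (q ^ 2 - 1) * (q ^ 3 + 1)) := by
      have e1 : Odd (q + 1) := ⟨j, by omega⟩
      have e2 : Odd (q ^ 2 - 1) := by
        have : q ^ 2 = 2 * (j * q) := by rw [hj]; ring
        have : 0 < q ^ 2 := by positivity
        exact ⟨j * q - 1, by omega⟩
      have e3 : Odd (q ^ 3 + 1) := ⟨j * q ^ 2, by rw [hj]; ring⟩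
      exact (e1.mul e2).mul e3
    have h3 : (q + 1) * Q.index = (q + 1) * (q ^ 2 - 1) * (q ^ 3 + 1) := by
      apply Nat.eq_of_mul_eq_mul_left hq0
      linarith [h1]
    rw [hm] at h3
    rw [← h3, mul_left_comm] at hodd
    exact absurd hodd (by simp)
  let e : uni σ h2 h.invol ≃* (P : Subgroup (Cfsg.SU 3 F q)) :=
    ψ.trans (Sylow.equiv ((IsPGroup.of_card hQ).toSylow hidx) P)
  refine ⟨σ, h, ⟨⟨fun c b hb => e ⟨⟨tmat σ c b, tmat_det _ _ _⟩, c, b, hb, rfl⟩, ?_, ?_, ?_⟩⟩⟩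
  · intro t
    obtain ⟨⟨g, c, b, hb, hg⟩, rfl⟩ := e.surjective t
    exact ⟨c, b, hb, congrArg e (Subtype.ext (Subtype.ext hg.symm))⟩
  · intro c b hb c' b' hb' he
    have hm : tmat σ c b = tmat σ c' b' :=
      congrArg (fun g : uni σ h2 h.invol => g.1.1) (e.injective he)
    have h12 := congrFun (congrFun hm 1) 2
    have h02 := congrFun (congrFun hm 0) 2
    simp [tmat] at h12 h02
    exact ⟨h12, h02⟩
  · intro c b hb c' b' hb'
    refine ⟨?_, ?_⟩
    · simp only [map_add, map_mul, h.invol]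
      linear_combination hb + hb'
    · rw [← map_mul]
      exact congrArg e (Subtype.ext (Subtype.ext (tmat_mul σ c b c' b')))

end CfsgLib.Small.SUThree
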