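import Mathlib
import Cfsg.Prelude.Def_CaseTheorems

/-!
An extension of an elementary abelian group of order 16 by a group containing the symmetric
group of degree 6, acting faithfully, has sectional 2-rank at least 5.
-/

set_option autoImplicit false
set_option linter.unusedSectionVars false
set_option linter.style.haveILetI false

open Equiv

namespace CfsgLib.Small.SixOnSixteen

variable {S : Type*} [Group S] {V : Type*} [CommGroup V] [Finite V] (ρ : S →* MulAut V)

/-- Fixed points of `s`. -/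
def fixSub (s : S) : Subgroup V := (ρ s).toMonoidHom.eqLocus (MonoidHom.id V)

/-- `v ↦ s v · v⁻¹`. -/
def disp (s : S) : V →* V :=
  MonoidHom.mk' (fun v => ρ s v * v⁻¹) fun v w => by
    rw [map_mul, mul_inv_rev, mul_comm w⁻¹, mul_mul_mul_comm]

theorem mem_fixSub {s : S} {v : V} : v ∈ fixSub ρ s ↔ ρ s v = v := Iff.rfl

theorem disp_apply (s : S) (v : V) : disp ρ s v = ρ s v * v⁻¹ := rfl

theorem card_fix_mul_card_range (s : S) :
    Nat.card (fixSub ρ s) * Nat.card (disp ρ s).range = Nat.card V := by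
  have hker : (disp ρ s).ker = fixSub ρ s := by
    ext v
    rw [MonoidHom.mem_ker, disp_apply, mem_fixSub, mul_inv_eq_one]
  rw [← hker, ← Subgroup.index_ker, Subgroup.card_mul_index]

theorem apply_mul (s t : S) (v : V) : ρ (s * t) v = ρ s (ρ t v) := by
  rw [map_mul, MulAut.mul_apply]

theorem card_fix_conj (g s : S) :
    Nat.card (fixSub ρ (g * s * g⁻¹)) = Nat.card (fixSub ρ s) := by
  refine (Nat.card_congr ((ρ g).toEquiv.subtypeEquiv fun v => ?_)).symm
  show ρ s v = v ↔ ρ (g * s * g⁻¹) (ρ g v) = ρ g v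
  rw [← apply_mul, inv_mul_cancel_right, apply_mul, (ρ g).injective.eq_iff]

variable (hexp : ∀ v : V, v * v = 1) (hcard : Nat.card V = 16)

include hexp in
theorem inv_eq' (v : V) : v⁻¹ = v := inv_eq_of_mul_eq_one_right (hexp v)

include hexp in
theorem disp_le_fix {t : S} (ht : t * t = 1) : (disp ρ t).range ≤ fixSub ρ t := by
  rintro _ ⟨v, rfl⟩
  rw [mem_fixSub, disp_apply, map_mul, map_inv, ← apply_mul, ht, map_one, MulAut.one_apply,
    inv_eq' hexp, inv_eq' hexp, mul_comm]

include hexp in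
theorem mul_self_mem {t : S} {v : V} : v * ρ t v ∈ (disp ρ t).range :=
  ⟨v, by rw [disp_apply, inv_eq' hexp, mul_comm]⟩

include hexp hcard in
/-- An involution inverting a fixed-point-free element moves a full four-group. -/
theorem inverted_fpf {t c : S} (ht : t * t = 1) (htc : t * c * t = c⁻¹)
    (hc : fixSub ρ c = ⊥) :
    Nat.card (fixSub ρ t) = 4 ∧ fixSub ρ t = (disp ρ t).range := by
  have ht' : t * c * (t * c) = 1 := by rw [← mul_assoc, htc, inv_mul_cancel]
  have key : ∀ s : S, s * s = 1 → 4 ≤ Nat.card (fixSub ρ s) := fun s hs => by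
    have h1 := card_fix_mul_card_range ρ s
    have h2 := Nat.le_of_dvd Nat.card_pos (Subgroup.card_dvd_of_le (disp_le_fix ρ hexp hs))
    rw [hcard] at h1
    nlinarith
  have hdis : ∀ v, ρ t v = v → ρ (t * c) v = v → v = 1 := fun v h1 h2 => by
    have h3 : ρ c v = v := by
      apply (ρ t).injective
      rw [← apply_mul, h2, h1]
    exact (Subgroup.eq_bot_iff_forall _).1 hc v ((mem_fixSub ρ).2 h3)
  have hinj : Function.Injective
      fun p : ↥(fixSub ρ t) × ↥(fixSub ρ (t * c)) => (p.1 : V) * p.2 := by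
    rintro ⟨x, y⟩ ⟨x', y'⟩ h
    dsimp only at h
    have h' : ((x'⁻¹ * x : ↥(fixSub ρ t)) : V) = ((y' * y⁻¹ : ↥(fixSub ρ (t * c))) : V) := by
      rw [Subgroup.coe_mul, Subgroup.coe_mul, InvMemClass.coe_inv, InvMemClass.coe_inv,
        inv_mul_eq_iff_eq_mul, ← mul_assoc, eq_mul_inv_iff_mul_eq]
      exact h
    have h0 := hdis _ (x'⁻¹ * x).2 (h'.symm ▸ (y' * y⁻¹).2)
    refine Prod.ext (inv_mul_eq_one.1 (Subtype.ext h0)).symm ?_
    exact (mul_inv_eq_one.1 (Subtype.ext (h' ▸ h0))).symm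
  have h16 := Nat.card_le_card_of_injective _ hinj
  rw [Nat.card_prod, hcard] at h16
  have h4 : Nat.card (fixSub ρ t) = 4 := by
    have := key t ht; have := key _ ht'; nlinarith
  refine ⟨h4, (Subgroup.eq_of_le_of_card_ge (disp_le_fix ρ hexp ht) ?_).symm⟩
  have h1 := card_fix_mul_card_range ρ t
  rw [h4, hcard] at h1
  omega

theorem order_three_fixed {b : S} (hb : b * b * b = 1) {F : Subgroup V}
    (hF : ∀ x ∈ F, ρ b x ∈ F) (hF4 : Nat.card F ≤ 4) {v : V} (hv : v ∈ F) (hv1 : v ≠ 1)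
    (hfix : ρ b v = v) {x : V} (hx : x ∈ F) : ρ b x = x := by
  classical
  by_contra hne
  have h3 : ρ b (ρ b (ρ b x)) = x := by
    rw [← apply_mul, ← apply_mul, hb, map_one, MulAut.one_apply]
  have hne2 : ρ b (ρ b x) ≠ ρ b x := fun h => hne ((ρ b).injective h)
  have hne3 : ρ b (ρ b x) ≠ x := fun h => hne (by rwa [h] at h3)
  have hv2 : ρ b (ρ b v) = v := by rw [hfix, hfix]
  have hx1 : x ≠ 1 := fun h => hne (by rw [h, map_one])
  have hxv : x ≠ v := fun h => hne (by rw [h, hfix])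
  let s : Finset F := {1, ⟨v, hv⟩, ⟨x, hx⟩, ⟨_, hF x hx⟩, ⟨_, hF _ (hF x hx)⟩}
  have hs : s.card = 5 := by
    have a1 : ρ b x ≠ 1 := fun h => hx1 ((ρ b).injective (by rw [h, map_one]))
    have a2 : ρ b (ρ b x) ≠ 1 := fun h => a1 ((ρ b).injective (by rw [h, map_one]))
    have a3 : ρ b x ≠ v := fun h => hxv ((ρ b).injective (by rw [h, hfix]))
    have a4 : ρ b (ρ b x) ≠ v := fun h => a3 ((ρ b).injective (by rw [h, hfix]))
    rw [Finset.card_insert_of_notMem, Finset.card_insert_of_notMem, Finset.card_insert_of_notMem,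
      Finset.card_insert_of_notMem, Finset.card_singleton] <;>
      simp only [Finset.mem_insert, Finset.mem_singleton, Subtype.ext_iff, OneMemClass.coe_one,
        not_or]
    · exact Ne.symm hne2
    · exact ⟨Ne.symm hne, Ne.symm hne3⟩
    · exact ⟨hxv.symm, a3.symm, a4.symm⟩
    · exact ⟨hv1.symm, hx1.symm, a1.symm, a2.symm⟩
  have hle : s.card ≤ Nat.card F := by
    haveI : Fintype F := Fintype.ofFinite F
    rw [Nat.card_eq_fintype_card]
    exact s.card_le_univ
  omega

include hexp hcard in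
/-- Preliminaries on an involution commuting with an element of order 3 with four fixed points. -/
theorem single_spec {t b : S} (hne : ρ t ≠ 1) (ht : t * t = 1) (htb : t * b = b * t)
    (hb3 : b * b * b = 1) (hb : Nat.card (fixSub ρ b) = 4) :
    (fixSub ρ b ⊓ fixSub ρ t = (disp ρ t).range) ∧ Nat.card (disp ρ t).range = 2 := by
  have hK : Nat.card (disp ρ b).range = 4 := by
    have h1 := card_fix_mul_card_range ρ b
    rw [hb, hcard] at h1
    omega
  have hbbb : ∀ v, ρ b (ρ b (ρ b v)) = v := fun v => by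
    rw [← apply_mul, ← apply_mul, hb3, map_one, MulAut.one_apply]
  have hcomm : ∀ v, ρ t (ρ b v) = ρ b (ρ t v) := fun v => by
    rw [← apply_mul, ← apply_mul, htb]
  have hKb : ∀ x ∈ (disp ρ b).range, ρ b x ∈ (disp ρ b).range := by
    rintro _ ⟨v, rfl⟩
    exact ⟨ρ b v, by rw [disp_apply, disp_apply, map_mul, map_inv]⟩
  have hKt : ∀ x ∈ (disp ρ b).range, ρ t x ∈ (disp ρ b).range := by
    rintro _ ⟨v, rfl⟩
    exact ⟨ρ t v, by rw [disp_apply, disp_apply, map_mul, map_inv, hcomm]⟩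
  have hnorm : ∀ v, v * ρ b v * ρ b (ρ b v) ∈ fixSub ρ b := fun v => by
    rw [mem_fixSub, map_mul, map_mul, hbbb]
    ac_rfl
  have hKfix : ∀ x ∈ (disp ρ b).range, ρ b x = x → x = 1 := by
    rintro _ ⟨v, rfl⟩ h
    have h2 : ρ b (ρ b (disp ρ b v)) = disp ρ b v := by rw [h, h]
    have key : disp ρ b v * ρ b (disp ρ b v) * ρ b (ρ b (disp ρ b v)) = 1 := by
      simp only [disp_apply, map_mul, hbbb, inv_eq' hexp]
      calc ρ b v * v * (ρ b (ρ b v) * ρ b v) * (v * ρ b (ρ b v))
          = (ρ b v * ρ b v) * (v * v) * (ρ b (ρ b v) * ρ b (ρ b v)) := by ac_rfl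
        _ = 1 := by simp only [hexp, mul_one]
    rw [h2, h, hexp, one_mul] at key
    exact key
  have htK : ∀ x ∈ (disp ρ b).range, ρ t x = x := by
    intro x hx
    by_contra hxne
    have hz : x * ρ t x ∈ (disp ρ b).range := mul_mem hx (hKt x hx)
    have hz1 : x * ρ t x ≠ 1 := fun h => hxne (by
      rw [mul_eq_one_iff_inv_eq, inv_eq' hexp] at h; exact h.symm)
    have htz : ρ t (x * ρ t x) = x * ρ t x := by
      rw [map_mul, ← apply_mul, ht, map_one, MulAut.one_apply, mul_comm]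
    have hbz : ρ b (x * ρ t x) ≠ x * ρ t x := fun h => hz1 (hKfix _ hz h)
    have hbz1 : ρ b (x * ρ t x) ≠ 1 := fun h => hz1 ((ρ b).injective (by rw [h, map_one]))
    classical
    let s : Finset ↥(disp ρ b).range := {1, ⟨_, hz⟩, ⟨_, hKb _ hz⟩, ⟨_, hKb _ (hKb _ hz)⟩}
    have hs : s.card = 4 := by
      have a1 : ρ b (ρ b (x * ρ t x)) ≠ 1 := fun h => hbz1 ((ρ b).injective (by rw [h, map_one]))
      have a2 : ρ b (ρ b (x * ρ t x)) ≠ x * ρ t x := fun h => hbz (by
        have := hbbb (x * ρ t x); rwa [h] at this)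
      have a3 : ρ b (ρ b (x * ρ t x)) ≠ ρ b (x * ρ t x) := fun h => hbz ((ρ b).injective h)
      rw [Finset.card_insert_of_notMem, Finset.card_insert_of_notMem,
        Finset.card_insert_of_notMem, Finset.card_singleton] <;>
        simp only [Finset.mem_insert, Finset.mem_singleton, Subtype.ext_iff, OneMemClass.coe_one,
          not_or]
      · exact a3.symm
      · exact ⟨hbz.symm, a2.symm⟩
      · exact ⟨hz1.symm, hbz1.symm, a1.symm⟩
    haveI : Fintype ↥(disp ρ b).range := Fintype.ofFinite _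
    have hsu : s = Finset.univ :=
      Finset.eq_univ_of_card _ (by rw [hs, ← Nat.card_eq_fintype_card, hK])
    have hmem : (⟨x, hx⟩ : ↥(disp ρ b).range) ∈ s := hsu ▸ Finset.mem_univ _
    simp only [s, Finset.mem_insert, Finset.mem_singleton, Subtype.ext_iff, OneMemClass.coe_one]
      at hmem
    rcases hmem with h | h | h | h
    · exact hxne (by rw [h, map_one])
    · exact hxne (by rw [h, htz, ← h])
    · exact hxne (by rw [h, hcomm, htz, ← h])
    · exact hxne (by rw [h, hcomm, hcomm, htz, ← h])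
  have hDb : (disp ρ t).range ≤ fixSub ρ b := by
    rintro _ ⟨v, rfl⟩
    have h1 := htK _ ⟨v, rfl⟩
    simp only [disp_apply, map_mul, inv_eq' hexp, hcomm] at h1
    rw [mem_fixSub, disp_apply, map_mul, inv_eq' hexp]
    calc ρ b (ρ t v) * ρ b v
        = (ρ b (ρ t v) * ρ t v) * (ρ t v * ρ b v) := by
          rw [mul_assoc, ← mul_assoc (ρ t v) (ρ t v), hexp, one_mul]
      _ = (ρ b v * v) * (ρ t v * ρ b v) := by rw [h1]
      _ = (ρ t v * v) * (ρ b v * ρ b v) := by ac_rfl
      _ = ρ t v * v := by rw [hexp, mul_one]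
  have hle : (disp ρ t).range ≤ fixSub ρ b ⊓ fixSub ρ t := le_inf hDb (disp_le_fix ρ hexp ht)
  have hlt : Nat.card ↥(fixSub ρ b ⊓ fixSub ρ t) ≠ 4 := by
    intro h4
    have hall : fixSub ρ b ≤ fixSub ρ t := inf_eq_left.1
      (Subgroup.eq_of_le_of_card_ge inf_le_left (by rw [h4, hb]))
    apply hne
    refine MulEquiv.ext fun v => ?_
    rw [MulAut.one_apply]
    have h1 : ρ t (v * ρ b v * ρ b (ρ b v)) = v * ρ b v * ρ b (ρ b v) := hall (hnorm v)
    have h2 : ρ t (ρ b v * ρ b (ρ b v)) = ρ b v * ρ b (ρ b v) :=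
      htK _ ⟨ρ b v, by rw [disp_apply, inv_eq' hexp, mul_comm]⟩
    rw [mul_assoc, map_mul, h2] at h1
    exact mul_right_cancel h1
  have hdvd : Nat.card ↥(fixSub ρ b ⊓ fixSub ρ t) ∣ 4 := hb ▸ Subgroup.card_dvd_of_le inf_le_left
  have h2 : Nat.card ↥(fixSub ρ b ⊓ fixSub ρ t) ≤ 2 := by
    have hle4 := Nat.le_of_dvd (by norm_num) hdvd
    interval_cases Nat.card ↥(fixSub ρ b ⊓ fixSub ρ t) <;> omega
  have hD2 : 2 ≤ Nat.card (disp ρ t).range := by
    by_contra hlt2
    have : (disp ρ t).range = ⊥ := Subgroup.card_le_one_iff_eq_bot _ |>.1 (by omega)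
    apply hne
    refine MulEquiv.ext fun v => ?_
    have h : disp ρ t v ∈ (disp ρ t).range := ⟨v, rfl⟩
    rw [this, Subgroup.mem_bot, disp_apply, mul_inv_eq_one] at h
    exact h
  have hge : Nat.card (disp ρ t).range ≤ Nat.card ↥(fixSub ρ b ⊓ fixSub ρ t) :=
    Nat.le_of_dvd Nat.card_pos (Subgroup.card_dvd_of_le hle)
  exact ⟨(Subgroup.eq_of_le_of_card_ge hle (by omega)).symm, by omega⟩

/-- `t` is an involution commuting with an element of order 3 having four fixed points. -/
def IsSingle (t : S) : Prop :=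
  t ≠ 1 ∧ t * t = 1 ∧ ∃ b, t * b = b * t ∧ b * b * b = 1 ∧ Nat.card (fixSub ρ b) = 4

/-- `t` is an involution inverting a fixed-point-free element. -/
def IsInverted (t : S) : Prop :=
  t * t = 1 ∧ ∃ c, t * c * t = c⁻¹ ∧ fixSub ρ c = ⊥

include hexp hcard in
theorem range_le_fix (hρ : Function.Injective ρ) {t y : S} (ht : IsSingle ρ t)
    (hty : t * y = y * t) : (disp ρ t).range ≤ fixSub ρ y := by
  obtain ⟨hne, ht2, b, htb, hb3, hb⟩ := ht
  have h2 := (single_spec ρ hexp hcard (fun h => hne (hρ (by rw [h, map_one]))) ht2 htb hb3 hb).2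
  intro z hz
  rw [mem_fixSub]
  by_cases hz1 : z = 1
  · rw [hz1, map_one]
  have hzy : ρ y z ∈ (disp ρ t).range := by
    obtain ⟨v, rfl⟩ := hz
    exact ⟨ρ y v, by rw [disp_apply, disp_apply, map_mul, map_inv, ← apply_mul, hty, apply_mul]⟩
  have hu := (Nat.card_eq_two_iff' (1 : ↥(disp ρ t).range)).1 h2
  exact congrArg Subtype.val (hu.unique (y₁ := (⟨ρ y z, hzy⟩ : ↥(disp ρ t).range))
    (y₂ := ⟨z, hz⟩)
    (fun h => hz1 ((ρ y).injective (by rw [map_one]; exact congrArg Subtype.val h)))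
    (fun h => hz1 (congrArg Subtype.val h)))

theorem range_mul_le (x y : S) :
    (disp ρ (x * y)).range ≤ (disp ρ x).range ⊔ (disp ρ y).range := by
  rintro _ ⟨v, rfl⟩
  have : disp ρ (x * y) v = disp ρ x (ρ y v) * disp ρ y v := by
    simp only [disp_apply, apply_mul, mul_assoc, inv_mul_cancel_left]
  rw [this]
  exact Subgroup.mul_mem_sup ⟨_, rfl⟩ ⟨_, rfl⟩

end CfsgLib.Small.SixOnSixteen

namespace CfsgLib.Small.SixOnSixteen

/-- Conjugation on an abelian normal subgroup, as an action of the quotient. -/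
noncomputable def quotientAct {Y : Type*} [Group Y] (K : Subgroup Y) [K.Normal]
    [IsMulCommutative K] : Y ⧸ K →* MulAut K :=
  QuotientGroup.lift K MulAut.conjNormal fun k hk => by
    rw [MonoidHom.mem_ker]
    refine MulEquiv.ext fun v => Subtype.ext ?_
    rw [MulAut.conjNormal_apply, MulAut.one_apply]
    have h : k * (v : Y) = v * k :=
      congrArg Subtype.val (IsMulCommutative.is_comm.comm (⟨k, hk⟩ : K) v)
    rw [h, mul_inv_cancel_right]

theorem quotientAct_mk {Y : Type*} [Group Y] (K : Subgroup Y) [K.Normal] [IsMulCommutative K]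
    (y : Y) (v : K) : ((quotientAct K (y : Y ⧸ K) v : K) : Y) = y * v * y⁻¹ :=
  MulAut.conjNormal_apply y v

open scoped IsMulCommutative in
/-- The general criterion. -/
theorem not_sectionalPRankLE_of_config {Y : Type*} [Group Y] [Finite Y] {G : Type*} [Group G]
    (K : Subgroup Y) [K.Normal] [IsMulCommutative K] (hexp : ∀ v : K, v * v = 1)
    (hcard : Nat.card K = 16) (ι : G →* Y ⧸ K) (hι : Function.Injective ι)
    (hρ : Function.Injective ((quotientAct K).comp ι))
    (U : Subgroup G) (hU8 : Nat.card U = 8)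
    (hcomm : ∀ x ∈ U, ∀ y ∈ U, x * y = y * x)
    (hU : ∀ x ∈ U, x = 1 ∨ IsSingle ((quotientAct K).comp ι) x ∨
      IsInverted ((quotientAct K).comp ι) x)
    {t1 t2 : G} (h1 : t1 ∈ U) (h2 : t2 ∈ U) (hs1 : IsSingle ((quotientAct K).comp ι) t1)
    (hs2 : IsSingle ((quotientAct K).comp ι) t2)
    (h12 : IsInverted ((quotientAct K).comp ι) (t1 * t2)) :
    ¬ Cfsg.SectionalPRankLE 2 4 Y := by
  intro hsec
  set ρ := (quotientAct K).comp ι with hρdef
  obtain ⟨h0, c, hc, hcf⟩ := h12
  obtain ⟨hW4, hWD⟩ := inverted_fpf ρ hexp hcard h0 hc hcf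
  set W := fixSub ρ (t1 * t2) with hW
  have hWfix : ∀ y ∈ U, W ≤ fixSub ρ y := fun y hy => by
    rw [hWD]
    exact (range_mul_le ρ t1 t2).trans (sup_le
      (range_le_fix ρ hexp hcard hρ hs1 (hcomm _ h1 _ hy))
      (range_le_fix ρ hexp hcard hρ hs2 (hcomm _ h2 _ hy)))
  set E : Subgroup Y := (U.map ι).comap (QuotientGroup.mk' K) with hE
  have hKE : K ≤ E := fun k hk => by
    rw [hE, Subgroup.mem_comap, show QuotientGroup.mk' K k = 1 from
      (QuotientGroup.eq_one_iff k).2 hk]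
    exact one_mem _
  set W' : Subgroup Y := W.map K.subtype with hW'
  have hcent : ∀ y ∈ E, ∀ w ∈ W', y * w * y⁻¹ = w := by
    rintro y ⟨x, hx, hxy⟩ _ ⟨w, hw, rfl⟩
    have h := (mem_fixSub ρ).1 (hWfix x hx hw)
    have h' := congrArg Subtype.val h
    rw [hρdef, MonoidHom.comp_apply, hxy] at h'
    rw [QuotientGroup.mk'_apply, quotientAct_mk] at h'
    exact h'
  have hsq : ∀ y ∈ E, y * y ∈ W' := by
    rintro y ⟨x, hx, hxy⟩
    have hyK : ∀ z : Y, x * x = 1 → ι x = (z : Y ⧸ K) → z * z ∈ K := fun z hxx hz => by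
      rw [← QuotientGroup.eq_one_iff, QuotientGroup.mk_mul, ← hz, ← map_mul, hxx, map_one]
    have hfix : ∀ z : Y, ∀ hzz : z * z ∈ K, ι x = (z : Y ⧸ K) → (⟨_, hzz⟩ : K) ∈ fixSub ρ x :=
      fun z hzz hz => by
        rw [mem_fixSub]
        apply Subtype.ext
        rw [hρdef, MonoidHom.comp_apply, hz, quotientAct_mk]
        group
    rcases hU x hx with rfl | hs | ⟨hxx, d, hd, hdf⟩
    · rw [map_one] at hxy
      have hy : y ∈ K := (QuotientGroup.eq_one_iff y).1 hxy.symm
      rw [show y * y = 1 from congrArg Subtype.val (hexp ⟨y, hy⟩)]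
      exact one_mem _
    · have hDW : (disp ρ x).range ≤ W :=
        range_le_fix ρ hexp hcard hρ hs (hcomm _ hx _ (mul_mem h1 h2))
      obtain ⟨hne, hxx, b, hxb, hb3, hb⟩ := hs
      obtain ⟨hspec, -⟩ := single_spec ρ hexp hcard (fun h => hne (hρ (by rw [h, map_one])))
        hxx hxb hb3 hb
      obtain ⟨b1, hb1⟩ := QuotientGroup.mk_surjective (ι b)
      have hb1K : b1 ^ 3 ∈ K := by
        rw [← QuotientGroup.eq_one_iff, QuotientGroup.mk_pow, hb1, ← map_pow, pow_three',
          hb3, map_one]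
      set B := b1 ^ 4 with hB
      have hBmk : (B : Y ⧸ K) = ι b := by
        rw [hB, QuotientGroup.mk_pow, hb1, ← map_pow, pow_succ, pow_three', hb3, one_mul]
      have hB3 : B * B * B = 1 := by
        have h6 : b1 ^ 3 * b1 ^ 3 = 1 := congrArg Subtype.val (hexp ⟨_, hb1K⟩)
        rw [hB, ← pow_add, ← pow_add, show 4 + 4 + 4 = (3 + 3) + (3 + 3) from rfl, pow_add, pow_add,
          h6, one_mul]
      have hymk : (y : Y ⧸ K) = ι x := hxy.symm
      have hu : y * B * y⁻¹ * B⁻¹ ∈ K := by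
        rw [← QuotientGroup.eq_one_iff, QuotientGroup.mk_mul, QuotientGroup.mk_mul,
          QuotientGroup.mk_mul, QuotientGroup.mk_inv, QuotientGroup.mk_inv, hBmk, hymk, ← map_inv,
          ← map_inv, ← map_mul, ← map_mul, ← map_mul, hxb, mul_inv_cancel_right, mul_inv_cancel,
          map_one]
      set u : K := ⟨_, hu⟩ with hudef
      have hact : ∀ v : K, ((ρ b v : K) : Y) = B * v * B⁻¹ := fun v => by
        rw [hρdef, MonoidHom.comp_apply, ← hBmk, quotientAct_mk]
      have hN : u * ρ b u * ρ b (ρ b u) = 1 := by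
        apply Subtype.ext
        rw [Subgroup.coe_mul, Subgroup.coe_mul, hact, hact, hact, Subgroup.coe_one]
        show (y * B * y⁻¹ * B⁻¹) * (B * (y * B * y⁻¹ * B⁻¹) * B⁻¹) *
          (B * (B * (y * B * y⁻¹ * B⁻¹) * B⁻¹) * B⁻¹) = 1
        calc _ = y * (B * B * B) * y⁻¹ * (B * B * B)⁻¹ := by group
          _ = 1 := by simp [hB3]
      set w : K := ρ b u with hwdef
      have hwu : w * u = ρ b w := by
        rw [← inv_eq' hexp (w * u)]
        refine inv_eq_of_mul_eq_one_right ?_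
        rw [mul_comm w u]
        exact hN
      set z := (w : Y) * y with hz
      have hzmk : ι x = (z : Y ⧸ K) := by
        rw [hz, QuotientGroup.mk_mul, (QuotientGroup.eq_one_iff (w : Y)).2 w.2, one_mul, hymk]
      have hzB : z * B = B * z := by
        have h' : (w : Y) * (y * B * y⁻¹ * B⁻¹) = B * (w : Y) * B⁻¹ :=
          (congrArg Subtype.val hwu).trans (hact w)
        calc z * B = ((w : Y) * (y * B * y⁻¹ * B⁻¹)) * B * y := by rw [hz]; group
          _ = B * z := by rw [h', hz]; group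
      have hzz := hyK z hxx hzmk
      have hmem : (⟨_, hzz⟩ : K) ∈ W := by
        apply hDW
        rw [← hspec]
        refine ⟨?_, hfix z hzz hzmk⟩
        show ρ b _ = _
        apply Subtype.ext
        rw [hact]
        show B * (z * z) * B⁻¹ = z * z
        rw [← mul_assoc B, ← hzB, mul_assoc z B, ← hzB, ← mul_assoc, mul_inv_cancel_right]
      have h2' : w * ρ x w ∈ W := hDW (mul_self_mem ρ hexp)
      refine ⟨w * ρ x w * ⟨_, hzz⟩, mul_mem h2' hmem, ?_⟩
      have hwx : ((ρ x w : K) : Y) = y * w * y⁻¹ := by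
        rw [hρdef, MonoidHom.comp_apply, ← hymk, quotientAct_mk]
      have hww : (w : Y) * w = 1 := congrArg Subtype.val (hexp w)
      show (w : Y) * ((ρ x w : K) : Y) * (z * z) = y * y
      rw [hwx, hz]
      have e : y⁻¹ * ((w : Y) * y) = (y⁻¹ * w * y) := by group
      have hc' : (w : Y) * (y * w * y⁻¹) = (y * w * y⁻¹) * w :=
        congrArg Subtype.val (mul_comm w ⟨_, Subgroup.Normal.conj_mem inferInstance _ w.2 y⟩)
      rw [hc']
      calc y * w * y⁻¹ * w * ((w : Y) * y * ((w : Y) * y))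
          = y * w * y⁻¹ * ((w : Y) * w) * y * w * y := by group
        _ = y * ((w : Y) * w) * y := by rw [hww, mul_one, inv_mul_cancel_right, mul_assoc y (w : Y) w, hww, mul_one]
        _ = y * y := by rw [hww, mul_one]
    · obtain ⟨hd4, -⟩ := inverted_fpf ρ hexp hcard hxx hd hdf
      have hEq : W = fixSub ρ x :=
        Subgroup.eq_of_le_of_card_ge (hWfix x hx) (by rw [hd4, hW4])
      exact ⟨⟨_, hyK y hxx hxy⟩, hEq ▸ hfix y _ hxy, rfl⟩
  have hWE : W' ≤ E := (Subgroup.map_subtype_le W).trans hKE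
  haveI : (W'.subgroupOf E).Normal := ⟨fun w hw y => by
    rw [Subgroup.mem_subgroupOf] at hw ⊢
    rw [Subgroup.coe_mul, Subgroup.coe_mul, InvMemClass.coe_inv, hcent y y.2 w hw]
    exact hw⟩
  have hsq' : ∀ a : ↥E ⧸ W'.subgroupOf E, a * a = 1 := by
    intro a
    induction a using QuotientGroup.induction_on with
    | H y =>
      rw [← QuotientGroup.mk_mul, QuotientGroup.eq_one_iff, Subgroup.mem_subgroupOf]
      exact hsq y y.2
  have hcardE : Nat.card E = 128 := by
    let p : ↥E →* Y ⧸ K := (QuotientGroup.mk' K).comp E.subtype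
    have hk : p.ker = K.subgroupOf E := by
      ext e
      simp [p, Subgroup.mem_subgroupOf, QuotientGroup.eq_one_iff]
    have hr : p.range = U.map ι := by
      rw [MonoidHom.range_comp, Subgroup.range_subtype, hE,
        Subgroup.map_comap_eq_self_of_surjective (QuotientGroup.mk'_surjective K)]
    rw [← Subgroup.card_mul_index p.ker, Subgroup.index_ker, hk, hr,
      Nat.card_congr (Subgroup.subgroupOfEquivOfLe hKE).toEquiv, hcard,
      ← Nat.card_congr (U.equivMapOfInjective ι hι).toEquiv, hU8]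
  have hcq : Nat.card (↥E ⧸ W'.subgroupOf E) = 32 := by
    have h := Subgroup.card_eq_card_quotient_mul_card_subgroup (W'.subgroupOf E)
    rw [hcardE, Nat.card_congr (Subgroup.subgroupOfEquivOfLe hWE).toEquiv,
      ← Nat.card_congr (W.equivMapOfInjective _ K.subtype_injective).toEquiv, hW4] at h
    omega
  have hle := hsec E (W'.subgroupOf E) ⊤
    ⟨⟨fun a b => Subtype.ext (by
      have e : ∀ q : ↥E ⧸ W'.subgroupOf E, q⁻¹ = q := fun q => inv_eq_of_mul_eq_one_right (hsq' q)
      show (a : ↥E ⧸ W'.subgroupOf E) * b = b * a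
      rw [← e (a * b), mul_inv_rev, e, e])⟩⟩
    (fun a _ => by rw [pow_two]; exact hsq' a)
  rw [Subgroup.card_top, hcq] at hle
  omega

end CfsgLib.Small.SixOnSixteen
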