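import Cfsg.Agent.Lib.Small.SixOnSixteen
import Cfsg.Agent.Lib.Coprime.Action2

/-!
No group of sectional 2-rank at most 4 has the symmetric group of degree 6 acting faithfully on
a section of order 16 that it extends.
-/

set_option autoImplicit false
set_option linter.style.haveILetI false
set_option maxRecDepth 10000

open Equiv

namespace CfsgLib.Small.SixOnSixteen

variable {S : Type*} [Group S] {V : Type*} [CommGroup V] [Finite V] (ρ : S →* MulAut V)

/-- An element of order 3 has 1, 4 or all 16 fixed points. -/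
theorem card_fix_eq_four (hcard : Nat.card V = 16) {s : S} (hs : s * s * s = 1) (hne : ρ s ≠ 1)
    (hfix : fixSub ρ s ≠ ⊥) : Nat.card (fixSub ρ s) = 4 := by
  haveI : Fact (Nat.Prime 3) := ⟨by norm_num⟩
  set A := Subgroup.zpowers (ρ s) with hA
  have hA3 : IsPGroup 3 A := by
    intro g
    refine ⟨1, ?_⟩
    obtain ⟨n, hn⟩ := Subgroup.mem_zpowers_iff.1 g.2
    apply Subtype.ext
    rw [pow_one, SubmonoidClass.coe_pow, ← hn, ← zpow_natCast, ← zpow_mul, mul_comm, zpow_mul,
      zpow_natCast, ← map_pow, show s ^ 3 = 1 by rw [pow_three', hs], map_one, one_zpow]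
    rfl
  have hset : MulAction.fixedPoints A V = (fixSub ρ s : Set V) := by
    ext v
    refine ⟨fun h => h ⟨ρ s, Subgroup.mem_zpowers _⟩, fun h g => ?_⟩
    have : ρ s ∈ MulAction.stabilizer (MulAut V) v := h
    exact (Subgroup.zpowers_le.2 this) g.2
  have hmod := hA3.card_modEq_card_fixedPoints V
  rw [hset, SetLike.coe_sort_coe, hcard] at hmod
  have hd : Nat.card (fixSub ρ s) ∣ 2 ^ 4 := by
    rw [show (2 : ℕ) ^ 4 = Nat.card V by rw [hcard]; rfl]
    exact Subgroup.card_subgroup_dvd_card _
  obtain ⟨k, hk, hk'⟩ := (Nat.dvd_prime_pow Nat.prime_two).1 hd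
  rw [hk'] at hmod ⊢
  have h0 : k ≠ 0 := fun h => hfix (Subgroup.eq_bot_iff_card _ |>.2 (by rw [hk', h]; rfl))
  have h4 : k ≠ 4 := fun h => hne (MulEquiv.ext fun v => by
    have : fixSub ρ s = ⊤ := Subgroup.eq_top_of_card_eq _ (by rw [hk', h, hcard]; rfl)
    exact (mem_fixSub ρ).1 (this ▸ Subgroup.mem_top v))
  unfold Nat.ModEq at hmod
  interval_cases k <;> simp_all

/-- Commuting elements of order 3 with four fixed points each have no common fixed point, and
their product has none at all. -/
theorem fix_mul_eq_bot (hcard : Nat.card V = 16) (hρ : Function.Injective ρ) {a b : S}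
    (ha : a * a * a = 1) (hb : b * b * b = 1) (hab : a * b = b * a) (hne : b ≠ 1)
    (hne1 : a * b ≠ 1) (hne2 : a * a * b ≠ 1)
    (hA : Nat.card (fixSub ρ a) = 4) (hB : Nat.card (fixSub ρ b) = 4) :
    fixSub ρ (a * b) = ⊥ := by
  have hca : ∀ v, ρ a (ρ b v) = ρ b (ρ a v) := fun v => by
    rw [← apply_mul, ← apply_mul, hab]
  have ha3 : ∀ v, ρ a (ρ a (ρ a v)) = v := fun v => by
    rw [← apply_mul, ← apply_mul, ha, map_one, MulAut.one_apply]
  have hinvA : ∀ x ∈ fixSub ρ a, ρ b x ∈ fixSub ρ a := fun x hx => by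
    rw [mem_fixSub] at hx ⊢
    rw [hca, hx]
  have hcommon : ∀ v ∈ fixSub ρ a, ρ b v = v → v = 1 := by
    intro v hv hbv
    by_contra hv1
    have hall : fixSub ρ a = fixSub ρ b := Subgroup.eq_of_le_of_card_ge
      (fun x hx => order_three_fixed ρ hb hinvA hA.le hv hv1 hbv hx) (by rw [hA, hB])
    set K := (disp ρ a).range with hK
    have hK4 : Nat.card K = 4 := by
      have h1 := card_fix_mul_card_range ρ a
      rw [hA, hcard, ← hK] at h1
      omega
    have hKinv : ∀ s, s * a = a * s → ∀ x ∈ K, ρ s x ∈ K := by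
      rintro s hsa _ ⟨w, rfl⟩
      exact ⟨ρ s w, by rw [disp_apply, disp_apply, map_mul, map_inv, ← apply_mul, ← apply_mul, hsa]⟩
    have hKfix : ∀ x ∈ K, ρ a x = x → x = 1 := by
      rintro _ ⟨w, rfl⟩ h
      rw [disp_apply] at h ⊢
      set f := ρ a w * w⁻¹ with hf
      have h1 : ρ a w = f * w := by rw [hf, inv_mul_cancel_right]
      have h2 : ρ a (ρ a (ρ a w)) = f * f * f * w := by
        simp only [h1, map_mul, h, mul_assoc]
      rw [ha3, eq_comm, mul_eq_right] at h2
      have h16 := pow_card_eq_one' (x := f)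
      rw [hcard, show 16 = 3 * 5 + 1 from rfl, pow_succ, pow_mul, pow_three', h2, one_pow,
        one_mul] at h16
      exact h16
    obtain ⟨x, hx1⟩ : ∃ x : K, x ≠ 1 :=
      haveI : Nontrivial K := Finite.one_lt_card_iff_nontrivial.1 (by omega)
      exists_ne 1
    have hxa : ρ a x ≠ x := fun h => hx1 (Subtype.ext (hKfix _ x.2 h))
    have hxK : ρ a x ∈ K := hKinv a rfl _ x.2
    classical
    let t : Finset K := {1, x, ⟨ρ a x, hxK⟩, ⟨ρ a (ρ a x), hKinv a rfl _ hxK⟩}
    have hv0 : (x : V) ≠ 1 := fun h => hx1 (Subtype.ext h)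
    have a1 : ρ a x ≠ 1 := fun h => hv0 ((ρ a).injective (by rw [h, map_one]))
    have a2 : ρ a (ρ a x) ≠ 1 := fun h => a1 ((ρ a).injective (by rw [h, map_one]))
    have a3 : ρ a (ρ a x) ≠ x := fun h => hxa (by have := ha3 x; rwa [h] at this)
    have a4 : ρ a (ρ a x) ≠ ρ a x := fun h => hxa ((ρ a).injective h)
    have ht : t.card = 4 := by
      rw [Finset.card_insert_of_notMem, Finset.card_insert_of_notMem,
        Finset.card_insert_of_notMem, Finset.card_singleton] <;>
        simp only [Finset.mem_insert, Finset.mem_singleton, Subtype.ext_iff, OneMemClass.coe_one,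
          not_or]
      · exact a4.symm
      · exact ⟨hxa.symm, a3.symm⟩
      · exact ⟨hv0.symm, a1.symm, a2.symm⟩
    haveI : Fintype K := Fintype.ofFinite _
    have htu : t = Finset.univ :=
      Finset.eq_univ_of_card _ (by rw [ht, ← Nat.card_eq_fintype_card, hK4])
    have hbx : ρ b x ∈ K := hKinv b hab.symm _ x.2
    have hmem : (⟨_, hbx⟩ : K) ∈ t := htu ▸ Finset.mem_univ _
    simp only [t, Finset.mem_insert, Finset.mem_singleton, Subtype.ext_iff, OneMemClass.coe_one]
      at hmem
    have kill : ∀ s, s * s * s = 1 → s * a = a * s → ρ s x = x →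
        (∀ w ∈ fixSub ρ a, ρ s w = w) → ρ s = 1 := by
      intro s hs hsa hsx hsA
      refine MulEquiv.ext fun w => ?_
      rw [MulAut.one_apply]
      have hd : disp ρ a (ρ s w * w⁻¹) = 1 := by
        have h1 := order_three_fixed ρ hs (hKinv s hsa) hK4.le x.2 hv0 hsx ⟨w, rfl⟩
        rw [disp_apply] at h1 ⊢
        rw [map_mul, map_inv, ← apply_mul, hsa, apply_mul, mul_inv_eq_iff_eq_mul] at h1
        rw [mul_inv_eq_one, map_mul, map_inv, h1, mul_inv_eq_iff_eq_mul]
        ac_rfl
      rw [disp_apply, mul_inv_eq_one] at hd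
      have hfx : ρ s (ρ s w * w⁻¹) = ρ s w * w⁻¹ := hsA _ hd
      set f := ρ s w * w⁻¹ with hf
      have h1 : ρ s w = f * w := by rw [hf, inv_mul_cancel_right]
      have h2 : ρ s (ρ s (ρ s w)) = f * f * f * w := by
        simp only [h1, map_mul, hfx, mul_assoc]
      rw [← apply_mul, ← apply_mul, hs, map_one, MulAut.one_apply, eq_comm, mul_eq_right] at h2
      have h16 := pow_card_eq_one' (x := f)
      rw [hcard, show 16 = 3 * 5 + 1 from rfl, pow_succ, pow_mul, pow_three', h2, one_pow,
        one_mul] at h16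
      rw [h1, h16, one_mul]
    have hbA : ∀ w ∈ fixSub ρ a, ρ b w = w := fun w hw => by rw [hall] at hw; exact hw
    have c1 : Commute a b := hab
    rcases hmem with h | h | h | h
    · exact hv0 ((ρ b).injective (by rw [h, map_one]))
    · exact hne (hρ (by rw [kill b hb hab.symm h hbA, map_one]))
    · have h3 : (a * a * b) * (a * a * b) * (a * a * b) = 1 := by
        rw [← pow_three' (a * a * b), (c1.mul_left c1).mul_pow, (Commute.refl a).mul_pow,
          pow_three', pow_three', ha, hb, one_mul, one_mul]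
      have hcm : (a * a * b) * a = a * (a * a * b) :=
        (((Commute.refl a).mul_left (Commute.refl a)).mul_left c1.symm).eq
      have hk := kill _ h3 hcm (by rw [apply_mul, apply_mul, h, ha3])
        (fun w hw => by rw [apply_mul, apply_mul, hbA w hw, (mem_fixSub ρ).1 hw, (mem_fixSub ρ).1 hw])
      exact hne2 (hρ (by rw [hk, map_one]))
    · have h3 : (a * b) * (a * b) * (a * b) = 1 := by
        rw [← pow_three' (a * b), c1.mul_pow, pow_three', pow_three', ha, hb, one_mul]
      have hcm : (a * b) * a = a * (a * b) := ((Commute.refl a).mul_left c1.symm).eq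
      have hk := kill _ h3 hcm (by rw [apply_mul, h, ha3])
        (fun w hw => by rw [apply_mul, hbA w hw, (mem_fixSub ρ).1 hw])
      exact hne1 (hρ (by rw [hk, map_one]))
  have hinj : Function.Injective
      fun p : ↥(fixSub ρ a) × ↥(fixSub ρ b) => (p.1 : V) * p.2 := by
    rintro ⟨x, y⟩ ⟨x', y'⟩ h
    dsimp only at h
    have h' : ((x'⁻¹ * x : ↥(fixSub ρ a)) : V) = ((y' * y⁻¹ : ↥(fixSub ρ b)) : V) := by
      rw [Subgroup.coe_mul, Subgroup.coe_mul, InvMemClass.coe_inv, InvMemClass.coe_inv,
        inv_mul_eq_iff_eq_mul, ← mul_assoc, eq_mul_inv_iff_mul_eq]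
      exact h
    have h0 := hcommon _ (x'⁻¹ * x).2 (h'.symm ▸ (y' * y⁻¹).2)
    refine Prod.ext (inv_mul_eq_one.1 (Subtype.ext h0)).symm ?_
    exact (mul_inv_eq_one.1 (Subtype.ext (h' ▸ h0))).symm
  have hbij := (Nat.bijective_iff_injective_and_card _).2 ⟨hinj, by
    rw [Nat.card_prod, hA, hB, hcard]⟩
  rw [Subgroup.eq_bot_iff_forall]
  intro v hv
  obtain ⟨⟨⟨x, hx⟩, ⟨y, hy⟩⟩, rfl⟩ := hbij.2 v
  have hxA : ρ a x = x := hx
  have hyB : ρ b y = y := hy
  have h : ρ (a * b) (x * y) = x * y := hv
  rw [map_mul, apply_mul, apply_mul, hca, hxA, hyB] at h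
  have hpair := hinj (a₁ := (⟨ρ b x, hinvA x hx⟩, ⟨ρ a y, by
    rw [mem_fixSub, ← hca, hyB]⟩)) (a₂ := (⟨x, hx⟩, ⟨y, hy⟩)) h
  have hx1 : x = 1 := hcommon x hx (congrArg (fun p => (p.1 : V)) hpair)
  have hy1 : y = 1 := hcommon y ((mem_fixSub ρ).2 (congrArg (fun p => (p.2 : V)) hpair)) hyB
  show x * y = 1
  rw [hx1, hy1, one_mul]

end CfsgLib.Small.SixOnSixteen

namespace CfsgLib.Small.SixOnSixteen

/-- A 3-cycle of `Fin 6`. -/
def cyc (x y z : Fin 6) : Perm (Fin 6) := swap x y * swap y z

/-- Two elements of order dividing 3 with supports of equal size are conjugate. -/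
theorem isConj_of_cube {α : Type*} [Fintype α] [DecidableEq α] {s s' : Perm α}
    (hs : s * s * s = 1) (hs' : s' * s' * s' = 1) (hcard : s.support.card = s'.support.card) :
    IsConj s s' := by
  have key : ∀ r : Perm α, r * r * r = 1 →
      r.cycleType = Multiset.replicate r.cycleType.card 3 ∧ r.cycleType.card * 3 = r.support.card := by
    intro r hr
    have h3 : r.cycleType = Multiset.replicate r.cycleType.card 3 := by
      refine Multiset.eq_replicate_card.2 fun n hn => ?_
      have h1 : n ∣ 3 := (Perm.dvd_of_mem_cycleType hn).trans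
        (orderOf_dvd_of_pow_eq_one (by rw [pow_three', hr]))
      have h2 := Perm.two_le_of_mem_cycleType hn
      have h4 := Nat.le_of_dvd (by norm_num) h1
      interval_cases n <;> omega
    refine ⟨h3, ?_⟩
    have h := r.sum_cycleType
    rw [h3, Multiset.sum_replicate, smul_eq_mul] at h
    exact h
  obtain ⟨h1, h2⟩ := key s hs
  obtain ⟨h1', h2'⟩ := key s' hs'
  rw [Perm.isConj_iff_cycleType_eq, h1, h1', show s.cycleType.card = s'.cycleType.card by omega]

/-- The criterion for the symmetric group of degree 6. -/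
theorem not_sectionalPRankLE_perm_six {Y : Type*} [Group Y] [Finite Y]
    (K : Subgroup Y) [K.Normal] [IsMulCommutative K] (hexp : ∀ v : K, v * v = 1)
    (hcard : Nat.card K = 16) (ι : Perm (Fin 6) →* Y ⧸ K) (hι : Function.Injective ι)
    (hρ : Function.Injective ((quotientAct K).comp ι)) :
    ¬ Cfsg.SectionalPRankLE 2 4 Y := by
  open scoped IsMulCommutative in
  classical
  set ρ := (quotientAct K).comp ι with hρdef
  set a : Perm (Fin 6) := cyc 0 1 2 with ha
  set b : Perm (Fin 6) := cyc 3 4 5 with hb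
  have trans : ∀ s s' : Perm (Fin 6), s * s * s = 1 → s' * s' * s' = 1 →
      s.support.card = s'.support.card → Nat.card (fixSub ρ s) = Nat.card (fixSub ρ s') := by
    intro s s' h1 h2 h3
    obtain ⟨g, hg⟩ := isConj_iff.1 (isConj_of_cube h1 h2 h3)
    rw [← hg, card_fix_conj]
  have four : ∀ s : Perm (Fin 6), s * s * s = 1 → s ≠ 1 → fixSub ρ s ≠ ⊥ →
      Nat.card (fixSub ρ s) = 4 := fun s h1 h2 h3 =>
    card_fix_eq_four ρ hcard h1 (fun h => h2 (hρ (by rw [h, map_one]))) h3
  have botof : ∀ s s' : Perm (Fin 6), s * s * s = 1 → s' * s' * s' = 1 →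
      s.support.card = s'.support.card → fixSub ρ s = ⊥ → fixSub ρ s' = ⊥ := fun s s' h1 h2 h3 h => by
    rw [Subgroup.eq_bot_iff_card, ← trans s s' h1 h2 h3, h, Subgroup.card_bot]
  by_cases hA : fixSub ρ a = ⊥
  · have hB : fixSub ρ b = ⊥ := botof a b (by decide) (by decide) (by decide) hA
    have hAB : fixSub ρ (a * b) ≠ ⊥ := by
      intro h
      have h2 : fixSub ρ (a * b ^ 2) = ⊥ :=
        botof (a * b) _ (by decide) (by decide) (by decide) h
      obtain ⟨v, hv⟩ : ∃ v : K, v ≠ 1 :=
        haveI : Nontrivial K := Finite.one_lt_card_iff_nontrivial.1 (by omega)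
        exists_ne 1
      apply hv
      refine CfsgLib.Coprime.eq_one_of_fixedPointFree_pair (q := 3) (by norm_num) ?_ (ρ a) (ρ b)
        ?_ ?_ ?_ ?_ ?_ v
      · intro w hw
        rwa [pow_three', hexp, one_mul] at hw
      · rw [Commute, SemiconjBy, ← map_mul, ← map_mul, show a * b = b * a by decide]
      · rw [← map_pow, show a ^ 3 = 1 by decide, map_one]
      · rw [← map_pow, show b ^ 3 = 1 by decide, map_one]
      · exact fun w hw => (Subgroup.eq_bot_iff_forall _).1 hB w hw
      · intro i hi w hw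
        rw [← map_pow, ← map_mul] at hw
        interval_cases i
        · exact (Subgroup.eq_bot_iff_forall _).1 hA w (by rwa [pow_zero, mul_one] at hw)
        · exact (Subgroup.eq_bot_iff_forall _).1 h w (by rwa [pow_one] at hw)
        · exact (Subgroup.eq_bot_iff_forall _).1 h2 w hw
    have hAB4 := four (a * b) (by decide) (by decide) hAB
    have single : ∀ t d : Perm (Fin 6), t ≠ 1 → t * t = 1 → t * d = d * t → d * d * d = 1 →
        d.support.card = 6 → IsSingle ρ t := fun t d h1 h2 h3 h4 h5 =>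
      ⟨h1, h2, d, h3, h4, by rw [trans d (a * b) h4 (by decide) (h5.trans (by decide)), hAB4]⟩
    have inv : ∀ t d : Perm (Fin 6), t * t = 1 → t * d * t = d⁻¹ → d * d * d = 1 →
        d.support.card = 3 → IsInverted ρ t := fun t d h1 h2 h3 h4 =>
      ⟨h1, d, h2, botof a d (by decide) h3 ((show a.support.card = 3 by decide).trans h4.symm) hA⟩
    let t1 : Perm (Fin 6) := swap 0 1 * swap 2 3 * swap 4 5
    let t2 : Perm (Fin 6) := swap 0 2 * swap 1 3 * swap 4 5
    let t3 : Perm (Fin 6) := swap 0 3 * swap 1 2 * swap 4 5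
    let F : Finset (Perm (Fin 6)) := {1, t1, t2, t3, t1 * t2, t1 * t3, t2 * t3, t1 * t2 * t3}
    have hmulF : ∀ x ∈ F, ∀ y ∈ F, x * y ∈ F ∧ x * y = y * x ∧ x⁻¹ ∈ F := by decide
    let U : Subgroup (Perm (Fin 6)) :=
      { carrier := F
        one_mem' := by decide
        mul_mem' := fun hx hy => (hmulF _ hx _ hy).1
        inv_mem' := fun hx => (hmulF _ hx _ hx).2.2 }
    have hs1 : IsSingle ρ t1 :=
      single t1 (cyc 0 2 4 * cyc 1 3 5) (by decide) (by decide) (by decide) (by decide) (by decide)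
    have hs2 : IsSingle ρ t2 :=
      single t2 (cyc 0 1 4 * cyc 2 3 5) (by decide) (by decide) (by decide) (by decide) (by decide)
    have h12 : IsInverted ρ (t1 * t2) :=
      inv _ (cyc 0 3 4) (by decide) (by decide) (by decide) (by decide)
    refine not_sectionalPRankLE_of_config K hexp hcard ι hι hρ U ?_
      (fun x hx y hy => (hmulF x hx y hy).2.1) ?_ (t1 := t1) (t2 := t2)
      (show t1 ∈ F by decide) (show t2 ∈ F by decide) hs1 hs2 h12
    · show Nat.card {x // x ∈ F} = 8
      rw [Nat.card_eq_fintype_card, Fintype.card_coe]; decide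
    · intro x hx
      simp only [U, Subgroup.mem_mk, Submonoid.mem_mk, Subsemigroup.mem_mk, Finset.mem_coe, F,
        Finset.mem_insert, Finset.mem_singleton] at hx
      rcases hx with rfl | rfl | rfl | rfl | rfl | rfl | rfl | rfl
      · exact Or.inl rfl
      · exact Or.inr (Or.inl hs1)
      · exact Or.inr (Or.inl hs2)
      · exact Or.inr (Or.inl (single t3 (cyc 0 1 4 * cyc 3 2 5) (by decide) (by decide) (by decide)
          (by decide) (by decide)))
      · exact Or.inr (Or.inr h12)
      · exact Or.inr (Or.inr (inv _ (cyc 0 2 4) (by decide) (by decide) (by decide) (by decide)))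
      · exact Or.inr (Or.inr (inv _ (cyc 0 1 4) (by decide) (by decide) (by decide) (by decide)))
      · exact Or.inr (Or.inr (inv _ (cyc 0 4 5) (by decide) (by decide) (by decide) (by decide)))
  · have hA4 := four a (by decide) (by decide) hA
    have hAB : fixSub ρ (a * b) = ⊥ :=
      fix_mul_eq_bot ρ hcard hρ (by decide) (by decide) (by decide) (by decide) (by decide)
        (by decide) hA4 (by rw [trans b a (by decide) (by decide) (by decide), hA4])
    have single : ∀ t d : Perm (Fin 6), t ≠ 1 → t * t = 1 → t * d = d * t → d * d * d = 1 →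
        d.support.card = 3 → IsSingle ρ t := fun t d h1 h2 h3 h4 h5 =>
      ⟨h1, h2, d, h3, h4, by rw [trans d a h4 (by decide) (h5.trans (by decide)), hA4]⟩
    have inv : ∀ t d : Perm (Fin 6), t * t = 1 → t * d * t = d⁻¹ → d * d * d = 1 →
        d.support.card = 6 → IsInverted ρ t := fun t d h1 h2 h3 h4 =>
      ⟨h1, d, h2, botof (a * b) d (by decide) h3
        ((show (a * b).support.card = 6 by decide).trans h4.symm) hAB⟩
    let t1 : Perm (Fin 6) := swap 0 1
    let t2 : Perm (Fin 6) := swap 2 3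
    let t3 : Perm (Fin 6) := swap 4 5
    let F : Finset (Perm (Fin 6)) := {1, t1, t2, t3, t1 * t2, t1 * t3, t2 * t3, t1 * t2 * t3}
    have hmulF : ∀ x ∈ F, ∀ y ∈ F, x * y ∈ F ∧ x * y = y * x ∧ x⁻¹ ∈ F := by decide
    let U : Subgroup (Perm (Fin 6)) :=
      { carrier := F
        one_mem' := by decide
        mul_mem' := fun hx hy => (hmulF _ hx _ hy).1
        inv_mem' := fun hx => (hmulF _ hx _ hx).2.2 }
    have hs1 : IsSingle ρ t1 :=
      single t1 (cyc 2 3 4) (by decide) (by decide) (by decide) (by decide) (by decide)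
    have hs2 : IsSingle ρ t2 :=
      single t2 (cyc 0 1 4) (by decide) (by decide) (by decide) (by decide) (by decide)
    have h12 : IsInverted ρ (t1 * t2) :=
      inv _ (cyc 0 4 1 * cyc 2 5 3) (by decide) (by decide) (by decide) (by decide)
    refine not_sectionalPRankLE_of_config K hexp hcard ι hι hρ U ?_
      (fun x hx y hy => (hmulF x hx y hy).2.1) ?_ (t1 := t1) (t2 := t2)
      (show t1 ∈ F by decide) (show t2 ∈ F by decide) hs1 hs2 h12
    · show Nat.card {x // x ∈ F} = 8
      rw [Nat.card_eq_fintype_card, Fintype.card_coe]; decide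
    · intro x hx
      simp only [U, Subgroup.mem_mk, Submonoid.mem_mk, Subsemigroup.mem_mk, Finset.mem_coe, F,
        Finset.mem_insert, Finset.mem_singleton] at hx
      rcases hx with rfl | rfl | rfl | rfl | rfl | rfl | rfl | rfl
      · exact Or.inl rfl
      · exact Or.inr (Or.inl hs1)
      · exact Or.inr (Or.inl hs2)
      · exact Or.inr (Or.inl (single t3 (cyc 0 1 2) (by decide) (by decide) (by decide)
          (by decide) (by decide)))
      · exact Or.inr (Or.inr h12)
      · exact Or.inr (Or.inr (inv _ (cyc 0 2 1 * cyc 4 3 5) (by decide) (by decide) (by decide)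
          (by decide)))
      · exact Or.inr (Or.inr (inv _ (cyc 2 0 3 * cyc 4 1 5) (by decide) (by decide) (by decide)
          (by decide)))
      · exact Or.inr (Or.inr (inv _ (cyc 0 2 4 * cyc 1 5 3) (by decide) (by decide) (by decide)
          (by decide)))

end CfsgLib.Small.SixOnSixteen
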