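import Cfsg.Agent.Lib.Involutions.Isolated

/-!
# An involution whose centraliser has at most three involutions, in a simple group
-/

set_option autoImplicit false

namespace CfsgLib.Small

open Involutions

variable {G : Type*} [Group G] [Finite G]

/-- Two non-conjugate involutions commute with a third one. -/
theorem exists_third_invol {s t : G} (hs : orderOf s = 2) (ht : orderOf t = 2)
    (hn : ¬ IsConj s t) :
    ∃ i : G, orderOf i = 2 ∧ i ≠ s ∧ i ≠ t ∧ Commute s i ∧ Commute t i := by
  have hev : Even (orderOf (s * t)) := by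
    by_contra h
    exact hn (isConj_of_odd_prod hs ht (Nat.not_even_iff_odd.mp h))
  have hi := half_invol (x := s) (y := t) hev
  set i := (s * t) ^ (orderOf (s * t) / 2) with hidef
  have h1 : Commute s i := (half_comm_left hs ht hev).symm
  have h2 : Commute t i := (half_comm_right hs ht hev).symm
  have hst : Commute s t → i = s * t := by
    intro hc
    have ho : orderOf (s * t) = 2 := by
      refine invol_iff.mpr ⟨?_, fun e => hn ?_⟩
      · rw [← hc.mul_mul_mul_comm, invol_mul_self hs, invol_mul_self ht, one_mul]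
      · rw [mul_eq_one_iff_eq_inv, invol_inv ht] at e
        rw [e]
    rw [hidef, ho]
    simp
  refine ⟨i, hi, fun e => ?_, fun e => ?_, h1, h2⟩
  · have := hst (e ▸ h2).symm
    rw [e] at this
    exact invol_ne_one ht (left_eq_mul.mp this)
  · have := hst (e ▸ h1)
    rw [e] at this
    exact invol_ne_one hs (right_eq_mul.mp this)

omit [Finite G] in
theorem conj_commute {a b : G} (g : G) (h : Commute a b) :
    Commute (g * a * g⁻¹) (g * b * g⁻¹) := by
  have := h.map (MulAut.conj g)
  simpa using this

/-- A simple group with a conjugation-invariant set of commuting elements, containing a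
non-identity element, is commutative. -/
theorem comm_of_commuting_class [IsSimpleGroup G] {r : G} (hr : r ≠ 1)
    (h : ∀ g k : G, Commute (g * r * g⁻¹) (k * r * k⁻¹)) : ∀ a b : G, a * b = b * a := by
  set K := Subgroup.closure (Set.range fun g : G => g * r * g⁻¹) with hK
  have hn : K.Normal := by
    constructor
    intro n hn g
    have hle : K ≤ K.comap (MulAut.conj g).toMonoidHom := by
      refine (Subgroup.closure_le _).mpr ?_
      rintro _ ⟨k, rfl⟩
      refine Subgroup.subset_closure ⟨g * k, ?_⟩
      show g * k * r * (g * k)⁻¹ = g * (k * r * k⁻¹) * g⁻¹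
      group
    simpa using hle hn
  rcases hn.eq_bot_or_eq_top with e | e
  · refine absurd ?_ hr
    have : r ∈ K := Subgroup.subset_closure ⟨1, by simp⟩
    rwa [e, Subgroup.mem_bot] at this
  · intro a b
    have hc := (Subgroup.closure_le_centralizer_centralizer
      (Set.range fun g : G => g * r * g⁻¹))
    have hsub : (Set.range fun g : G => g * r * g⁻¹) ⊆
        Subgroup.centralizer (Set.range fun g : G => g * r * g⁻¹) := by
      rintro _ ⟨g, rfl⟩
      rw [SetLike.mem_coe, Subgroup.mem_centralizer_iff]
      rintro _ ⟨k, rfl⟩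
      exact (h k g).eq
    have h1 : K ≤ Subgroup.centralizer (Set.range fun g : G => g * r * g⁻¹) :=
      (Subgroup.closure_le _).mpr hsub
    have h2 : K ≤ Subgroup.centralizer (K : Set G) := by
      rw [hK, Subgroup.centralizer_closure]
      rw [← hK]
      exact h1
    have ha : a ∈ K := e ▸ Subgroup.mem_top a
    have hb : b ∈ K := e ▸ Subgroup.mem_top b
    exact Subgroup.mem_centralizer_iff.mp (h2 hb) a ha

/-- In a simple group, if the centraliser of an involution has at most three involutions then
all involutions are conjugate. -/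
theorem isConj_of_three_involutions [IsSimpleGroup G] {x : G} (hx : orderOf x = 2)
    (h3 : Nat.card {u : ↥(Subgroup.centralizer ({x} : Set G)) // orderOf u = 2} ≤ 3)
    {t₀ : G} (ht₀ : orderOf t₀ = 2) : IsConj x t₀ := by
  classical
  by_contra hn₀
  have hnc : ¬ ∀ a b : G, a * b = b * a := by
    intro hall
    have hN : (Subgroup.zpowers x).Normal := ⟨fun n hn g => by
      rwa [hall g n, mul_inv_cancel_right]⟩
    rcases hN.eq_bot_or_eq_top with e | e
    · exact invol_ne_one hx (Subgroup.zpowers_eq_bot.mp e)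
    · obtain ⟨k, hk⟩ : t₀ ∈ Subgroup.zpowers x := e ▸ Subgroup.mem_top t₀
      change x ^ k = t₀ at hk
      rw [← zpow_mod_orderOf, hx] at hk
      rcases Int.emod_two_eq k with e' | e'
      · norm_num [e'] at hk
        exact invol_ne_one ht₀ hk.symm
      · norm_num [e'] at hk
        exact hn₀ (hk ▸ IsConj.refl x)
  -- the involutions commuting with a conjugate of `x`
  have hthree : ∀ s : G, IsConj x s → ∀ a b : G, orderOf a = 2 → orderOf b = 2 → a ≠ s → b ≠ s →
      Commute s a → Commute s b → b = a ∨ b = s * a := by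
    intro s hs a b ha hb has hbs hca hcb
    obtain ⟨g, rfl⟩ := isConj_iff.mp hs
    have conjg : ∀ u : G, orderOf u = 2 → Commute (g * x * g⁻¹) u →
        orderOf (g⁻¹ * u * g) = 2 ∧ Commute x (g⁻¹ * u * g) := by
      intro u hu hcu
      refine ⟨by simpa using conj_invol g⁻¹ hu, ?_⟩
      have := conj_commute g⁻¹ hcu
      simpa [mul_assoc] using this
    obtain ⟨ha', hca'⟩ := conjg a ha hca
    obtain ⟨hb', hcb'⟩ := conjg b hb hcb
    set a' := g⁻¹ * a * g with hadef
    set b' := g⁻¹ * b * g with hbdef
    have hax : a' ≠ x := fun e => has (by rw [← e, hadef]; group)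
    have hbx : b' ≠ x := fun e => hbs (by rw [← e, hbdef]; group)
    have hxa : orderOf (x * a') = 2 := invol_iff.mpr ⟨by
      rw [← hca'.mul_mul_mul_comm, invol_mul_self hx, invol_mul_self ha', one_mul], fun e => by
      rw [mul_eq_one_iff_eq_inv, invol_inv ha'] at e; exact hax e.symm⟩
    suffices key : b' = a' ∨ b' = x * a' by
      rcases key with e | e
      · left
        calc b = g * b' * g⁻¹ := by rw [hbdef]; group
          _ = a := by rw [e, hadef]; group
      · right
        calc b = g * b' * g⁻¹ := by rw [hbdef]; group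
          _ = g * x * g⁻¹ * a := by rw [e, hadef]; group
    by_contra hno
    push Not at hno
    have hmem : ∀ u : G, Commute x u → u ∈ Subgroup.centralizer ({x} : Set G) := fun u hu =>
      Subgroup.mem_centralizer_singleton_iff.mpr hu.symm.eq
    have hcxa : Commute x (x * a') := (Commute.refl x).mul_right hca'
    let C := Subgroup.centralizer ({x} : Set G)
    let f : Fin 4 → {u : C // orderOf u = 2} :=
      ![⟨⟨x, hmem x (Commute.refl x)⟩, by rw [← Subgroup.orderOf_coe]; exact hx⟩,
        ⟨⟨a', hmem a' hca'⟩, by rw [← Subgroup.orderOf_coe]; exact ha'⟩,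
        ⟨⟨x * a', hmem _ hcxa⟩, by rw [← Subgroup.orderOf_coe]; exact hxa⟩,
        ⟨⟨b', hmem b' hcb'⟩, by rw [← Subgroup.orderOf_coe]; exact hb'⟩]
    have hf : Function.Injective f := by
      have hval : ∀ i, (((f i).1 : C) : G) = ![x, a', x * a', b'] i := by
        intro i; fin_cases i <;> rfl
      have hxa1 : x * a' ≠ x := fun e => invol_ne_one ha' (mul_eq_left.mp e)
      have hxa2 : x * a' ≠ a' := fun e => invol_ne_one hx (mul_eq_right.mp e)
      intro i j e
      have e' := congrArg (fun z : {u : C // orderOf u = 2} => ((z.1 : C) : G)) e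
      simp only [hval] at e'
      fin_cases i <;> fin_cases j <;> simp at e' <;>
        first
          | rfl
          | exact absurd e' hax
          | exact absurd e'.symm hax
          | exact absurd e' hbx
          | exact absurd e'.symm hbx
          | exact absurd e' hno.1
          | exact absurd e'.symm hno.1
          | exact absurd e' hno.2
          | exact absurd e'.symm hno.2
          | exact absurd e' hxa1
          | exact absurd e'.symm hxa1
          | exact absurd e' hxa2
          | exact absurd e'.symm hxa2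
          | exact absurd e' (invol_ne_one hx)
          | exact absurd e'.symm (invol_ne_one hx)
          | exact absurd e' (invol_ne_one ha')
          | exact absurd e'.symm (invol_ne_one ha')
    have := (Nat.card_le_card_of_injective f hf).trans h3
    rw [Nat.card_fin] at this
    omega
  by_cases hiso : ∀ y : G, IsConj x y → Commute x y → y = x
  swap
  · -- a conjugate of `x` commutes with `x`
    push Not at hiso
    obtain ⟨y, hy, hcy, hyx⟩ := hiso
    have hyo := isConj_invol hy hx
    have hxy : orderOf (x * y) = 2 := invol_iff.mpr ⟨by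
      rw [← hcy.mul_mul_mul_comm, invol_mul_self hx, invol_mul_self hyo, one_mul], fun e => by
      rw [mul_eq_one_iff_eq_inv, invol_inv hyo] at e; exact hyx e.symm⟩
    set r := x * y with hr
    have hcr : Commute x r := (Commute.refl x).mul_right hcy
    have hrx : r ≠ x := fun e => invol_ne_one hyo (mul_eq_left.mp e)
    have hry : r ≠ y := fun e => invol_ne_one hx (mul_eq_right.mp e)
    -- every involution not conjugate to `x` commutes with `r`
    have key : ∀ t : G, orderOf t = 2 → ¬ IsConj x t → Commute t r ∧ ¬ IsConj x r := by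
      intro t ht hnt
      obtain ⟨i, hi, hix, -, hci, hti⟩ := exists_third_invol hx ht hnt
      have hset : ∀ u : G, IsConj x u → u ≠ x → Commute x u → Commute t u →
          t = x ∨ t = u * x := by
        intro u hu hux hcu htu
        refine hthree u hu x t hx ht (Ne.symm hux) (fun e => hnt (e ▸ hu)) hcu.symm htu.symm
      rcases hthree x (IsConj.refl x) y i hyo hi hyx hix hcy hci with e | e
      · rw [e] at hti
        rcases hset y hy hyx hcy hti with e' | e'
        · exact absurd (e' ▸ IsConj.refl x) hnt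
        · have htr : t = r := by rw [e', hr, hcy.eq]
          exact ⟨htr ▸ Commute.refl t, htr ▸ hnt⟩
      · rw [e, ← hr] at hti
        refine ⟨hti, fun hcr' => ?_⟩
        rcases hset r hcr' hrx hcr hti with e' | e'
        · exact hnt (e' ▸ IsConj.refl x)
        · apply hnt
          have : t = y := by
            rw [e', hr, hcy.eq, mul_assoc, invol_mul_self hx, mul_one]
          exact this ▸ hy
    have hnr : ¬ IsConj x r := (key t₀ ht₀ hn₀).2
    apply hnc
    refine comm_of_commuting_class (invol_ne_one hxy) fun g k => ?_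
    -- `g r g⁻¹` and `k r k⁻¹` commute
    have hc := (key ((g⁻¹ * k) * r * (g⁻¹ * k)⁻¹) (conj_invol _ hxy) (fun h' => hnr
      (h'.trans (isConj_iff.mpr ⟨(g⁻¹ * k)⁻¹, by group⟩)))).1
    have := conj_commute g hc
    rw [show g * (g⁻¹ * k * r * (g⁻¹ * k)⁻¹) * g⁻¹ = k * r * k⁻¹ by group] at this
    exact this.symm
  -- `x` is isolated
  have hz : Cfsg.IsIsolatedInvolution x :=
    ⟨hx, fun g hc => hiso _ (isConj_iff.mpr ⟨g, rfl⟩) hc⟩
  let Y : G → Prop := fun t => orderOf t = 2 ∧ ¬ IsConj x t
  have hYconj : ∀ (g : G) {t : G}, Y t → Y (g * t * g⁻¹) := fun g t ht =>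
    ⟨conj_invol g ht.1, fun h' => ht.2 (h'.trans (isConj_iff.mpr ⟨g⁻¹, by group⟩))⟩
  -- the product of two commuting members of `Y` is conjugate to `x`
  have hprod : ∀ t w : G, Y t → Y w → t ≠ w → Commute t w →
      IsConj x (t * w) := by
    intro t w ht hw htw hc
    obtain ⟨S, hS⟩ := (isPGroup_closure_pair ht.1 hw.1 hc).exists_le_sylow
    have htS : t ∈ (S : Subgroup G) := hS (Subgroup.subset_closure (by simp))
    have hwS : w ∈ (S : Subgroup G) := hS (Subgroup.subset_closure (by simp))
    obtain ⟨g, hg⟩ := exists_conj_mem_sylow_one S hx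
    set s := g * x * g⁻¹ with hs
    have hsx : IsConj x s := isConj_iff.mpr ⟨g, rfl⟩
    have hso : orderOf s = 2 := conj_invol g hx
    have hcomm : ∀ u ∈ (S : Subgroup G), Commute s u := by
      intro u hu
      have hmem : s * (u * s * u⁻¹) ∈ (S : Subgroup G) :=
        mul_mem hg (mul_mem (mul_mem hu hg) (inv_mem hu))
      have hodd := Isolated.odd_orderOf_mul' hz hsx (hsx.trans (isConj_iff.mpr ⟨u, rfl⟩) :
        IsConj x (u * s * u⁻¹))
      obtain ⟨k, hk⟩ := IsPGroup.iff_orderOf.mp S.isPGroup' ⟨_, hmem⟩
      rw [← Subgroup.orderOf_coe] at hk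
      simp only at hk
      rw [hk] at hodd
      have hk0 : k = 0 := by
        by_contra hk0
        exact (Nat.not_even_iff_odd.mpr hodd) ((Nat.even_pow).mpr ⟨even_two, hk0⟩)
      rw [hk0, pow_zero, orderOf_eq_one_iff, mul_eq_one_iff_eq_inv,
        invol_inv (conj_invol u hso)] at hk
      show s * u = u * s
      nth_rw 1 [hk]
      group
    rcases hthree s hsx t w ht.1 hw.1 (fun e => ht.2 (e ▸ hsx)) (fun e => hw.2 (e ▸ hsx))
      (hcomm t htS) (hcomm w hwS) with e | e
    · exact absurd e.symm htw
    · rw [e, ← mul_assoc, ← (hcomm t htS).eq, mul_assoc, invol_mul_self ht.1, mul_one]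
      exact hsx
  -- every member of `Y` commutes with one end of each edge
  have hedge : ∀ u w t : G, Y u → Y w → u ≠ w → Commute u w → Y t →
      Commute t u ∨ Commute t w := by
    intro u w t hu hw huw hc ht
    have hs := hprod u w hu hw huw hc
    obtain ⟨i, hi, his, -, hsi, hti⟩ := exists_third_invol (isConj_invol hs hx) ht.1
      (fun h' => ht.2 (hs.trans h'))
    rcases hthree (u * w) hs u i hu.1 hi
      (fun e => invol_ne_one hw.1 (left_eq_mul.mp e)) his
      (Commute.mul_left (Commute.refl u) hc.symm) hsi with e | e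
    · exact Or.inl (e ▸ hti)
    · right
      rw [show u * w * u = w by rw [hc.eq, mul_assoc, invol_mul_self hu.1, mul_one]] at e
      exact e ▸ hti
  -- there is no triangle
  have htri : ∀ u w t : G, Y u → Y w → Y t → u ≠ w → u ≠ t → w ≠ t →
      Commute u w → Commute u t → Commute w t → False := by
    intro u w t hu hw ht huw hut hwt h1 h2 h3'
    have hs := hprod u w hu hw huw h1
    rcases hthree (u * w) hs u t hu.1 ht.1
      (fun e => invol_ne_one hw.1 (left_eq_mul.mp e)) (fun e => ht.2 (e ▸ hs))
      (Commute.mul_left (Commute.refl u) h1.symm) (Commute.mul_left h2 h3') with e | e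
    · exact hut e.symm
    · rw [show u * w * u = w by rw [h1.eq, mul_assoc, invol_mul_self hu.1, mul_one]] at e
      exact hwt e.symm
  -- an edge
  obtain ⟨u, hu, hux, -, hcu, -⟩ := exists_third_invol hx ht₀ hn₀
  have huY : Y u := ⟨hu, fun h' => hux (hiso u h' hcu)⟩
  have hxu : orderOf (x * u) = 2 := invol_iff.mpr ⟨by
    rw [← hcu.mul_mul_mul_comm, invol_mul_self hx, invol_mul_self hu, one_mul], fun e => by
    rw [mul_eq_one_iff_eq_inv, invol_inv hu] at e; exact hux e.symm⟩
  set w := x * u with hw'
  have hwY : Y w := ⟨hxu, fun h' => invol_ne_one hu (mul_eq_left.mp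
    (hiso w h' ((Commute.refl x).mul_right hcu)))⟩
  have huw : u ≠ w := fun e => invol_ne_one hx (mul_eq_right.mp e.symm)
  have hcuw : Commute u w := (hcu.symm).mul_right (Commute.refl u)
  -- the two sides
  let P : G → Prop := fun t => Y t ∧ (t = u ∨ (t ≠ w ∧ Commute t w))
  let Q : G → Prop := fun t => Y t ∧ (t = w ∨ (t ≠ u ∧ Commute t u))
  have hPQ : ∀ t, Y t → (¬ P t ↔ Q t) := by
    intro t ht
    constructor
    · intro hnP
      refine ⟨ht, ?_⟩
      by_cases e : t = w
      · exact Or.inl e
      · refine Or.inr ⟨fun e' => hnP ⟨ht, Or.inl e'⟩, ?_⟩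
        exact (hedge u w t huY hwY huw hcuw ht).resolve_right fun hc' =>
          hnP ⟨ht, Or.inr ⟨e, hc'⟩⟩
    · rintro ⟨-, hq⟩ ⟨-, hp⟩
      rcases hq with rfl | ⟨h1, h2⟩
      · rcases hp with e | ⟨h3', -⟩
        · exact huw e.symm
        · exact h3' rfl
      · rcases hp with e | ⟨h3', h4⟩
        · exact h1 e
        · exact htri t u w ht huY hwY h1 h3' huw h2 h4 hcuw
  have hbip : ∀ a b, P a → Q b → a ≠ b ∧ Commute a b := by
    intro a b ha hb
    have hne : a ≠ b := fun e => ((hPQ a ha.1).mpr (e ▸ hb)) ha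
    refine ⟨hne, ?_⟩
    obtain ⟨haY, ha'⟩ := ha
    obtain ⟨hbY, hb'⟩ := hb
    rcases ha' with rfl | ⟨haw, hcaw⟩
    · rcases hb' with rfl | ⟨-, hcb⟩
      · exact hcuw
      · exact hcb.symm
    · rcases hb' with rfl | ⟨hbu, hcbu⟩
      · exact hcaw
      · by_cases hau : a = u
        · exact hau ▸ hcbu.symm
        · by_cases hbw : b = w
          · exact hbw ▸ hcaw
          · rcases hedge a w b haY hwY haw hcaw hbY with h' | h'
            · exact h'.symm
            · exact (htri u w b huY hwY hbY huw (Ne.symm hbu) (Ne.symm hbw) hcuw hcbu.symm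
                h'.symm).elim
  have hsame : ∀ a b, Y a → Y b → a ≠ b → Commute a b → (P a ↔ ¬ P b) := by
    intro a b ha hb hab hc
    have key : ∀ c d, c ≠ d → Commute c d → P c → P d → False := by
      intro c d hcd hcd' hc1 hd1
      obtain ⟨h1, h2⟩ := hbip c w hc1 ⟨hwY, Or.inl rfl⟩
      obtain ⟨h3', h4⟩ := hbip d w hd1 ⟨hwY, Or.inl rfl⟩
      exact htri c d w hc1.1 hd1.1 hwY hcd h1 h3' hcd' h2 h4
    have keyQ : ∀ c d, c ≠ d → Commute c d → Q c → Q d → False := by
      intro c d hcd hcd' hc1 hd1
      have hPu : P u := ⟨huY, Or.inl rfl⟩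
      obtain ⟨h1, h2⟩ := hbip u c hPu hc1
      obtain ⟨h3', h4⟩ := hbip u d hPu hd1
      exact htri c d u hc1.1 hd1.1 huY hcd (Ne.symm h1) (Ne.symm h3') hcd' h2.symm h4.symm
    exact ⟨fun h1 h2 => key a b hab hc h1 h2, fun h2 => by
      by_contra h1
      exact keyQ a b hab hc ((hPQ a ha).mp h1) ((hPQ b hb).mp h2)⟩
  -- conjugation respects the two sides up to a swap
  have hconjP : ∀ g : G, ∀ t, Y t → ((P (g * t * g⁻¹) ↔ P t) ↔ P (g * u * g⁻¹)) := by
    intro g t ht
    have hPu : P u := ⟨huY, Or.inl rfl⟩
    have hgu := hYconj g huY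
    have hgw := hYconj g hwY
    have hgt := hYconj g ht
    have hne : ∀ c d : G, c ≠ d → g * c * g⁻¹ ≠ g * d * g⁻¹ := fun c d h e =>
      h (mul_left_cancel (mul_right_cancel e))
    have hflip := hsame _ _ hgu hgw (hne u w huw) (conj_commute g hcuw)
    by_cases hPt : P t
    · obtain ⟨htw, hctw⟩ := hbip t w hPt ⟨hwY, Or.inl rfl⟩
      have he : P (g * t * g⁻¹) ↔ P (g * u * g⁻¹) :=
        (hsame _ _ hgt hgw (hne t w htw) (conj_commute g hctw)).trans hflip.symm
      exact ⟨fun h => he.mp (h.mpr hPt), fun h => iff_of_true (he.mpr h) hPt⟩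
    · obtain ⟨hut, hcut⟩ := hbip u t hPu ((hPQ t ht).mp hPt)
      have he : P (g * t * g⁻¹) ↔ ¬ P (g * u * g⁻¹) :=
        hsame _ _ hgt hgu (hne t u (Ne.symm hut)) (conj_commute g hcut.symm)
      constructor
      · intro h
        by_contra hu'
        exact hPt (h.mp (he.mpr hu'))
      · exact fun h => iff_of_false (fun h' => he.mp h' h) hPt
  let fv : G → ℤˣ := fun g => if P (g * u * g⁻¹) then 1 else -1
  let f : G →* ℤˣ := MonoidHom.mk' fv fun g k => by
    have e : g * k * u * (g * k)⁻¹ = g * (k * u * k⁻¹) * g⁻¹ := by group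
    have key := hconjP g (k * u * k⁻¹) (hYconj k huY)
    rw [← e] at key
    by_cases h1 : P (g * u * g⁻¹) <;> by_cases h2 : P (k * u * k⁻¹)
    · have h3' : P (g * k * u * (g * k)⁻¹) := (key.mpr h1).mpr h2
      simp only [fv, if_pos h1, if_pos h2, if_pos h3', one_mul]
    · have h3' : ¬ P (g * k * u * (g * k)⁻¹) := fun h => h2 ((key.mpr h1).mp h)
      simp only [fv, if_pos h1, if_neg h2, if_neg h3', one_mul]
    · have h3' : ¬ P (g * k * u * (g * k)⁻¹) := fun h => h1 (key.mp (iff_of_true h h2))
      simp only [fv, if_neg h1, if_pos h2, if_neg h3', mul_one]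
    · have h3' : P (g * k * u * (g * k)⁻¹) := by
        by_contra h
        exact h1 (key.mp (iff_of_false h h2))
      simp only [fv, if_neg h1, if_neg h2, if_pos h3', Int.units_mul_self]
  rcases (inferInstance : f.ker.Normal).eq_bot_or_eq_top with e | e
  · exact hnc fun a b => (MonoidHom.ker_eq_bot_iff f).mp e (by rw [map_mul, map_mul, mul_comm])
  · -- then `w` is centralised by all conjugates of `u`
    have hall : ∀ g : G, P (g * u * g⁻¹) := by
      intro g
      have : f g = 1 := MonoidHom.mem_ker.mp (e ▸ Subgroup.mem_top g)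
      by_contra hP
      have h' : f g = -1 := if_neg hP
      rw [this] at h'
      exact absurd h' (by decide)
    let K := Subgroup.closure (Set.range fun g : G => g * u * g⁻¹)
    have hK : K.Normal := by
      constructor
      intro n hn g
      have hle : K ≤ K.comap (MulAut.conj g).toMonoidHom := by
        refine (Subgroup.closure_le _).mpr ?_
        rintro _ ⟨k, rfl⟩
        refine Subgroup.subset_closure ⟨g * k, ?_⟩
        show g * k * u * (g * k)⁻¹ = g * (k * u * k⁻¹) * g⁻¹
        group
      simpa using hle hn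
    have hKw : K ≤ Subgroup.centralizer ({w} : Set G) := by
      refine (Subgroup.closure_le _).mpr ?_
      rintro _ ⟨g, rfl⟩
      exact Subgroup.mem_centralizer_singleton_iff.mpr
        (hbip _ w (hall g) ⟨hwY, Or.inl rfl⟩).2.eq
    rcases hK.eq_bot_or_eq_top with e' | e'
    · have : u ∈ K := Subgroup.subset_closure ⟨1, by simp⟩
      rw [e', Subgroup.mem_bot] at this
      exact invol_ne_one hu this
    · have hw_center : w ∈ Subgroup.center G := Subgroup.mem_center_iff.mpr fun a =>
        Subgroup.mem_centralizer_singleton_iff.mp (hKw (e' ▸ Subgroup.mem_top a))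
      rcases (inferInstance : (Subgroup.center G).Normal).eq_bot_or_eq_top with e'' | e''
      · rw [e'', Subgroup.mem_bot] at hw_center
        exact invol_ne_one hxu hw_center
      · exact hnc fun a b =>
          ((Subgroup.mem_center_iff.mp (e'' ▸ Subgroup.mem_top a)) b).symm

/-- In a simple group, if the centraliser of an involution has at most three involutions then it
contains a Sylow 2-subgroup. -/
theorem exists_sylow_le_of_three_involutions [IsSimpleGroup G] {x : G} (hx : orderOf x = 2)
    (h3 : Nat.card {u : ↥(Subgroup.centralizer ({x} : Set G)) // orderOf u = 2} ≤ 3) :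
    ∃ S : Sylow 2 G, (S : Subgroup G) ≤ Subgroup.centralizer ({x} : Set G) := by
  have := Fact.mk Nat.prime_two
  obtain ⟨S⟩ := (inferInstance : Nonempty (Sylow 2 G))
  obtain ⟨g, hg⟩ := exists_conj_mem_sylow_one S hx
  have : Nontrivial (S : Subgroup G) :=
    ⟨⟨_, hg⟩, 1, fun e => invol_ne_one (conj_invol g hx) (congrArg Subtype.val e)⟩
  obtain ⟨k, hk⟩ := (IsPGroup.to_subgroup S.isPGroup'
    (Subgroup.center (S : Subgroup G))).exists_card_eq
  have hnt := S.isPGroup'.center_nontrivial
  rw [← Finite.one_lt_card_iff_nontrivial, hk] at hnt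
  obtain ⟨c, hc⟩ := exists_prime_orderOf_dvd_card' (G := Subgroup.center (S : Subgroup G)) 2
    (hk ▸ dvd_pow_self 2 (by rintro rfl; simp at hnt))
  have hz : orderOf ((c.1 : G)) = 2 := by rw [Subgroup.orderOf_coe, Subgroup.orderOf_coe, hc]
  obtain ⟨a, ha⟩ := isConj_iff.mp (isConj_of_three_involutions hx h3 hz)
  refine ⟨a⁻¹ • S, fun v hv => ?_⟩
  have hv' : (a⁻¹)⁻¹ * v * a⁻¹ ∈ (S : Subgroup G) := mem_smul_sylow_iff'.mp hv
  rw [inv_inv] at hv'
  have h1 : Commute (a * v * a⁻¹) (a * x * a⁻¹) := by
    rw [ha]
    exact congrArg Subtype.val (Subgroup.mem_center_iff.mp c.2 ⟨_, hv'⟩)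
  have h2 := conj_commute a⁻¹ h1
  simp only [inv_inv] at h2
  rw [show a⁻¹ * (a * v * a⁻¹) * a = v by group, show a⁻¹ * (a * x * a⁻¹) * a = x by group] at h2
  exact Subgroup.mem_centralizer_singleton_iff.mpr h2.eq

end CfsgLib.Small
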